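import Mathlib.RingTheory.Valuation.LocalSubring
import Mathlib.Topology.Constructions
import Mathlib.Topology.Compactness.Compact

/-!
# Compactness of the Zariski-Riemann space in the patch topology
-/

set_option autoImplicit false

universe u

namespace Groth.Agent.Lipman.Cpt

variable {K : Type u} [Field K]

/-- patch compactness, covering form -/
theorem exists_finite_cover {ι : Type*} (R : Subring K) (F G : ι → Finset K)
    (h : ∀ V : ValuationSubring K, R ≤ V.toSubring →
      ∃ i, (∀ x ∈ F i, x ∈ V) ∧ (∀ x ∈ G i, x ∉ V)) :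
    ∃ t : Finset ι, ∀ V : ValuationSubring K, R ≤ V.toSubring →
      ∃ i ∈ t, (∀ x ∈ F i, x ∈ V) ∧ (∀ x ∈ G i, x ∉ V) := by
  classical
  let Z : Set (K → Bool) := {p | (∀ x ∈ R, p x = true) ∧
    (∀ x y, p x = true → p y = true → p (x + y) = true) ∧
    (∀ x y, p x = true → p y = true → p (x * y) = true) ∧
    (∀ x, p x = true → p (-x) = true) ∧ (∀ x, p x = true ∨ p x⁻¹ = true)}
  have hc : ∀ x : K, Continuous fun p : K → Bool ↦ p x := fun x ↦ continuous_apply x
  have hcl : ∀ x : K, IsClopen {p : K → Bool | p x = true} := fun x ↦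
    (isClopen_discrete {true}).preimage (hc x)
  have hcl' : ∀ x : K, IsClopen {p : K → Bool | p x = false} := fun x ↦
    (isClopen_discrete {false}).preimage (hc x)
  have hZ : IsClosed Z := by
    have e : Z = (⋂ x ∈ R, {p : K → Bool | p x = true}) ∩
      ((⋂ x, ⋂ y, ({p : K → Bool | p x = false} ∪ {p | p y = false} ∪ {p | p (x + y) = true})) ∩
      ((⋂ x, ⋂ y, ({p : K → Bool | p x = false} ∪ {p | p y = false} ∪ {p | p (x * y) = true})) ∩
      ((⋂ x, ({p : K → Bool | p x = false} ∪ {p | p (-x) = true})) ∩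
      (⋂ x, ({p : K → Bool | p x = true} ∪ {p | p x⁻¹ = true}))))) := by
      ext p
      simp only [Z, Set.mem_ofPred_eq, Set.mem_inter_iff, Set.mem_iInter, Set.mem_union]
      constructor
      · rintro ⟨h1, h2, h3, h4, h5⟩
        refine ⟨h1, fun x y ↦ ?_, fun x y ↦ ?_, fun x ↦ ?_, h5⟩
        · by_cases hx : p x = true
          · by_cases hy : p y = true
            · exact Or.inr (h2 x y hx hy)
            · exact Or.inl (Or.inr (by simpa using hy))
          · exact Or.inl (Or.inl (by simpa using hx))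
        · by_cases hx : p x = true
          · by_cases hy : p y = true
            · exact Or.inr (h3 x y hx hy)
            · exact Or.inl (Or.inr (by simpa using hy))
          · exact Or.inl (Or.inl (by simpa using hx))
        · by_cases hx : p x = true
          · exact Or.inr (h4 x hx)
          · exact Or.inl (by simpa using hx)
      · rintro ⟨h1, h2, h3, h4, h5⟩
        refine ⟨h1, fun x y hx hy ↦ ?_, fun x y hx hy ↦ ?_, fun x hx ↦ ?_, h5⟩
        · rcases h2 x y with (h | h) | h
          · simp [hx] at h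
          · simp [hy] at h
          · exact h
        · rcases h3 x y with (h | h) | h
          · simp [hx] at h
          · simp [hy] at h
          · exact h
        · rcases h4 x with h | h
          · simp [hx] at h
          · exact h
    rw [e]
    refine (isClosed_biInter fun x _ ↦ (hcl x).isClosed).inter
      ((isClosed_iInter fun x ↦ isClosed_iInter fun y ↦
        (((hcl' x).isClosed.union (hcl' y).isClosed).union (hcl _).isClosed)).inter
      ((isClosed_iInter fun x ↦ isClosed_iInter fun y ↦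
        (((hcl' x).isClosed.union (hcl' y).isClosed).union (hcl _).isClosed)).inter
      ((isClosed_iInter fun x ↦ ((hcl' x).isClosed.union (hcl _).isClosed)).inter
      (isClosed_iInter fun x ↦ ((hcl x).isClosed.union (hcl _).isClosed)))))
  -- from a point of `Z` to a valuation subring
  have key : ∀ p ∈ Z, ∃ V : ValuationSubring K, R ≤ V.toSubring ∧ ∀ x, x ∈ V ↔ p x = true := by
    rintro p ⟨h1, h2, h3, h4, h5⟩
    refine ⟨{ carrier := {x | p x = true}
              mul_mem' := fun {x y} hx hy ↦ h3 x y hx hy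
              one_mem' := h1 1 R.one_mem
              add_mem' := fun {x y} hx hy ↦ h2 x y hx hy
              zero_mem' := h1 0 R.zero_mem
              neg_mem' := fun {x} hx ↦ h4 x hx
              mem_or_inv_mem' := h5 }, fun x hx ↦ h1 x hx, fun x ↦ Iff.rfl⟩
  let U : ι → Set (K → Bool) := fun i ↦
    (⋂ x ∈ F i, {p : K → Bool | p x = true}) ∩ (⋂ x ∈ G i, {p : K → Bool | p x = false})
  have hU : ∀ i, IsOpen (U i) := fun i ↦
    (isOpen_biInter_finset fun x _ ↦ (hcl x).isOpen).inter
      (isOpen_biInter_finset fun x _ ↦ (hcl' x).isOpen)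
  have hmemU : ∀ i (p : K → Bool), p ∈ U i ↔ (∀ x ∈ F i, p x = true) ∧ (∀ x ∈ G i, p x = false) := by
    intro i p
    simp [U]
  obtain ⟨t, ht⟩ := (hZ.isCompact).elim_finite_subcover U hU (by
    intro p hp
    obtain ⟨V, hV, hVp⟩ := key p hp
    obtain ⟨i, h1, h2⟩ := h V hV
    refine Set.mem_iUnion.mpr ⟨i, (hmemU i p).mpr ⟨fun x hx ↦ (hVp x).mp (h1 x hx), fun x hx ↦ ?_⟩⟩
    have := fun h' ↦ h2 x hx ((hVp x).mpr h')
    simpa using this)
  refine ⟨t, fun V hV ↦ ?_⟩
  let p : K → Bool := fun x ↦ decide (x ∈ V)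
  have hp : p ∈ Z := by
    refine ⟨fun x hx ↦ by simpa [p] using hV hx, fun x y hx hy ↦ ?_, fun x y hx hy ↦ ?_,
      fun x hx ↦ ?_, fun x ↦ ?_⟩
    · simp only [p, decide_eq_true_eq] at hx hy ⊢
      exact V.add_mem _ _ hx hy
    · simp only [p, decide_eq_true_eq] at hx hy ⊢
      exact V.mul_mem _ _ hx hy
    · simp only [p, decide_eq_true_eq] at hx ⊢
      exact V.neg_mem _ hx
    · simp only [p, decide_eq_true_eq]
      exact V.mem_or_inv_mem x
  obtain ⟨i, hi, hpi⟩ := Set.mem_iUnion₂.mp (ht hp)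
  obtain ⟨h1, h2⟩ := (hmemU i p).mp hpi
  refine ⟨i, hi, fun x hx ↦ by simpa [p] using h1 x hx, fun x hx ↦ by simpa [p] using h2 x hx⟩

/-- patch compactness, finite intersection form -/
theorem exists_of_forall_finite (R : Subring K) (P N : Set K)
    (h : ∀ F G : Finset K, (F : Set K) ⊆ P → (G : Set K) ⊆ N →
      ∃ V : ValuationSubring K, R ≤ V.toSubring ∧ (∀ x ∈ F, x ∈ V) ∧ (∀ x ∈ G, x ∉ V)) :
    ∃ V : ValuationSubring K, R ≤ V.toSubring ∧ (∀ x ∈ P, x ∈ V) ∧ (∀ x ∈ N, x ∉ V) := by
  classical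
  by_contra hcon
  push Not at hcon
  -- index: elements of `P` (to be excluded) or of `N` (to be included)
  let F : ↥P ⊕ ↥N → Finset K := fun i ↦ Sum.elim (fun _ ↦ ∅) (fun x ↦ {x.1}) i
  let G : ↥P ⊕ ↥N → Finset K := fun i ↦ Sum.elim (fun x ↦ {x.1}) (fun _ ↦ ∅) i
  obtain ⟨t, ht⟩ := exists_finite_cover R F G (by
    intro V hV
    by_cases hP : ∀ x ∈ P, x ∈ V
    · obtain ⟨x, hx, hxV⟩ := hcon V hV hP
      exact ⟨Sum.inr ⟨x, hx⟩, by simpa [F] using hxV, by simp [G]⟩
    · push Not at hP
      obtain ⟨x, hx, hxV⟩ := hP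
      exact ⟨Sum.inl ⟨x, hx⟩, by simp [F], by simpa [G] using hxV⟩)
  obtain ⟨V, hV, h1, h2⟩ := h
    ((t.preimage Sum.inl Sum.inl_injective.injOn).image Subtype.val)
    ((t.preimage Sum.inr Sum.inr_injective.injOn).image Subtype.val)
    (by intro x hx; simp only [Finset.coe_image, Set.mem_image] at hx; obtain ⟨y, _, rfl⟩ := hx; exact y.2)
    (by intro x hx; simp only [Finset.coe_image, Set.mem_image] at hx; obtain ⟨y, _, rfl⟩ := hx; exact y.2)
  obtain ⟨i, hi, h3, h4⟩ := ht V hV
  rcases i with x | x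
  · have : (x : K) ∉ V := by simpa [G] using h4
    exact this (h1 _ (Finset.mem_image.mpr ⟨x, by simpa using hi, rfl⟩))
  · have : (x : K) ∈ V := by simpa [F] using h3
    exact h2 _ (Finset.mem_image.mpr ⟨x, by simpa using hi, rfl⟩) this

end Groth.Agent.Lipman.Cpt
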