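import Mathlib.RingTheory.DiscreteValuationRing.TFAE
import Groth.Agent.S0544
import Mathlib.RingTheory.RegularLocalRing.Defs
import Mathlib.RingTheory.DedekindDomain.Dvr
import Mathlib.RingTheory.Ideal.KrullsHeightTheorem

/-!
# Arcs of infinitely near points (arc lemma for resolution of surfaces)

`A 0 ≤ A 1 ≤ ...` Noetherian local subrings of a field, `x` a nonzero element of all maximal ideals,
`m_i / x ⊆ A (i+1)`, constant residue fields, `A (i+1)` consists of fractions of `A i[m_i / x]`.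
-/

set_option autoImplicit false
set_option linter.unusedSectionVars false
universe u

open IsLocalRing

namespace Groth.Agent.Lipman.Arc

lemma exists_local_generator {R : Type u} [CommRing R] [IsDomain R] [IsNoetherianRing R]
    [IsIntegrallyClosed R] (p : Ideal R) [p.IsPrime]
    (hmin : ∀ q : Ideal R, q.IsPrime → q ≠ ⊥ → q ≤ p → q = p) :
    ∃ π ∈ p, ∀ z ∈ p, ∃ c : R, c ∉ p ∧ ∃ d, c * z = d * π := by
  let W := Localization.AtPrime p
  have hle : p.primeCompl ≤ nonZeroDivisors R := p.primeCompl_le_nonZeroDivisors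
  have : IsDomain W := IsLocalization.isDomain_localization hle
  have : IsIntegrallyClosed W := isIntegrallyClosed_of_isLocalization _ p.primeCompl hle
  have : IsNoetherianRing W := IsLocalization.isNoetherianRing p.primeCompl W inferInstance
  have hprin : (maximalIdeal W).IsPrincipal := by
    have htfae := (tfae_of_isNoetherianRing_of_isLocalRing_of_isDomain W).out 3 4
    refine htfae.1 ⟨inferInstance, ?_⟩
    intro P hP hPp
    have h1 : P.under R ≠ ⊥ := by
      intro hc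
      apply hP
      rw [← IsLocalization.map_under p.primeCompl W P, hc, Ideal.map_bot]
    have h2 : P.under R ≤ p := by
      intro z hz
      exact (IsLocalization.AtPrime.to_map_mem_maximal_iff W p z).1
        (IsLocalRing.le_maximalIdeal hPp.ne_top hz)
    have h3 := hmin _ (Ideal.IsPrime.under R P) h1 h2
    rw [← IsLocalization.map_under p.primeCompl W P, h3]
    exact Localization.AtPrime.map_eq_maximalIdeal
  obtain ⟨g, hg⟩ := hprin.principal
  obtain ⟨⟨π, s⟩, hπ⟩ := IsLocalization.surj p.primeCompl g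
  simp only at hπ
  have hs : IsUnit (algebraMap R W s) := IsLocalization.map_units W s
  have hgm : g ∈ maximalIdeal W := by rw [hg]; exact Submodule.mem_span_singleton_self g
  refine ⟨π, ?_, fun z hz ↦ ?_⟩
  · rw [← IsLocalization.AtPrime.to_map_mem_maximal_iff W p, ← hπ]
    exact Ideal.mul_mem_right _ _ hgm
  · have h1 : algebraMap R W z ∈ maximalIdeal W :=
      (IsLocalization.AtPrime.to_map_mem_maximal_iff W p z).2 hz
    rw [hg] at h1
    obtain ⟨a, ha⟩ := Submodule.mem_span_singleton.1 h1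
    obtain ⟨⟨b, t⟩, hb⟩ := IsLocalization.surj p.primeCompl a
    simp only at hb
    refine ⟨s * t, (s * t).2, b, ?_⟩
    apply IsLocalization.injective W hle
    rw [map_mul, map_mul, map_mul, ← hb, ← hπ, ← ha, smul_eq_mul]
    ring

lemma three_le_ringKrullDim {R : Type u} [CommRing R] [IsLocalRing R] [IsDomain R] (q p : Ideal R)
    [q.IsPrime] [p.IsPrime] (h0 : q ≠ ⊥) (hqp : q < p) (h1 : p ≠ maximalIdeal R) :
    3 ≤ ringKrullDim R := by
  let a : PrimeSpectrum R := ⟨⊥, Ideal.isPrime_bot⟩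
  let b : PrimeSpectrum R := ⟨q, inferInstance⟩
  let c : PrimeSpectrum R := ⟨p, inferInstance⟩
  let d : PrimeSpectrum R := ⟨maximalIdeal R, inferInstance⟩
  have hab : a < b := PrimeSpectrum.asIdeal_lt_asIdeal _ _ |>.1 (bot_lt_iff_ne_bot.2 h0)
  have hbc : b < c := PrimeSpectrum.asIdeal_lt_asIdeal _ _ |>.1 hqp
  have hcd : c < d := PrimeSpectrum.asIdeal_lt_asIdeal _ _ |>.1
    (lt_of_le_of_ne (le_maximalIdeal (Ideal.IsPrime.ne_top inferInstance)) h1)
  let s : LTSeries (PrimeSpectrum R) :=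
    { length := 3
      toFun := ![a, b, c, d]
      step := by
        intro j
        fin_cases j
        · exact hab
        · exact hbc
        · exact hcd }
  exact Order.LTSeries.length_le_krullDim s

theorem exists_finset_of_N1 {D O : Type u} [CommRing D] [IsDomain D] [IsNoetherianRing D]
    [Ring.DimensionLEOne D] [CommRing O] [IsDomain O] [IsDiscreteValuationRing O] [Algebra D O]
    (hinj : Function.Injective (algebraMap D O))
    (hN : Module.Finite D (integralClosure D (FractionRing D)))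
    (hfrac : ∀ y : O, ∃ a b : D, b ≠ 0 ∧ algebraMap D O b * y = algebraMap D O a) :
    ∃ s : Finset O, ∀ T : Subalgebra D O, (∀ z ∈ s, z ∈ T) →
      (∀ z w : O, z ∈ T → z * w = 1 → w ∈ T) → ∀ y, y ∈ T := by
  let L := FractionRing O
  have hOL : Function.Injective (algebraMap O L) := IsFractionRing.injective O L
  have hDL : Function.Injective (algebraMap D L) := by
    rw [IsScalarTower.algebraMap_eq D O L]; exact hOL.comp hinj
  have hDL' : FaithfulSMul D L := (faithfulSMul_iff_algebraMap_injective D L).2 hDL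
  let D' := integralClosure D O
  have hD'L : Function.Injective (algebraMap D' L) := by
    rw [IsScalarTower.algebraMap_eq D' O L]
    exact hOL.comp Subtype.val_injective
  have hD'L' : FaithfulSMul D' L := (faithfulSMul_iff_algebraMap_injective D' L).2 hD'L
  have hsurj : ∀ z : L, ∃ a b : D, z = algebraMap D L a / algebraMap D L b := by
    intro z
    obtain ⟨y1, y2, hy2, rfl⟩ := IsFractionRing.div_surjective (A := O) z
    have hy2' : y2 ≠ 0 := nonZeroDivisors.ne_zero hy2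
    obtain ⟨a1, b1, hb1, h1⟩ := hfrac y1
    obtain ⟨a2, b2, hb2, h2⟩ := hfrac y2
    refine ⟨a1 * b2, b1 * a2, ?_⟩
    have e1 := congrArg (algebraMap O L) h1
    have e2 := congrArg (algebraMap O L) h2
    rw [map_mul, ← IsScalarTower.algebraMap_apply, ← IsScalarTower.algebraMap_apply] at e1 e2
    have nb1 : algebraMap D L b1 ≠ 0 := (map_ne_zero_iff _ hDL).2 hb1
    have nb2 : algebraMap D L b2 ≠ 0 := (map_ne_zero_iff _ hDL).2 hb2
    have ny2 : algebraMap O L y2 ≠ 0 := (map_ne_zero_iff _ hOL).2 hy2'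
    rw [map_mul, map_mul, ← e1, ← e2, div_eq_div_iff ny2 (mul_ne_zero nb1 (mul_ne_zero nb2 ny2))]
    ring
  have hFD : IsFractionRing D L := IsFractionRing.of_field D L hsurj
  have hFD' : IsFractionRing D' L := by
    refine IsFractionRing.of_field D' L fun z ↦ ?_
    obtain ⟨a, b, hab⟩ := hsurj z
    exact ⟨algebraMap D D' a, algebraMap D D' b, by
      rw [← IsScalarTower.algebraMap_apply, ← IsScalarTower.algebraMap_apply]; exact hab⟩
  have hfin : Module.Finite D D' := by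
    let e : FractionRing D ≃ₐ[D] L := IsLocalization.algEquiv (nonZeroDivisors D) _ _
    have h1 : Module.Finite D (integralClosure D L) :=
      Module.Finite.equiv e.mapIntegralClosure.toLinearEquiv
    let g : D' →ₐ[D] integralClosure D L := AlgHom.mapIntegralClosure (IsScalarTower.toAlgHom D O L)
    refine Module.Finite.of_injective g.toLinearMap ?_
    intro a b hab
    have := congrArg Subtype.val hab
    exact Subtype.ext (hOL this)
  have hnoeth : IsNoetherianRing D' := isNoetherian_of_tower D inferInstance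
  have hic : IsIntegrallyClosed D' := by
    rw [isIntegrallyClosed_iff L]
    intro z hz
    have h1 : IsIntegral D z := isIntegral_trans z hz
    have h2 : IsIntegral O z := h1.tower_top
    obtain ⟨y, rfl⟩ := (IsIntegrallyClosed.isIntegral_iff).1 h2
    have h3 : IsIntegral D y := (isIntegral_algebraMap_iff hOL).1 h1
    exact ⟨⟨y, h3⟩, rfl⟩
  have hded : IsDedekindDomain D' := {}
  let n : Ideal D' := (maximalIdeal O).comap (algebraMap D' O)
  have hn : n ≠ ⊥ := by
    obtain ⟨y, hy, hy0⟩ := Submodule.exists_mem_ne_zero_of_ne_bot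
      (IsDiscreteValuationRing.not_a_field O)
    obtain ⟨a, b, hb, hab⟩ := hfrac y
    refine (Submodule.ne_bot_iff _).2 ⟨algebraMap D D' a, ?_, ?_⟩
    · change algebraMap D' O (algebraMap D D' a) ∈ maximalIdeal O
      rw [← IsScalarTower.algebraMap_apply, ← hab]
      exact Ideal.mul_mem_left _ _ hy
    · intro h0
      have h1 : algebraMap D O a = 0 := by
        rw [IsScalarTower.algebraMap_apply D D' O, h0, map_zero]
      rw [← hab] at h1
      exact mul_ne_zero ((map_ne_zero_iff _ hinj).2 hb) hy0 h1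
  have hnp : n.IsPrime := Ideal.IsPrime.comap _
  let W := Localization.AtPrime n
  have hW : IsDiscreteValuationRing W :=
    IsLocalization.AtPrime.isDiscreteValuationRing_of_dedekind_domain D' hn W
  have hWinj : Function.Injective (algebraMap D' W) :=
    IsLocalization.injective W n.primeCompl_le_nonZeroDivisors
  have hunit : ∀ s : D', s ∉ n → IsUnit (algebraMap D' O s) := fun s hs ↦ by
    by_contra hc; exact hs hc
  have key : ∀ y : O, ∃ c s : D', IsUnit (algebraMap D' O s) ∧ algebraMap D' O s * y = algebraMap D' O c := by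
    intro y
    obtain ⟨a, b, hb, hab⟩ := hfrac y
    have hab' : algebraMap D' O (algebraMap D D' b) * y = algebraMap D' O (algebraMap D D' a) := by
      rw [← IsScalarTower.algebraMap_apply, ← IsScalarTower.algebraMap_apply]; exact hab
    have hb' : algebraMap D' O (algebraMap D D' b) ≠ 0 := by
      rw [← IsScalarTower.algebraMap_apply]; exact (map_ne_zero_iff _ hinj).2 hb
    generalize algebraMap D D' b = b at hab' hb'
    generalize algebraMap D D' a = a at hab'
    by_cases ha : a = 0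
    · refine ⟨0, 1, by simp, ?_⟩
      rw [ha, map_zero] at hab'
      have := (mul_eq_zero.1 hab').resolve_left hb'
      rw [this]; simp
    rcases ValuationRing.dvd_total (algebraMap D' W a) (algebraMap D' W b) with ⟨w, hw⟩ | ⟨w, hw⟩
    · obtain ⟨⟨c, s⟩, hc⟩ := IsLocalization.surj n.primeCompl w
      simp only at hc
      have h1 : b * s = a * c := by
        apply hWinj
        rw [map_mul, map_mul, hw, ← hc]; ring
      have h2 := congrArg (algebraMap D' O) h1
      rw [map_mul, map_mul, ← hab'] at h2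
      -- b s = b y c
      have h3 : algebraMap D' O s = y * algebraMap D' O c := by
        apply mul_left_cancel₀ hb'
        rw [h2]; ring
      have hs := hunit s s.2
      have hcu : IsUnit (algebraMap D' O c) := isUnit_of_mul_isUnit_right (h3 ▸ hs)
      exact ⟨s, c, hcu, by rw [h3]; ring⟩
    · obtain ⟨⟨c, s⟩, hc⟩ := IsLocalization.surj n.primeCompl w
      simp only at hc
      have h1 : a * s = b * c := by
        apply hWinj
        rw [map_mul, map_mul, hw, ← hc]; ring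
      have h2 := congrArg (algebraMap D' O) h1
      rw [map_mul, map_mul, ← hab'] at h2
      have h3 : y * algebraMap D' O s = algebraMap D' O c := by
        apply mul_left_cancel₀ hb'
        rw [← h2]; ring
      exact ⟨c, s, hunit s s.2, by rw [← h3]; ring⟩
  obtain ⟨s, hs⟩ := hfin.fg_top
  classical
  refine ⟨s.image (algebraMap D' O), fun T hT1 hT2 y ↦ ?_⟩
  have hT3 : ∀ d : D', algebraMap D' O d ∈ T := by
    intro d
    have hd : d ∈ Submodule.span D (s : Set D') := by rw [hs]; trivial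
    refine Submodule.span_induction (p := fun (d : D') _ ↦ algebraMap D' O d ∈ T) ?_ ?_ ?_ ?_ hd
    · intro z hz
      exact hT1 _ (Finset.mem_image_of_mem _ hz)
    · rw [map_zero]; exact zero_mem _
    · intro a b _ _ ha hb
      rw [map_add]; exact add_mem ha hb
    · intro r a _ ha
      rw [Algebra.smul_def, map_mul, ← IsScalarTower.algebraMap_apply]
      exact mul_mem (T.algebraMap_mem r) ha
  obtain ⟨c, s, hsu, hcs⟩ := key y
  obtain ⟨v, hv⟩ := hsu.exists_right_inv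
  have hvT := hT2 _ v (hT3 s) hv
  have : y = v * algebraMap D' O c := by
    rw [← hcs, ← mul_assoc, mul_comm v, hv, one_mul]
  rw [this]
  exact mul_mem hvT (hT3 c)

variable {K : Type u} [Field K]

/-- The affine blow-up chart `S[m_S / x]` inside `K`. -/
def chart (S : Subring K) [IsLocalRing S] (x : K) : Subring K :=
  Subring.closure ((S : Set K) ∪ {z | ∃ w : S, w ∈ maximalIdeal S ∧ z = w / x})

/-- An arc of infinitely near points. -/
structure IsArc (A : ℕ → Subring K) [∀ i, IsLocalRing (A i)] (x : K) : Prop where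
  mono : ∀ i, A i ≤ A (i + 1)
  ne_zero : x ≠ 0
  mem : ∀ i, ∃ w : A i, w ∈ maximalIdeal (A i) ∧ (w : K) = x
  div_mem : ∀ i (z : A i), z ∈ maximalIdeal (A i) → (z : K) / x ∈ A (i + 1)
  res : ∀ i (z : A (i + 1)), ∃ w : A i, ∃ h : (w : K) ∈ A (i + 1), z - ⟨w, h⟩ ∈ maximalIdeal (A (i + 1))
  frac : ∀ i (z : A (i + 1)), ∃ a b : A (i + 1), (a : K) ∈ chart (A i) x ∧ (b : K) ∈ chart (A i) x ∧
    IsUnit b ∧ z * b = a

section

variable {A : ℕ → Subring K} [∀ i, IsLocalRing (A i)] {x : K}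

lemma IsArc.monotone (h : IsArc A x) : Monotone A := monotone_nat_of_le_succ h.mono

lemma IsArc.x_mem (h : IsArc A x) (i : ℕ) : x ∈ A i := by
  obtain ⟨w, _, hw⟩ := h.mem i; rw [← hw]; exact w.2

/-- `x` as an element of `A i`. -/
def IsArc.xi (h : IsArc A x) (i : ℕ) : A i := ⟨x, h.x_mem i⟩

lemma IsArc.xi_mem (h : IsArc A x) (i : ℕ) : h.xi i ∈ maximalIdeal (A i) := by
  obtain ⟨w, hw, hw'⟩ := h.mem i
  convert hw
  exact Subtype.ext hw'.symm

/-- The union of the rings of an arc. -/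
def V (A : ℕ → Subring K) : Subring K := ⨆ i, A i

lemma IsArc.mem_V (h : IsArc A x) {z : K} : z ∈ V A ↔ ∃ i, z ∈ A i :=
  Subring.mem_iSup_of_directed h.monotone.directed_le

lemma le_V (i : ℕ) : A i ≤ V A := le_iSup A i

/-- `x` as an element of the union. -/
def IsArc.xV (h : IsArc A x) : V A := ⟨x, le_V 0 (h.x_mem 0)⟩

lemma IsArc.not_isUnit_xV (h : IsArc A x) : ¬ IsUnit h.xV := by
  intro hu
  obtain ⟨y, hy⟩ := hu.exists_right_inv
  obtain ⟨i, hi⟩ := h.mem_V.1 y.2
  have h1 : h.xi i * ⟨y, hi⟩ = 1 := Subtype.ext (congrArg (Subtype.val : V A → K) hy)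
  exact (mem_maximalIdeal _).1 (h.xi_mem i) (IsUnit.of_mul_eq_one _ h1)

lemma IsArc.isUnit_or_dvd (h : IsArc A x) (z : V A) : IsUnit z ∨ h.xV ∣ z := by
  obtain ⟨i, hi⟩ := h.mem_V.1 z.2
  by_cases hz : IsUnit (⟨z, hi⟩ : A i)
  · left
    obtain ⟨y, hy⟩ := hz.exists_right_inv
    exact IsUnit.of_mul_eq_one ⟨y, le_V i y.2⟩ (Subtype.ext (by simpa using congrArg Subtype.val hy))
  · right
    refine ⟨⟨(z : K) / x, le_V (i + 1) (h.div_mem i ⟨z, hi⟩ hz)⟩, Subtype.ext ?_⟩
    change (z : K) = x * ((z : K) / x)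
    rw [mul_div_cancel₀ _ h.ne_zero]

lemma IsArc.isUnit_iff (h : IsArc A x) (z : V A) : IsUnit z ↔ ¬ h.xV ∣ z := by
  refine ⟨fun hz hd ↦ h.not_isUnit_xV (isUnit_of_dvd_unit hd hz), fun hz ↦ ?_⟩
  exact (h.isUnit_or_dvd z).resolve_right hz

/-- The ideal of elements of infinite `x`-order. -/
def IsArc.Q (h : IsArc A x) : Ideal (V A) := ⨅ n : ℕ, Ideal.span {h.xV ^ n}

lemma IsArc.mem_Q (h : IsArc A x) {z : V A} : z ∈ h.Q ↔ ∀ n, h.xV ^ n ∣ z := by
  simp [IsArc.Q, Ideal.mem_span_singleton]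

lemma IsArc.exists_eq_pow_mul (h : IsArc A x) {z : V A} (hz : z ∉ h.Q) :
    ∃ (n : ℕ) (u : V A), IsUnit u ∧ z = h.xV ^ n * u := by
  rw [h.mem_Q, not_forall] at hz
  classical
  have hn := Nat.find_spec hz
  set n := Nat.find hz with hndef
  have hn0 : n ≠ 0 := by
    rintro h0
    rw [h0] at hn
    exact hn (by simp)
  obtain ⟨m, hm⟩ := Nat.exists_eq_succ_of_ne_zero hn0
  have hmn : h.xV ^ m ∣ z := by
    by_contra hc
    exact Nat.find_min hz (m := m) (by omega) hc
  obtain ⟨u, hu⟩ := hmn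
  refine ⟨m, u, (h.isUnit_iff u).2 fun hd ↦ hn ?_, hu⟩
  obtain ⟨w, hw⟩ := hd
  rw [hu, hw, hm, Nat.succ_eq_add_one, pow_succ]
  exact ⟨w, by ring⟩

lemma IsArc.xV_ne_zero (h : IsArc A x) : h.xV ≠ 0 := fun h0 ↦ h.ne_zero (congrArg Subtype.val h0)

lemma IsArc.not_pow_succ_dvd (h : IsArc A x) {u : V A} (hu : IsUnit u) (n : ℕ) :
    ¬ h.xV ^ (n + 1) ∣ h.xV ^ n * u := by
  rintro ⟨w, hw⟩
  rw [pow_succ, mul_assoc] at hw
  have := mul_left_cancel₀ (pow_ne_zero n h.xV_ne_zero) hw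
  exact (h.isUnit_iff u).1 hu ⟨w, this⟩

lemma IsArc.pow_mul_notMem (h : IsArc A x) {u : V A} (hu : IsUnit u) (n : ℕ) :
    h.xV ^ n * u ∉ h.Q := fun hc ↦ h.not_pow_succ_dvd hu n (h.mem_Q.1 hc (n + 1))

instance IsArc.Q_isPrime (h : IsArc A x) : h.Q.IsPrime := by
  refine ⟨?_, fun {a b} hab ↦ ?_⟩
  · intro ht
    exact h.pow_mul_notMem (u := 1) isUnit_one 0 (ht ▸ Submodule.mem_top)
  · by_contra hc
    push Not at hc
    obtain ⟨n, u, hu, rfl⟩ := h.exists_eq_pow_mul hc.1
    obtain ⟨m, v, hv, rfl⟩ := h.exists_eq_pow_mul hc.2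
    exact h.pow_mul_notMem (hu.mul hv) (n + m) (by convert hab using 1; ring)

/-- The residue ring of the arc: a discrete valuation ring. -/
abbrev IsArc.O (h : IsArc A x) : Type u := V A ⧸ h.Q

/-- The uniformizer. -/
def IsArc.xO (h : IsArc A x) : h.O := Ideal.Quotient.mk h.Q h.xV

lemma IsArc.Q_le (h : IsArc A x) : h.Q ≤ Ideal.span {h.xV} := fun z hz ↦ by
  rw [Ideal.mem_span_singleton]; simpa using h.mem_Q.1 hz 1

lemma IsArc.isUnit_mk_iff (h : IsArc A x) (z : V A) : IsUnit (Ideal.Quotient.mk h.Q z) ↔ IsUnit z := by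
  refine ⟨fun hz ↦ ?_, fun hz ↦ hz.map _⟩
  obtain ⟨y, hy⟩ := hz.exists_right_inv
  obtain ⟨y, rfl⟩ := Ideal.Quotient.mk_surjective y
  rw [← map_mul, ← map_one (Ideal.Quotient.mk h.Q), Ideal.Quotient.eq] at hy
  rw [h.isUnit_iff]
  intro hd
  have h1 := Ideal.mem_span_singleton.1 (h.Q_le hy)
  have h2 : h.xV ∣ (1 : V A) := by
    have : (1 : V A) = z * y - (z * y - 1) := by ring
    rw [this]
    exact dvd_sub (hd.mul_right _) h1
  exact h.not_isUnit_xV (isUnit_of_dvd_one h2)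

lemma IsArc.isUnit_iff_O (h : IsArc A x) (y : h.O) : IsUnit y ↔ ¬ h.xO ∣ y := by
  obtain ⟨z, rfl⟩ := Ideal.Quotient.mk_surjective y
  rw [h.isUnit_mk_iff, h.isUnit_iff, not_iff_not]
  refine ⟨fun hd ↦ map_dvd _ hd, ?_⟩
  rintro ⟨w, hw⟩
  obtain ⟨w, rfl⟩ := Ideal.Quotient.mk_surjective w
  rw [IsArc.xO, ← map_mul, Ideal.Quotient.eq] at hw
  have h1 := Ideal.mem_span_singleton.1 (h.Q_le hw)
  have : z = h.xV * w + (z - h.xV * w) := by ring
  rw [this]
  exact dvd_add (dvd_mul_right _ _) h1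

lemma IsArc.exists_eq_pow_mul_O (h : IsArc A x) {y : h.O} (hy : y ≠ 0) :
    ∃ (n : ℕ) (u : h.O), IsUnit u ∧ y = h.xO ^ n * u := by
  obtain ⟨z, rfl⟩ := Ideal.Quotient.mk_surjective y
  rw [Ne, Ideal.Quotient.eq_zero_iff_mem] at hy
  obtain ⟨n, u, hu, rfl⟩ := h.exists_eq_pow_mul hy
  exact ⟨n, Ideal.Quotient.mk _ u, hu.map _, by simp [IsArc.xO]⟩

lemma IsArc.xO_ne_zero (h : IsArc A x) : h.xO ≠ 0 := by
  rw [IsArc.xO, Ne, Ideal.Quotient.eq_zero_iff_mem]
  simpa using h.pow_mul_notMem (u := 1) isUnit_one 1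

lemma IsArc.not_isUnit_xO (h : IsArc A x) : ¬ IsUnit h.xO := by
  rw [h.isUnit_iff_O]; simp

lemma IsArc.irreducible_xO (h : IsArc A x) : Irreducible h.xO := by
  refine ⟨h.not_isUnit_xO, fun {a b} hab ↦ ?_⟩
  by_contra hc
  push Not at hc
  rw [h.isUnit_iff_O, h.isUnit_iff_O, not_not, not_not] at hc
  obtain ⟨⟨a', rfl⟩, ⟨b', rfl⟩⟩ := hc
  have h1 : h.xO * 1 = h.xO * (a' * h.xO * b') := by linear_combination hab
  have h2 := mul_left_cancel₀ h.xO_ne_zero h1
  exact h.not_isUnit_xO (IsUnit.of_mul_eq_one (a' * b') (by rw [h2]; ring))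

instance IsArc.isDVR (h : IsArc A x) : IsDiscreteValuationRing h.O :=
  IsDiscreteValuationRing.ofHasUnitMulPowIrreducibleFactorization
    ⟨h.xO, h.irreducible_xO, fun {y} hy ↦ by
      obtain ⟨n, u, hu, rfl⟩ := h.exists_eq_pow_mul_O hy
      exact ⟨n, (associated_mul_unit_right _ _ hu)⟩⟩

/-- The map from the `i`-th ring to the residue ring of the arc. -/
def IsArc.φ (h : IsArc A x) (i : ℕ) : A i →+* h.O :=
  (Ideal.Quotient.mk h.Q).comp (Subring.inclusion (le_V i))

lemma IsArc.φ_eq (h : IsArc A x) {i j : ℕ} (z : A i) (hz : (z : K) ∈ A j) :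
    h.φ j ⟨z, hz⟩ = h.φ i z := rfl

lemma IsArc.φ_xi (h : IsArc A x) (i : ℕ) : h.φ i (h.xi i) = h.xO := rfl

lemma IsArc.exists_φ (h : IsArc A x) (y : h.O) : ∃ (i : ℕ) (z : A i), h.φ i z = y := by
  obtain ⟨⟨z, hz⟩, rfl⟩ := Ideal.Quotient.mk_surjective y
  obtain ⟨i, hi⟩ := h.mem_V.1 hz
  exact ⟨i, ⟨z, hi⟩, rfl⟩

lemma IsArc.isUnit_φ (h : IsArc A x) (i : ℕ) (z : A i) : IsUnit (h.φ i z) ↔ IsUnit z := by
  refine ⟨fun hz ↦ ?_, fun hz ↦ hz.map _⟩
  by_contra hc
  have h1 := h.div_mem i z hc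
  have h2 : h.φ i z = h.xO * h.φ (i + 1) ⟨_, h1⟩ := by
    rw [← h.φ_xi (i + 1), ← map_mul, ← h.φ_eq z (h.mono i z.2)]
    congr 1
    refine Subtype.ext ?_
    change (z : K) = x * ((z : K) / x)
    rw [mul_div_cancel₀ _ h.ne_zero]
  exact (h.isUnit_iff_O _).1 hz ⟨_, h2⟩

lemma IsArc.φ_mem (h : IsArc A x) (i : ℕ) {z : A i} (hz : z ∈ maximalIdeal (A i)) :
    h.xO ∣ h.φ i z := by
  by_contra hc
  rw [← h.isUnit_iff_O, h.isUnit_φ] at hc
  exact hz hc

/-- The prime of the arc on the `i`-th ring. -/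
abbrev IsArc.p (h : IsArc A x) (i : ℕ) : Ideal (A i) := RingHom.ker (h.φ i)

lemma IsArc.mem_p (h : IsArc A x) {i : ℕ} {z : A i} : z ∈ h.p i ↔ h.φ i z = 0 := RingHom.mem_ker

lemma IsArc.p_le (h : IsArc A x) (i : ℕ) : h.p i ≤ maximalIdeal (A i) := fun z hz hu ↦ by
  rw [← h.isUnit_φ, h.mem_p.1 hz] at hu
  exact not_isUnit_zero hu

lemma IsArc.xi_notMem_p (h : IsArc A x) (i : ℕ) : h.xi i ∉ h.p i := fun hc ↦
  h.xO_ne_zero (h.mem_p.1 hc)

lemma IsArc.div_mem_p (h : IsArc A x) {i : ℕ} {z : A i} (hz : z ∈ h.p i) :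
    (⟨(z : K) / x, h.div_mem i z (h.p_le i hz)⟩ : A (i + 1)) ∈ h.p (i + 1) := by
  rw [h.mem_p]
  have h2 : h.xO * h.φ (i + 1) ⟨_, h.div_mem i z (h.p_le i hz)⟩ = h.φ i z := by
    rw [← h.φ_xi (i + 1), ← map_mul, ← h.φ_eq z (h.mono i z.2)]
    congr 1
    refine Subtype.ext ?_
    change x * ((z : K) / x) = (z : K)
    rw [mul_div_cancel₀ _ h.ne_zero]
  rw [h.mem_p.1 hz] at h2
  exact (mul_eq_zero.1 h2).resolve_left h.xO_ne_zero

/-- The ideal generated by `p_i / x ^ n` in the `j`-th ring. -/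
def IsArc.I (h : IsArc A x) (i n j : ℕ) : Ideal (A j) :=
  Ideal.span {y | ∃ w : A i, w ∈ h.p i ∧ (y : K) = w / x ^ n}

lemma IsArc.mem_I_of (h : IsArc A x) {i n j : ℕ} {y : A j} {w : A i} (hw : w ∈ h.p i)
    (hy : (y : K) = w / x ^ n) : y ∈ h.I i n j := Ideal.subset_span ⟨w, hw, hy⟩

lemma IsArc.I_le_aux (h : IsArc A x) (i n : ℕ) : h.I i n (i + n) ≤ h.p (i + n) := by
  rw [IsArc.I, Ideal.span_le]
  rintro y ⟨w, hw, hy⟩
  change y ∈ h.p (i + n)
  rw [h.mem_p]
  have h2 : h.xO ^ n * h.φ (i + n) y = h.φ i w := by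
    rw [← h.φ_xi (i + n), ← map_pow, ← map_mul, ← h.φ_eq w (h.monotone (Nat.le_add_right i n) w.2)]
    congr 1
    refine Subtype.ext ?_
    change x ^ n * (y : K) = (w : K)
    rw [hy, mul_div_cancel₀ _ (pow_ne_zero n h.ne_zero)]
  rw [h.mem_p.1 hw] at h2
  exact (mul_eq_zero.1 h2).resolve_left (pow_ne_zero n h.xO_ne_zero)

lemma IsArc.chart_le (h : IsArc A x) (i : ℕ) : chart (A i) x ≤ A (i + 1) := by
  rw [chart, Subring.closure_le]
  rintro z (hz | ⟨w, hw, rfl⟩)
  · exact h.mono i hz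
  · exact h.div_mem i w hw

lemma IsArc.chart_approx (h : IsArc A x) {i : ℕ} (hs : Function.Surjective (h.φ i)) {a : K}
    (ha : a ∈ chart (A i) x) :
    ∃ (c : A i), (⟨a, h.chart_le i ha⟩ - ⟨c, h.mono i c.2⟩ : A (i + 1)) ∈ h.I i 1 (i + 1) := by
  revert ha
  intro ha
  refine Subring.closure_induction (p := fun a ha ↦ ∃ (c : A i),
    (⟨a, h.chart_le i ha⟩ - ⟨c, h.mono i c.2⟩ : A (i + 1)) ∈ h.I i 1 (i + 1)) ?_ ?_ ?_ ?_ ?_ ?_ ha
  · rintro z (hz | ⟨w, hw, rfl⟩)
    · exact ⟨⟨z, hz⟩, by simp⟩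
    · obtain ⟨y, hy⟩ := h.φ_mem i hw
      obtain ⟨c, rfl⟩ := hs y
      have hp : w - h.xi i * c ∈ h.p i := by
        rw [h.mem_p, map_sub, map_mul, h.φ_xi, hy, sub_self]
      refine ⟨c, h.mem_I_of hp ?_⟩
      have hx := h.ne_zero
      change (w : K) / x - (c : K) = ((w : K) - x * c) / x ^ 1
      field_simp
  · exact ⟨0, by convert (h.I i 1 (i + 1)).zero_mem using 1; exact Subtype.ext (by simp)⟩
  · exact ⟨1, by convert (h.I i 1 (i + 1)).zero_mem using 1; exact Subtype.ext (by simp)⟩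
  · rintro a b ha hb ⟨c, hc⟩ ⟨d, hd⟩
    refine ⟨c + d, ?_⟩
    convert (h.I i 1 (i + 1)).add_mem hc hd using 1
    exact Subtype.ext (by simp; ring)
  · rintro a ha ⟨c, hc⟩
    refine ⟨-c, ?_⟩
    convert (h.I i 1 (i + 1)).neg_mem hc using 1
    exact Subtype.ext (by simp; ring)
  · rintro a b ha hb ⟨c, hc⟩ ⟨d, hd⟩
    refine ⟨c * d, ?_⟩
    convert (h.I i 1 (i + 1)).add_mem ((h.I i 1 (i + 1)).mul_mem_right ⟨b, h.chart_le i hb⟩ hc)
      ((h.I i 1 (i + 1)).mul_mem_left ⟨c, h.mono i c.2⟩ hd) using 1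
    exact Subtype.ext (by simp; ring)

lemma IsArc.p_succ_le (h : IsArc A x) {i : ℕ} (hs : Function.Surjective (h.φ i)) :
    h.p (i + 1) ≤ h.I i 1 (i + 1) := by
  have hI : h.I i 1 (i + 1) ≤ h.p (i + 1) := by
    rw [IsArc.I, Ideal.span_le]
    rintro y ⟨w, hw, hy⟩
    have := h.div_mem_p hw
    rw [pow_one] at hy
    have hy' : y = ⟨(w : K) / x, h.div_mem i w (h.p_le i hw)⟩ := Subtype.ext hy
    rw [hy']
    exact this
  intro z hz
  obtain ⟨a, b, ha, hb, hbu, hzb⟩ := h.frac i z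
  obtain ⟨c, hc⟩ := h.chart_approx hs ha
  have haz : a ∈ h.p (i + 1) := by rw [← hzb]; exact (h.p (i + 1)).mul_mem_right _ hz
  have hcp : (⟨c, h.mono i c.2⟩ : A (i + 1)) ∈ h.p (i + 1) := by
    have h1 := (h.p (i + 1)).sub_mem haz (hI hc)
    simpa using h1
  have hcp' : c ∈ h.p i := by
    rw [h.mem_p] at hcp ⊢
    exact hcp
  have hc2 : (⟨c, h.mono i c.2⟩ : A (i + 1)) ∈ h.I i 1 (i + 1) := by
    have h1 : (⟨(c : K) / x, h.div_mem i c (h.p_le i hcp')⟩ : A (i + 1)) ∈ h.I i 1 (i + 1) :=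
      h.mem_I_of hcp' (by simp)
    have h2 := (h.I i 1 (i + 1)).mul_mem_left (h.xi (i + 1)) h1
    convert h2 using 1
    refine Subtype.ext ?_
    change (c : K) = x * ((c : K) / x)
    rw [mul_div_cancel₀ _ h.ne_zero]
  have ha2 : a ∈ h.I i 1 (i + 1) := by
    have h1 := (h.I i 1 (i + 1)).add_mem hc hc2
    simpa using h1
  obtain ⟨b', hb'⟩ := hbu.exists_right_inv
  have : z = a * b' := by rw [← hzb, mul_assoc, hb', mul_one]
  rw [this]
  exact (h.I i 1 (i + 1)).mul_mem_right _ ha2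

lemma IsArc.p_add_le (h : IsArc A x) {i : ℕ} (hs : ∀ j, i ≤ j → Function.Surjective (h.φ j)) (n : ℕ) :
    h.p (i + n) ≤ h.I i n (i + n) := by
  induction n with
  | zero =>
    intro z hz
    exact h.mem_I_of (i := i) (w := z) hz (by simp)
  | succ n ih =>
    refine (h.p_succ_le (hs (i + n) (by omega))).trans ?_
    rw [IsArc.I, Ideal.span_le]
    rintro y ⟨w, hw, hy⟩
    have hw' := ih hw
    clear hw
    revert hy
    revert y
    refine Submodule.span_induction (p := fun (w : A (i + n)) _ ↦ ∀ y : A (i + n + 1),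
      (y : K) = w / x ^ 1 → y ∈ h.I i (n + 1) (i + n + 1)) ?_ ?_ ?_ ?_ hw'
    · rintro w ⟨w', hw', hww'⟩ y hy
      refine h.mem_I_of hw' ?_
      rw [hy, hww', pow_one, pow_succ, div_div]
    · intro y hy
      have : y = 0 := Subtype.ext (by simpa using hy)
      rw [this]; exact Ideal.zero_mem _
    · intro a b ha hb iha ihb y hy
      have ha' : (a : K) / x ^ 1 ∈ A (i + n + 1) := by
        rw [pow_one]
        refine h.div_mem _ a ?_
        refine h.p_le _ ?_
        have hI : h.I i n (i + n) ≤ h.p (i + n) := h.I_le_aux i n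
        exact hI ha
      have hy' : y = ⟨(a : K) / x ^ 1, ha'⟩ + (y - ⟨(a : K) / x ^ 1, ha'⟩) := by ring
      rw [hy']
      refine Ideal.add_mem _ (iha _ rfl) (ihb _ ?_)
      change (y : K) - (a : K) / x ^ 1 = (b : K) / x ^ 1
      rw [hy]
      simp only [Subring.coe_add]
      ring
    · intro r a ha iha y hy
      have ha' : (a : K) / x ^ 1 ∈ A (i + n + 1) := by
        rw [pow_one]
        refine h.div_mem _ a ?_
        refine h.p_le _ ?_
        have hI : h.I i n (i + n) ≤ h.p (i + n) := h.I_le_aux i n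
        exact hI ha
      have hy' : y = ⟨r, h.mono _ r.2⟩ * ⟨(a : K) / x ^ 1, ha'⟩ := by
        refine Subtype.ext ?_
        rw [hy]
        change ((r * a : A (i + n)) : K) / x ^ 1 = (r : K) * ((a : K) / x ^ 1)
        rw [Subring.coe_mul, mul_div_assoc]
      rw [hy']
      exact Ideal.mul_mem_left _ _ (iha _ rfl)

/-- Elements outside `p_i` are `x ^ a * unit` modulo `p_i`. -/
lemma IsArc.exists_decomp (h : IsArc A x) {i : ℕ} (hs : Function.Surjective (h.φ i)) {c : A i}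
    (hc : c ∉ h.p i) : ∃ (a : ℕ) (u : A i), IsUnit u ∧ c - h.xi i ^ a * u ∈ h.p i := by
  obtain ⟨a, u, hu, hcu⟩ := h.exists_eq_pow_mul_O (y := h.φ i c) hc
  obtain ⟨u, rfl⟩ := hs u
  exact ⟨a, u, (h.isUnit_φ i u).1 hu, by rw [h.mem_p, map_sub, map_mul, map_pow, h.φ_xi, hcu, sub_self]⟩

/-- The conormal module of the arc is generated by one element up to `x`-torsion. -/
lemma IsArc.exists_conormal (h : IsArc A x) {i : ℕ} (hs : Function.Surjective (h.φ i))
    [IsNoetherianRing (A i)] (π : A i) (hπ : π ∈ h.p i)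
    (hgen : ∀ z ∈ h.p i, ∃ c : A i, c ∉ h.p i ∧ ∃ d, c * z = d * π) :
    ∃ t ∈ h.p i, ∃ a : ℕ, ∀ z ∈ h.p i, ∃ e, h.xi i ^ a * (z - e * t) ∈ h.p i ^ 2 := by
  have h1 : ∀ z ∈ h.p i, ∃ (a : ℕ) (d : A i), h.xi i ^ a * z - d * π ∈ h.p i ^ 2 := by
    intro z hz
    obtain ⟨c, hc, d, hd⟩ := hgen z hz
    obtain ⟨a, u, hu, hq⟩ := h.exists_decomp hs hc
    obtain ⟨v, hv⟩ := hu.exists_right_inv
    refine ⟨a, v * d, ?_⟩
    have : h.xi i ^ a * z - v * d * π = -(v * ((c - h.xi i ^ a * u) * z)) := by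
      linear_combination v * hd - h.xi i ^ a * z * hv
    rw [this, pow_two]
    exact neg_mem (Ideal.mul_mem_left _ _ (Ideal.mul_mem_mul hq hz))
  obtain ⟨s, hsp⟩ := (isNoetherianRing_iff_ideal_fg _).1 inferInstance (h.p i)
  have h2 : ∃ a : ℕ, ∀ z ∈ h.p i, ∃ d, h.xi i ^ a * z - d * π ∈ h.p i ^ 2 := by
    have hmem : ∀ z ∈ s, z ∈ h.p i := fun z hz ↦ hsp ▸ Ideal.subset_span hz
    choose! a d had using h1
    refine ⟨s.sup a, fun z hz ↦ ?_⟩
    rw [← hsp] at hz
    refine Submodule.span_induction (p := fun z _ ↦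
      ∃ d, h.xi i ^ (s.sup a) * z - d * π ∈ h.p i ^ 2) ?_ ?_ ?_ ?_ hz
    · intro z hz
      have hle : a z ≤ s.sup a := Finset.le_sup (f := a) hz
      refine ⟨h.xi i ^ (s.sup a - a z) * d z, ?_⟩
      have : h.xi i ^ (s.sup a) * z - h.xi i ^ (s.sup a - a z) * d z * π =
          h.xi i ^ (s.sup a - a z) * (h.xi i ^ (a z) * z - d z * π) := by
        conv_lhs => rw [show s.sup a = (s.sup a - a z) + a z by omega, pow_add]
        simp only [Nat.add_sub_cancel]
        ring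
      rw [this]
      exact Ideal.mul_mem_left _ _ (had z (hmem z hz))
    · exact ⟨0, by simp⟩
    · rintro z w _ _ ⟨d, hd⟩ ⟨e, he⟩
      refine ⟨d + e, ?_⟩
      convert Ideal.add_mem _ hd he using 1
      ring
    · rintro r z _ ⟨d, hd⟩
      refine ⟨r * d, ?_⟩
      convert Ideal.mul_mem_left _ r hd using 1
      rw [smul_eq_mul]; ring
  obtain ⟨a, ha⟩ := h2
  let D : Ideal (A i) :=
    { carrier := {d | ∃ z ∈ h.p i, h.xi i ^ a * z - d * π ∈ h.p i ^ 2}
      add_mem' := by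
        rintro d e ⟨z, hz, hd⟩ ⟨w, hw, he⟩
        refine ⟨z + w, add_mem hz hw, ?_⟩
        convert Ideal.add_mem _ hd he using 1
        ring
      zero_mem' := ⟨0, zero_mem _, by simp⟩
      smul_mem' := by
        rintro r d ⟨z, hz, hd⟩
        refine ⟨r * z, Ideal.mul_mem_left _ _ hz, ?_⟩
        convert Ideal.mul_mem_left _ r hd using 1
        rw [smul_eq_mul]; ring }
  obtain ⟨g, hg⟩ := (IsPrincipalIdealRing.principal (Ideal.map (h.φ i) D)).principal
  have hgD : g ∈ Ideal.map (h.φ i) D := by rw [hg]; exact Submodule.mem_span_singleton_self g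
  obtain ⟨d₀, ⟨z₀, hz₀, hd₀⟩, hgd⟩ := (Ideal.mem_map_iff_of_surjective _ hs).1 hgD
  refine ⟨z₀, hz₀, a, fun z hz ↦ ?_⟩
  obtain ⟨d, hd⟩ := ha z hz
  have h3 : h.φ i d ∈ Ideal.map (h.φ i) D := Ideal.mem_map_of_mem _ ⟨z, hz, hd⟩
  rw [hg] at h3
  obtain ⟨e, he⟩ := Submodule.mem_span_singleton.1 h3
  obtain ⟨e, rfl⟩ := hs e
  refine ⟨e, ?_⟩
  have hde : d - e * d₀ ∈ h.p i := by
    rw [h.mem_p, map_sub, map_mul, hgd, ← he, smul_eq_mul, sub_self]
  have : h.xi i ^ a * (z - e * z₀) = (h.xi i ^ a * z - d * π) - e * (h.xi i ^ a * z₀ - d₀ * π) +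
      (d - e * d₀) * π := by ring
  rw [this]
  refine add_mem (sub_mem hd (Ideal.mul_mem_left _ _ hd₀)) ?_
  rw [pow_two]
  exact Ideal.mul_mem_mul hde hπ

/-- `p_i ^ 2 / x ^ (2 n) ⊆ p_(i+n) ^ 2`. -/
lemma IsArc.div_mem_sq (h : IsArc A x) {i n : ℕ} {w : A i} (hw : w ∈ h.p i ^ 2) :
    ∃ y : A (i + n), y ∈ h.p (i + n) ^ 2 ∧ (y : K) = w / x ^ (2 * n) := by
  have key : ∀ z ∈ h.p i, ∃ y : A (i + n), y ∈ h.p (i + n) ∧ (y : K) = z / x ^ n := by
    intro z hz
    induction n with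
    | zero => exact ⟨z, hz, by simp⟩
    | succ n ih =>
      obtain ⟨y, hy, hyz⟩ := ih
      refine ⟨_, h.div_mem_p hy, ?_⟩
      change (y : K) / x = _
      rw [hyz, pow_succ, div_div]
  rw [pow_two] at hw
  refine Submodule.mul_induction_on hw ?_ ?_
  · intro z hz w hw
    obtain ⟨y, hy, hyz⟩ := key z hz
    obtain ⟨y', hy', hyw⟩ := key w hw
    refine ⟨y * y', by rw [pow_two]; exact Ideal.mul_mem_mul hy hy', ?_⟩
    rw [Subring.coe_mul, Subring.coe_mul, hyz, hyw, two_mul, pow_add, div_mul_div_comm]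
  · rintro z w ⟨y, hy, hyz⟩ ⟨y', hy', hyw⟩
    refine ⟨y + y', add_mem hy hy', ?_⟩
    rw [Subring.coe_add, Subring.coe_add, hyz, hyw, add_div]

lemma IsArc.div_mem_p_pow (h : IsArc A x) {i : ℕ} (n : ℕ) {z : A i} (hz : z ∈ h.p i) :
    ∃ y : A (i + n), y ∈ h.p (i + n) ∧ (y : K) = z / x ^ n := by
  induction n with
  | zero => exact ⟨z, hz, by simp⟩
  | succ n ih =>
    obtain ⟨y, hy, hyz⟩ := ih
    refine ⟨_, h.div_mem_p hy, ?_⟩
    change (y : K) / x = _
    rw [hyz, pow_succ, div_div]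

/-- The prime of the arc becomes principal. -/
lemma IsArc.exists_p_le_span (h : IsArc A x) [∀ i, IsNoetherianRing (A i)] {i : ℕ}
    (hs : ∀ j, i ≤ j → Function.Surjective (h.φ j)) (π : A i) (hπ : π ∈ h.p i)
    (hgen : ∀ z ∈ h.p i, ∃ c : A i, c ∉ h.p i ∧ ∃ d, c * z = d * π) :
    ∃ (a : ℕ) (t : A (i + a)), t ∈ h.p (i + a) ∧ h.p (i + a) ≤ Ideal.span {t} := by
  obtain ⟨t, ht, a, hta⟩ := h.exists_conormal (hs i le_rfl) π hπ hgen
  obtain ⟨t', ht', htt'⟩ := h.div_mem_p_pow a ht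
  refine ⟨a, t', ht', ?_⟩
  refine Submodule.le_of_le_smul_of_le_jacobson_bot (I := h.p (i + a)) (IsNoetherian.noetherian _)
    ((h.p_le _).trans (IsLocalRing.maximalIdeal_le_jacobson _)) ?_
  refine (h.p_add_le hs a).trans ?_
  rw [IsArc.I, Ideal.span_le]
  rintro y ⟨w, hw, hy⟩
  obtain ⟨e, he⟩ := hta w hw
  obtain ⟨y', hy', hyy'⟩ := h.div_mem_sq (n := a) he
  have hmono : A i ≤ A (i + a) := h.monotone (Nat.le_add_right i a)
  have hy2 : y = ⟨e, hmono e.2⟩ * t' + y' := by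
    refine Subtype.ext ?_
    rw [hy, Subring.coe_add, Subring.coe_mul, hyy', htt']
    change (w : K) / x ^ a = (e : K) * ((t : K) / x ^ a) + (x ^ a * ((w : K) - e * t)) / x ^ (2 * a)
    have hx : x ^ a ≠ 0 := pow_ne_zero a h.ne_zero
    rw [two_mul, pow_add]
    field_simp
    ring
  rw [hy2]
  refine add_mem (Submodule.mem_sup_left (Ideal.mul_mem_left _ _ (Ideal.mem_span_singleton_self t')))
    (Submodule.mem_sup_right ?_)
  rw [smul_eq_mul, ← pow_two]
  exact hy'

lemma IsArc.maximalIdeal_le (h : IsArc A x) {i : ℕ} (hs : Function.Surjective (h.φ i)) :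
    maximalIdeal (A i) ≤ Ideal.span {h.xi i} ⊔ h.p i := by
  intro z hz
  obtain ⟨y, hy⟩ := h.φ_mem i hz
  obtain ⟨c, rfl⟩ := hs y
  have : z = h.xi i * c + (z - h.xi i * c) := by ring
  rw [this]
  refine add_mem (Submodule.mem_sup_left (Ideal.mul_mem_right _ _ (Ideal.mem_span_singleton_self _)))
    (Submodule.mem_sup_right ?_)
  rw [h.mem_p, map_sub, map_mul, h.φ_xi, hy, sub_self]

lemma IsArc.p_ne_bot (h : IsArc A x) {i : ℕ} (h0 : h.p i ≠ ⊥) (j : ℕ) (hij : i ≤ j) :
    h.p j ≠ ⊥ := by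
  obtain ⟨z, hz, hz0⟩ := Submodule.exists_mem_ne_zero_of_ne_bot h0
  refine (Submodule.ne_bot_iff _).2 ⟨⟨z, h.monotone hij z.2⟩, hz, fun hc ↦ hz0 ?_⟩
  have : (z : K) = 0 := congrArg (Subtype.val : A j → K) hc
  exact Subtype.ext this

instance IsArc.p_isPrime (h : IsArc A x) (i : ℕ) : (h.p i).IsPrime := RingHom.ker_isPrime _

lemma two_le_ringKrullDim {R : Type u} [CommRing R] [IsLocalRing R] [IsDomain R] (p : Ideal R)
    [p.IsPrime] (h0 : p ≠ ⊥) (h1 : p ≠ maximalIdeal R) : 2 ≤ ringKrullDim R := by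
  let a : PrimeSpectrum R := ⟨⊥, Ideal.isPrime_bot⟩
  let b : PrimeSpectrum R := ⟨p, inferInstance⟩
  let c : PrimeSpectrum R := ⟨maximalIdeal R, inferInstance⟩
  have hab : a < b := PrimeSpectrum.asIdeal_lt_asIdeal _ _ |>.1 (bot_lt_iff_ne_bot.2 h0)
  have hbc : b < c := PrimeSpectrum.asIdeal_lt_asIdeal _ _ |>.1
    (lt_of_le_of_ne (le_maximalIdeal (Ideal.IsPrime.ne_top inferInstance)) h1)
  let s : LTSeries (PrimeSpectrum R) :=
    { length := 2
      toFun := ![a, b, c]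
      step := by
        intro j
        fin_cases j
        · exact hab
        · exact hbc }
  exact Order.LTSeries.length_le_krullDim s

/-- If the prime of the arc is principal, then the ring is regular. -/
lemma IsArc.isRegularLocalRing (h : IsArc A x) {i : ℕ} [IsNoetherianRing (A i)]
    (hs : Function.Surjective (h.φ i)) (h0 : h.p i ≠ ⊥) {t : A i} (ht' : t ∈ h.p i)
    (ht : h.p i ≤ Ideal.span {t}) :
    IsRegularLocalRing (A i) := by
  apply IsRegularLocalRing.of_spanFinrank_maximalIdeal_le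
  have h3 : maximalIdeal (A i) = Ideal.span {h.xi i, t} := by
    refine le_antisymm ?_ ?_
    · refine (h.maximalIdeal_le hs).trans ?_
      rw [Ideal.span_insert]
      exact sup_le_sup_left ht _
    · rw [Ideal.span_le]
      rintro y (rfl | rfl)
      · exact h.xi_mem i
      · exact h.p_le i ht'
  have h2 : (maximalIdeal (A i)).spanFinrank ≤ 2 := by
    rw [h3]
    refine (Submodule.spanFinrank_span_le_ncard_of_finite (R := A i) (M := A i)
      (s := {h.xi i, t}) (Set.toFinite _)).trans ?_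
    refine (Set.ncard_insert_le _ _).trans ?_
    rw [Set.ncard_singleton]
  refine le_trans ?_ (two_le_ringKrullDim (h.p i) h0 ?_)
  · exact_mod_cast h2
  · intro hc
    exact h.xi_notMem_p i (hc ▸ h.xi_mem i)

/-- The fraction field does not grow along an arc. -/
lemma IsArc.exists_frac (h : IsArc A x) (y : h.O) :
    ∃ a b : A 0, h.φ 0 b ≠ 0 ∧ h.φ 0 b * y = h.φ 0 a := by
  let T : Subring h.O :=
    { carrier := {y | ∃ a b : A 0, h.φ 0 b ≠ 0 ∧ h.φ 0 b * y = h.φ 0 a}
      mul_mem' := by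
        rintro y z ⟨a, b, hb, h1⟩ ⟨c, d, hd, h2⟩
        refine ⟨a * c, b * d, ?_, ?_⟩
        · rw [map_mul]; exact mul_ne_zero hb hd
        · rw [map_mul, map_mul, ← h1, ← h2]; ring
      one_mem' := ⟨1, 1, by simp, by simp⟩
      add_mem' := by
        rintro y z ⟨a, b, hb, h1⟩ ⟨c, d, hd, h2⟩
        refine ⟨a * d + c * b, b * d, ?_, ?_⟩
        · rw [map_mul]; exact mul_ne_zero hb hd
        · rw [map_mul, map_add, map_mul, map_mul, ← h1, ← h2]; ring
      zero_mem' := ⟨0, 1, by simp, by simp⟩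
      neg_mem' := by
        rintro y ⟨a, b, hb, h1⟩
        exact ⟨-a, b, hb, by rw [map_neg, ← h1]; ring⟩ }
  have hdiv : ∀ y z : h.O, y ∈ T → y ≠ 0 → y * z ∈ T → z ∈ T := by
    rintro y z ⟨a, b, hb, h1⟩ hy0 ⟨c, d, hd, h2⟩
    refine ⟨c * b, a * d, ?_, ?_⟩
    · rw [map_mul, ← h1]; exact mul_ne_zero (mul_ne_zero hb hy0) hd
    · rw [map_mul, map_mul, ← h1, ← h2]; ring
  have key : ∀ (i : ℕ) (z : A i), h.φ i z ∈ T := by
    intro i
    induction i with
    | zero => exact fun z ↦ ⟨z, 1, by simp, by simp⟩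
    | succ i ih =>
      have hchart : ∀ (a : K) (ha : a ∈ chart (A i) x), h.φ (i + 1) ⟨a, h.chart_le i ha⟩ ∈ T := by
        intro a ha
        refine Subring.closure_induction (p := fun a ha ↦ h.φ (i + 1) ⟨a, h.chart_le i ha⟩ ∈ T)
          ?_ ?_ ?_ ?_ ?_ ?_ ha
        · rintro z (hz | ⟨w, hw, rfl⟩)
          · exact ih ⟨z, hz⟩
          · refine hdiv h.xO _ (ih (h.xi i)) h.xO_ne_zero ?_
            convert ih w using 1
            rw [← h.φ_xi (i + 1), ← map_mul, ← h.φ_eq w (h.mono i w.2)]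
            congr 1
            refine Subtype.ext ?_
            change x * ((w : K) / x) = (w : K)
            rw [mul_div_cancel₀ _ h.ne_zero]
        · exact T.zero_mem
        · exact T.one_mem
        · intro a b ha hb iha ihb
          exact T.add_mem iha ihb
        · intro a ha iha
          exact T.neg_mem iha
        · intro a b ha hb iha ihb
          exact T.mul_mem iha ihb
      intro z
      obtain ⟨a, b, ha, hb, hbu, hzb⟩ := h.frac i z
      refine hdiv (h.φ (i + 1) b) _ (hchart _ hb) ((h.isUnit_φ _ b).2 hbu).ne_zero ?_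
      rw [← map_mul, mul_comm, hzb]
      exact hchart _ ha
  obtain ⟨i, z, rfl⟩ := h.exists_φ y
  exact key i z

lemma IsArc.range_mono (h : IsArc A x) {i j : ℕ} (hij : i ≤ j) : (h.φ i).range ≤ (h.φ j).range := by
  rintro _ ⟨z, rfl⟩
  exact ⟨⟨z, h.monotone hij z.2⟩, rfl⟩

/-- The residue rings of the arc are eventually the full discrete valuation ring. -/
lemma IsArc.exists_forall_surjective (h : IsArc A x) [IsNoetherianRing (A 0)]
    (hdim : Ring.DimensionLEOne (A 0 ⧸ h.p 0))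
    (hN : Module.Finite (A 0 ⧸ h.p 0) (integralClosure (A 0 ⧸ h.p 0) (FractionRing (A 0 ⧸ h.p 0)))) :
    ∃ i₀, ∀ i, i₀ ≤ i → Function.Surjective (h.φ i) := by
  let _ : Algebra (A 0 ⧸ h.p 0) h.O := (RingHom.kerLift (h.φ 0)).toAlgebra
  have hinj : Function.Injective (algebraMap (A 0 ⧸ h.p 0) h.O) := RingHom.kerLift_injective _
  have hmk : ∀ a : A 0, algebraMap (A 0 ⧸ h.p 0) h.O (Ideal.Quotient.mk _ a) = h.φ 0 a := fun a ↦ rfl
  obtain ⟨s, hs⟩ := exists_finset_of_N1 (D := A 0 ⧸ h.p 0) (O := h.O) hinj hN (fun y ↦ by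
    obtain ⟨a, b, hb, hab⟩ := h.exists_frac y
    refine ⟨Ideal.Quotient.mk _ a, Ideal.Quotient.mk _ b, ?_, by rw [hmk, hmk]; exact hab⟩
    intro hc
    apply hb
    rw [← hmk, hc, map_zero])
  classical
  choose idx hidx using fun z : h.O ↦ h.exists_φ z
  refine ⟨s.sup idx, fun i hi ↦ ?_⟩
  let T : Subalgebra (A 0 ⧸ h.p 0) h.O :=
    { (h.φ i).range with
      algebraMap_mem' := by
        intro r
        obtain ⟨r, rfl⟩ := Ideal.Quotient.mk_surjective r
        exact h.range_mono (Nat.zero_le i) ⟨r, rfl⟩ }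
  have hT : ∀ y, y ∈ T := by
    apply hs T
    · intro z hz
      have h1 : idx z ≤ i := (Finset.le_sup (f := idx) hz).trans hi
      obtain ⟨w, hw⟩ := hidx z
      exact h.range_mono h1 ⟨w, hw⟩
    · rintro z w ⟨a, rfl⟩ hzw
      have ha : IsUnit a := by
        rw [← h.isUnit_φ]
        exact IsUnit.of_mul_eq_one _ hzw
      obtain ⟨b, hb⟩ := ha.exists_right_inv
      refine ⟨b, ?_⟩
      have h1 : h.φ i a * h.φ i b = 1 := by rw [← map_mul, hb, map_one]
      calc h.φ i b = h.φ i b * (h.φ i a * w) := by rw [hzw, mul_one]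
        _ = w := by rw [← mul_assoc, mul_comm (h.φ i b), h1, one_mul]
  exact fun y ↦ hT y

lemma dimensionLEOne_quotient {R : Type u} [CommRing R] [IsLocalRing R] [IsDomain R] (p : Ideal R)
    [p.IsPrime] (h0 : p ≠ ⊥) (hdim : ringKrullDim R ≤ 2) : Ring.DimensionLEOne (R ⧸ p) := by
  refine ⟨fun {q} hq hqp ↦ ?_⟩
  have h1 : (q.comap (Ideal.Quotient.mk p)).IsPrime := Ideal.IsPrime.comap _
  have h2 : p < q.comap (Ideal.Quotient.mk p) := by
    refine lt_of_le_of_ne ?_ ?_
    · intro z hz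
      rw [Ideal.mem_comap, Ideal.Quotient.eq_zero_iff_mem.2 hz]
      exact zero_mem _
    · intro hc
      apply hq
      rw [← Ideal.map_comap_of_surjective _ Ideal.Quotient.mk_surjective q, ← hc,
        Ideal.map_quotient_self]
  have h3 : q.comap (Ideal.Quotient.mk p) = maximalIdeal R := by
    by_contra hc
    have := three_le_ringKrullDim p _ h0 h2 hc
    have h4 := this.trans hdim
    exact absurd h4 (by decide)
  have h4 : (q.comap (Ideal.Quotient.mk p)).IsMaximal := h3 ▸ inferInstance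
  have h5 := Ideal.map_eq_top_or_isMaximal_of_surjective (Ideal.Quotient.mk p)
    Ideal.Quotient.mk_surjective h4
  rw [Ideal.map_comap_of_surjective _ Ideal.Quotient.mk_surjective] at h5
  exact h5.resolve_left hqp.ne_top

/-- **Arc lemma.** Along an arc of normal two-dimensional local rings with nonzero prime the rings
are eventually regular. -/
theorem IsArc.exists_isRegularLocalRing (h : IsArc A x) [∀ i, IsNoetherianRing (A i)]
    [∀ i, IsIntegrallyClosed (A i)] (hdim : ∀ i, ringKrullDim (A i) ≤ 2)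
    (hN : Module.Finite (A 0 ⧸ h.p 0) (integralClosure (A 0 ⧸ h.p 0) (FractionRing (A 0 ⧸ h.p 0))))
    (h0 : h.p 0 ≠ ⊥) : ∀ i₀ : ℕ, ∃ i, i₀ ≤ i ∧ IsRegularLocalRing (A i) := by
  intro j₀
  obtain ⟨i₀, hi₀⟩ := h.exists_forall_surjective (dimensionLEOne_quotient _ h0 (hdim 0)) hN
  set i := max i₀ j₀ with hi
  have hs : ∀ j, i ≤ j → Function.Surjective (h.φ j) := fun j hj ↦ hi₀ j (by omega)
  have hp0 : h.p i ≠ ⊥ := h.p_ne_bot h0 i (Nat.zero_le i)
  obtain ⟨π, hπ, hgen⟩ := exists_local_generator (h.p i) (fun q hq hq0 hqp ↦ by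
    by_contra hne
    have := three_le_ringKrullDim q (h.p i) hq0 (lt_of_le_of_ne hqp hne)
      (fun hc ↦ h.xi_notMem_p i (hc ▸ h.xi_mem i))
    exact absurd (this.trans (hdim i)) (by decide))
  obtain ⟨a, t, ht, hpt⟩ := h.exists_p_le_span hs π hπ hgen
  exact ⟨i + a, by omega, h.isRegularLocalRing (hs _ (by omega))
    (h.p_ne_bot hp0 _ (by omega)) ht hpt⟩

/-- Constancy of residue fields along the arc. -/
lemma IsArc.exists_zero_approx (h : IsArc A x) (y : h.O) : ∃ w : A 0, h.xO ∣ y - h.φ 0 w := by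
  have key : ∀ (i : ℕ) (z : A i), ∃ w : A 0, h.xO ∣ h.φ i z - h.φ 0 w := by
    intro i
    induction i with
    | zero => exact fun z ↦ ⟨z, by simp⟩
    | succ i ih =>
      intro z
      obtain ⟨w, hw, hzw⟩ := h.res i z
      obtain ⟨v, hv⟩ := ih w
      refine ⟨v, ?_⟩
      have h1 := h.φ_mem (i + 1) hzw
      rw [map_sub] at h1
      have h2 : h.φ (i + 1) ⟨w, hw⟩ = h.φ i w := rfl
      have : h.φ (i + 1) z - h.φ 0 v = (h.φ (i + 1) z - h.φ (i + 1) ⟨w, hw⟩) + (h.φ i w - h.φ 0 v) := by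
        rw [h2]; ring
      rw [this]
      exact dvd_add h1 hv
  obtain ⟨i, z, rfl⟩ := h.exists_φ y
  exact key i z

lemma IsArc.eq_zero_of_forall_dvd (h : IsArc A x) {y : h.O} (hy : ∀ n, h.xO ^ n ∣ y) : y = 0 := by
  by_contra h0
  obtain ⟨n, u, hu, rfl⟩ := h.exists_eq_pow_mul_O h0
  obtain ⟨w, hw⟩ := hy (n + 1)
  rw [pow_succ, mul_assoc] at hw
  have := mul_left_cancel₀ (pow_ne_zero n h.xO_ne_zero) hw
  exact (h.isUnit_iff_O u).1 hu ⟨w, this⟩

/-- If the arc lies over a complete local base ring `R`, its prime is nonzero. -/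
theorem IsArc.p_ne_bot_of_isAdicComplete (h : IsArc A x) {R : Type u} [CommRing R] [IsLocalRing R]
    [IsNoetherianRing R] [IsAdicComplete (maximalIdeal R) R] (f : R →+* A 0)
    (hf : ∀ r ∈ maximalIdeal R, f r ∈ maximalIdeal (A 0)) (hf0 : ∃ r ∈ maximalIdeal R, f r ≠ 0)
    (hfin : ((residue (A 0)).comp f).Finite)
    (hq : ∃ q : Ideal (A 0), q.IsPrime ∧ q ≠ ⊥ ∧ q ≠ maximalIdeal (A 0)) : h.p 0 ≠ ⊥ := by
  intro hbot
  have hinj : Function.Injective (h.φ 0) := (RingHom.injective_iff_ker_eq_bot _).2 hbot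
  let _ : Algebra R h.O := ((h.φ 0).comp f).toAlgebra
  have halg : ∀ r : R, algebraMap R h.O r = h.φ 0 (f r) := fun _ ↦ rfl
  -- a finitely generated `R`-submodule of `O` surjecting onto the residue field
  obtain ⟨S, hSfg, hS⟩ : ∃ S : Submodule R h.O, S.FG ∧ ∀ y : h.O, ∃ s ∈ S, h.xO ∣ y - s := by
    let _ : Algebra R (ResidueField (A 0)) := ((residue (A 0)).comp f).toAlgebra
    have hfin' : Module.Finite R (ResidueField (A 0)) := hfin
    obtain ⟨t, ht⟩ := hfin'.fg_top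
    choose g hg using fun z : ResidueField (A 0) ↦ residue_surjective (R := A 0) z
    classical
    refine ⟨Submodule.span R (t.image (fun z ↦ h.φ 0 (g z)) : Finset h.O), ⟨_, rfl⟩, fun y ↦ ?_⟩
    obtain ⟨w, hw⟩ := h.exists_zero_approx y
    suffices H : ∀ z : ResidueField (A 0), ∀ w : A 0, residue (A 0) w = z →
        ∃ s ∈ Submodule.span R (t.image (fun z ↦ h.φ 0 (g z)) : Finset h.O) , h.xO ∣ h.φ 0 w - s by
      obtain ⟨s, hs, hs'⟩ := H _ w rfl
      refine ⟨s, hs, ?_⟩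
      have : y - s = (y - h.φ 0 w) + (h.φ 0 w - s) := by ring
      rw [this]; exact dvd_add hw hs'
    intro z
    have hz : z ∈ Submodule.span R (t : Set (ResidueField (A 0))) := by rw [ht]; trivial
    refine Submodule.span_induction (p := fun z _ ↦ ∀ w : A 0, residue (A 0) w = z →
        ∃ s ∈ Submodule.span R (t.image (fun z ↦ h.φ 0 (g z)) : Finset h.O) , h.xO ∣ h.φ 0 w - s)
        ?_ ?_ ?_ ?_ hz
    · intro z hz w hw
      refine ⟨h.φ 0 (g z), Submodule.subset_span (by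
        simpa using ⟨z, hz, rfl⟩), ?_⟩
      rw [← map_sub]
      apply h.φ_mem
      rw [← residue_eq_zero_iff, map_sub, hw, hg, sub_self]
    · intro w hw
      refine ⟨0, zero_mem _, ?_⟩
      rw [sub_zero]
      exact h.φ_mem _ ((residue_eq_zero_iff _).1 hw)
    · intro a b _ _ ha hb w hw
      obtain ⟨wa, rfl⟩ := residue_surjective (R := A 0) a
      obtain ⟨wb, rfl⟩ := residue_surjective (R := A 0) b
      obtain ⟨s, hs, hs'⟩ := ha wa rfl
      obtain ⟨s', hs1, hs1'⟩ := hb (w - wa) (by rw [map_sub, hw]; ring)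
      refine ⟨s + s', add_mem hs hs1, ?_⟩
      have : h.φ 0 w - (s + s') = (h.φ 0 wa - s) + (h.φ 0 (w - wa) - s') := by
        rw [map_sub]; ring
      rw [this]; exact dvd_add hs' hs1'
    · intro r a _ ha w hw
      obtain ⟨wa, rfl⟩ := residue_surjective (R := A 0) a
      obtain ⟨s, hs, hs'⟩ := ha wa rfl
      refine ⟨r • s, Submodule.smul_mem _ _ hs, ?_⟩
      have h1 : w - f r * wa ∈ maximalIdeal (A 0) := by
        rw [← residue_eq_zero_iff, map_sub, hw, map_mul]
        exact sub_self _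
      have : h.φ 0 w - r • s = h.φ 0 (w - f r * wa) + h.φ 0 (f r) * (h.φ 0 wa - s) := by
        rw [Algebra.smul_def, halg, map_sub, map_mul]; ring
      rw [this]; exact dvd_add (h.φ_mem _ h1) (hs'.mul_left _)
  -- finite generation modulo powers
  have hpow : ∀ n : ℕ, ∃ N : Submodule R h.O, N.FG ∧ ∀ y : h.O, ∃ s ∈ N, h.xO ^ n ∣ y - s := by
    intro n
    induction n with
    | zero => exact ⟨⊥, Submodule.fg_bot, fun y ↦ ⟨0, zero_mem _, by simp⟩⟩
    | succ n ih =>
      obtain ⟨N, hNfg, hN⟩ := ih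
      refine ⟨N ⊔ S.map (LinearMap.mulLeft R (h.xO ^ n)), hNfg.sup (hSfg.map _), fun y ↦ ?_⟩
      obtain ⟨s, hs, w, hw⟩ := hN y
      obtain ⟨s', hs', w', hw'⟩ := hS w
      refine ⟨s + h.xO ^ n * s', Submodule.add_mem_sup hs ⟨s', hs', rfl⟩, w', ?_⟩
      linear_combination hw + h.xO ^ n * hw'
  obtain ⟨r, hr, hr0⟩ := hf0
  obtain ⟨c, u, hu, hcu⟩ := h.exists_eq_pow_mul_O (y := h.φ 0 (f r)) (by
    rw [Ne, map_eq_zero_iff _ hinj]; exact hr0)
  obtain ⟨N, hNfg, hN⟩ := hpow c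
  have hfinq : Module.Finite R (h.O ⧸ (maximalIdeal R • ⊤ : Submodule R h.O)) := by
    have h1 : N.map (Submodule.mkQ (maximalIdeal R • ⊤ : Submodule R h.O)) = ⊤ := by
      rw [eq_top_iff]
      rintro y -
      obtain ⟨y, rfl⟩ := Submodule.mkQ_surjective _ y
      obtain ⟨s, hs, w, hw⟩ := hN y
      refine ⟨s, hs, ?_⟩
      rw [Submodule.mkQ_apply, Submodule.mkQ_apply, Submodule.Quotient.eq, ← neg_sub]
      refine neg_mem ?_
      obtain ⟨v, hv⟩ := hu.exists_right_inv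
      have : y - s = r • (v * w) := by
        rw [hw, Algebra.smul_def, halg, hcu]
        linear_combination - h.xO ^ c * w * hv
      rw [this]
      exact Submodule.smul_mem_smul hr trivial
    exact ⟨h1 ▸ hNfg.map _⟩
  have hI : ∀ n : ℕ, ∀ y ∈ (maximalIdeal R ^ n • ⊤ : Submodule R h.O), h.xO ^ n ∣ y := by
    intro n
    induction n with
    | zero => intro y _; simp
    | succ n ih =>
      intro y hy
      rw [pow_succ', mul_smul] at hy
      refine Submodule.smul_induction_on hy ?_ ?_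
      · intro a ha z hz
        rw [Algebra.smul_def, halg, pow_succ']
        exact mul_dvd_mul (h.φ_mem 0 (hf a ha)) (ih z hz)
      · intro a b ha hb; exact dvd_add ha hb
  have hH : IsHausdorff (maximalIdeal R) h.O := by
    refine ⟨fun y hy ↦ h.eq_zero_of_forall_dvd fun n ↦ hI n y ?_⟩
    have := hy n
    rwa [SModEq.zero] at this
  have hfinO : Module.Finite R h.O := Groth.Agent.S0544.result R (maximalIdeal R) h.O hfinq
  have hint : Algebra.IsIntegral R h.O := inferInstance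
  have hint2 : (h.φ 0).IsIntegral := fun y ↦ by
    have h1 : IsIntegral R y := hint.isIntegral y
    exact RingHom.IsIntegralElem.of_comp (f := f) h1
  obtain ⟨q, hqp, hq0, hqm⟩ := hq
  let _ : Algebra (A 0) h.O := (h.φ 0).toAlgebra
  have : Algebra.IsIntegral (A 0) h.O := ⟨hint2⟩
  obtain ⟨Q', hQ'p, hQ'⟩ := Ideal.exists_ideal_over_prime_of_isIntegral_of_isDomain (S := h.O) q (by
    change RingHom.ker (h.φ 0) ≤ q
    rw [(RingHom.injective_iff_ker_eq_bot _).1 hinj]; exact bot_le)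
  have hQ0 : Q' ≠ ⊥ := by
    rintro rfl
    apply hq0
    rw [← hQ', eq_bot_iff]
    intro z hz
    rw [Ideal.mem_comap, Ideal.mem_bot] at hz
    exact hinj (by rw [map_zero]; exact hz)
  have hQm : Q'.IsMaximal := hQ'p.isMaximal hQ0
  have hqm' : q.IsMaximal := by
    rw [← hQ']
    exact Ideal.isMaximal_comap_of_isIntegral_of_isMaximal Q'
  exact hqm (IsLocalRing.eq_maximalIdeal hqm')

end

end Groth.Agent.Lipman.Arc
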