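import Mathlib.RingTheory.Valuation.LocalSubring
import Mathlib.RingTheory.DiscreteValuationRing.TFAE
import Mathlib.RingTheory.DedekindDomain.Dvr
import Mathlib.RingTheory.Ideal.Height

/-!
# Basics on valuation subrings of a field `K` containing a subring `R`

centres, composite valuations, specialisation, domination, discrete valuation rings at height one
primes.  (Block B0 of the project `lipman`, helper158.)
-/

set_option autoImplicit false
universe u

open IsLocalRing

namespace Groth.Agent.Lipman.ZR158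

variable {K : Type u} [Field K]

/-! ### nonunits -/

lemma nonunits_mem_of_mem {V : ValuationSubring K} {x : K} (h : x ∈ V.nonunits) : x ∈ V :=
  ValuationSubring.nonunits_subset h

lemma mem_iff_not_inv_nonunits {V : ValuationSubring K} {x : K} :
    x ∈ V ↔ x⁻¹ ∉ V.nonunits ∨ x = 0 := by
  rw [ValuationSubring.inv_mem_nonunits_iff]
  by_cases h0 : x = 0
  · simp [h0, V.zero_mem]
  · simp [h0]

/-- `x ∈ V` and not a nonunit iff `x ≠ 0`, `x` and `x⁻¹` both in `V`. -/
lemma inv_mem_of_not_nonunits {V : ValuationSubring K} {x : K} (h0 : x ≠ 0)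
    (h : x ∉ V.nonunits) : x⁻¹ ∈ V := by
  rw [ValuationSubring.mem_nonunits_iff_or] at h
  push Not at h
  exact h.2

lemma not_nonunits_of_inv_mem {V : ValuationSubring K} {x : K} (h0 : x ≠ 0)
    (h : x⁻¹ ∈ V) : x ∉ V.nonunits := by
  rw [ValuationSubring.mem_nonunits_iff_or]
  push Not
  exact ⟨h0, h⟩

lemma mul_nonunits {V : ValuationSubring K} {x y : K} (hx : x ∈ V) (hy : y ∈ V.nonunits) :
    x * y ∈ V.nonunits := by
  rw [ValuationSubring.mem_nonunits_iff] at hy ⊢
  rw [map_mul]
  exact mul_lt_one_of_nonneg_of_lt_one_right ((V.valuation_le_one_iff x).2 hx) zero_le hy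

lemma not_nonunits_mul {V : ValuationSubring K} {x y : K} (hx : x ∉ V.nonunits)
    (hy : y ∉ V.nonunits) : x * y ∉ V.nonunits := by
  rw [ValuationSubring.mem_nonunits_iff, not_lt] at hx hy ⊢
  rw [map_mul]
  exact one_le_mul hx hy

lemma one_not_nonunits (V : ValuationSubring K) : (1 : K) ∉ V.nonunits := by
  rw [ValuationSubring.mem_nonunits_iff, map_one]
  exact lt_irrefl _

/-- if `V ≤ W` then the maximal ideal of `W` is contained in the maximal ideal of `V`. -/
lemma nonunits_mono {V W : ValuationSubring K} (h : V ≤ W) {x : K} (hx : x ∈ W.nonunits) :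
    x ∈ V.nonunits :=
  ValuationSubring.nonunits_le_nonunits.2 h hx

/-! ### centres -/

/-- The centre of `V ⊇ R` on `R` : the prime ideal `m_V ∩ R`. -/
def ctr (R : Subring K) (V : ValuationSubring K) (h : R ≤ V.toSubring) : Ideal R :=
  (maximalIdeal V).comap (Subring.inclusion h : R →+* V.toSubring)

lemma mem_ctr {R : Subring K} {V : ValuationSubring K} (h : R ≤ V.toSubring) {x : R} :
    x ∈ ctr R V h ↔ (x : K) ∈ V.nonunits :=
  (ValuationSubring.coe_mem_nonunits_iff (A := V) (a := Subring.inclusion h x)).symm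

instance ctr_isPrime (R : Subring K) (V : ValuationSubring K) (h : R ≤ V.toSubring) :
    (ctr R V h).IsPrime :=
  Ideal.comap_isPrime _ (maximalIdeal V)

/-- Restricting along `R ≤ S ≤ V`. -/
lemma ctr_comap {R S : Subring K} {V : ValuationSubring K} (h : R ≤ S) (hS : S ≤ V.toSubring) :
    (ctr S V hS).comap (Subring.inclusion h) = ctr R V (h.trans hS) := by
  ext x
  rw [Ideal.mem_comap, mem_ctr, mem_ctr]
  rfl

/-- The centre gets bigger if the valuation subring gets smaller. -/
lemma ctr_le_ctr {R : Subring K} {V W : ValuationSubring K} (hV : R ≤ V.toSubring)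
    (hVW : V ≤ W) : ctr R W (hV.trans hVW) ≤ ctr R V hV := by
  intro x hx
  rw [mem_ctr] at hx ⊢
  exact nonunits_mono hVW hx

/-- Every prime is the centre of a valuation. -/
lemma exists_ctr_eq (R : Subring K) (p : Ideal R) [hp : p.IsPrime] :
    ∃ (V : ValuationSubring K) (h : R ≤ V.toSubring), ctr R V h = p := by
  obtain ⟨V, hV⟩ := (LocalSubring.ofPrime R p).exists_le_valuationSubring
  have h1 : R ≤ V.toSubring := (LocalSubring.le_ofPrime R p).trans hV.1
  refine ⟨V, h1, ?_⟩
  have hloc : IsLocalHom (Subring.inclusion hV.1) := hV.2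
  have hcomap : (maximalIdeal V).comap (Subring.inclusion hV.1 :
      (LocalSubring.ofPrime R p).toSubring →+* V.toSubring) =
      maximalIdeal (LocalSubring.ofPrime R p).toSubring :=
    ((local_hom_TFAE (Subring.inclusion hV.1)).out 0 4).1 hloc
  have h3 : (maximalIdeal (LocalSubring.ofPrime R p).toSubring).comap
      (algebraMap R (LocalSubring.ofPrime R p).toSubring) = p :=
    IsLocalization.AtPrime.under_maximalIdeal _ p
  rw [← h3, ← hcomap, Ideal.comap_comap]
  rfl

/-- Elements outside the centre of `V` are invertible in `V`. -/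
lemma inv_mem_of_notMem_ctr {R : Subring K} {V : ValuationSubring K} (h : R ≤ V.toSubring)
    {x : R} (hx : x ∉ ctr R V h) : (x : K)⁻¹ ∈ V := by
  rw [mem_ctr] at hx
  exact inv_mem_of_not_nonunits (fun h0 ↦ hx (by rw [h0]; exact zero_mem _)) hx

/-! ### the localisation `R_p` inside `K` -/

lemma mem_ofPrime_iff {R : Subring K} {p : Ideal R} [hp : p.IsPrime] {x : K} :
    x ∈ (LocalSubring.ofPrime R p).toSubring ↔ ∃ a s : R, s ∉ p ∧ x = a / s := by
  constructor
  · rintro ⟨y, rfl⟩
    obtain ⟨a, s, rfl⟩ := IsLocalization.exists_mk'_eq p.primeCompl y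
    have hs0 : (s.1 : K) ≠ 0 := fun h0 ↦ s.2 (by
      rw [show s.1 = 0 from Subtype.ext h0]; exact p.zero_mem)
    refine ⟨a, s, s.2, ?_⟩
    rw [eq_div_iff hs0]
    have := IsLocalization.lift_mk'_spec (M := p.primeCompl) (S := Localization.AtPrime p)
      (g := R.subtype) (hg := by
        rintro ⟨t, ht⟩
        exact isUnit_iff_ne_zero.2 fun h0 ↦ ht (by
          rw [show t = 0 from Subtype.ext h0]; exact p.zero_mem)) a
      (((IsLocalization.lift (M := p.primeCompl) (S := Localization.AtPrime p)
        (g := R.subtype) (by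
        rintro ⟨t, ht⟩
        exact isUnit_iff_ne_zero.2 fun h0 ↦ ht (by
          rw [show t = 0 from Subtype.ext h0]; exact p.zero_mem)))
            (IsLocalization.mk' _ a s))) s
    rw [mul_comm]
    exact (this.1 rfl).symm
  · rintro ⟨a, s, hs, rfl⟩
    have hs0 : (s : K) ≠ 0 := fun h0 ↦ hs (by
      rw [show s = 0 from Subtype.ext h0]; exact p.zero_mem)
    have ha := LocalSubring.le_ofPrime R p a.2
    have hs' := LocalSubring.le_ofPrime R p s.2
    have hu : IsUnit (⟨(s : K), hs'⟩ : (LocalSubring.ofPrime R p).toSubring) :=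
      IsLocalization.map_units (M := p.primeCompl) (LocalSubring.ofPrime R p).toSubring ⟨s, hs⟩
    obtain ⟨t, ht⟩ := hu.exists_right_inv
    have h1 : (s : K) * (t : K) = 1 := congrArg Subtype.val ht
    have h2 : (a : K) / s = a * t := by
      rw [div_eq_iff hs0, mul_assoc, mul_comm (t : K), h1, mul_one]
    rw [h2]
    exact mul_mem ha t.2

/-- A valuation subring above `R` whose centre is contained in `p` contains `R_p`. -/
lemma ofPrime_le {R : Subring K} {p : Ideal R} [hp : p.IsPrime] {V : ValuationSubring K}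
    (h : R ≤ V.toSubring) (hc : ctr R V h ≤ p) :
    (LocalSubring.ofPrime R p).toSubring ≤ V.toSubring := by
  intro x hx
  obtain ⟨a, s, hs, rfl⟩ := mem_ofPrime_iff.1 hx
  rw [div_eq_mul_inv]
  exact mul_mem (h a.2) (inv_mem_of_notMem_ctr h (fun h1 ↦ hs (hc h1)))

/-! ### composite valuations -/

/-- The composite of the valuation subring `V` of `K` with a valuation subring `W` of the residue
field of `V`: the elements of `V` whose residue class is in `W`. -/
noncomputable def comp (V : ValuationSubring K) (W : ValuationSubring (ResidueField V)) :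
    ValuationSubring K where
  toSubring := (W.toSubring.comap (residue V)).map V.subtype
  mem_or_inv_mem' := by
    intro x
    by_cases h0 : x = 0
    · left
      rw [h0]
      exact zero_mem ((W.toSubring.comap (residue V)).map V.subtype)
    have key : ∀ y : K, y ∈ V.nonunits → y ∈ (W.toSubring.comap (residue V)).map V.subtype := by
      intro y hy
      refine ⟨⟨y, nonunits_mem_of_mem hy⟩, ?_, rfl⟩
      have h1 : residue V ⟨y, nonunits_mem_of_mem hy⟩ = 0 := by
        rw [residue_eq_zero_iff]
        exact ValuationSubring.coe_mem_nonunits_iff.1 hy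
      change residue V _ ∈ W
      rw [h1]
      exact W.zero_mem
    by_cases hx : x ∈ V.nonunits
    · exact Or.inl (key x hx)
    by_cases hx' : x⁻¹ ∈ V.nonunits
    · exact Or.inr (key _ hx')
    have hi : x⁻¹ ∈ V := inv_mem_of_not_nonunits h0 hx
    have hxV : x ∈ V := by
      have := inv_mem_of_not_nonunits (inv_ne_zero h0) hx'
      rwa [inv_inv] at this
    have hmul : residue V ⟨x, hxV⟩ * residue V ⟨x⁻¹, hi⟩ = 1 := by
      rw [← map_mul, ← map_one (residue V)]
      exact congrArg _ (Subtype.ext (mul_inv_cancel₀ h0))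
    rcases W.mem_or_inv_mem (residue V ⟨x, hxV⟩) with h | h
    · exact Or.inl ⟨⟨x, hxV⟩, h, rfl⟩
    · right
      refine ⟨⟨x⁻¹, hi⟩, ?_, rfl⟩
      change residue V _ ∈ W
      rwa [← eq_inv_of_mul_eq_one_right hmul] at h

lemma mem_comp_iff {V : ValuationSubring K} {W : ValuationSubring (ResidueField V)} {x : K} :
    x ∈ comp V W ↔ ∃ h : x ∈ V, residue V ⟨x, h⟩ ∈ W := by
  constructor
  · rintro ⟨⟨y, hy⟩, h, rfl⟩
    exact ⟨hy, h⟩
  · rintro ⟨h, hW⟩
    exact ⟨⟨x, h⟩, hW, rfl⟩

lemma comp_le (V : ValuationSubring K) (W : ValuationSubring (ResidueField V)) :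
    comp V W ≤ V := by
  intro x hx
  exact (mem_comp_iff.1 hx).1

lemma mem_comp_of_mem {V : ValuationSubring K} {W : ValuationSubring (ResidueField V)} {x : K}
    (h : x ∈ V) (hW : residue V ⟨x, h⟩ ∈ W) : x ∈ comp V W :=
  mem_comp_iff.2 ⟨h, hW⟩

lemma mem_comp_nonunits_iff {V : ValuationSubring K} {W : ValuationSubring (ResidueField V)}
    {x : K} (h : x ∈ V) :
    x ∈ (comp V W).nonunits ↔ residue V ⟨x, h⟩ ∈ W.nonunits := by
  by_cases hx : x ∈ V.nonunits
  · have h1 : residue V ⟨x, h⟩ = 0 := by
      rw [residue_eq_zero_iff]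
      exact ValuationSubring.coe_mem_nonunits_iff.1 hx
    rw [h1]
    exact ⟨fun _ ↦ zero_mem _, fun _ ↦ nonunits_mono (comp_le V W) hx⟩
  · have h0 : x ≠ 0 := by
      rintro rfl
      exact hx (zero_mem _)
    have hi : x⁻¹ ∈ V := inv_mem_of_not_nonunits h0 hx
    have hmul : residue V ⟨x, h⟩ * residue V ⟨x⁻¹, hi⟩ = 1 := by
      rw [← map_mul, ← map_one (residue V)]
      exact congrArg _ (Subtype.ext (mul_inv_cancel₀ h0))
    have hne : residue V ⟨x, h⟩ ≠ 0 := left_ne_zero_of_mul_eq_one hmul
    rw [ValuationSubring.mem_nonunits_iff_or, ValuationSubring.mem_nonunits_iff_or, mem_comp_iff,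
      ← eq_inv_of_mul_eq_one_right hmul]
    constructor
    · rintro (h2 | h2)
      · exact (h0 h2).elim
      · exact Or.inr fun h3 ↦ h2 ⟨hi, h3⟩
    · rintro (h2 | h2)
      · exact (hne h2).elim
      · exact Or.inr fun ⟨_, h3⟩ ↦ h2 h3

/-- The valuation subring of the residue field of `V` induced by `V₂ ≤ V`. -/
noncomputable def resid {V V₂ : ValuationSubring K} (h : V₂ ≤ V) : ValuationSubring (ResidueField V) where
  toSubring := ((V₂.inclusion V h).range).map (residue V)
  mem_or_inv_mem' := by
    intro x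
    obtain ⟨y, rfl⟩ := residue_surjective x
    rcases V₂.mem_or_inv_mem (y : K) with hy | hy
    · exact Or.inl ⟨y, ⟨⟨y, hy⟩, rfl⟩, rfl⟩
    · right
      by_cases h0 : residue V y = 0
      · rw [h0, inv_zero]
        exact zero_mem (((V₂.inclusion V h).range).map (residue V))
      have hy0 : (y : K) ≠ 0 := by
        intro h1
        apply h0
        rw [show y = 0 from Subtype.ext h1, map_zero]
      refine ⟨⟨(y : K)⁻¹, h hy⟩, ⟨⟨_, hy⟩, rfl⟩, ?_⟩
      rw [← mul_right_inj' h0, mul_inv_cancel₀ h0, ← map_mul, ← map_one (residue V)]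
      exact congrArg _ (Subtype.ext (mul_inv_cancel₀ hy0))

lemma residue_mem_resid {V V₂ : ValuationSubring K} (h : V₂ ≤ V) {x : V} :
    residue V x ∈ resid h ↔ (x : K) ∈ V₂ := by
  constructor
  · rintro ⟨y, ⟨z, rfl⟩, hyx⟩
    have h1 : residue V (x - V₂.inclusion V h z) = 0 := by
      rw [map_sub, ← hyx, sub_self]
    rw [residue_eq_zero_iff] at h1
    have h2 : ((x - V₂.inclusion V h z : V) : K) ∈ V₂.nonunits :=
      nonunits_mono h (ValuationSubring.coe_mem_nonunits_iff.2 h1)
    have h3 : (x : K) = ((x - V₂.inclusion V h z : V) : K) + (z : K) := by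
      change (x : K) = ((x : K) - (z : K)) + (z : K)
      ring
    rw [h3]
    exact V₂.add_mem _ _ (nonunits_mem_of_mem h2) z.2
  · intro hx
    exact ⟨x, ⟨⟨x, hx⟩, rfl⟩, rfl⟩

/-- Every `V₂ ≤ V` is a composite. -/
lemma comp_resid {V V₂ : ValuationSubring K} (h : V₂ ≤ V) : comp V (resid h) = V₂ := by
  ext x
  rw [mem_comp_iff]
  constructor
  · rintro ⟨hx, h1⟩
    exact (residue_mem_resid h).1 h1
  · intro hx
    exact ⟨h hx, (residue_mem_resid h).2 hx⟩

/-- Specialisation : `V ⊇ R`, and `q` a prime of `R` containing the centre of `V`. Then there is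
`V₂ ≤ V` above `R` with centre `q`. -/
theorem exists_le_ctr_eq {R : Subring K} {V : ValuationSubring K} (h : R ≤ V.toSubring)
    (q : Ideal R) [hq : q.IsPrime] (hle : ctr R V h ≤ q) :
    ∃ (V₂ : ValuationSubring K) (h₂ : R ≤ V₂.toSubring), V₂ ≤ V ∧ ctr R V₂ h₂ = q := by
  let φ : R →+* ResidueField V := (residue V).comp (Subring.inclusion h : R →+* V.toSubring)
  have hker : RingHom.ker φ = ctr R V h := by
    ext x
    rw [RingHom.mem_ker, mem_ctr]
    change residue V (Subring.inclusion h x) = 0 ↔ _
    rw [residue_eq_zero_iff]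
    exact (ValuationSubring.coe_mem_nonunits_iff (A := V) (a := Subring.inclusion h x)).symm
  let ψ : R →+* φ.range := φ.rangeRestrict
  have hψ : Function.Surjective ψ := φ.rangeRestrict_surjective
  have hkerψ : RingHom.ker ψ ≤ q := by
    rw [RingHom.ker_rangeRestrict, hker]
    exact hle
  have hqmap : (q.map ψ).IsPrime := Ideal.map_isPrime_of_surjective hψ hkerψ
  obtain ⟨W, hW, hWq⟩ := exists_ctr_eq φ.range (q.map ψ)
  have h₂ : R ≤ (comp V W).toSubring := by
    intro x hx
    exact mem_comp_of_mem (h hx) (hW (ψ ⟨x, hx⟩).2)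
  refine ⟨comp V W, h₂, comp_le V W, ?_⟩
  ext x
  rw [mem_ctr, mem_comp_nonunits_iff (h x.2)]
  have h3 : ψ x ∈ q.map ψ ↔ x ∈ q := by
    rw [← Ideal.mem_comap, Ideal.comap_map_of_surjective _ hψ, ← RingHom.ker_eq_comap_bot,
      sup_eq_left.2 hkerψ]
  rw [← h3, ← hWq, mem_ctr]
  rfl

/-! ### discrete valuation rings at height one primes -/

/-- If `R_p` is a valuation ring with fraction field `K`, it is a valuation subring of `K`. -/
theorem exists_valuationSubring_of_isPrincipal {R : Subring K} [hfr : IsFractionRing R K]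
    (p : Ideal R) [hp : p.IsPrime] [hval : ValuationRing (Localization.AtPrime p)] :
    ∃ V : ValuationSubring K, V.toSubring = (LocalSubring.ofPrime R p).toSubring := by
  have hmem : ∀ x : K, x ∈ (LocalSubring.ofPrime R p).toSubring ∨
      x⁻¹ ∈ (LocalSubring.ofPrime R p).toSubring := by
    intro x
    obtain ⟨a, b, hb, rfl⟩ := IsFractionRing.div_surjective (A := R) x
    obtain ⟨c, hc⟩ := ValuationRing.cond (algebraMap R (Localization.AtPrime p) a)
      (algebraMap R (Localization.AtPrime p) b)
    have hb0 : (b : K) ≠ 0 := by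
      intro h0
      exact nonZeroDivisors.ne_zero hb (Subtype.ext h0)
    let e := LocalSubring.ofPrimeEquiv R p
    have he : ∀ z : R, ((e (algebraMap R _ z) : (LocalSubring.ofPrime R p).toSubring) : K) = z := by
      intro z
      rw [AlgEquiv.commutes]
      rfl
    rcases hc with hc | hc
    · right
      have h1 : (a : K) * ((e c : (LocalSubring.ofPrime R p).toSubring) : K) = b := by
        rw [← he a, ← he b, ← hc, map_mul]
        rfl
      have ha0 : (a : K) ≠ 0 := by
        intro h0
        apply hb0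
        rw [← h1, h0, zero_mul]
      have h2 : ((algebraMap R K a) / (algebraMap R K b))⁻¹ = (e c : K) := by
        change ((a : K) / (b : K))⁻¹ = _
        rw [inv_div, div_eq_iff ha0, mul_comm, h1]
      rw [h2]
      exact (e c).2
    · left
      have h1 : (b : K) * ((e c : (LocalSubring.ofPrime R p).toSubring) : K) = a := by
        rw [← he a, ← he b, ← hc, map_mul]
        rfl
      have h2 : ((algebraMap R K a) / (algebraMap R K b)) = (e c : K) := by
        change ((a : K) / (b : K)) = _
        rw [div_eq_iff hb0, mul_comm, h1]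
      rw [h2]
      exact (e c).2
  exact ⟨ValuationSubring.ofSubring _ hmem, rfl⟩

/-- The localisation of a normal Noetherian subring `R` (with fraction field `K`) at a height one
prime is a valuation subring, and is the only one above `R` with this centre. -/
theorem exists_valuationSubring_of_height_one {R : Subring K} [hfr : IsFractionRing R K]
    [hnoeth : IsNoetherianRing R] [hic : IsIntegrallyClosed R] (p : Ideal R) [hp : p.IsPrime]
    (hmin : ∀ q : Ideal R, q.IsPrime → q ≠ ⊥ → q ≤ p → q = p) :
    ∃ V : ValuationSubring K, V.toSubring = (LocalSubring.ofPrime R p).toSubring := by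
  let W := Localization.AtPrime p
  have hle : p.primeCompl ≤ nonZeroDivisors R := p.primeCompl_le_nonZeroDivisors
  have : IsDomain W := IsLocalization.isDomain_localization hle
  have : IsIntegrallyClosed W := isIntegrallyClosed_of_isLocalization _ p.primeCompl hle
  have : IsNoetherianRing W := IsLocalization.isNoetherianRing p.primeCompl W inferInstance
  have hval : ValuationRing W := by
    have htfae := (tfae_of_isNoetherianRing_of_isLocalRing_of_isDomain W).out 1 3
    refine htfae.2 ⟨inferInstance, ?_⟩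
    intro P hP hPp
    have h1 : P.under R ≠ ⊥ := by
      intro hc
      apply hP
      rw [← IsLocalization.map_under p.primeCompl W P, hc, Ideal.map_bot]
    have h2 : P.under R ≤ p := by
      intro z hz
      exact (IsLocalization.AtPrime.to_map_mem_maximal_iff W p z).1
        (IsLocalRing.le_maximalIdeal hPp.ne_top hz)
    have h3 := hmin _ (Ideal.IsPrime.under R P) h1 h2
    rw [← IsLocalization.map_under p.primeCompl W P, h3]
    exact Localization.AtPrime.map_eq_maximalIdeal
  exact exists_valuationSubring_of_isPrincipal p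

/-- If `R_p` is a valuation subring `V₀`, then `V₀` is the only valuation subring above `R` with
centre `p`. -/
theorem eq_of_ctr_eq {R : Subring K} {p : Ideal R} [hp : p.IsPrime] {V₀ : ValuationSubring K}
    (h0 : V₀.toSubring = (LocalSubring.ofPrime R p).toSubring) {V : ValuationSubring K}
    (h : R ≤ V.toSubring) (hc : ctr R V h = p) : V = V₀ := by
  have h1 : V₀ ≤ V := by
    intro x hx
    have : x ∈ (LocalSubring.ofPrime R p).toSubring := by
      rw [← h0]
      exact hx
    exact ofPrime_le h hc.le this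
  refine le_antisymm ?_ h1
  rw [← ValuationSubring.nonunits_le_nonunits]
  intro x hx
  have hx1 : x ∈ (LocalSubring.ofPrime R p).toSubring := by
    rw [← h0]
    exact nonunits_mem_of_mem hx
  obtain ⟨a, s, hs, rfl⟩ := mem_ofPrime_iff.1 hx1
  have hs0 : (s : K) ≠ 0 := fun h0 ↦ hs (by
    rw [show s = 0 from Subtype.ext h0]; exact p.zero_mem)
  have hinv : (s : K)⁻¹ ∈ V := inv_mem_of_notMem_ctr h (by rw [hc]; exact hs)
  have ha : a ∈ p := by
    by_contra hna
    have h2 : ((a : K) / s)⁻¹ ∈ V₀ := by
      change _ ∈ V₀.toSubring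
      rw [h0, inv_div]
      exact mem_ofPrime_iff.2 ⟨s, a, hna, rfl⟩
    have h3 : (a : K) / s ≠ 0 := by
      have ha0 : (a : K) ≠ 0 := fun h0 ↦ hna (by
        rw [show a = 0 from Subtype.ext h0]; exact p.zero_mem)
      exact div_ne_zero ha0 hs0
    exact not_nonunits_of_inv_mem h3 h2 hx
  rw [div_eq_mul_inv, mul_comm]
  refine mul_nonunits hinv ?_
  rw [← hc, mem_ctr] at ha
  exact ha

/-- If the centre of `V` on `R` is zero and `K = Frac R`, then `V = ⊤`. -/
theorem eq_top_of_ctr_eq_bot {R : Subring K} [hfr : IsFractionRing R K] {V : ValuationSubring K}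
    (h : R ≤ V.toSubring) (hc : ctr R V h = ⊥) : V = ⊤ := by
  rw [_root_.eq_top_iff]
  intro x _
  obtain ⟨a, b, hb, rfl⟩ := IsFractionRing.div_surjective (A := R) x
  rw [div_eq_mul_inv]
  refine V.mul_mem _ _ (h a.2) (inv_mem_of_notMem_ctr (x := b) h ?_)
  rw [hc, Ideal.mem_bot]
  exact nonZeroDivisors.ne_zero hb

/-! ### charts of a tuple -/

/-- Every valuation subring is in some chart of a nonzero finite tuple. -/
theorem exists_chart {ι : Type*} [Finite ι] (c : ι → K) (hc : ∃ i, c i ≠ 0)
    (V : ValuationSubring K) : ∃ i, c i ≠ 0 ∧ ∀ j, c j / c i ∈ V := by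
  obtain ⟨i0, hi0⟩ := hc
  have : Nonempty ι := ⟨i0⟩
  obtain ⟨i, hi⟩ := Finite.exists_max (fun i ↦ V.valuation (c i))
  have hne : c i ≠ 0 := by
    intro h0
    have := hi i0
    rw [h0, map_zero, le_zero_iff, map_eq_zero] at this
    exact hi0 this
  refine ⟨i, hne, fun j ↦ ?_⟩
  rw [← V.valuation_le_one_iff, map_div₀]
  exact div_le_one_of_le₀ (hi j) zero_le

end Groth.Agent.Lipman.ZR158
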