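import Groth.Agent.Lipman.Defs
import Groth.Agent.Lipman.ZR158

/-!
# First properties of `ZR`, `D`, `IsConst`, `IsTriv`, `Dom`, `LocOf`, `IsPt`  (block B0, helper158)
-/

set_option autoImplicit false
universe u

open IsLocalRing

namespace Groth.Agent.Lipman.ZRD158

open Groth.Agent.Lipman.Defs Groth.Agent.Lipman.ZR158

variable {K : Type u} [Field K]

/-! ### integral closure -/

/-- The integral closure of `R` is the intersection of all `V ∈ ZR R`. -/
theorem isIntegral_iff {R : Subring K} {x : K} : IsIntegral R x ↔ ∀ V ∈ ZR R, x ∈ V := by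
  have h := iInf_valuationSubring_superset (s := (R : Set K))
  rw [Subring.closure_eq] at h
  have h1 : x ∈ (integralClosure R K).toSubring ↔ IsIntegral R x := Iff.rfl
  rw [← h1, ← h, Subring.mem_iInf]
  exact ⟨fun h V hV ↦ h ⟨V, hV⟩, fun h V ↦ h V.1 V.2⟩

theorem mem_of_isIntegral {R : Subring K} {x : K} (hx : IsIntegral R x) {V : ValuationSubring K}
    (hV : V ∈ ZR R) : x ∈ V := isIntegral_iff.1 hx V hV

/-- If `R` is integrally closed in `K`, then `R` is the intersection of all `V ∈ ZR R`. -/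
theorem mem_iff_of_isIntegrallyClosedIn {R : Subring K} [IsIntegrallyClosedIn R K] {x : K} :
    x ∈ R ↔ ∀ V ∈ ZR R, x ∈ V := by
  rw [← isIntegral_iff]
  constructor
  · intro hx
    exact isIntegral_algebraMap (x := (⟨x, hx⟩ : R))
  · intro hx
    obtain ⟨y, hy⟩ := (IsIntegrallyClosedIn.isIntegral_iff (R := R)).1 hx
    rw [← hy]
    exact y.2

theorem isIntegrallyClosedIn {R : Subring K} [IsFractionRing R K] [IsIntegrallyClosed R] :
    IsIntegrallyClosedIn R K := (isIntegrallyClosed_iff_isIntegrallyClosedIn K).1 ‹_›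

/-! ### module structure of `IsConst`, `D`, `IsTriv` -/

section Const

variable {R : Subring K} {s t : Set K} {φ ψ : ValuationSubring K → K}

theorem isConst_of_mem (h : ∀ V ∈ ZR R, φ V ∈ V) : IsConst R s φ :=
  ⟨fun _ ↦ 0, fun V hV _ _ _ ↦ by rw [sub_zero]; exact h V hV⟩

theorem isConst_const (f : K) : IsConst R s (fun _ ↦ f) :=
  ⟨fun _ ↦ f, fun V _ _ _ _ ↦ by rw [sub_self]; exact V.zero_mem⟩

theorem _root_.Groth.Agent.Lipman.Defs.IsConst.add (hφ : IsConst R s φ) (hψ : IsConst R s ψ) :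
    IsConst R s (fun V ↦ φ V + ψ V) := by
  obtain ⟨f, hf⟩ := hφ
  obtain ⟨g, hg⟩ := hψ
  refine ⟨fun x ↦ f x + g x, fun V hV x hx hc ↦ ?_⟩
  rw [add_sub_add_comm]
  exact V.add_mem _ _ (hf V hV x hx hc) (hg V hV x hx hc)

theorem _root_.Groth.Agent.Lipman.Defs.IsConst.neg (hφ : IsConst R s φ) :
    IsConst R s (fun V ↦ - φ V) := by
  obtain ⟨f, hf⟩ := hφ
  refine ⟨fun x ↦ - f x, fun V hV x hx hc ↦ ?_⟩
  rw [neg_sub_neg, ← neg_sub]
  exact V.neg_mem _ (hf V hV x hx hc)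

theorem _root_.Groth.Agent.Lipman.Defs.IsConst.sub (hφ : IsConst R s φ) (hψ : IsConst R s ψ) :
    IsConst R s (fun V ↦ φ V - ψ V) := by
  obtain ⟨f, hf⟩ := hφ
  obtain ⟨g, hg⟩ := hψ
  refine ⟨fun x ↦ f x - g x, fun V hV x hx hc ↦ ?_⟩
  rw [sub_sub_sub_comm]
  exact V.toSubring.sub_mem (hf V hV x hx hc) (hg V hV x hx hc)

/-- Multiplication with an element which is integral over `R`. -/
theorem _root_.Groth.Agent.Lipman.Defs.IsConst.smul {r : K} (hr : ∀ V ∈ ZR R, r ∈ V)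
    (hφ : IsConst R s φ) : IsConst R s (fun V ↦ r * φ V) := by
  obtain ⟨f, hf⟩ := hφ
  refine ⟨fun x ↦ r * f x, fun V hV x hx hc ↦ ?_⟩
  rw [← mul_sub]
  exact V.mul_mem _ _ (hr V hV) (hf V hV x hx hc)

theorem _root_.Groth.Agent.Lipman.Defs.IsConst.congr (hφ : IsConst R s φ)
    (h : ∀ V ∈ ZR R, ψ V - φ V ∈ V) : IsConst R s ψ := by
  obtain ⟨f, hf⟩ := hφ
  refine ⟨f, fun V hV x hx hc ↦ ?_⟩
  rw [← sub_add_sub_cancel (ψ V) (φ V) (f x)]
  exact V.add_mem _ _ (h V hV) (hf V hV x hx hc)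

/-- `IsConst` for a larger ring. -/
theorem _root_.Groth.Agent.Lipman.Defs.IsConst.mono {S : Subring K} (h : R ≤ S)
    (hφ : IsConst R s φ) : IsConst S s φ := by
  obtain ⟨f, hf⟩ := hφ
  exact ⟨f, fun V hV x hx hc ↦ hf V (ZR_anti h hV) x hx hc⟩

open scoped Pointwise in
theorem _root_.Groth.Agent.Lipman.Defs.IsConst.mul_left (hφ : IsConst R s φ) (t : Set K) :
    IsConst R (s * t) φ := (refines_mul_left R s t).isConst hφ

open scoped Pointwise in
theorem _root_.Groth.Agent.Lipman.Defs.IsConst.mul_right (hφ : IsConst R s φ) (t : Set K) :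
    IsConst R (t * s) φ := (refines_mul_right R t s).isConst hφ

theorem isTuple_one : IsTuple ({1} : Set K) := ⟨Set.finite_singleton _, 1, rfl, one_ne_zero⟩

/-- Constant for the trivial tuple is trivial. -/
theorem isConst_one_iff : IsConst R {1} φ ↔ IsTriv R φ := by
  constructor
  · rintro ⟨f, hf⟩
    refine ⟨f 1, fun V hV ↦ hf V hV 1 rfl ⟨one_ne_zero, ?_⟩⟩
    rintro y rfl
    rw [div_one]
    exact V.one_mem
  · rintro ⟨f, hf⟩
    exact ⟨fun _ ↦ f, fun V hV _ _ _ ↦ hf V hV⟩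

theorem _root_.Groth.Agent.Lipman.Defs.IsTriv.isConst (h : IsTriv R φ) (s : Set K) :
    IsConst R s φ := by
  obtain ⟨f, hf⟩ := h
  exact ⟨fun _ ↦ f, fun V hV _ _ _ ↦ hf V hV⟩

theorem _root_.Groth.Agent.Lipman.Defs.IsTriv.mem_D (h : IsTriv R φ) : φ ∈ D R :=
  ⟨_, isTuple_one, isConst_one_iff.2 h⟩

theorem mem_D_of_mem (h : ∀ V ∈ ZR R, φ V ∈ V) : φ ∈ D R := ⟨_, isTuple_one, isConst_of_mem h⟩

theorem const_mem_D (f : K) : (fun _ ↦ f) ∈ D R := ⟨_, isTuple_one, isConst_const f⟩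

/-- Finitely many functions in `D R` are constant for one tuple. -/
theorem exists_isConst_of_finite {ι : Type*} [Finite ι] (Φ : ι → ValuationSubring K → K)
    (h : ∀ i, Φ i ∈ D R) : ∃ s, IsTuple s ∧ ∀ i, IsConst R s (Φ i) := by
  classical
  have : Fintype ι := Fintype.ofFinite ι
  suffices H : ∀ A : Finset ι, ∃ s, IsTuple s ∧ ∀ i ∈ A, IsConst R s (Φ i) by
    obtain ⟨s, hs, h1⟩ := H Finset.univ
    exact ⟨s, hs, fun i ↦ h1 i (Finset.mem_univ i)⟩
  intro A
  induction A using Finset.induction_on with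
  | empty => exact ⟨_, isTuple_one, by simp⟩
  | insert i A _ ih =>
    obtain ⟨s, hs, h1⟩ := ih
    obtain ⟨t, ht, h2⟩ := h i
    open scoped Pointwise in
    refine ⟨t * s, ht.mul hs, fun j hj ↦ ?_⟩
    rcases Finset.mem_insert.1 hj with rfl | hj
    · exact h2.mul_left s
    · exact (h1 j hj).mul_right t

theorem exists_isConst_two (hφ : φ ∈ D R) (hψ : ψ ∈ D R) :
    ∃ s, IsTuple s ∧ IsConst R s φ ∧ IsConst R s ψ := by
  obtain ⟨s, hs, h1⟩ := hφ
  obtain ⟨t, ht, h2⟩ := hψ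
  open scoped Pointwise in
  exact ⟨s * t, hs.mul ht, h1.mul_left t, h2.mul_right s⟩

theorem add_mem_D (hφ : φ ∈ D R) (hψ : ψ ∈ D R) : (fun V ↦ φ V + ψ V) ∈ D R := by
  obtain ⟨s, hs, h1, h2⟩ := exists_isConst_two hφ hψ
  exact ⟨s, hs, h1.add h2⟩

theorem sub_mem_D (hφ : φ ∈ D R) (hψ : ψ ∈ D R) : (fun V ↦ φ V - ψ V) ∈ D R := by
  obtain ⟨s, hs, h1, h2⟩ := exists_isConst_two hφ hψ
  exact ⟨s, hs, h1.sub h2⟩

theorem neg_mem_D (hφ : φ ∈ D R) : (fun V ↦ - φ V) ∈ D R := by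
  obtain ⟨s, hs, h1⟩ := hφ
  exact ⟨s, hs, h1.neg⟩

theorem smul_mem_D {r : K} (hr : ∀ V ∈ ZR R, r ∈ V) (hφ : φ ∈ D R) :
    (fun V ↦ r * φ V) ∈ D R := by
  obtain ⟨s, hs, h1⟩ := hφ
  exact ⟨s, hs, h1.smul hr⟩

theorem congr_mem_D (hφ : φ ∈ D R) (h : ∀ V ∈ ZR R, ψ V - φ V ∈ V) : ψ ∈ D R := by
  obtain ⟨s, hs, h1⟩ := hφ
  exact ⟨s, hs, h1.congr h⟩

variable (R) in
/-- `D R` as an `R`-submodule of the functions `ValuationSubring K → K`. -/
def DMod : Submodule R (ValuationSubring K → K) where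
  carrier := D R
  add_mem' h h' := add_mem_D h h'
  zero_mem' := const_mem_D 0
  smul_mem' r _ h := smul_mem_D (r := (r : K)) (fun _ hV ↦ hV r.2) h

theorem mem_DMod {φ : ValuationSubring K → K} : φ ∈ DMod R ↔ φ ∈ D R := Iff.rfl

variable (R) in
/-- The trivial functions as an `R`-submodule. -/
def TrivMod : Submodule R (ValuationSubring K → K) where
  carrier := {φ | IsTriv R φ}
  add_mem' := by
    intro a b ha hb
    rw [Set.mem_ofPred_eq, ← isConst_one_iff] at *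
    exact ha.add hb
  zero_mem' := ⟨0, fun V _ ↦ by
    rw [Pi.zero_apply, sub_zero]
    exact V.zero_mem⟩
  smul_mem' := by
    intro r b hb
    rw [Set.mem_ofPred_eq, ← isConst_one_iff] at *
    exact hb.smul (r := (r : K)) (fun _ hV ↦ hV r.2)

theorem mem_TrivMod {φ : ValuationSubring K → K} : φ ∈ TrivMod R ↔ IsTriv R φ := Iff.rfl

variable (R s) in
/-- The functions constant on the charts of `s` as an `R`-submodule. -/
def ConstMod : Submodule R (ValuationSubring K → K) where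
  carrier := {φ | IsConst R s φ}
  add_mem' ha hb := ha.add hb
  zero_mem' := isConst_const 0
  smul_mem' r _ hb := hb.smul (r := (r : K)) (fun _ hV ↦ hV r.2)

theorem mem_ConstMod {φ : ValuationSubring K → K} : φ ∈ ConstMod R s ↔ IsConst R s φ := Iff.rfl

end Const

/-! ### local rings -/

section Local

variable {R : Subring K}

/-- `Dom` in terms of nonunits. -/
theorem dom_iff {V : ValuationSubring K} : Dom R V ↔ R ≤ V.toSubring ∧
    ∀ r ∈ R, r ≠ 0 → (r ∈ V.nonunits ↔ r⁻¹ ∉ R) := by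
  constructor
  · rintro ⟨h1, h2⟩
    refine ⟨h1, fun r hr h0 ↦ ⟨fun h h3 ↦ ?_, fun h ↦ ?_⟩⟩
    · exact not_nonunits_of_inv_mem h0 (h1 h3) h
    · by_contra h3
      exact h (h2 r hr (inv_mem_of_not_nonunits h0 h3))
  · rintro ⟨h1, h2⟩
    refine ⟨h1, fun r hr h3 ↦ ?_⟩
    by_cases h0 : r = 0
    · rw [h0, inv_zero]
      exact R.zero_mem
    · by_contra h4
      exact not_nonunits_of_inv_mem h0 h3 ((h2 r hr h0).2 h4)

/-- In a subring `R` of a field, `x : R` is a unit iff `x ≠ 0` and `x⁻¹ ∈ R`. -/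
theorem isUnit_iff {x : R} : IsUnit x ↔ (x : K) ≠ 0 ∧ (x : K)⁻¹ ∈ R := by
  constructor
  · intro h
    obtain ⟨y, hy⟩ := h.exists_right_inv
    have h1 : (x : K) * (y : K) = 1 := congrArg Subtype.val hy
    refine ⟨left_ne_zero_of_mul_eq_one h1, ?_⟩
    rw [← eq_inv_of_mul_eq_one_right h1]
    exact y.2
  · rintro ⟨h0, h1⟩
    exact .of_mul_eq_one ⟨_, h1⟩ (Subtype.ext (mul_inv_cancel₀ h0))

theorem mem_maximalIdeal_iff [IsLocalRing R] {x : R} :
    x ∈ maximalIdeal R ↔ (x : K) = 0 ∨ (x : K)⁻¹ ∉ R := by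
  rw [mem_maximalIdeal, mem_nonunits_iff, isUnit_iff]
  tauto

/-- For a local ring `R`: `V` dominates `R` iff the centre of `V` on `R` is the maximal ideal. -/
theorem dom_iff_ctr [IsLocalRing R] {V : ValuationSubring K} :
    Dom R V ↔ ∃ h : R ≤ V.toSubring, ctr R V h = maximalIdeal R := by
  rw [dom_iff]
  constructor
  · rintro ⟨h1, h2⟩
    refine ⟨h1, ?_⟩
    ext x
    rw [mem_ctr, mem_maximalIdeal_iff]
    by_cases h0 : (x : K) = 0
    · rw [h0]
      simp [zero_mem]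
    · rw [h2 x x.2 h0]
      simp [h0]
  · rintro ⟨h1, h2⟩
    refine ⟨h1, fun r hr h0 ↦ ?_⟩
    have := mem_ctr h1 (x := ⟨r, hr⟩)
    rw [h2, mem_maximalIdeal_iff] at this
    rw [← this]
    simp [h0]

/-- Every local subring is dominated by a valuation subring. -/
theorem exists_dom (R : Subring K) [IsLocalRing R] : ∃ V, V ∈ ZR R ∧ Dom R V := by
  obtain ⟨V, h, h1⟩ := exists_ctr_eq R (maximalIdeal R)
  exact ⟨V, h, dom_iff_ctr.2 ⟨h, h1⟩⟩

/-- If `V ∈ ZR R`, then there is `V₂ ≤ V` in `ZR R` dominating `R`. -/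
theorem exists_le_dom [IsLocalRing R] {V : ValuationSubring K} (h : V ∈ ZR R) :
    ∃ V₂ ∈ ZR R, V₂ ≤ V ∧ Dom R V₂ := by
  obtain ⟨V₂, h₂, h3, h4⟩ := exists_le_ctr_eq h (maximalIdeal R)
    (le_maximalIdeal (ctr_isPrime R V h).ne_top)
  exact ⟨V₂, h₂, h3, dom_iff_ctr.2 ⟨h₂, h4⟩⟩

end Local

/-! ### localisations -/

section LocOf

/-- `LocalSubring.ofPrime B p` is a localisation of `B` in the sense of `LocOf`. -/
theorem locOf_ofPrime (B : Subring K) (p : Ideal B) [hp : p.IsPrime] :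
    LocOf B (LocalSubring.ofPrime B p).toSubring where
  le := LocalSubring.le_ofPrime B p
  isLocalRing := (LocalSubring.ofPrime B p).isLocalRing
  frac := by
    intro z hz
    obtain ⟨a, s, hs, rfl⟩ := mem_ofPrime_iff.1 hz
    have hs0 : (s : K) ≠ 0 := fun h0 ↦ hs (by
      rw [show s = 0 from Subtype.ext h0]; exact p.zero_mem)
    refine ⟨s, s.2, hs0, mem_ofPrime_iff.2 ⟨1, s, hs, ?_⟩, ?_⟩
    · rw [Subring.coe_one, one_div]
    · rw [div_mul_cancel₀ _ hs0]
      exact a.2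

/-- The prime of `B` corresponding to a localisation `A` of `B`. -/
def LocOf.prime {B A : Subring K} (h : LocOf B A) : Ideal B :=
  letI := h.isLocalRing
  (maximalIdeal A).comap (Subring.inclusion h.le)

theorem LocOf.mem_prime {B A : Subring K} (h : LocOf B A) {x : B} :
    x ∈ LocOf.prime h ↔ (x : K) = 0 ∨ (x : K)⁻¹ ∉ A := by
  letI := h.isLocalRing
  exact mem_maximalIdeal_iff (R := A) (x := Subring.inclusion h.le x)

instance LocOf.prime_isPrime {B A : Subring K} (h : LocOf B A) : (LocOf.prime h).IsPrime :=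
  letI := h.isLocalRing
  Ideal.comap_isPrime _ (maximalIdeal A)

theorem LocOf.eq_ofPrime {B A : Subring K} (h : LocOf B A) :
    A = (LocalSubring.ofPrime B (LocOf.prime h)).toSubring := by
  ext z
  rw [mem_ofPrime_iff]
  constructor
  · intro hz
    obtain ⟨t, ht, ht0, hti, hzt⟩ := h.frac z hz
    refine ⟨⟨z * t, hzt⟩, ⟨t, ht⟩, ?_, ?_⟩
    · rw [LocOf.mem_prime h]
      push Not
      exact ⟨ht0, hti⟩
    · change z = z * t / t
      rw [mul_div_cancel_right₀ _ ht0]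
  · rintro ⟨a, s, hs, rfl⟩
    rw [LocOf.mem_prime h] at hs
    push Not at hs
    rw [div_eq_mul_inv]
    exact A.mul_mem (h.le a.2) hs.2

/-- A local ring of the blow-up of `s` is of the form `(chartRing R s x)_p`. -/
theorem isPt_iff {R : Subring K} {s : Set K} {A : Subring K} :
    IsPt R s A ↔ ∃ x ∈ s, x ≠ 0 ∧ ∃ (p : Ideal (chartRing R s x)) (_ : p.IsPrime),
      A = (LocalSubring.ofPrime (chartRing R s x) p).toSubring := by
  constructor
  · rintro ⟨x, hx, hx0, h⟩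
    exact ⟨x, hx, hx0, LocOf.prime h, LocOf.prime_isPrime h, LocOf.eq_ofPrime h⟩
  · rintro ⟨x, hx, hx0, p, hp, rfl⟩
    exact ⟨x, hx, hx0, locOf_ofPrime _ p⟩

theorem _root_.Groth.Agent.Lipman.Defs.IsPt.isLocalRing {R : Subring K} {s : Set K}
    {A : Subring K} (h : IsPt R s A) : IsLocalRing A := by
  obtain ⟨x, _, _, h⟩ := h
  exact h.isLocalRing

theorem _root_.Groth.Agent.Lipman.Defs.IsPt.le {R : Subring K} {s : Set K}
    {A : Subring K} (h : IsPt R s A) : R ≤ A := by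
  obtain ⟨x, _, _, h⟩ := h
  exact (le_chartRing _ _ _).trans h.le

/-- A valuation subring above a localisation `A` of `B` dominates `A` iff its centre on `B` is the
corresponding prime. -/
theorem LocOf.dom_iff_ctr_eq {B A : Subring K} (h : LocOf B A) {V : ValuationSubring K} :
    Dom A V ↔ ∃ hB : B ≤ V.toSubring, ctr B V hB = LocOf.prime h := by
  letI := h.isLocalRing
  constructor
  · intro hd
    obtain ⟨hA, hc⟩ := dom_iff_ctr.1 hd
    refine ⟨h.le.trans hA, ?_⟩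
    rw [← ctr_comap h.le hA, hc]
    rfl
  · rintro ⟨hB, hc⟩
    have hA : A ≤ V.toSubring := by
      rw [LocOf.eq_ofPrime h]
      exact ofPrime_le hB hc.le
    refine dom_iff_ctr.2 ⟨hA, ?_⟩
    ext z
    obtain ⟨t, ht, ht0, hti, hzt⟩ := h.frac z z.2
    have h1 : z ∈ maximalIdeal A ↔ Subring.inclusion h.le ⟨_, hzt⟩ ∈ maximalIdeal A := by
      have h2 : Subring.inclusion h.le ⟨_, hzt⟩ = z * ⟨t, h.le ht⟩ := rfl
      have hu : IsUnit (⟨t, h.le ht⟩ : A) := isUnit_iff.2 ⟨ht0, hti⟩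
      rw [h2, Ideal.mul_unit_mem_iff_mem _ hu]
    have h3 : z ∈ ctr A V hA ↔ (⟨_, hzt⟩ : B) ∈ ctr B V hB := by
      rw [mem_ctr, mem_ctr]
      change (z : K) ∈ V.nonunits ↔ (z : K) * t ∈ V.nonunits
      have htV : t ∉ V.nonunits := not_nonunits_of_inv_mem ht0 (hA hti)
      constructor
      · intro h4
        rw [mul_comm]
        exact mul_nonunits (hB ht) h4
      · intro h4
        by_contra h5
        exact not_nonunits_mul h5 htV h4
    rw [h3, h1, hc]
    rfl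

/-- The local ring at the centre of `V` on the blow-up of `s`. -/
theorem exists_isPt_dom {R : Subring K} {s : Set K} (hs : IsTuple s) {V : ValuationSubring K}
    (hV : V ∈ ZR R) : ∃ A, IsPt R s A ∧ Dom A V := by
  obtain ⟨x, hx, hc⟩ := exists_chart hs V
  have hV' : chartRing R s x ≤ V.toSubring := (mem_ZR_chartRing hc.1).2 ⟨hV, hc⟩
  have hp := ctr_isPrime (chartRing R s x) V hV'
  have hl := locOf_ofPrime (chartRing R s x) (ctr (chartRing R s x) V hV')
  refine ⟨_, ⟨x, hx, hc.1, hl⟩, (LocOf.dom_iff_ctr_eq hl).2 ⟨hV', ?_⟩⟩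
  ext z
  rw [LocOf.mem_prime, mem_ctr]
  by_cases h0 : (z : K) = 0
  · rw [h0]
    simp [zero_mem]
  rw [mem_ofPrime_iff]
  constructor
  · intro hz
    right
    rintro ⟨a, t, ht, hat⟩
    apply ht
    have ht0 : (t : K) ≠ 0 := fun h0 ↦ ht (by
      rw [show t = 0 from Subtype.ext h0]; exact Ideal.zero_mem _)
    have h1 : (t : K) = z * a := by
      rw [eq_div_iff ht0] at hat
      rw [← hat, mul_inv_cancel_left₀ h0]
    rw [mem_ctr, h1, mul_comm]
    exact mul_nonunits (hV' a.2) hz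
  · rintro (h1 | h1)
    · exact (h0 h1).elim
    · by_contra h2
      exact h1 ⟨1, z, by rwa [mem_ctr], by rw [Subring.coe_one, one_div]⟩

/-- Every local ring of a blow-up is dominated by a valuation subring. -/
theorem _root_.Groth.Agent.Lipman.Defs.IsPt.exists_dom {R : Subring K} {s : Set K}
    {A : Subring K} (h : IsPt R s A) : ∃ V ∈ ZR R, Dom A V := by
  have := h.isLocalRing
  obtain ⟨V, hV, hd⟩ := ZRD158.exists_dom A
  exact ⟨V, ZR_anti h.le hV, hd⟩

/-- Two local subrings, localisations of the same ring `B`, dominated by the same valuation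
subring are equal. -/
theorem LocOf.eq_of_dom {B A A' : Subring K} (h : LocOf B A) (h' : LocOf B A')
    {V : ValuationSubring K} (hd : Dom A V) (hd' : Dom A' V) : A = A' := by
  obtain ⟨h1, h2⟩ := (LocOf.dom_iff_ctr_eq h).1 hd
  obtain ⟨_, h4⟩ := (LocOf.dom_iff_ctr_eq h').1 hd'
  have h5 : LocOf.prime h = LocOf.prime h' := h2.symm.trans h4
  ext z
  rw [LocOf.eq_ofPrime h, LocOf.eq_ofPrime h', mem_ofPrime_iff, mem_ofPrime_iff, h5]

/-- Chart independence: `x, y ∈ s` nonzero, `V` on both charts. Then the local ring at the centre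
of `V` is the same for both charts. -/
theorem chartRing_le_of_chart {R : Subring K} {s : Set K} {x y : K} (hx0 : x ≠ 0) (hy0 : y ≠ 0)
    (hy : y ∈ s) {A : Subring K} (h : chartRing R s x ≤ A) (h' : x / y ∈ A) :
    chartRing R s y ≤ A := by
  refine chartRing_le_iff.2 ⟨(le_chartRing _ _ _).trans h, fun z hz ↦ ?_⟩
  have h1 : z / y = (z / x) * (x / y) := by
    field_simp
  rw [h1]
  exact A.mul_mem (h (div_mem_chartRing R x hz)) h'

theorem IsPt.eq_of_dom {R : Subring K} {s : Set K} {A A' : Subring K} (h : IsPt R s A)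
    (h' : IsPt R s A') {V : ValuationSubring K} (hd : Dom A V) (hd' : Dom A' V) : A = A' := by
  obtain ⟨x, hx, hx0, hA⟩ := h
  obtain ⟨y, hy, hy0, hA'⟩ := h'
  suffices H : ∀ {x y : K} {A A' : Subring K}, x ∈ s → x ≠ 0 → y ∈ s → y ≠ 0 →
      LocOf (chartRing R s x) A → LocOf (chartRing R s y) A' → Dom A V → Dom A' V → A ≤ A' from
    le_antisymm (H hx hx0 hy hy0 hA hA' hd hd') (H hy hy0 hx hx0 hA' hA hd' hd)
  intro x y A A' hx hx0 hy hy0 hA hA' hd hd'
  -- `x / y ∈ A'` is invertible in `V`, hence in `A'`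
  have hxy : x / y ∈ A' := hA'.le (div_mem_chartRing R y hx)
  have hyx : (x / y)⁻¹ ∈ V := by
    rw [inv_div]
    exact hd.1 (hA.le (div_mem_chartRing R x hy))
  have hyx' : y / x ∈ A' := by
    rw [← inv_div]
    exact hd'.2 _ hxy hyx
  have h1 : chartRing R s x ≤ A' := chartRing_le_of_chart hy0 hx0 hx hA'.le hyx'
  intro z hz
  obtain ⟨t, ht, ht0, hti, hzt⟩ := hA.frac z hz
  have h2 : t⁻¹ ∈ A' := hd'.2 t (h1 ht) (hd.1 hti)
  have h3 : z = (z * t) * t⁻¹ := by rw [mul_assoc, mul_inv_cancel₀ ht0, mul_one]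
  rw [h3]
  exact A'.mul_mem (h1 hzt) h2

end LocOf

end Groth.Agent.Lipman.ZRD158
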