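import Groth.Agent.Lipman.ArcDim
import Groth.Agent.CalgA.TateCore

/-!
# The arc lemma: main theorem
-/

set_option autoImplicit false

universe u v

namespace Groth.Agent.Lipman.ArcSeq

open IsLocalRing

namespace IsArc

variable {K : Type u} [Field K] {A : ℕ → Subring K} {x : K}

/-- If `O` is integral over `A 0 / p 0` then `A 0 / p 0` has dimension at most one. -/
theorem dimensionLEOne_of_isIntegral (h : IsArc A x)
    (hint : letI := h.algO; Algebra.IsIntegral (A 0 ⧸ h.p 0) h.O) :
    Ring.DimensionLEOne (A 0 ⧸ h.p 0) := by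
  let := h.algO
  have hloc := h.isLocal 0
  have hinj : Function.Injective (algebraMap (A 0 ⧸ h.p 0) h.O) := h.toO_injective 0
  constructor
  intro q hq0 hq
  obtain ⟨P, hP, hPq⟩ := Ideal.exists_ideal_over_prime_of_isIntegral_of_isDomain (S := h.O) q
    (by rw [(RingHom.injective_iff_ker_eq_bot _).1 hinj]; exact bot_le)
  have hP0 : P ≠ ⊥ := by
    rintro rfl
    apply hq0
    rw [← hPq]
    exact (RingHom.injective_iff_ker_eq_bot _).1 hinj
  have hPm : P.IsMaximal := hP.isMaximal hP0
  rw [← hPq]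
  exact Ideal.isMaximal_comap_of_isIntegral_of_isMaximal P

theorem not_chain {R : Type*} [CommRing R] (hdim : ringKrullDim R ≤ 2) {a b c d : Ideal R}
    (ha : a.IsPrime) (hb : b.IsPrime) (hc : c.IsPrime) (hd : d.IsPrime) (hab : a < b) (hbc : b < c)
    (hcd : c < d) : False := by
  let s : LTSeries (PrimeSpectrum R) :=
    ⟨3, ![⟨a, ha⟩, ⟨b, hb⟩, ⟨c, hc⟩, ⟨d, hd⟩], by
      intro j
      fin_cases j
      · exact hab
      · exact hbc
      · exact hcd⟩
  have h1 : ((3 : ℕ) : WithBot ℕ∞) ≤ ringKrullDim R := Order.LTSeries.length_le_krullDim s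
  have h2 := h1.trans hdim
  exact absurd h2 (by decide)

theorem dimensionLEOne_of_dim (h : IsArc A x) (hdim : ringKrullDim (A 0) ≤ 2) (h0 : h.p 0 ≠ ⊥) :
    Ring.DimensionLEOne (A 0 ⧸ h.p 0) := by
  have := h.isLocal 0
  constructor
  intro q hq0 hq
  have hsurj : Function.Surjective (Ideal.Quotient.mk (h.p 0)) := Ideal.Quotient.mk_surjective
  set q' := q.comap (Ideal.Quotient.mk (h.p 0)) with hq'
  have hq'p : q'.IsPrime := inferInstance
  have hle : h.p 0 ≤ q' := by
    intro z hz
    rw [hq', Ideal.mem_comap, Ideal.Quotient.eq_zero_iff_mem.2 hz]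
    exact Ideal.zero_mem _
  have hlt : h.p 0 < q' := by
    refine lt_of_le_of_ne hle ?_
    intro heq
    apply hq0
    rw [eq_bot_iff]
    intro z hz
    obtain ⟨z, rfl⟩ := hsurj z
    have hz' : z ∈ q' := hz
    rw [← heq] at hz'
    exact Ideal.Quotient.eq_zero_iff_mem.2 hz'
  have hmax : q' = maximalIdeal (A 0) := by
    by_contra hne
    exact not_chain hdim Ideal.isPrime_bot (h.p_isPrime 0) hq'p inferInstance
      (bot_lt_iff_ne_bot.2 h0) hlt (lt_of_le_of_ne (le_maximalIdeal hq'p.ne_top) hne)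
  have hq'm : q'.IsMaximal := by rw [hmax]; infer_instance
  have hmap : q'.map (Ideal.Quotient.mk (h.p 0)) = q := Ideal.map_comap_of_surjective _ hsurj q
  rw [← hmap]
  exact Ideal.IsMaximal.map_of_surjective_of_ker_le hsurj (by rw [Ideal.mk_ker]; exact hle)

theorem p_zero_ne_bot_of_isIntegral (h : IsArc A x)
    (hint : letI := h.algO; Algebra.IsIntegral (A 0 ⧸ h.p 0) h.O) (hdim : ringKrullDim (A 0) = 2) :
    h.p 0 ≠ ⊥ := by
  intro h0
  have := h.dimensionLEOne_of_isIntegral hint
  have h1 : ringKrullDim (A 0 ⧸ h.p 0) ≤ 1 := by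
    have : Ring.KrullDimLE 1 (A 0 ⧸ h.p 0) := inferInstance
    exact Ring.krullDimLE_iff.1 this
  have h2 : ringKrullDim (A 0 ⧸ h.p 0) = ringKrullDim (A 0) :=
    (ringKrullDim_eq_of_ringEquiv ((Ideal.quotEquivOfEq h0).trans (RingEquiv.quotientBot (A 0))))
  rw [h2, hdim] at h1
  exact absurd h1 (by decide)

/-- The localization of `A 0` at `p 0` is a DVR: elementwise form. -/
theorem exists_pi (h : IsArc A x) (hic : IsIntegrallyClosed (A 0)) (hdim : ringKrullDim (A 0) ≤ 2) :
    ∃ π₀ ∈ h.p 0, ∀ z ∈ h.p 0, ∃ s : A 0, s ∉ h.p 0 ∧ ∃ a : A 0, s * z = a * π₀ := by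
  have := h.isLocal 0
  have := h.noeth 0
  let L := Localization.AtPrime (h.p 0)
  have hinj : Function.Injective (algebraMap (A 0) L) := IsLocalization.injective L
    (Ideal.primeCompl_le_nonZeroDivisors (h.p 0))
  have : IsDomain L := IsLocalization.isDomain_localization
    (Ideal.primeCompl_le_nonZeroDivisors (h.p 0))
  have : IsNoetherianRing L := IsLocalization.isNoetherianRing (h.p 0).primeCompl L inferInstance
  have hicL : IsIntegrallyClosed L := isIntegrallyClosed_of_isLocalization L (h.p 0).primeCompl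
    (Ideal.primeCompl_le_nonZeroDivisors (h.p 0))
  have hmax : maximalIdeal L = (h.p 0).map (algebraMap (A 0) L) :=
    (Localization.AtPrime.map_eq_maximalIdeal).symm
  have hded : IsDedekindDomain L := by
    have hd1 : Ring.DimensionLEOne L := by
      constructor
      intro q hq0 hq
      have hcomap : q.under (A 0) ≤ h.p 0 := by
        have : q.under (A 0) ≤ (maximalIdeal L).under (A 0) :=
          Ideal.comap_mono (le_maximalIdeal hq.ne_top)
        rwa [Localization.AtPrime.under_maximalIdeal] at this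
      have hne : q.under (A 0) ≠ ⊥ := by
        intro hbot
        apply hq0
        rw [← IsLocalization.map_under (h.p 0).primeCompl L q, hbot, Ideal.map_bot]
      have heq : q.under (A 0) = h.p 0 := by
        by_contra hcon
        exact not_chain hdim Ideal.isPrime_bot inferInstance (h.p_isPrime 0) inferInstance
          (bot_lt_iff_ne_bot.2 hne) (lt_of_le_of_ne hcomap hcon) (h.p_lt_maximalIdeal 0)
      have : q = maximalIdeal L := by
        rw [← IsLocalization.map_under (h.p 0).primeCompl L q, heq, hmax]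
      rw [this]
      infer_instance
    have : IsDedekindRing L := (isDedekindRing_iff L (FractionRing L)).2
      ⟨inferInstance, hd1, fun {z} hz => (isIntegrallyClosed_iff (FractionRing L)).1 hicL hz⟩
    exact {}
  obtain ⟨ϖ, hϖ⟩ := maximalIdeal_isPrincipal_of_isDedekindDomain L
  obtain ⟨⟨π₀, s₀⟩, hπ₀⟩ := IsLocalization.surj (h.p 0).primeCompl ϖ
  have hs₀ : IsUnit (algebraMap (A 0) L s₀) := IsLocalization.map_units L s₀
  have hspan : maximalIdeal L = Ideal.span {algebraMap (A 0) L π₀} := by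
    rw [hϖ]
    change Ideal.span {ϖ} = _
    rw [← hπ₀, Ideal.span_singleton_mul_right_unit hs₀]
  have hπmem : π₀ ∈ h.p 0 := by
    have h1 : algebraMap (A 0) L π₀ ∈ maximalIdeal L := by
      rw [hspan]; exact Ideal.mem_span_singleton_self _
    have h2 := Localization.AtPrime.under_maximalIdeal (I := h.p 0)
    rw [← h2]
    exact h1
  refine ⟨π₀, hπmem, fun z hz => ?_⟩
  have hz1 : algebraMap (A 0) L z ∈ maximalIdeal L := by
    rw [hmax]; exact Ideal.mem_map_of_mem _ hz
  rw [hspan] at hz1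
  obtain ⟨c, hc⟩ := Ideal.mem_span_singleton'.1 hz1
  obtain ⟨⟨a, s⟩, has⟩ := IsLocalization.surj (h.p 0).primeCompl c
  refine ⟨s, s.2, a, ?_⟩
  apply hinj
  rw [map_mul, map_mul, ← hc, ← has]
  ring

/-- **Arc lemma**, second form. -/
theorem exists_isRegular (h : IsArc A x) (hic : IsIntegrallyClosed (A 0))
    (hdim : ringKrullDim (A 0) ≤ 2) (h0 : h.p 0 ≠ ⊥) (hN : CAlg.IsN1 (A 0 ⧸ h.p 0)) :
    ∃ j, IsRegularLocalRing (A j) := by
  obtain ⟨i, hi⟩ := h.exists_sat (h.dimensionLEOne_of_dim hdim h0) hN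
  obtain ⟨π₀, hπ₀, hall⟩ := h.exists_pi hic hdim
  exact h.exists_isRegular_of_sat h0 hi π₀ hπ₀ hall


/-! ### The complete base -/

variable {R : Type v} [CommRing R] [IsLocalRing R] [Algebra R (A 0)]

/-- The `R`-algebra structure of `O`. -/
abbrev algRO (h : IsArc A x) (R : Type v) [CommRing R] [Algebra R (A 0)] : Algebra R h.O :=
  ((h.toO 0).comp ((Ideal.Quotient.mk (h.p 0)).comp (algebraMap R (A 0)))).toAlgebra

/-- residue generators: a f.g. `R`-submodule of `O` generating `O / X O`. -/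
theorem exists_residue_gen (h : IsArc A x) [IsLocalRing (A 0)]
    (hfin : Module.Finite R (ResidueField (A 0))) :
    letI := h.algRO R
    ∃ N : Submodule R h.O, N.FG ∧ ∀ o : h.O, ∃ n ∈ N, h.X ∣ o - n := by
  classical
  let := h.algRO R
  obtain ⟨S, hS⟩ := hfin.fg_top
  have hsurj : Function.Surjective (IsLocalRing.residue (A 0)) := Ideal.Quotient.mk_surjective
  choose g hg using hsurj
  let ψ : A 0 → h.O := fun a => h.toO 0 (Ideal.Quotient.mk (h.p 0) a)
  refine ⟨Submodule.span R ((S.image fun s => ψ (g s) : Finset h.O) : Set h.O),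
    ⟨_, rfl⟩, ?_⟩
  -- every element of the residue field is the residue of an element of `A 0` mapping to `N`
  have key : ∀ c : ResidueField (A 0), ∃ a : A 0, IsLocalRing.residue (A 0) a = c ∧
      ψ a ∈ Submodule.span R ((S.image fun s => ψ (g s) : Finset h.O) : Set h.O) := by
    intro c
    have hc : c ∈ Submodule.span R (S : Set (ResidueField (A 0))) := by rw [hS]; trivial
    refine Submodule.span_induction ?_ ?_ ?_ ?_ hc
    · intro s hs
      refine ⟨g s, hg s, Submodule.subset_span ?_⟩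
      rw [Finset.coe_image]
      exact ⟨s, hs, rfl⟩
    · exact ⟨0, map_zero _, by simp only [ψ, map_zero]; exact Submodule.zero_mem _⟩
    · rintro a b _ _ ⟨a', ha', ha''⟩ ⟨b', hb', hb''⟩
      refine ⟨a' + b', by rw [map_add, ha', hb'], ?_⟩
      simp only [ψ, map_add]
      exact Submodule.add_mem _ ha'' hb''
    · rintro r a _ ⟨a', ha', ha''⟩
      refine ⟨algebraMap R (A 0) r * a', ?_, ?_⟩
      · rw [map_mul, ha', Algebra.smul_def]
        rfl
      · have : ψ (algebraMap R (A 0) r * a') = r • ψ a' := by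
          rw [Algebra.smul_def]
          simp only [ψ, map_mul]
          rfl
        rw [this]
        exact Submodule.smul_mem _ _ ha''
  intro o
  obtain ⟨v, rfl⟩ := Ideal.Quotient.mk_surjective o
  obtain ⟨a, ha, hav⟩ := h.residue v.2
  obtain ⟨a', ha', ha''⟩ := key (IsLocalRing.residue (A 0) ⟨a, ha⟩)
  refine ⟨ψ a', ha'', ?_⟩
  have h1 : (⟨a, ha⟩ : A 0) - a' ∈ maximalIdeal (A 0) := by
    rw [← IsLocalRing.residue_eq_zero_iff, map_sub, ha', sub_self]
  have h2 := (h.mem_maximalIdeal_iff _).1 h1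
  have h0 : Ideal.Quotient.mk h.PV v - ψ a' = Ideal.Quotient.mk h.PV (v - ⟨a', h.le_V 0 a'.2⟩) := by
    rw [map_sub]
    rfl
  rw [h0, h.X_dvd_iff]
  have h3 : ((v - ⟨a', h.le_V 0 a'.2⟩ : h.V) : K) / x = ((v : K) - a) / x + (((⟨a, ha⟩ : A 0) - a' : A 0) : K) / x := by
    show ((v : K) - a') / x = ((v : K) - a) / x + (a - a') / x
    ring
  rw [h3]
  exact h.V.add_mem hav (h.le_V 1 h2)

theorem exists_gen_pow (h : IsArc A x) [IsLocalRing (A 0)]
    (hfin : Module.Finite R (ResidueField (A 0))) (e : ℕ) :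
    letI := h.algRO R
    ∃ N : Submodule R h.O, N.FG ∧ ∀ o : h.O, ∃ n ∈ N, h.X ^ e ∣ o - n := by
  let := h.algRO R
  induction e with
  | zero => exact ⟨⊥, Submodule.fg_bot, fun o => ⟨0, Submodule.zero_mem _, by simp⟩⟩
  | succ e ih =>
    obtain ⟨N, hN, hall⟩ := ih
    obtain ⟨N₁, hN₁, hall₁⟩ := h.exists_residue_gen hfin
    refine ⟨N ⊔ N₁.map (LinearMap.mulLeft R (h.X ^ e)), hN.sup (hN₁.map _), fun o => ?_⟩
    obtain ⟨n, hn, o', ho'⟩ := hall o
    obtain ⟨n', hn', c, hc⟩ := hall₁ o'
    refine ⟨n + h.X ^ e * n', Submodule.add_mem_sup hn ⟨n', hn', rfl⟩, c, ?_⟩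
    have : o - (n + h.X ^ e * n') = (o - n) - h.X ^ e * n' := by ring
    rw [this, ho', ← mul_sub, hc, pow_succ]
    ring

/-- If `m_R` is not contained in `Q`, then `O` is finite over the complete local ring `R`. -/
theorem finite_of_complete (h : IsArc A x) [IsNoetherianRing R] [IsAdicComplete (maximalIdeal R) R]
    [IsLocalRing (A 0)] (hfin : Module.Finite R (ResidueField (A 0)))
    (hloc : ∀ r ∈ maximalIdeal R, algebraMap R (A 0) r ∈ maximalIdeal (A 0))
    {t : R} (ht : t ∈ maximalIdeal R) (htQ : algebraMap R (A 0) t ∉ h.p 0) :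
    letI := h.algRO R
    Module.Finite R h.O := by
  let := h.algRO R
  have hmap : ∀ r : R, algebraMap R h.O r = Ideal.Quotient.mk h.PV ⟨algebraMap R (A 0) r, h.le_V 0 (Subtype.mem _)⟩ :=
    fun r => rfl
  -- `m_R O ⊆ X O`
  have hX : ∀ r ∈ maximalIdeal R, h.X ∣ algebraMap R h.O r := by
    intro r hr
    rw [hmap, h.X_dvd_iff]
    exact h.le_V 1 ((h.mem_maximalIdeal_iff _).1 (hloc r hr))
  -- the element `t`
  have ht0 : algebraMap R h.O t ≠ 0 := by
    intro h0
    rw [hmap, Ideal.Quotient.eq_zero_iff_mem] at h0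
    exact htQ h0
  obtain ⟨e, w, hew⟩ : ∃ (e : ℕ) (w : h.Oˣ), algebraMap R h.O t = h.X ^ e * w := by
    obtain ⟨n, u, hu⟩ := IsDiscreteValuationRing.eq_unit_mul_pow_irreducible ht0 h.X_prime.irreducible
    exact ⟨n, u, by rw [hu, mul_comm]⟩
  obtain ⟨N, hN, hall⟩ := h.exists_gen_pow hfin e
  have hpow : ∀ n : ℕ, ∀ o ∈ (maximalIdeal R ^ n • ⊤ : Submodule R h.O), h.X ^ n ∣ o := by
    intro n o ho
    refine Submodule.smul_induction_on ho ?_ ?_
    · intro r hr o _
      rw [Algebra.smul_def]
      apply dvd_mul_of_dvd_left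
      clear ho
      induction n generalizing r with
      | zero => simp
      | succ n ih =>
        rw [pow_succ] at hr
        refine Submodule.mul_induction_on hr ?_ ?_
        · intro a ha b hb
          rw [map_mul, pow_succ]
          exact mul_dvd_mul (ih a ha) (hX b hb)
        · intro a b ha hb
          rw [map_add]
          exact dvd_add ha hb
    · intro a b ha hb
      exact dvd_add ha hb
  have hHaus : IsHausdorff (maximalIdeal R) h.O := by
    constructor
    intro o ho
    obtain ⟨v, rfl⟩ := Ideal.Quotient.mk_surjective o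
    rw [Ideal.Quotient.eq_zero_iff_mem]
    intro n
    have h1 : h.X ^ n ∣ Ideal.Quotient.mk h.PV v := by
      apply hpow
      have := ho n
      rwa [SModEq.zero] at this
    obtain ⟨c, hc⟩ := h1
    obtain ⟨c, rfl⟩ := Ideal.Quotient.mk_surjective c
    rw [X, ← map_pow, ← map_mul, Ideal.Quotient.mk_eq_mk_iff_sub_mem] at hc
    have h2 : h.Q ((v : K) - x ^ n * c) := hc
    have h3 : (v : K) / x ^ n = ((v : K) - x ^ n * c) / x ^ n + c := by
      have := pow_ne_zero n h.x_ne
      field_simp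
      ring
    rw [h3]
    exact h.V.add_mem (h2 n) c.2
  refine Groth.Agent.CalgA.TateCore.finite_of_isAdicComplete (maximalIdeal R) N hN ?_
  intro o
  obtain ⟨n, hn, c, hc⟩ := hall o
  refine ⟨n, hn, ?_⟩
  have : o - n = t • ((↑w⁻¹ : h.O) * c) := by
    rw [hc, Algebra.smul_def, hew]
    have := w.mul_inv
    calc h.X ^ e * c = h.X ^ e * (↑w * ↑w⁻¹) * c := by rw [this, mul_one]
      _ = _ := by ring
  rw [this]
  exact Submodule.smul_mem_smul ht trivial

/-- **Arc lemma.** An arc-like sequence of quadratic transforms starting with a two-dimensional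
normal Nagata local ring `A 0` with residue field finite over a complete local ring `R → A 0`
reaches a regular local ring. -/
theorem exists_isRegular_of_complete (h : IsArc A x) [IsNoetherianRing R]
    [IsAdicComplete (maximalIdeal R) R] [IsLocalRing (A 0)]
    (hfin : Module.Finite R (ResidueField (A 0)))
    (hloc : ∀ r ∈ maximalIdeal R, algebraMap R (A 0) r ∈ maximalIdeal (A 0))
    (hR : ∃ r ∈ maximalIdeal R, algebraMap R (A 0) r ≠ 0)
    (hic : IsIntegrallyClosed (A 0)) (hdim : ringKrullDim (A 0) = 2) (hN : CAlg.IsNagata (A 0)) :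
    ∃ j, IsRegularLocalRing (A j) := by
  have hp0 : h.p 0 ≠ ⊥ := by
    by_cases hQ : ∀ r ∈ maximalIdeal R, algebraMap R (A 0) r ∈ h.p 0
    · obtain ⟨r, hr, hr0⟩ := hR
      intro hbot
      have := hQ r hr
      rw [hbot] at this
      exact hr0 this
    · push Not at hQ
      obtain ⟨t, ht, htQ⟩ := hQ
      apply h.p_zero_ne_bot_of_isIntegral _ hdim
      let := h.algRO R
      have := h.finite_of_complete hfin hloc ht htQ
      let := h.algO
      constructor
      intro o
      have h1 : IsIntegral R o := Algebra.IsIntegral.isIntegral o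
      obtain ⟨f, hf, hfo⟩ := h1
      refine ⟨f.map ((Ideal.Quotient.mk (h.p 0)).comp (algebraMap R (A 0))), hf.map _, ?_⟩
      rw [Polynomial.eval₂_map]
      exact hfo
  refine h.exists_isRegular hic hdim.le hp0 ?_
  exact Groth.Agent.CalgA.NagataBasic.isN1_of_isN2 (hN.2 (h.p 0))

end IsArc

end Groth.Agent.Lipman.ArcSeq
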