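import Groth.Agent.Lipman.ZRD158
import Groth.Agent.CalgA.DimFormula2
import Mathlib.RingTheory.LocalRing.ResidueField.Basic
import Mathlib.RingTheory.Jacobson.Ring
import Mathlib.Algebra.BigOperators.Field
import Mathlib.RingTheory.AlgebraicIndependent.Transcendental

/-!
# Points of blow-ups and quadratic transforms (helper158)

* `IsPt.trans` : a point of a blow-up of a point of a blow-up is a point of a blow-up.
* `QT.isPt` : a quadratic transform of `A` is a point of the blow-up of a generating set of `m_A`.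
* `IsPt.isNoetherianRing`, `IsPt.ringKrullDim_le`, `IsPt.of_dim_two`.
-/

set_option autoImplicit false
universe u

open IsLocalRing

namespace Groth.Agent.Lipman.PtQT

open Groth.Agent.Lipman.Defs Groth.Agent.Lipman.ZR158 Groth.Agent.Lipman.ZRD158

variable {K : Type u} [Field K]

/-! ### finite type -/

/-- A ring generated over `R` by a finite set. -/
theorem finiteType_inclusion {R B : Subring K} {G : Set K} (hG : G.Finite)
    (hB : B = Subring.closure ((R : Set K) ∪ G)) (h : R ≤ B) :
    (Subring.inclusion h).FiniteType := by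
  letI : Algebra R B := (Subring.inclusion h).toAlgebra
  change Algebra.FiniteType R B
  have hGB : ∀ g ∈ G, g ∈ B := fun g hg ↦ by
    rw [hB]
    exact Subring.subset_closure (Or.inr hg)
  have hfin : (Subtype.val ⁻¹' G : Set B).Finite := hG.preimage Subtype.val_injective.injOn
  refine ⟨⟨hfin.toFinset, ?_⟩⟩
  rw [Set.Finite.coe_toFinset, _root_.eq_top_iff]
  rintro ⟨z, hz⟩ -
  subst hB
  induction hz using Subring.closure_induction with
  | mem z hz =>
    rcases hz with hz | hz
    · exact Subalgebra.algebraMap_mem (Algebra.adjoin R (Subtype.val ⁻¹' G)) (⟨z, hz⟩ : R)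
    · exact Algebra.subset_adjoin hz
  | zero => exact zero_mem _
  | one => exact one_mem _
  | add a b ha hb h1 h2 => exact add_mem h1 h2
  | neg a ha h1 => exact neg_mem h1
  | mul a b ha hb h1 h2 => exact mul_mem h1 h2

theorem chartRing_finiteType (R : Subring K) {s : Set K} (hs : s.Finite) (x : K) :
    (Subring.inclusion (le_chartRing R s x)).FiniteType :=
  finiteType_inclusion (hs.image fun y ↦ y / x) rfl _

theorem chartRing_isNoetherianRing (R : Subring K) [IsNoetherianRing R] {s : Set K}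
    (hs : s.Finite) (x : K) : IsNoetherianRing (chartRing R s x) := by
  letI : Algebra R (chartRing R s x) := (Subring.inclusion (le_chartRing R s x)).toAlgebra
  have h : Algebra.FiniteType R (chartRing R s x) := chartRing_finiteType R hs x
  exact Algebra.FiniteType.isNoetherianRing R _

/-- The fraction field does not change. -/
theorem isFractionRing_of_le {R B : Subring K} (h : R ≤ B) [hR : IsFractionRing R K] :
    IsFractionRing B K where
  map_units := fun ⟨y, hy⟩ ↦
    (Units.mk0 (y : K) fun c => nonZeroDivisors.ne_zero hy <| Subtype.ext c).isUnit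
  surj z := by
    obtain ⟨a, b, hb, rfl⟩ := IsFractionRing.div_surjective (A := R) z
    have hb0 : (b : K) ≠ 0 := fun h0 ↦ nonZeroDivisors.ne_zero hb (Subtype.ext h0)
    refine ⟨(⟨a, h a.2⟩, ⟨⟨b, h b.2⟩, mem_nonZeroDivisors_iff_ne_zero.2 fun h0 ↦ hb0
      (congrArg Subtype.val h0)⟩), ?_⟩
    change (a : K) / b * b = a
    exact div_mul_cancel₀ _ hb0
  exists_of_eq {a b} h := ⟨1, by ext; simpa using h⟩

/-! ### the localisation of `C` at the units of `A` -/

/-- The elements of `K` which can be written `c / t` with `c, t ∈ C` and `t⁻¹ ∈ A`. -/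
def locSub (C A : Subring K) (h : C ≤ A) : Subring K where
  carrier := {z | ∃ t ∈ C, t ≠ 0 ∧ t⁻¹ ∈ A ∧ z * t ∈ C}
  one_mem' := ⟨1, C.one_mem, one_ne_zero, by simp, by simp⟩
  zero_mem' := ⟨1, C.one_mem, one_ne_zero, by simp, by simp⟩
  add_mem' := by
    rintro a b ⟨t, ht, ht0, hti, hat⟩ ⟨w, hw, hw0, hwi, hbw⟩
    refine ⟨t * w, C.mul_mem ht hw, mul_ne_zero ht0 hw0, ?_, ?_⟩
    · rw [mul_inv]
      exact A.mul_mem hti hwi
    · have : (a + b) * (t * w) = (a * t) * w + (b * w) * t := by ring
      rw [this]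
      exact C.add_mem (C.mul_mem hat hw) (C.mul_mem hbw ht)
  mul_mem' := by
    rintro a b ⟨t, ht, ht0, hti, hat⟩ ⟨w, hw, hw0, hwi, hbw⟩
    refine ⟨t * w, C.mul_mem ht hw, mul_ne_zero ht0 hw0, ?_, ?_⟩
    · rw [mul_inv]
      exact A.mul_mem hti hwi
    · have : (a * b) * (t * w) = (a * t) * (b * w) := by ring
      rw [this]
      exact C.mul_mem hat hbw
  neg_mem' := by
    rintro a ⟨t, ht, ht0, hti, hat⟩
    refine ⟨t, ht, ht0, hti, ?_⟩
    rw [neg_mul]
    exact C.neg_mem hat

theorem mem_locSub {C A : Subring K} {h : C ≤ A} {z : K} :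
    z ∈ locSub C A h ↔ ∃ t ∈ C, t ≠ 0 ∧ t⁻¹ ∈ A ∧ z * t ∈ C := Iff.rfl

theorem le_locSub {C A : Subring K} (h : C ≤ A) : C ≤ locSub C A h :=
  fun z hz ↦ ⟨1, C.one_mem, one_ne_zero, by simp, by simpa using hz⟩

/-- `locSub C A` is closed under inverses of elements which are units of `A`. -/
theorem inv_mem_locSub {C A : Subring K} (h : C ≤ A) {z : K} (hz : z ∈ locSub C A h)
    (hi : z⁻¹ ∈ A) : z⁻¹ ∈ locSub C A h := by
  by_cases h0 : z = 0
  · rw [h0, inv_zero]
    exact zero_mem _
  obtain ⟨t, ht, ht0, hti, hat⟩ := hz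
  refine ⟨z * t, hat, mul_ne_zero h0 ht0, ?_, ?_⟩
  · rw [mul_inv]
    exact A.mul_mem hi hti
  · rw [inv_mul_cancel_left₀ h0]
    exact ht

theorem locOf_of_le_locSub {C A : Subring K} (h : C ≤ A) [hA : IsLocalRing A]
    (h' : A ≤ locSub C A h) : LocOf C A where
  le := h
  isLocalRing := hA
  frac z hz := h' hz

theorem _root_.Groth.Agent.Lipman.Defs.LocOf.le_locSub {C A : Subring K} (h : LocOf C A) :
    A ≤ locSub C A h.le := fun z hz ↦ h.frac z hz

/-- A localisation of a localisation. -/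
theorem _root_.Groth.Agent.Lipman.Defs.LocOf.trans {C A A' : Subring K} (h : LocOf C A)
    (h' : LocOf A A') : LocOf C A' := by
  have := h'.isLocalRing
  have hle : C ≤ A' := h.le.trans h'.le
  refine locOf_of_le_locSub hle fun z hz ↦ ?_
  obtain ⟨t, ht, ht0, hti, hzt⟩ := h'.frac z hz
  have key : A ≤ locSub C A' hle := fun a ha ↦ by
    obtain ⟨w, hw, hw0, hwi, haw⟩ := h.frac a ha
    exact ⟨w, hw, hw0, h'.le hwi, haw⟩
  have h3 : z = (z * t) * t⁻¹ := by rw [mul_assoc, mul_inv_cancel₀ ht0, mul_one]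
  rw [h3]
  exact mul_mem (key hzt) (inv_mem_locSub hle (key ht) hti)

/-- If `C ≤ B ≤ A` and `A` is a localisation of `C`, then `A` is a localisation of `B`. -/
theorem _root_.Groth.Agent.Lipman.Defs.LocOf.of_le {C B A : Subring K} (h : LocOf C A)
    (h1 : C ≤ B) (h2 : B ≤ A) : LocOf B A where
  le := h2
  isLocalRing := h.isLocalRing
  frac z hz := by
    obtain ⟨t, ht, ht0, hti, hzt⟩ := h.frac z hz
    exact ⟨t, h1 ht, ht0, hti, h1 hzt⟩

/-! ### transitivity -/

open scoped Pointwise in
theorem chartRing_mul_le {R B : Subring K} {s t : Set K} {x y : K}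
    (h : chartRing R s x ≤ B) (h' : ∀ z ∈ t, z / y ∈ B) : chartRing R (s * t) (x * y) ≤ B := by
  refine chartRing_le_iff.2 ⟨(le_chartRing _ _ _).trans h, ?_⟩
  rintro _ ⟨a, ha, b, hb, rfl⟩
  rw [mul_div_mul_comm]
  exact B.mul_mem (h (div_mem_chartRing R x ha)) (h' b hb)

open scoped Pointwise in
theorem chartRing_le_mul (R : Subring K) {s t : Set K} {x y : K} (hy : y ∈ t) (hy0 : y ≠ 0) :
    chartRing R s x ≤ chartRing R (s * t) (x * y) := by
  refine chartRing_le_iff.2 ⟨le_chartRing _ _ _, fun z hz ↦ ?_⟩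
  have := div_mem_chartRing R (x * y) (Set.mul_mem_mul hz hy)
  rwa [mul_div_mul_right _ _ hy0] at this

open scoped Pointwise in
theorem div_mem_chartRing_mul (R : Subring K) {s t : Set K} {x y : K} (hx : x ∈ s) (hx0 : x ≠ 0)
    {z : K} (hz : z ∈ t) : z / y ∈ chartRing R (s * t) (x * y) := by
  have := div_mem_chartRing R (x * y) (Set.mul_mem_mul hx hz)
  rwa [mul_div_mul_left _ _ hx0] at this

open scoped Pointwise in
/-- A point of the blow-up of `t` over a point `A` of the blow-up of `s` is a point of the blow-up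
of `s * t`. -/
theorem _root_.Groth.Agent.Lipman.Defs.IsPt.trans {R : Subring K} {s t : Set K} {A A' : Subring K}
    (h : IsPt R s A) (h' : IsPt A t A') : IsPt R (s * t) A' := by
  obtain ⟨x, hx, hx0, hA⟩ := h
  obtain ⟨y, hy, hy0, hA'⟩ := h'
  have := hA'.isLocalRing
  have hAA' : A ≤ A' := (le_chartRing _ _ _).trans hA'.le
  have hC : chartRing R (s * t) (x * y) ≤ A' := chartRing_mul_le (hA.le.trans hAA')
    fun z hz ↦ hA'.le (div_mem_chartRing A y hz)
  have hBC : chartRing R s x ≤ chartRing R (s * t) (x * y) := chartRing_le_mul R hy hy0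
  refine ⟨x * y, Set.mul_mem_mul hx hy, mul_ne_zero hx0 hy0, locOf_of_le_locSub hC fun z hz ↦ ?_⟩
  -- `A ≤ locSub`
  have h1 : A ≤ locSub _ A' hC := fun a ha ↦ by
    obtain ⟨w, hw, hw0, hwi, haw⟩ := hA.frac a ha
    exact ⟨w, hBC hw, hw0, hAA' hwi, hBC haw⟩
  have h2 : chartRing A t y ≤ locSub _ A' hC := chartRing_le_iff.2
    ⟨h1, fun z hz ↦ le_locSub hC (div_mem_chartRing_mul R hx hx0 hz)⟩
  obtain ⟨w, hw, hw0, hwi, hzw⟩ := hA'.frac z hz
  have h3 : z = (z * w) * w⁻¹ := by rw [mul_assoc, mul_inv_cancel₀ hw0, mul_one]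
  rw [h3]
  exact mul_mem (h2 hzw) (inv_mem_locSub hC (h2 hw) hwi)

/-- Points of the blow-up of `{1}`: localisations of `R`. -/
theorem isPt_one_iff {R A : Subring K} : IsPt R {1} A ↔ LocOf R A := by
  have h : chartRing R {1} 1 = R := by
    refine le_antisymm (chartRing_le_iff.2 ⟨le_rfl, ?_⟩) (le_chartRing _ _ _)
    rintro y rfl
    rw [div_one]
    exact R.one_mem
  constructor
  · rintro ⟨x, rfl, -, hA⟩
    rwa [h] at hA
  · intro hA
    refine ⟨1, rfl, one_ne_zero, ?_⟩
    rwa [h]

theorem locOf_self (A : Subring K) [hA : IsLocalRing A] : LocOf A A where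
  le := le_rfl
  isLocalRing := hA
  frac z hz := ⟨1, A.one_mem, one_ne_zero, by simp, by simpa using hz⟩

theorem _root_.Groth.Agent.Lipman.Defs.LocOf.eq_self {B A : Subring K} [hB : IsLocalRing B]
    (h : LocOf B A) (h' : ∀ t ∈ B, t⁻¹ ∈ A → t⁻¹ ∈ B) : A = B := by
  refine le_antisymm (fun z hz ↦ ?_) h.le
  obtain ⟨t, ht, ht0, hti, hzt⟩ := h.frac z hz
  have h3 : z = (z * t) * t⁻¹ := by rw [mul_assoc, mul_inv_cancel₀ ht0, mul_one]
  rw [h3]
  exact B.mul_mem hzt (h' t ht hti)

/-! ### quadratic transforms are points of blow-ups -/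

theorem mem_mSet_iff {A : Subring K} [IsLocalRing A] {z : K} :
    z ∈ mSet A ↔ ∃ h : z ∈ A, (⟨z, h⟩ : A) ∈ maximalIdeal A := by
  constructor
  · rintro ⟨h, h'⟩
    exact ⟨h, mem_maximalIdeal_iff.2 h'⟩
  · rintro ⟨h, h'⟩
    exact ⟨h, mem_maximalIdeal_iff.1 h'⟩

theorem mSet_nonempty (A : Subring K) : (0 : K) ∈ mSet A := ⟨A.zero_mem, Or.inl rfl⟩

lemma exists_sum {A : Subring K} {N : Set A} {x : A} (hx : x ∈ Ideal.span N) :
    ∃ c : A →₀ A, (c.support : Set A) ⊆ N ∧ (x : K) = ∑ n ∈ c.support, (c n : K) * (n : K) := by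
  obtain ⟨c, hcN, hcx⟩ := Submodule.mem_span_set.1 hx
  refine ⟨c, hcN, ?_⟩
  have h2 := congrArg (A.subtype) hcx
  rw [Finsupp.sum, map_sum] at h2
  exact h2.symm

/-- If `N ⊆ A` generates the maximal ideal of `A`, then a quadratic transform of `A` is a point of
the blow-up of `N`. -/
theorem _root_.Groth.Agent.Lipman.Defs.QT.isPt {A A' : Subring K} [hA : IsLocalRing A]
    (h : QT A A') {N : Set A} (hN : Ideal.span N = maximalIdeal A) :
    IsPt A (Subtype.val '' N) A' := by
  obtain ⟨x, hx, hx0, hxi, hA'⟩ := h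
  have := hA'.isLocalRing
  have hAA' : A ≤ A' := (le_chartRing _ _ _).trans hA'.le
  obtain ⟨hxA, hxm⟩ := mem_mSet_iff.1 hx
  -- write `x = ∑ a_j N_j`
  have hxm' := hxm
  rw [← hN] at hxm'
  obtain ⟨c, hcN, hcx⟩ := exists_sum hxm'
  -- in `A'` one of the `N_j / x` is a unit
  have hdiv : ∀ n ∈ N, (n : K) / x ∈ A' := by
    intro n hn
    refine hA'.le (div_mem_chartRing A x ?_)
    rw [mem_mSet_iff]
    refine ⟨n.2, ?_⟩
    rw [← hN]
    exact Ideal.subset_span hn
  have hsum : ∑ n ∈ c.support, (c n : K) * ((n : K) / x) = 1 := by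
    have h1 : (x : K) = ∑ n ∈ c.support, (c n : K) * (n : K) := hcx
    have h2 : ∑ n ∈ c.support, (c n : K) * ((n : K) / x) =
        (∑ n ∈ c.support, (c n : K) * (n : K)) / x := by
      rw [Finset.sum_div]
      exact Finset.sum_congr rfl fun n _ ↦ by rw [mul_div_assoc]
    rw [h2, ← h1, div_self hx0]
  obtain ⟨n, hn, hn0, hni⟩ : ∃ n ∈ N, (n : K) ≠ 0 ∧ x / (n : K) ∈ A' := by
    classical
    by_contra hcon
    push Not at hcon
    have h1 : ∀ n ∈ c.support, (if hn : (n : K) / x ∈ A' then (⟨(n : K) / x, hn⟩ : A') else 0) ∈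
        maximalIdeal A' := by
      intro n hn
      have hn' := hdiv n (hcN hn)
      rw [dif_pos hn', mem_maximalIdeal_iff]
      by_cases h0 : (n : K) = 0
      · left
        change (n : K) / x = 0
        rw [h0, zero_div]
      · right
        change ((n : K) / x)⁻¹ ∉ A'
        rw [inv_div]
        exact hcon n (hcN hn) h0
    have h2 : ∑ n ∈ c.support, (⟨c n, hAA' (c n).2⟩ : A') *
        (if hn : (n : K) / x ∈ A' then (⟨(n : K) / x, hn⟩ : A') else 0) = 1 := by
      apply Subtype.ext
      push_cast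
      rw [← hsum]
      refine Finset.sum_congr rfl fun n hn ↦ ?_
      rw [dif_pos (hdiv n (hcN hn))]
    have h3 : (1 : A') ∈ maximalIdeal A' := by
      rw [← h2]
      exact Ideal.sum_mem _ fun n hn ↦ Ideal.mul_mem_left _ _ (h1 n hn)
    exact (Ideal.ne_top_iff_one _).1 (maximalIdeal.isMaximal A').ne_top h3
  -- the chart of `n`
  have hC : chartRing A (Subtype.val '' N) (n : K) ≤ A' := by
    refine chartRing_le_iff.2 ⟨hAA', ?_⟩
    rintro _ ⟨m, hm, rfl⟩
    have h1 : (m : K) / n = ((m : K) / x) * (x / n) := by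
      field_simp
    rw [h1]
    exact A'.mul_mem (hdiv m hm) hni
  refine ⟨n, ⟨n, hn, rfl⟩, hn0, locOf_of_le_locSub hC ?_⟩
  -- `m / n ∈ chartRing` for all `m ∈ m_A`
  have hm : ∀ m ∈ mSet A, m / (n : K) ∈ chartRing A (Subtype.val '' N) (n : K) := by
    intro m hm
    obtain ⟨hmA, hmm⟩ := mem_mSet_iff.1 hm
    rw [← hN] at hmm
    obtain ⟨d, hdN, hdm⟩ := exists_sum hmm
    have h1 : (m : K) = ∑ k ∈ d.support, (d k : K) * (k : K) := hdm
    rw [h1, Finset.sum_div]
    refine sum_mem fun k hk ↦ ?_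
    rw [mul_div_assoc]
    exact mul_mem (le_chartRing _ _ _ (d k).2) (div_mem_chartRing A _ ⟨k, hdN hk, rfl⟩)
  have hxn : x / (n : K) ∈ locSub _ A' hC := le_locSub hC (hm x hx)
  have hnx : (n : K) / x ∈ locSub _ A' hC := by
    rw [← inv_div]
    refine inv_mem_locSub hC hxn ?_
    rw [inv_div]
    exact hdiv n hn
  have h2 : chartRing A (mSet A) x ≤ locSub _ A' hC := by
    refine chartRing_le_iff.2 ⟨(le_chartRing _ _ _).trans (le_locSub hC), fun m hm' ↦ ?_⟩
    have h1 : m / x = (m / n) * ((n : K) / x) := by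
      field_simp
    rw [h1]
    exact mul_mem (le_locSub hC (hm m hm')) hnx
  intro z hz
  obtain ⟨w, hw, hw0, hwi, hzw⟩ := hA'.frac z hz
  have h3 : z = (z * w) * w⁻¹ := by rw [mul_assoc, mul_inv_cancel₀ hw0, mul_one]
  rw [h3]
  exact mul_mem (h2 hzw) (inv_mem_locSub hC (h2 hw) hwi)

/-- A quadratic transform of a Noetherian local ring is a point of a blow-up of a finite set of
generators of the maximal ideal. -/
theorem _root_.Groth.Agent.Lipman.Defs.QT.exists_isPt {A A' : Subring K} [hA : IsLocalRing A]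
    [IsNoetherianRing A] (h : QT A A') : ∃ t, IsTuple t ∧ t ⊆ mSet A ∧ IsPt A t A' := by
  obtain ⟨N, hN⟩ := IsNoetherian.noetherian (maximalIdeal A)
  refine ⟨Subtype.val '' (N : Set A), ⟨N.finite_toSet.image _, ?_⟩, ?_, h.isPt hN⟩
  · obtain ⟨x, hx, hx0, -⟩ := h
    by_contra hcon
    push Not at hcon
    obtain ⟨hxA, hxm⟩ := mem_mSet_iff.1 hx
    have h1 : maximalIdeal A = ⊥ := by
      rw [← hN, Ideal.submodule_span_eq, Ideal.span_eq_bot]
      intro z hz
      exact Subtype.ext (hcon _ ⟨z, hz, rfl⟩)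
    rw [h1, Ideal.mem_bot] at hxm
    exact hx0 (congrArg Subtype.val hxm)
  · rintro _ ⟨n, hn, rfl⟩
    rw [mem_mSet_iff]
    refine ⟨n.2, ?_⟩
    rw [← hN]
    exact Submodule.subset_span hn

open scoped Pointwise in
/-- (P2) A quadratic transform of a point of the blow-up of `s` is a point of a blow-up refining
the blow-up of `s`. -/
theorem _root_.Groth.Agent.Lipman.Defs.IsPt.exists_of_QT {R : Subring K} {s : Set K}
    (hs : IsTuple s) {A A' : Subring K} (h : IsPt R s A) [IsNoetherianRing A] (h' : QT A A') :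
    ∃ s', IsTuple s' ∧ Refines R s' s ∧ IsPt R s' A' := by
  have := h.isLocalRing
  obtain ⟨t, ht, -, h1⟩ := h'.exists_isPt
  exact ⟨s * t, hs.mul ht, refines_mul_left R s t, h.trans h1⟩

/-! ### dimension theory -/

section Dim

theorem _root_.Groth.Agent.Lipman.Defs.LocOf.isNoetherianRing {B A : Subring K} (h : LocOf B A)
    [IsNoetherianRing B] : IsNoetherianRing A := by
  rw [LocOf.eq_ofPrime h]
  exact IsLocalization.isNoetherianRing (LocOf.prime h).primeCompl _ inferInstance

theorem _root_.Groth.Agent.Lipman.Defs.IsPt.isNoetherianRing {R : Subring K} [IsNoetherianRing R]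
    {s : Set K} (hs : s.Finite) {A : Subring K} (h : IsPt R s A) : IsNoetherianRing A := by
  obtain ⟨x, hx, hx0, hA⟩ := h
  have := chartRing_isNoetherianRing R hs x
  exact hA.isNoetherianRing

theorem _root_.Groth.Agent.Lipman.Defs.LocOf.ringKrullDim_eq {B A : Subring K} (h : LocOf B A) :
    ringKrullDim A = (LocOf.prime h).height := by
  have h1 : ringKrullDim A = ringKrullDim (LocalSubring.ofPrime B (LocOf.prime h)).toSubring := by
    rw [← LocOf.eq_ofPrime h]
  rw [h1]
  exact IsLocalization.AtPrime.ringKrullDim_eq_height (LocOf.prime h) _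

/-- The dimension inequality for a finitely generated overring `B` of `R` in `K = Frac R` and a
prime `q` of `B`. -/
theorem height_add_le {R B : Subring K} [IsNoetherianRing R] [hR : IsFractionRing R K]
    (h : R ≤ B) (hft : (Subring.inclusion h).FiniteType) (q : Ideal B) [hq : q.IsPrime] :
    letI : Algebra R B := (Subring.inclusion h).toAlgebra
    ∃ a b t : ℕ, q.height = a ∧ (q.under R).height = b ∧
      Algebra.trdeg (R ⧸ q.under R) (B ⧸ q) = t ∧ a + t ≤ b := by
  letI : Algebra R B := (Subring.inclusion h).toAlgebra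
  have hft' : Algebra.FiniteType R B := hft
  have : FaithfulSMul R B := (faithfulSMul_iff_algebraMap_injective R B).2
    (Subring.inclusion_injective h)
  have htower : IsScalarTower R B K := IsScalarTower.of_algebraMap_eq fun _ ↦ rfl
  obtain ⟨a, b, t, t', h1, h2, h3, h4, h5, -⟩ :=
    Groth.Agent.CalgA.DimFormula2.exists_dimension_formula (R := R) (S := B) (q.under R) q
  have halg : Algebra.IsAlgebraic R B := by
    have h6 : Algebra.IsAlgebraic R K := IsLocalization.isAlgebraic K (nonZeroDivisors R)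
    exact Algebra.IsAlgebraic.tower_bot_of_injective (R := R) (S := B) (A := K)
      Subtype.val_injective
  have ht : t = 0 := by
    rw [trdeg_eq_zero] at h3
    exact_mod_cast h3.symm
  subst ht
  exact ⟨a, b, t', h1, h2, h4, by omega⟩

/-- The dimension of a point is at most the dimension of `R`. -/
theorem _root_.Groth.Agent.Lipman.Defs.LocOf.ringKrullDim_le {R B A : Subring K}
    [IsNoetherianRing R] [hR : IsFractionRing R K] (h : R ≤ B)
    (hft : (Subring.inclusion h).FiniteType) (hA : LocOf B A) :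
    ringKrullDim A ≤ ringKrullDim R := by
  letI : Algebra R B := (Subring.inclusion h).toAlgebra
  obtain ⟨a, b, t, h1, h2, -, h4⟩ := height_add_le h hft (LocOf.prime hA)
  rw [hA.ringKrullDim_eq]
  refine le_trans ?_ (Ideal.height_le_ringKrullDim_of_isPrime (I := (LocOf.prime hA).under R))
  rw [h1, h2]
  have : a ≤ b := by omega
  exact_mod_cast this

theorem _root_.Groth.Agent.Lipman.Defs.IsPt.ringKrullDim_le {R : Subring K} [IsNoetherianRing R]
    [hR : IsFractionRing R K] {s : Set K} (hs : s.Finite) {A : Subring K} (h : IsPt R s A) :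
    ringKrullDim A ≤ ringKrullDim R := by
  obtain ⟨x, hx, hx0, hA⟩ := h
  exact hA.ringKrullDim_le (le_chartRing R s x) (chartRing_finiteType R hs x)

/-- `B → ResidueField B_q` is surjective if `q` is maximal. -/
theorem surjective_residue {B A : Subring K} (h : LocOf B A) (hmax : (LocOf.prime h).IsMaximal) :
    letI := h.isLocalRing
    Function.Surjective ((residue A).comp (Subring.inclusion h.le)) := by
  letI := h.isLocalRing
  intro z
  obtain ⟨a, rfl⟩ := residue_surjective z
  obtain ⟨t, ht, ht0, hti, hat⟩ := h.frac a a.2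
  have htp : (⟨t, ht⟩ : B) ∉ LocOf.prime h := by
    rw [LocOf.mem_prime]
    push Not
    exact ⟨ht0, hti⟩
  obtain ⟨w, i, hi, hw⟩ := hmax.exists_inv htp
  refine ⟨⟨_, hat⟩ * w, ?_⟩
  rw [← sub_eq_zero]
  change residue A (Subring.inclusion h.le (⟨_, hat⟩ * w)) - residue A a = 0
  rw [← map_sub, residue_eq_zero_iff]
  have h1 : Subring.inclusion h.le (⟨_, hat⟩ * w) - a = - (a * Subring.inclusion h.le i) := by
    apply Subtype.ext
    have h2 := congrArg Subtype.val hw
    have h3 : (w : K) * t + (i : K) = 1 := h2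
    change (a : K) * t * w - a = - (a * i)
    have h4 : (i : K) = 1 - w * t := by rw [← h3]; ring
    rw [h4]
    ring
  rw [h1]
  refine neg_mem (Ideal.mul_mem_left _ _ ?_)
  exact hi

/-- The properties of two-dimensional points: `R` Noetherian local of dimension at most two, `B`
finitely generated over `R` inside `K = Frac R`, `A` a localisation of `B` of dimension two. -/
theorem _root_.Groth.Agent.Lipman.Defs.LocOf.of_dim_eq {R B A : Subring K} [hRl : IsLocalRing R]
    [IsNoetherianRing R] [hR : IsFractionRing R K] (h : R ≤ B)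
    (hft : (Subring.inclusion h).FiniteType) (hA : LocOf B A) (hdim : ringKrullDim A = ringKrullDim R) :
    (LocOf.prime hA).IsMaximal ∧
      ∃ _ : IsLocalRing A, ∃ _ : IsLocalHom (Subring.inclusion (h.trans hA.le)),
        (ResidueField.map (Subring.inclusion (h.trans hA.le))).Finite := by
  letI : Algebra R B := (Subring.inclusion h).toAlgebra
  letI := hA.isLocalRing
  set q := LocOf.prime hA with hq
  have hft' : Algebra.FiniteType R B := hft
  obtain ⟨a, b, t, h1, h2, h3, h4⟩ := height_add_le h hft q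
  have h5 : ((q.under R).height : WithBot ℕ∞) ≤ ringKrullDim R :=
    Ideal.height_le_ringKrullDim_of_isPrime
  have hab : b ≤ a := by
    rw [← hdim, hA.ringKrullDim_eq, ← hq, h1, h2] at h5
    exact_mod_cast h5
  have ht : t = 0 := by omega
  have hab' : a = b := by omega
  subst ht
  have hmaxR : (q.under R).IsMaximal := by
    apply Ideal.isMaximal_of_height_eq_ringKrullDim
    rw [← hdim, hA.ringKrullDim_eq, ← hq, h1, h2, hab']
  have hunder : q.under R = maximalIdeal R := eq_maximalIdeal hmaxR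
  have halg : Algebra.IsAlgebraic (R ⧸ q.under R) (B ⧸ q) := by
    rw [← trdeg_eq_zero_iff, h3]
    rfl
  letI : Field (R ⧸ q.under R) := Ideal.Quotient.field _
  have hint : Algebra.IsIntegral (R ⧸ q.under R) (B ⧸ q) := Algebra.IsAlgebraic.isIntegral
  have hft2 : Algebra.FiniteType R (B ⧸ q) := inferInstance
  have hft3 : Algebra.FiniteType (R ⧸ q.under R) (B ⧸ q) :=
    Algebra.FiniteType.of_restrictScalars_finiteType R _ _
  have hfin : Module.Finite (R ⧸ q.under R) (B ⧸ q) := Algebra.IsIntegral.finite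
  have hmax : q.IsMaximal := by
    apply Ideal.Quotient.maximal_of_isField
    exact isField_of_isIntegral_of_isField' (Field.toIsField (R ⧸ q.under R))
  have hloc : IsLocalHom (Subring.inclusion (h.trans hA.le)) := by
    have h6 : (maximalIdeal A).comap (Subring.inclusion (h.trans hA.le)) = maximalIdeal R := by
      rw [← hunder]
      rfl
    exact ((local_hom_TFAE (Subring.inclusion (h.trans hA.le))).out 0 4).2 h6
  refine ⟨hmax, inferInstance, hloc, ?_⟩
  refine RingHom.Finite.of_comp_finite (f := residue R) ?_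
  rw [ResidueField.map_comp_residue]
  have h7 : (residue A).comp (Subring.inclusion (h.trans hA.le)) =
      ((Ideal.Quotient.lift q ((residue A).comp (Subring.inclusion hA.le)) (by
        intro x hx
        rw [RingHom.comp_apply, residue_eq_zero_iff]
        exact hx)).comp (algebraMap (R ⧸ q.under R) (B ⧸ q))).comp (Ideal.Quotient.mk (q.under R)) := by
    ext x
    rfl
  rw [h7]
  refine RingHom.Finite.comp (RingHom.Finite.comp ?_ ?_) ?_
  · apply RingHom.Finite.of_surjective
    exact Ideal.Quotient.lift_surjective_of_surjective _ _ (surjective_residue hA hmax)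
  · exact RingHom.finite_algebraMap.2 hfin
  · exact RingHom.Finite.of_surjective _ Ideal.Quotient.mk_surjective

/-- (P1) Two-dimensional points of a blow-up of a Noetherian local ring `R` of dimension two (more
generally: points of the same dimension as `R`): the prime of the chart ring is maximal, the
point dominates `R` and the residue field extension is finite. -/
theorem _root_.Groth.Agent.Lipman.Defs.IsPt.of_dim_eq {R : Subring K} [hRl : IsLocalRing R]
    [IsNoetherianRing R] [hR : IsFractionRing R K] {s : Set K} (hs : s.Finite) {A : Subring K}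
    (hA : IsPt R s A) (hdim : ringKrullDim A = ringKrullDim R) :
    ∃ _ : IsLocalRing A, ∃ _ : IsLocalHom (Subring.inclusion hA.le),
        (ResidueField.map (Subring.inclusion hA.le)).Finite := by
  obtain ⟨x, hx, hx0, h⟩ := hA
  exact (h.of_dim_eq (le_chartRing R s x) (chartRing_finiteType R hs x) hdim).2

/-- Elementwise form of domination. -/
theorem _root_.Groth.Agent.Lipman.Defs.IsPt.inv_mem_of_dim_eq {R : Subring K} [hRl : IsLocalRing R]
    [IsNoetherianRing R] [hR : IsFractionRing R K] {s : Set K} (hs : s.Finite) {A : Subring K}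
    (hA : IsPt R s A) (hdim : ringKrullDim A = ringKrullDim R) {r : K} (hr : r ∈ R)
    (hi : r⁻¹ ∈ A) : r⁻¹ ∈ R := by
  obtain ⟨_, h1, -⟩ := hA.of_dim_eq hs hdim
  by_cases h0 : r = 0
  · rw [h0, inv_zero]
    exact R.zero_mem
  have h2 : IsUnit (Subring.inclusion hA.le ⟨r, hr⟩) := isUnit_iff.2 ⟨h0, hi⟩
  exact (isUnit_iff.1 (h1.map_nonunit _ h2)).2

/-- (P3) dimension of quadratic transforms. -/
theorem _root_.Groth.Agent.Lipman.Defs.QT.ringKrullDim_le {A A' : Subring K} [hA : IsLocalRing A]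
    [IsNoetherianRing A] [hfr : IsFractionRing A K] (h : QT A A') :
    ringKrullDim A' ≤ ringKrullDim A := by
  obtain ⟨t, ht, -, h1⟩ := h.exists_isPt
  exact h1.ringKrullDim_le ht.finite

theorem _root_.Groth.Agent.Lipman.Defs.QT.le {A A' : Subring K} (h : QT A A') : A ≤ A' := by
  obtain ⟨x, -, -, -, h⟩ := h
  exact (le_chartRing _ _ _).trans h.le

theorem _root_.Groth.Agent.Lipman.Defs.QT.isLocalRing {A A' : Subring K} (h : QT A A') :
    IsLocalRing A' := by
  obtain ⟨x, -, -, -, h⟩ := h
  exact h.isLocalRing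

theorem _root_.Groth.Agent.Lipman.Defs.QT.isNoetherianRing {A A' : Subring K} [hA : IsLocalRing A]
    [IsNoetherianRing A] (h : QT A A') : IsNoetherianRing A' := by
  obtain ⟨t, ht, -, h1⟩ := h.exists_isPt
  exact h1.isNoetherianRing ht.finite

/-- A quadratic transform is not a field. -/
theorem _root_.Groth.Agent.Lipman.Defs.QT.one_le_ringKrullDim {A A' : Subring K} (h : QT A A') :
    1 ≤ ringKrullDim A' := by
  have hl := h.isLocalRing
  obtain ⟨x, hx, hx0, hxi, hA'⟩ := h
  have hxA : x ∈ A' := hA'.le (le_chartRing _ _ _ hx.1)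
  have h1 : ¬ IsField A' := by
    intro hf
    obtain ⟨y, hy⟩ := hf.mul_inv_cancel (a := ⟨x, hxA⟩) (fun h0 ↦ hx0 (congrArg Subtype.val h0))
    apply hxi
    have h2 : x * (y : K) = 1 := congrArg Subtype.val hy
    rw [← eq_inv_of_mul_eq_one_right h2]
    exact y.2
  by_contra hcon
  rw [not_le] at hcon
  have h2 : ringKrullDim A' ≤ (0 : ℕ) :=
    ENat.WithBot.lt_add_one_iff.1 (show ringKrullDim A' < (0 : ℕ) + 1 by simpa using hcon)
  have h3 : Ring.KrullDimLE 0 A' := Ring.krullDimLE_iff.2 h2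
  exact h1 Ring.KrullDimLE.isField_of_isDomain

/-- The maximal ideal of `A` generates a principal ideal of `A'`: there is `x ∈ m_A` with
`m_A ⊆ x A'`, `x` a nonunit of `A'`; in particular `A'` dominates `A`. -/
theorem _root_.Groth.Agent.Lipman.Defs.QT.exists_div_mem {A A' : Subring K} (h : QT A A') :
    ∃ x ∈ mSet A, x ≠ 0 ∧ x⁻¹ ∉ A' ∧ ∀ m ∈ mSet A, m / x ∈ A' := by
  obtain ⟨x, hx, hx0, hxi, hA'⟩ := h
  exact ⟨x, hx, hx0, hxi, fun m hm ↦ hA'.le (div_mem_chartRing A x hm)⟩

/-- A quadratic transform dominates. -/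
theorem _root_.Groth.Agent.Lipman.Defs.QT.inv_mem {A A' : Subring K} (h : QT A A') {r : K}
    (hr : r ∈ A) (hi : r⁻¹ ∈ A') : r⁻¹ ∈ A := by
  by_contra hri
  obtain ⟨x, hx, hx0, hxi, hdiv⟩ := h.exists_div_mem
  have hr' : r ∈ mSet A := ⟨hr, Or.inr hri⟩
  have h0 : r ≠ 0 := by
    rintro rfl
    rw [inv_zero] at hri
    exact hri A.zero_mem
  apply hxi
  have h1 : x⁻¹ = (r / x) * r⁻¹ := by
    field_simp
  rw [h1]
  exact A'.mul_mem (hdiv r hr') hi

end Dim

end Groth.Agent.Lipman.PtQT
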