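import Mathlib

/-!
# Block B5 (termination) of the S1634 / S2208 project: definitions and tools

* `MinGen I e`: `e` is a minimal generating family of the ideal `I` of a local ring.
* `RatLike A n`: numerical consequences of "rational": `μ(m^k) = n k + 1` and `m²` integrally closed.
* `QT A B t`: `B` is a quadratic transform of `A` with exceptional parameter `t`.
* `Fat A r`: fat line: `m = (x, y, w_1, …, w_r)` with `w_i w_j ∈ m³`.
* `FS B t w z l e₀ e₁ e₂`: the cubic data at a double point with exceptional parameter `t`.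
-/

set_option autoImplicit false
set_option linter.unusedSectionVars false

namespace Groth.Agent.Lipman.Term

open IsLocalRing

section MinGen

variable {A : Type*} [CommRing A] [IsLocalRing A]

/-- `e` is a minimal generating family of the ideal `I` of the local ring `A`. -/
structure MinGen {ι : Type*} [Fintype ι] (I : Ideal A) (e : ι → A) : Prop where
  span_eq : Ideal.span (Set.range e) = I
  indep : ∀ c : ι → A, ∑ i, c i * e i ∈ maximalIdeal A * I → ∀ i, c i ∈ maximalIdeal A

theorem MinGen.mem {ι : Type*} [Fintype ι] {I : Ideal A} {e : ι → A} (h : MinGen I e) (i : ι) :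
    e i ∈ I := by
  rw [← h.span_eq]; exact Ideal.subset_span ⟨i, rfl⟩

theorem MinGen.exists_eq {ι : Type*} [Fintype ι] {I : Ideal A} {e : ι → A} (h : MinGen I e)
    {a : A} (ha : a ∈ I) : ∃ c : ι → A, a = ∑ i, c i * e i := by
  rw [← h.span_eq] at ha
  obtain ⟨c, hc⟩ := (Ideal.mem_span_range_iff_exists_fun).1 ha
  exact ⟨c, hc.symm⟩

/-- the class of an element of `I` in `I / m I` -/
def cls (I : Ideal A) {ι : Type*} (e : ι → A) (he : ∀ i, e i ∈ I) (i : ι) :
    ↥I ⧸ (maximalIdeal A • (⊤ : Submodule A ↥I)) :=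
  Submodule.Quotient.mk ⟨e i, he i⟩

theorem linearIndependent_cls {ι : Type*} [Fintype ι] (I : Ideal A) (e : ι → A) (he : ∀ i, e i ∈ I) :
    LinearIndependent (A ⧸ maximalIdeal A) (cls I e he) ↔
    (∀ c : ι → A, ∑ i, c i * e i ∈ maximalIdeal A * I → ∀ i, c i ∈ maximalIdeal A) := by
  rw [Fintype.linearIndependent_iff]
  have key : ∀ c : ι → A, (∑ i, (Ideal.Quotient.mk (maximalIdeal A) (c i)) • cls I e he i = 0 ↔
      ∑ i, c i * e i ∈ maximalIdeal A * I) := by
    intro c
    have : ∑ i, (Ideal.Quotient.mk (maximalIdeal A) (c i)) • cls I e he i =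
        Submodule.Quotient.mk (∑ i, c i • (⟨e i, he i⟩ : ↥I)) := by
      rw [← Submodule.mkQ_apply, map_sum]
      rfl
    rw [this, Submodule.Quotient.mk_eq_zero, Submodule.mem_smul_top_iff]
    simp [smul_eq_mul]
  constructor
  · intro h c hc i
    have := h (fun i => Ideal.Quotient.mk _ (c i)) ((key c).2 hc) i
    exact Ideal.Quotient.eq_zero_iff_mem.1 this
  · intro h g hg i
    choose c hc using fun i => Ideal.Quotient.mk_surjective (g i)
    have hg' : ∑ i, (Ideal.Quotient.mk (maximalIdeal A) (c i)) • cls I e he i = 0 := by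
      simpa [hc] using hg
    rw [← hc i]
    exact Ideal.Quotient.eq_zero_iff_mem.2 (h c ((key c).1 hg') i)

theorem span_cls {ι : Type*} (I : Ideal A) (e : ι → A) (he : ∀ i, e i ∈ I) :
    (⊤ ≤ Submodule.span (A ⧸ maximalIdeal A) (Set.range (cls I e he))) ↔
      I ≤ Ideal.span (Set.range e) ⊔ maximalIdeal A * I := by
  have h1 : (Submodule.span (A ⧸ maximalIdeal A) (Set.range (cls I e he))).restrictScalars A =
      Submodule.span A (Set.range (cls I e he)) :=
    Submodule.restrictScalars_span A (A ⧸ maximalIdeal A) Ideal.Quotient.mk_surjective _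
  have h2 : Submodule.span A (Set.range (cls I e he)) =
      (Submodule.span A (Set.range fun i => (⟨e i, he i⟩ : ↥I))).map
        (maximalIdeal A • (⊤ : Submodule A ↥I)).mkQ := by
    rw [Submodule.map_span, ← Set.range_comp]; rfl
  have h3 : (Submodule.span A (Set.range fun i => (⟨e i, he i⟩ : ↥I))).map I.subtype =
      Ideal.span (Set.range e) := by
    rw [Submodule.map_span, ← Set.range_comp]; rfl
  constructor
  · intro h x hx
    have hx' : (maximalIdeal A • (⊤ : Submodule A ↥I)).mkQ ⟨x, hx⟩ ∈
        (Submodule.span (A ⧸ maximalIdeal A) (Set.range (cls I e he))).restrictScalars A :=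
      h trivial
    rw [h1, h2, Submodule.mem_map] at hx'
    obtain ⟨y, hy, hxy⟩ := hx'
    have h4 : (⟨x, hx⟩ : ↥I) - y ∈ maximalIdeal A • (⊤ : Submodule A ↥I) := by
      rw [← Submodule.Quotient.eq]; exact hxy.symm
    rw [Submodule.mem_smul_top_iff] at h4
    have h5 : (y : A) ∈ Ideal.span (Set.range e) := by
      rw [← h3]; exact Submodule.mem_map_of_mem hy
    have h6 : x = (y : A) + ((⟨x, hx⟩ : ↥I) - y : ↥I) := by simp
    rw [h6]
    exact Submodule.add_mem_sup h5 (by simpa [smul_eq_mul] using h4)
  · intro h x _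
    obtain ⟨x, rfl⟩ := Submodule.Quotient.mk_surjective _ x
    obtain ⟨y, hy, z, hz, hyz⟩ := Submodule.mem_sup.1 (h x.2)
    rw [← h3, Submodule.mem_map] at hy
    obtain ⟨y, hy, rfl⟩ := hy
    have h4 : x - y ∈ maximalIdeal A • (⊤ : Submodule A ↥I) := by
      rw [Submodule.mem_smul_top_iff]
      have : ((x - y : ↥I) : A) = z := by
        simp [← hyz]
      rw [this]; simpa [smul_eq_mul] using hz
    have h5 : (Submodule.Quotient.mk x : ↥I ⧸ (maximalIdeal A • (⊤ : Submodule A ↥I))) =
        (maximalIdeal A • (⊤ : Submodule A ↥I)).mkQ y := (Submodule.Quotient.eq _).2 h4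
    rw [h5]
    change _ ∈ (Submodule.span (A ⧸ maximalIdeal A) (Set.range (cls I e he))).restrictScalars A
    rw [h1, h2]
    exact Submodule.mem_map_of_mem hy

variable [IsNoetherianRing A]

/-- Nakayama: if `e` generates `I` modulo `m I` then it generates `I`. -/
theorem span_eq_of_le_sup {ι : Type*} (I : Ideal A) (e : ι → A) (he : ∀ i, e i ∈ I)
    (h : I ≤ Ideal.span (Set.range e) ⊔ maximalIdeal A * I) : Ideal.span (Set.range e) = I := by
  apply le_antisymm
  · rw [Ideal.span_le]; rintro _ ⟨i, rfl⟩; exact he i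
  · refine Submodule.le_of_le_smul_of_le_jacobson_bot (I := maximalIdeal A)
      (IsNoetherian.noetherian I) ?_ ?_
    · rw [IsLocalRing.jacobson_eq_maximalIdeal _ bot_ne_top]
    · simpa [smul_eq_mul] using h

theorem finrank_eq (I : Ideal A) : Module.finrank (A ⧸ maximalIdeal A)
    (↥I ⧸ (maximalIdeal A • (⊤ : Submodule A ↥I))) = I.spanFinrank :=
  (IsLocalRing.spanFinrank_eq_finrank_quotient I (IsNoetherian.noetherian I)).symm

instance finite_quot (I : Ideal A) : Module.Finite (A ⧸ maximalIdeal A)
    (↥I ⧸ (maximalIdeal A • (⊤ : Submodule A ↥I))) := by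
  have : Module.Finite A (↥I ⧸ (maximalIdeal A • (⊤ : Submodule A ↥I))) := inferInstance
  exact Module.Finite.of_restrictScalars_finite A _ _

/-- an independent family modulo `m I` has at most `μ(I)` elements -/
theorem card_le_of_indep {ι : Type*} [Fintype ι] (I : Ideal A) (e : ι → A) (he : ∀ i, e i ∈ I)
    (hi : ∀ c : ι → A, ∑ i, c i * e i ∈ maximalIdeal A * I → ∀ i, c i ∈ maximalIdeal A) :
    Fintype.card ι ≤ I.spanFinrank := by
  let _ : Field (A ⧸ maximalIdeal A) := Ideal.Quotient.field _
  rw [← finrank_eq]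
  exact ((linearIndependent_cls I e he).2 hi).fintype_card_le_finrank

/-- `μ(I) ≤ card` for a generating family -/
theorem spanFinrank_le_card {ι : Type*} [Fintype ι] {I : Ideal A} {e : ι → A}
    (h : Ideal.span (Set.range e) = I) : I.spanFinrank ≤ Fintype.card ι := by
  classical
  rw [← h]
  refine (Submodule.spanFinrank_span_le_ncard_of_finite (Set.finite_range e)).trans ?_
  rw [← Set.image_univ]
  refine (Set.ncard_image_le Set.finite_univ).trans ?_
  simp [Set.ncard_univ, Nat.card_eq_fintype_card]

theorem MinGen.card_eq {ι : Type*} [Fintype ι] {I : Ideal A} {e : ι → A} (h : MinGen I e) :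
    Fintype.card ι = I.spanFinrank :=
  le_antisymm (card_le_of_indep I e h.mem h.indep) (spanFinrank_le_card h.span_eq)

/-- a generating family with at most `μ(I)` elements is minimal -/
theorem MinGen.of_span {ι : Type*} [Fintype ι] {I : Ideal A} {e : ι → A}
    (h : Ideal.span (Set.range e) = I) (hc : Fintype.card ι ≤ I.spanFinrank) : MinGen I e := by
  refine ⟨h, ?_⟩
  have he : ∀ i, e i ∈ I := fun i => by rw [← h]; exact Ideal.subset_span ⟨i, rfl⟩
  let _ : Field (A ⧸ maximalIdeal A) := Ideal.Quotient.field _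
  rw [← linearIndependent_cls I e he]
  refine linearIndependent_of_top_le_span_of_card_eq_finrank ?_ ?_
  · rw [span_cls]; exact le_sup_of_le_left h.ge
  · rw [finrank_eq]; exact le_antisymm hc (spanFinrank_le_card h)

/-- an independent family with at least `μ(I)` elements is a minimal generating family -/
theorem MinGen.of_indep {ι : Type*} [Fintype ι] {I : Ideal A} {e : ι → A} (he : ∀ i, e i ∈ I)
    (hi : ∀ c : ι → A, ∑ i, c i * e i ∈ maximalIdeal A * I → ∀ i, c i ∈ maximalIdeal A)
    (hc : I.spanFinrank ≤ Fintype.card ι) : MinGen I e := by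
  refine ⟨span_eq_of_le_sup I e he ?_, hi⟩
  let _ : Field (A ⧸ maximalIdeal A) := Ideal.Quotient.field _
  rw [← span_cls I e he]
  refine (((linearIndependent_cls I e he).2 hi).span_eq_top_of_card_eq_finrank' ?_).ge
  rw [finrank_eq]
  exact le_antisymm (card_le_of_indep I e he hi) hc

theorem MinGen.reindex {ι κ : Type*} [Fintype ι] [Fintype κ] {I : Ideal A} {e : ι → A}
    (h : MinGen I e) (σ : κ ≃ ι) : MinGen I (e ∘ σ) := by
  refine ⟨by rw [Set.range_comp, σ.range_eq_univ, Set.image_univ, h.span_eq], fun c hc i => ?_⟩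
  have := h.indep (c ∘ σ.symm) (by
    rw [← σ.sum_comp]; simpa using hc) (σ i)
  simpa using this

/-- an independent family extends by elements of a set `S` to a minimal generating family, if together
they generate -/
theorem exists_extend {α : Type} [Fintype α] (I : Ideal A) (e : α → A) (he : ∀ i, e i ∈ I)
    (hi : ∀ c : α → A, ∑ i, c i * e i ∈ maximalIdeal A * I → ∀ i, c i ∈ maximalIdeal A)
    (S : Set A) (hS : Ideal.span (Set.range e ∪ S) = I) :
    ∃ (β : Type) (_ : Fintype β) (s : β → A), (∀ i, s i ∈ S) ∧ MinGen I (Sum.elim e s) := by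
  classical
  induction hd : I.spanFinrank - Fintype.card α using Nat.strong_induction_on generalizing α with
  | _ d IH =>
  have hSI : ∀ a ∈ S, a ∈ I := fun a ha => by
    rw [← hS]; exact Ideal.subset_span (Or.inr ha)
  by_cases hall : ∀ a ∈ S, a ∈ Ideal.span (Set.range e) ⊔ maximalIdeal A * I
  · refine ⟨Empty, inferInstance, Empty.elim, fun i => i.elim, ?_⟩
    have h1 : MinGen I e := by
      refine ⟨span_eq_of_le_sup I e he ?_, hi⟩
      conv_lhs => rw [← hS]
      rw [Ideal.span_le]
      rintro a (ha | ha)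
      · exact Ideal.mem_sup_left (Ideal.subset_span ha)
      · exact hall a ha
    have := h1.reindex (Equiv.sumEmpty α Empty)
    convert this using 1
    funext i
    rcases i with i | i
    · rfl
    · exact i.elim
  · push Not at hall
    obtain ⟨a, haS, ha⟩ := hall
    have hi' : ∀ c : α ⊕ Unit → A, ∑ i, c i * (Sum.elim e (fun _ => a) : α ⊕ Unit → A) i ∈
        maximalIdeal A * I → ∀ i, c i ∈ maximalIdeal A := by
      intro c hc
      simp only [Fintype.sum_sum_type, Sum.elim_inl, Sum.elim_inr, Finset.univ_unique,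
        Finset.sum_singleton] at hc
      have h1 : c (Sum.inr ()) ∈ maximalIdeal A := by
        by_contra hcu
        have hu : IsUnit (c (Sum.inr ())) := by
          simpa [IsLocalRing.mem_maximalIdeal] using hcu
        apply ha
        obtain ⟨v, hv⟩ := hu.exists_left_inv
        have : a = v * (∑ i, c (Sum.inl i) * e i + c (Sum.inr ()) * a) -
            ∑ i, (v * c (Sum.inl i)) * e i := by
          rw [mul_add, Finset.mul_sum]
          simp only [mul_assoc]
          rw [add_sub_cancel_left, ← mul_assoc, hv, one_mul]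
        rw [this]
        refine Ideal.sub_mem _ (Ideal.mem_sup_right (Ideal.mul_mem_left _ _ hc)) ?_
        exact Ideal.mem_sup_left (Ideal.sum_mem _ fun i _ =>
          Ideal.mul_mem_left _ _ (Ideal.subset_span ⟨i, rfl⟩))
      have h2 : ∑ i, c (Sum.inl i) * e i ∈ maximalIdeal A * I := by
        have h3 : c (Sum.inr ()) * a ∈ maximalIdeal A * I := Ideal.mul_mem_mul h1 (hSI a haS)
        simpa using Ideal.sub_mem _ hc h3
      rintro (i | i)
      · exact hi _ h2 i
      · exact h1
    have he' : ∀ i, (Sum.elim e (fun _ => a) : α ⊕ Unit → A) i ∈ I := by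
      rintro (i | i)
      · exact he i
      · exact hSI a haS
    have hcard := card_le_of_indep I _ he' hi'
    simp only [Fintype.card_sum, Fintype.card_unit] at hcard
    obtain ⟨β, _, s, hs, hmin⟩ := IH (I.spanFinrank - Fintype.card (α ⊕ Unit))
      (by rw [Fintype.card_sum, Fintype.card_unit]; omega) (Sum.elim e (fun _ => a)) he' hi' (by
        apply le_antisymm
        · rw [Ideal.span_le]
          rintro x (⟨i, rfl⟩ | hx)
          · exact he' i
          · exact hSI x hx
        · conv_lhs => rw [← hS]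
          refine Ideal.span_mono ?_
          rintro x (⟨i, rfl⟩ | hx)
          · exact Or.inl ⟨Sum.inl i, rfl⟩
          · exact Or.inr hx) rfl
    refine ⟨Unit ⊕ β, inferInstance, Sum.elim (fun _ => a) s, ?_, ?_⟩
    · rintro (i | i)
      · exact haS
      · exact hs i
    · have := hmin.reindex (Equiv.sumAssoc α Unit β).symm
      convert this using 1
      funext i
      rcases i with i | i | i <;> rfl

end MinGen

/-- The class `R(n)`: `μ(m^k) = n k + 1` for all `k`, and `m²` is integrally closed. -/
structure RatLike (A : Type*) [CommRing A] [IsLocalRing A] (n : ℕ) : Prop where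
  hilb : ∀ k : ℕ, (maximalIdeal A ^ k).spanFinrank = n * k + 1
  ic : ∀ (z : A) (J : Ideal A), J ≠ ⊥ → (∀ w ∈ J, z * w ∈ maximalIdeal A ^ 2 * J) →
    z ∈ maximalIdeal A ^ 2

/-- `B` is a quadratic transform of the local ring `A` with exceptional parameter `t`: the localisation of
`A[m/t]` at a maximal ideal over `m`. -/
structure QT (A B : Type*) [CommRing A] [IsLocalRing A] [CommRing B] [IsLocalRing B] [Algebra A B]
    (t : A) : Prop where
  mem : t ∈ maximalIdeal A
  reg : ∀ b : B, algebraMap A B t * b = 0 → b = 0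
  loc : ∀ a ∈ maximalIdeal A, algebraMap A B a ∈ maximalIdeal B
  dvd : ∀ a ∈ maximalIdeal A, algebraMap A B t ∣ algebraMap A B a
  frac : ∀ b : B, ∃ u ∈ Algebra.adjoin A {y : B | ∃ a ∈ maximalIdeal A, algebraMap A B t * y = algebraMap A B a},
    ∃ v ∈ Algebra.adjoin A {y : B | ∃ a ∈ maximalIdeal A, algebraMap A B t * y = algebraMap A B a},
      IsUnit v ∧ b * v = u
  int : ∀ b : B, ∃ p : Polynomial A, p.Monic ∧ Polynomial.aeval b p ∈ maximalIdeal B

/-- the residue field extension of `A → B` is trivial -/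
def Rational (A B : Type*) [CommRing A] [CommRing B] [IsLocalRing B] [Algebra A B] : Prop :=
  ∀ b : B, ∃ a : A, b - algebraMap A B a ∈ maximalIdeal B

/-- fat line (`n = r + 1`): `m = (x, y, w_1, …, w_r)` with all `w_i w_j ∈ m³` -/
def Fat (A : Type*) [CommRing A] [IsLocalRing A] (r : ℕ) : Prop :=
  ∃ (x y : A) (w : Fin r → A), Ideal.span (Set.range (Sum.elim ![x, y] w)) = maximalIdeal A ∧
    ∀ i j, w i * w j ∈ maximalIdeal A ^ 3

/-- Cubic data of a double point with exceptional parameter `t`: `m = (t, w, z)`, `z² = t l`,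
`l = e₀ t² + e₁ t w + e₂ w² + z μ + ν` with `μ ∈ m`, `ν ∈ m³`. -/
structure FS (B : Type*) [CommRing B] [IsLocalRing B] (t w z l e₀ e₁ e₂ : B) : Prop where
  span_eq : Ideal.span {t, w, z} = maximalIdeal B
  sq : z ^ 2 = t * l
  expand : ∃ μ ∈ maximalIdeal B, ∃ ν ∈ maximalIdeal B ^ 3,
    l = e₀ * t ^ 2 + e₁ * t * w + e₂ * w ^ 2 + z * μ + ν

end Groth.Agent.Lipman.Term
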