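import Mathlib.RingTheory.Valuation.LocalSubring
import Mathlib.RingTheory.Localization.Integral
import Mathlib.RingTheory.Localization.Away.Basic

/-!
# Quasi-compactness and affine Cousin data in the language of valuation subrings

`K` a field, `A : Subring K`; "points" are the valuation subrings `V` of `K` with `A ≤ V`.

* `isIntegral_iff_forall_mem`: an element lies in all `V` above `A` iff it is integral over `A`.
* `exists_pow_mul_mem`: if `x` lies in all `V` above `A` containing `g⁻¹`, then for some `N`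
  the element `g ^ N * x` lies in all `V` above `A`.
* `exists_global_of_basic_cover`: a Cousin datum which is constant on a basic open cover of an affine
  model is constant.
* `exists_tuple_of_finite_cover`: a Cousin datum which is constant on a finite cover by sets
  `{V | S l ⊆ V}` is chart-constant for some tuple.
-/

set_option autoImplicit false
universe u v w

open IsLocalRing

namespace Groth.Agent.Lipman.QC

variable {K : Type u} [Field K]

/-- An element of `K` lies in all valuation subrings above `A` iff it is integral over `A`. -/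
theorem isIntegral_iff_forall_mem (A : Subring K) (x : K) :
    IsIntegral A x ↔ ∀ V : ValuationSubring K, A ≤ V.toSubring → x ∈ V := by
  have h := iInf_valuationSubring_superset (K := K) (s := (A : Set K))
  have hx : x ∈ (⨅ V : {V : ValuationSubring K // (A : Set K) ⊆ V.toSubring}, V.1.toSubring) ↔
      ∀ V : ValuationSubring K, A ≤ V.toSubring → x ∈ V := by
    simp only [Subring.mem_iInf, Subtype.forall]
    rfl
  rw [← hx, h]
  change _ ↔ IsIntegral (Subring.closure (A : Set K)) x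
  rw [Subring.closure_eq]

/-- If `x` lies in all valuation subrings above `A` containing `g⁻¹`, then a multiple
`g ^ N * x` is integral over `A`. -/
theorem exists_pow_mul_isIntegral (A : Subring K) {g x : K} (hg : g ∈ A) (hg0 : g ≠ 0)
    (hx : ∀ V : ValuationSubring K, A ≤ V.toSubring → g⁻¹ ∈ V → x ∈ V) :
    ∃ N : ℕ, IsIntegral A (g ^ N * x) := by
  have hu : IsUnit (A.subtype ⟨g, hg⟩) := hg0.isUnit
  let B := Localization.Away (⟨g, hg⟩ : A)
  let φ : B →+* K := IsLocalization.Away.lift (⟨g, hg⟩ : A) hu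
  have hφ : ∀ a : A, φ (algebraMap A B a) = (a : K) := fun a ↦
    IsLocalization.Away.lift_eq (⟨g, hg⟩ : A) hu a
  have h1 : IsIntegral φ.range x := by
    rw [isIntegral_iff_forall_mem]
    intro V hV
    refine hx V ?_ ?_
    · intro a ha
      exact hV ⟨algebraMap A B ⟨a, ha⟩, hφ _⟩
    · refine hV ⟨IsLocalization.Away.invSelf (⟨g, hg⟩ : A), ?_⟩
      have h := congrArg φ (IsLocalization.Away.mul_invSelf (S := B) (⟨g, hg⟩ : A))
      rw [map_mul, hφ, map_one] at h
      exact eq_inv_of_mul_eq_one_right h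
  let _ : Algebra B K := φ.toAlgebra
  let _ : Algebra B φ.range := φ.rangeRestrict.toAlgebra
  have : IsScalarTower B φ.range K := IsScalarTower.of_algebraMap_eq fun _ ↦ rfl
  have : IsScalarTower A B K := IsScalarTower.of_algebraMap_eq fun a ↦ (hφ a).symm
  have : Algebra.IsIntegral B φ.range :=
    ⟨fun y ↦ by obtain ⟨b, rfl⟩ := φ.rangeRestrict_surjective y; exact isIntegral_algebraMap⟩
  have h2 : IsIntegral B x := isIntegral_trans x h1
  obtain ⟨⟨m, N, hm⟩, hN⟩ := IsIntegral.exists_multiple_integral_of_isLocalization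
    (Submonoid.powers (⟨g, hg⟩ : A)) x h2
  refine ⟨N, ?_⟩
  have h3 : m • x = g ^ N * x := by
    rw [← hm]; rfl
  rw [← h3]
  exact hN

/-- If `x` lies in all valuation subrings above `A` containing `g⁻¹`, then a multiple
`g ^ N * x` lies in all valuation subrings above `A`. -/
theorem exists_pow_mul_mem (A : Subring K) {g x : K} (hg : g ∈ A) (hg0 : g ≠ 0)
    (hx : ∀ V : ValuationSubring K, A ≤ V.toSubring → g⁻¹ ∈ V → x ∈ V) :
    ∃ N : ℕ, ∀ V : ValuationSubring K, A ≤ V.toSubring → g ^ N * x ∈ V := by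
  obtain ⟨N, hN⟩ := exists_pow_mul_isIntegral A hg hg0 hx
  exact ⟨N, (isIntegral_iff_forall_mem A _).1 hN⟩

/-- If every valuation subring above `A` inverts one of the `g i`, then the `g i` generate the unit
ideal. -/
theorem exists_sum_eq_one (A : Subring K) {ι : Type w} [Fintype ι] (g : ι → K) (hg : ∀ i, g i ∈ A)
    (hcov : ∀ V : ValuationSubring K, A ≤ V.toSubring → ∃ i, g i ≠ 0 ∧ (g i)⁻¹ ∈ V) (N : ℕ) :
    ∃ a : ι → K, (∀ i, a i ∈ A) ∧ ∑ i, a i * g i ^ N = 1 := by
  classical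
  let I : Ideal A := Ideal.span (Set.range fun i ↦ (⟨g i, hg i⟩ : A) ^ N)
  have hI : I = ⊤ := by
    by_contra hne
    obtain ⟨V, hV, hsub⟩ := Ideal.image_subset_nonunits_valuationSubring I hne
    obtain ⟨i, hi0, hi⟩ := hcov V hV
    have h1 : (g i) ^ N ∈ V.nonunits :=
      hsub ⟨(⟨g i, hg i⟩ : A) ^ N, Ideal.subset_span ⟨i, rfl⟩, rfl⟩
    rw [ValuationSubring.mem_nonunits_iff_or] at h1
    rcases h1 with h1 | h1
    · exact pow_ne_zero N hi0 h1
    · exact h1 (by rw [← inv_pow]; exact pow_mem hi N)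
  have h1 : (1 : A) ∈ Ideal.span (Set.range fun i ↦ (⟨g i, hg i⟩ : A) ^ N) := by
    change (1 : A) ∈ I
    rw [hI]; trivial
  obtain ⟨a, ha⟩ := (Submodule.mem_span_range_iff_exists_fun A).1 h1
  refine ⟨fun i ↦ a i, fun i ↦ (a i).2, ?_⟩
  have h2 := congrArg A.subtype ha
  simpa using h2

/-- **Affine Cousin vanishing.** A function `φ` on valuation subrings above `A` with values in `K`
which is constant modulo `V` on each member of a basic open cover is constant modulo `V`. -/
theorem exists_global_of_basic_cover (A : Subring K) {ι : Type w} [Finite ι] (g : ι → K)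
    (hg : ∀ i, g i ∈ A)
    (hcov : ∀ V : ValuationSubring K, A ≤ V.toSubring → ∃ i, g i ≠ 0 ∧ (g i)⁻¹ ∈ V)
    (φ : ValuationSubring K → K) (f : ι → K)
    (hφ : ∀ i, g i ≠ 0 → ∀ V : ValuationSubring K, A ≤ V.toSubring → (g i)⁻¹ ∈ V → φ V - f i ∈ V) :
    ∃ F : K, ∀ V : ValuationSubring K, A ≤ V.toSubring → φ V - F ∈ V := by
  classical
  cases nonempty_fintype ι
  have hN : ∀ i j : ι, ∃ N : ℕ, ∀ V : ValuationSubring K, A ≤ V.toSubring →
      (g i * g j) ^ N * (f i - f j) ∈ V := by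
    intro i j
    by_cases h0 : g i * g j = 0
    · refine ⟨1, fun V _ ↦ ?_⟩
      rw [h0, pow_one, zero_mul]
      exact V.zero_mem
    · have hi0 : g i ≠ 0 := left_ne_zero_of_mul h0
      have hj0 : g j ≠ 0 := right_ne_zero_of_mul h0
      refine exists_pow_mul_mem A (A.mul_mem (hg i) (hg j)) h0 fun V hV hinv ↦ ?_
      have h1 : (g i)⁻¹ ∈ V := by
        have : (g i)⁻¹ = g j * (g i * g j)⁻¹ := by field_simp
        rw [this]
        exact V.mul_mem _ _ (hV (hg j)) hinv
      have h2 : (g j)⁻¹ ∈ V := by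
        have : (g j)⁻¹ = g i * (g i * g j)⁻¹ := by field_simp
        rw [this]
        exact V.mul_mem _ _ (hV (hg i)) hinv
      have h3 : f i - f j = (φ V - f j) - (φ V - f i) := by ring
      rw [h3]
      exact sub_mem (hφ j hj0 V hV h2) (hφ i hi0 V hV h1)
  choose n hn using hN
  let N := ∑ i, ∑ j, n i j
  have hle : ∀ i j, n i j ≤ N := fun i j ↦
    (Finset.single_le_sum (f := fun j ↦ n i j) (fun _ _ ↦ Nat.zero_le _) (Finset.mem_univ j)).trans
      (Finset.single_le_sum (f := fun i ↦ ∑ j, n i j) (fun _ _ ↦ Nat.zero_le _) (Finset.mem_univ i))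
  obtain ⟨a, haA, ha⟩ := exists_sum_eq_one A g hg hcov N
  refine ⟨∑ i, a i * g i ^ N * f i, fun V hV ↦ ?_⟩
  obtain ⟨j, hj0, hj⟩ := hcov V hV
  have h1 : φ V - ∑ i, a i * g i ^ N * f i =
      (φ V - f j) - ∑ i, a i * (((g j)⁻¹) ^ N * ((g i * g j) ^ (N - n i j) *
        ((g i * g j) ^ (n i j) * (f i - f j)))) := by
    have h2 : ∀ i, a i * (((g j)⁻¹) ^ N * ((g i * g j) ^ (N - n i j) *
        ((g i * g j) ^ (n i j) * (f i - f j)))) = a i * g i ^ N * f i - a i * g i ^ N * f j := by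
      intro i
      have h3 : (g i * g j) ^ (N - n i j) * ((g i * g j) ^ (n i j) * (f i - f j)) =
          (g i * g j) ^ N * (f i - f j) := by
        rw [← mul_assoc, ← pow_add, Nat.sub_add_cancel (hle i j)]
      rw [h3, mul_pow, inv_pow]
      have h4 : g j ^ N ≠ 0 := pow_ne_zero _ hj0
      field_simp
    rw [Finset.sum_congr rfl fun i _ ↦ h2 i, Finset.sum_sub_distrib, ← Finset.sum_mul, ha]
    ring
  rw [h1]
  refine sub_mem (hφ j hj0 V hV hj) (sum_mem fun i _ ↦ ?_)
  refine V.mul_mem _ _ (hV (haA i)) (V.mul_mem _ _ (pow_mem hj N) (V.mul_mem _ _ ?_ (hn i j V hV)))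
  exact pow_mem (V.mul_mem _ _ (hV (hg i)) (hV (hg j))) _

/-- Every prime ideal of a subring `A` of `K` is the centre of some valuation subring. -/
theorem exists_centre (A : Subring K) (P : Ideal A) [hP : P.IsPrime] :
    ∃ V : ValuationSubring K, A ≤ V.toSubring ∧ ∀ a : A, a ∈ P ↔ (a : K) ∈ V.nonunits := by
  obtain ⟨V, hV⟩ := (LocalSubring.ofPrime A P).exists_le_valuationSubring
  have hle : A ≤ V.toSubring := (LocalSubring.le_ofPrime A P).trans hV.1
  refine ⟨V, hle, fun a ↦ ?_⟩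
  obtain ⟨h1, h2⟩ := hV
  have key : a ∈ P ↔ ¬ IsUnit (algebraMap A (LocalSubring.ofPrime A P).toSubring a) := by
    rw [← IsLocalization.AtPrime.to_map_mem_maximal_iff (LocalSubring.ofPrime A P).toSubring P a]
    exact mem_maximalIdeal _
  have h3 : IsUnit (algebraMap A (LocalSubring.ofPrime A P).toSubring a) ↔
      IsUnit (⟨(a : K), hle a.2⟩ : V) := by
    refine ⟨fun h ↦ h.map (Subring.inclusion h1), fun h ↦ h2.1 _ h⟩
  rw [key, h3]
  exact (ValuationSubring.coe_mem_nonunits_iff (A := V) (a := ⟨(a : K), hle a.2⟩)).symm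

/-! ### Tuples and charts -/

/-- `V` belongs to the `i`-th chart of the projective model defined by the tuple `c`. -/
def InChart {ι : Type v} (c : ι → K) (i : ι) (V : ValuationSubring K) : Prop :=
  c i ≠ 0 ∧ ∀ j, c j / c i ∈ V

/-- The ring of the `i`-th chart. -/
def chartRing (R : Subring K) {ι : Type v} (c : ι → K) (i : ι) : Subring K :=
  Subring.closure ((R : Set K) ∪ Set.range fun j ↦ c j / c i)

lemma le_chartRing (R : Subring K) {ι : Type v} (c : ι → K) (i : ι) : R ≤ chartRing R c i :=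
  fun _ hx ↦ Subring.subset_closure (Or.inl hx)

lemma div_mem_chartRing (R : Subring K) {ι : Type v} (c : ι → K) (i j : ι) :
    c j / c i ∈ chartRing R c i :=
  Subring.subset_closure (Or.inr ⟨j, rfl⟩)

lemma chartRing_le_iff (R : Subring K) {ι : Type v} (c : ι → K) (i : ι) (S : Subring K) :
    chartRing R c i ≤ S ↔ R ≤ S ∧ ∀ j, c j / c i ∈ S := by
  rw [chartRing, Subring.closure_le, Set.union_subset_iff]
  refine and_congr Iff.rfl ?_
  rw [Set.range_subset_iff]
  rfl

lemma chartRing_le_iff_inChart (R : Subring K) {ι : Type v} (c : ι → K) (i : ι) (hi : c i ≠ 0)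
    (V : ValuationSubring K) :
    chartRing R c i ≤ V.toSubring ↔ R ≤ V.toSubring ∧ InChart c i V := by
  rw [chartRing_le_iff]
  exact ⟨fun h ↦ ⟨h.1, hi, h.2⟩, fun h ↦ ⟨h.1, h.2.2⟩⟩

/-- Every `V` belongs to some chart. -/
theorem exists_inChart {ι : Type v} [Finite ι] (c : ι → K) (hc : ∃ i, c i ≠ 0)
    (V : ValuationSubring K) : ∃ i, InChart c i V := by
  classical
  cases nonempty_fintype ι
  obtain ⟨i0, hi0⟩ := hc
  obtain ⟨i, -, hi⟩ := Finset.exists_max_image Finset.univ (fun i ↦ V.valuation (c i))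
    ⟨i0, Finset.mem_univ i0⟩
  have h0 : V.valuation (c i) ≠ 0 := by
    intro h
    have h1 := hi i0 (Finset.mem_univ _)
    rw [h] at h1
    exact (V.valuation.ne_zero_iff.2 hi0) (le_zero_iff.1 h1)
  refine ⟨i, V.valuation.ne_zero_iff.1 h0, fun j ↦ ?_⟩
  rw [← V.valuation_le_one_iff, map_div₀]
  exact div_le_one_of_le₀ (hi j (Finset.mem_univ _)) zero_le

/-- Charts of a product tuple. -/
theorem inChart_mul_iff {ι : Type v} {κ : Type w} (c : ι → K) (d : κ → K) (i : ι) (k : κ)
    (V : ValuationSubring K) :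
    InChart (fun p : ι × κ ↦ c p.1 * d p.2) (i, k) V ↔ InChart c i V ∧ InChart d k V := by
  constructor
  · rintro ⟨h0, h⟩
    have hc0 : c i ≠ 0 := left_ne_zero_of_mul h0
    have hd0 : d k ≠ 0 := right_ne_zero_of_mul h0
    refine ⟨⟨hc0, fun j ↦ ?_⟩, ⟨hd0, fun j ↦ ?_⟩⟩
    · have h1 := h (j, k)
      simp only at h1
      rwa [mul_div_mul_right _ _ hd0] at h1
    · have h1 := h (i, j)
      simp only at h1
      rwa [mul_div_mul_left _ _ hc0] at h1
  · rintro ⟨⟨hc0, hc⟩, ⟨hd0, hd⟩⟩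
    refine ⟨mul_ne_zero hc0 hd0, fun j ↦ ?_⟩
    simp only
    rw [mul_div_mul_comm]
    exact V.mul_mem _ _ (hc _) (hd _)

/-- Charts of a finite product of tuples. -/
theorem inChart_prod_iff {L : Type w} [Fintype L] {ι : L → Type v} (c : ∀ l, ι l → K)
    (p : ∀ l, ι l) (V : ValuationSubring K) :
    InChart (fun p : ∀ l, ι l ↦ ∏ l, c l (p l)) p V ↔ ∀ l, InChart (c l) (p l) V := by
  classical
  constructor
  · rintro ⟨h0, h⟩ l
    have hc0 : ∀ l, c l (p l) ≠ 0 := fun l ↦ Finset.prod_ne_zero_iff.1 h0 l (Finset.mem_univ l)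
    refine ⟨hc0 l, fun j ↦ ?_⟩
    have h1 := h (Function.update p l j)
    simp only at h1
    rw [← Finset.prod_div_distrib, Finset.prod_eq_single l] at h1
    · rwa [Function.update_self] at h1
    · intro m _ hm
      rw [Function.update_of_ne hm, div_self (hc0 m)]
    · intro h; exact absurd (Finset.mem_univ l) h
  · intro h
    refine ⟨Finset.prod_ne_zero_iff.2 fun l _ ↦ (h l).1, fun j ↦ ?_⟩
    simp only
    rw [← Finset.prod_div_distrib]
    exact prod_mem fun l _ ↦ (h l).2 _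

/-- `φ` is constant modulo `V` on each chart of the tuple `c` (over `R`). -/
def IsConstOn (R : Subring K) {ι : Type v} (c : ι → K) (φ : ValuationSubring K → K) : Prop :=
  ∀ i, c i ≠ 0 → ∃ F : K, ∀ V : ValuationSubring K, R ≤ V.toSubring → InChart c i V → φ V - F ∈ V

theorem IsConstOn.of_refine {R : Subring K} {ι : Type v} {κ : Type w} {c : ι → K} {d : κ → K}
    {φ : ValuationSubring K → K} (h : IsConstOn R c φ)
    (hr : ∀ k, d k ≠ 0 → ∃ i, c i ≠ 0 ∧
      ∀ V : ValuationSubring K, R ≤ V.toSubring → InChart d k V → InChart c i V) :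
    IsConstOn R d φ := by
  intro k hk
  obtain ⟨i, hi, hik⟩ := hr k hk
  obtain ⟨F, hF⟩ := h i hi
  exact ⟨F, fun V hV hkV ↦ hF V hV (hik V hV hkV)⟩

theorem IsConstOn.mul_right {R : Subring K} {ι : Type v} {κ : Type w} {c : ι → K} (d : κ → K)
    {φ : ValuationSubring K → K} (h : IsConstOn R c φ) :
    IsConstOn R (fun p : ι × κ ↦ c p.1 * d p.2) φ :=
  h.of_refine fun p hp ↦ ⟨p.1, left_ne_zero_of_mul hp, fun V _ hV ↦
    ((inChart_mul_iff c d p.1 p.2 V).1 hV).1⟩

theorem IsConstOn.mul_left {R : Subring K} {ι : Type v} {κ : Type w} (c : ι → K) {d : κ → K}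
    {φ : ValuationSubring K → K} (h : IsConstOn R d φ) :
    IsConstOn R (fun p : ι × κ ↦ c p.1 * d p.2) φ :=
  h.of_refine fun p hp ↦ ⟨p.2, right_ne_zero_of_mul hp, fun V _ hV ↦
    ((inChart_mul_iff c d p.1 p.2 V).1 hV).2⟩

theorem IsConstOn.comp_equiv {R : Subring K} {ι : Type v} {κ : Type w} {c : ι → K}
    {φ : ValuationSubring K → K} (h : IsConstOn R c φ) (e : κ ≃ ι) :
    IsConstOn R (c ∘ e) φ :=
  h.of_refine fun k hk ↦ ⟨e k, hk, fun V _ hV ↦ ⟨hV.1, fun j ↦ by
    have := hV.2 (e.symm j)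
    simpa using this⟩⟩

theorem IsConstOn.add {R : Subring K} {ι : Type v} {c : ι → K} {φ ψ : ValuationSubring K → K}
    (hφ : IsConstOn R c φ) (hψ : IsConstOn R c ψ) : IsConstOn R c (φ + ψ) := by
  intro i hi
  obtain ⟨F, hF⟩ := hφ i hi
  obtain ⟨G, hG⟩ := hψ i hi
  refine ⟨F + G, fun V hV hiV ↦ ?_⟩
  have : (φ + ψ) V - (F + G) = (φ V - F) + (ψ V - G) := by simp; ring
  rw [this]
  exact V.add_mem _ _ (hF V hV hiV) (hG V hV hiV)

theorem IsConstOn.neg {R : Subring K} {ι : Type v} {c : ι → K} {φ : ValuationSubring K → K}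
    (hφ : IsConstOn R c φ) : IsConstOn R c (-φ) := by
  intro i hi
  obtain ⟨F, hF⟩ := hφ i hi
  refine ⟨-F, fun V hV hiV ↦ ?_⟩
  have : (-φ) V - (-F) = -(φ V - F) := by simp; ring
  rw [this]
  exact V.neg_mem _ (hF V hV hiV)

/-- **QC lemma, finite form**: a Cousin datum constant on a finite cover of the space of valuation
subrings above `R` by sets `{V | S l ⊆ V}` is chart-constant for some tuple. -/
theorem exists_tuple_of_finite_cover (R : Subring K) {L : Type w} [Finite L] (S : L → Finset K)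
    (f : L → K) (φ : ValuationSubring K → K)
    (hcov : ∀ V : ValuationSubring K, R ≤ V.toSubring → ∃ l, ∀ s ∈ S l, s ∈ V)
    (hφ : ∀ l, ∀ V : ValuationSubring K, R ≤ V.toSubring → (∀ s ∈ S l, s ∈ V) → φ V - f l ∈ V) :
    ∃ (n : ℕ) (c : Fin n → K), (∃ i, c i ≠ 0) ∧ IsConstOn R c φ := by
  classical
  cases nonempty_fintype L
  let ι : L → Type u := fun l ↦ Option (S l)
  let c0 : ∀ l, ι l → K := fun l o ↦ o.elim 1 fun s ↦ (s : K)
  let c : (∀ l, ι l) → K := fun p ↦ ∏ l, c0 l (p l)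
  have hconst : IsConstOn R c φ := by
    intro p hp
    have hc0 : ∀ l, c0 l (p l) ≠ 0 := fun l ↦ Finset.prod_ne_zero_iff.1 hp l (Finset.mem_univ l)
    let g : L → K := fun l ↦ (c0 l (p l))⁻¹
    have hinv : ∀ l, (g l)⁻¹ = c0 l (p l) := fun l ↦ inv_inv _
    have key : ∀ V : ValuationSubring K, R ≤ V.toSubring → InChart c p V →
        ∀ l, ((∀ s ∈ S l, s ∈ V) ↔ c0 l (p l) ∈ V) := by
      intro V hV hpV l
      have hl := (inChart_prod_iff c0 p V).1 hpV l
      constructor
      · intro h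
        rcases hpl : p l with _ | s
        · exact V.one_mem
        · exact h s.1 s.2
      · intro h s hs
        have h1 := hl.2 (some ⟨s, hs⟩)
        have h2 : s = (c0 l (some ⟨s, hs⟩) / c0 l (p l)) * c0 l (p l) := by
          rw [div_mul_cancel₀ _ (hc0 l)]; rfl
        rw [h2]
        exact V.mul_mem _ _ h1 h
    obtain ⟨F, hF⟩ := exists_global_of_basic_cover (chartRing R c p) g
      (fun l ↦ by
        have h1 : g l = c (Function.update p l none) / c p := by
          simp only [c, g]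
          rw [← Finset.prod_div_distrib, Finset.prod_eq_single l]
          · rw [Function.update_self, show c0 l none = 1 from rfl, one_div]
          · intro m _ hm
            rw [Function.update_of_ne hm, div_self (hc0 m)]
          · intro h; exact absurd (Finset.mem_univ l) h
        rw [h1]
        exact div_mem_chartRing R c p _)
      (fun V hV ↦ by
        obtain ⟨hV1, hV2⟩ := (chartRing_le_iff_inChart R c p hp V).1 hV
        obtain ⟨l, hl⟩ := hcov V hV1
        exact ⟨l, inv_ne_zero (hc0 l), by rw [hinv]; exact (key V hV1 hV2 l).1 hl⟩)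
      φ f
      (fun l _ V hV hl ↦ by
        obtain ⟨hV1, hV2⟩ := (chartRing_le_iff_inChart R c p hp V).1 hV
        rw [hinv] at hl
        exact hφ l V hV1 ((key V hV1 hV2 l).2 hl))
    exact ⟨F, fun V hV hpV ↦ hF V ((chartRing_le_iff_inChart R c p hp V).2 ⟨hV, hpV⟩)⟩
  obtain ⟨n, ⟨e⟩⟩ := Finite.exists_equiv_fin (∀ l, ι l)
  refine ⟨n, c ∘ e.symm, ⟨e fun _ ↦ none, ?_⟩, hconst.comp_equiv e.symm⟩
  simp [c, c0]

/-- **Quasi-compactness of the space of valuation subrings above `R`.** -/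
theorem exists_finite_subcover (R : Subring K) {L : Type w} (S : L → Finset K)
    (hcov : ∀ V : ValuationSubring K, R ≤ V.toSubring → ∃ l, ∀ s ∈ S l, s ∈ V) :
    ∃ T : Finset L, ∀ V : ValuationSubring K, R ≤ V.toSubring → ∃ l ∈ T, ∀ s ∈ S l, s ∈ V := by
  classical
  by_contra hcon
  push Not at hcon
  let C : L → Set (ValuationSubring K) := fun l ↦ {V | R ≤ V.toSubring ∧ ∃ s ∈ S l, s ∉ V}
  obtain ⟨𝒰, h𝒰⟩ := Ultrafilter.exists_ultrafilter_of_finite_inter_nonempty (Set.range C) (by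
    intro T hT
    obtain ⟨T', -, hT'⟩ : ∃ T' : Finset L, (T' : Set L) ⊆ Set.univ ∧ T'.image C = T := by
      rw [← Finset.subset_set_image_iff, Set.image_univ]
      exact hT
    obtain ⟨V, hV, hVT⟩ := hcon T'
    refine ⟨V, ?_⟩
    rw [Set.mem_sInter]
    intro t ht
    rw [← hT', Finset.coe_image] at ht
    obtain ⟨l, hl, rfl⟩ := ht
    exact ⟨hV, hVT l hl⟩)
  have hC : ∀ l, ∀ᶠ V in (𝒰 : Filter (ValuationSubring K)), V ∈ C l := fun l ↦ h𝒰 ⟨l, rfl⟩
  obtain ⟨l0, -⟩ := hcov ⊤ (fun _ _ ↦ trivial)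
  have hR : ∀ᶠ V in (𝒰 : Filter (ValuationSubring K)), R ≤ V.toSubring :=
    (hC l0).mono fun V hV ↦ hV.1
  let W : ValuationSubring K :=
    { carrier := {x | ∀ᶠ V in (𝒰 : Filter (ValuationSubring K)), x ∈ V}
      mul_mem' := fun {a b} ha hb ↦ by
        filter_upwards [ha, hb] with V h1 h2 using V.mul_mem _ _ h1 h2
      one_mem' := Filter.Eventually.of_forall fun V ↦ V.one_mem
      add_mem' := fun {a b} ha hb ↦ by
        filter_upwards [ha, hb] with V h1 h2 using V.add_mem _ _ h1 h2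
      zero_mem' := Filter.Eventually.of_forall fun V ↦ V.zero_mem
      neg_mem' := fun {a} ha ↦ by
        filter_upwards [ha] with V h1 using V.neg_mem _ h1
      mem_or_inv_mem' := fun x ↦ by
        change (∀ᶠ V in (𝒰 : Filter (ValuationSubring K)), x ∈ V) ∨
          (∀ᶠ V in (𝒰 : Filter (ValuationSubring K)), x⁻¹ ∈ V)
        rw [← Ultrafilter.eventually_or]
        exact Filter.Eventually.of_forall fun V ↦ V.mem_or_inv_mem x }
  have hmemW : ∀ x, x ∈ W ↔ ∀ᶠ V in (𝒰 : Filter (ValuationSubring K)), x ∈ V := fun _ ↦ Iff.rfl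
  obtain ⟨l, hl⟩ := hcov W (fun x hx ↦ hR.mono fun V hV ↦ hV hx)
  have h1 : ∀ᶠ V in (𝒰 : Filter (ValuationSubring K)), ∀ s ∈ S l, s ∈ V := by
    rw [Filter.eventually_all_finset]
    exact fun s hs ↦ (hmemW s).1 (hl s hs)
  obtain ⟨V, h2, h3⟩ := (h1.and (hC l)).exists
  obtain ⟨s, hs, hsV⟩ := h3.2
  exact hsV (h2 s hs)

/-- **QC lemma**: a locally constant Cousin datum on the space of valuation subrings above `R` is
chart-constant for some tuple. -/
theorem exists_tuple_of_locally_const (R : Subring K) (φ : ValuationSubring K → K)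
    (hφ : ∀ V : ValuationSubring K, R ≤ V.toSubring → ∃ (S : Finset K) (f : K), (∀ s ∈ S, s ∈ V) ∧
      ∀ W : ValuationSubring K, R ≤ W.toSubring → (∀ s ∈ S, s ∈ W) → φ W - f ∈ W) :
    ∃ (n : ℕ) (c : Fin n → K), (∃ i, c i ≠ 0) ∧ IsConstOn R c φ := by
  classical
  choose S f hS hf using hφ
  obtain ⟨T, hT⟩ := exists_finite_subcover R
    (L := {V : ValuationSubring K // R ≤ V.toSubring}) (fun V ↦ S V.1 V.2)
    (fun V hV ↦ ⟨⟨V, hV⟩, hS V hV⟩)
  refine exists_tuple_of_finite_cover R (L := T) (fun V ↦ S V.1.1 V.1.2) (fun V ↦ f V.1.1 V.1.2) φ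
    (fun V hV ↦ ?_) (fun V ↦ hf V.1.1 V.1.2)
  obtain ⟨W, hW, h⟩ := hT V hV
  exact ⟨⟨W, hW⟩, h⟩

/-- A chart-constant Cousin datum is locally constant. -/
theorem IsConstOn.locally_const {R : Subring K} {ι : Type v} [Finite ι] {c : ι → K}
    {φ : ValuationSubring K → K} (h : IsConstOn R c φ) (hc : ∃ i, c i ≠ 0)
    (V : ValuationSubring K) : ∃ (S : Finset K) (f : K), (∀ s ∈ S, s ∈ V) ∧
      ∀ W : ValuationSubring K, R ≤ W.toSubring → (∀ s ∈ S, s ∈ W) → φ W - f ∈ W := by
  classical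
  cases nonempty_fintype ι
  obtain ⟨i, hi, hiV⟩ := exists_inChart c hc V
  obtain ⟨F, hF⟩ := h i hi
  refine ⟨Finset.univ.image fun j ↦ c j / c i, F, ?_, fun W hW hWS ↦ hF W hW ⟨hi, fun j ↦ ?_⟩⟩
  · intro s hs
    obtain ⟨j, -, rfl⟩ := Finset.mem_image.1 hs
    exact hiV j
  · exact hWS _ (Finset.mem_image_of_mem _ (Finset.mem_univ j))

end Groth.Agent.Lipman.QC
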