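import Groth.Agent.Lipman.Defs
import Groth.Agent.Lipman.QC679
import Mathlib.Order.Filter.AtTopBot.Basic
import Mathlib.Order.Filter.Finite

/-!
# Normalisation of models

`FinNorm R` (finite normalisation of finitely generated `R`-subalgebras of `K`) implies that every model
(blow-up of a tuple `s`) is dominated by a model all of whose chart rings are integrally closed in `K`.
-/

set_option autoImplicit false
universe u

open Groth.Agent.Lipman.Defs
open Groth.Agent.Lipman.QC (isIntegral_iff_forall_mem exists_pow_mul_isIntegral exists_sum_eq_one)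
open scoped Pointwise

namespace Groth.Agent.Lipman.NormMod

variable {K : Type u} [Field K]

/-- The subring `A` of `K` is integrally closed in `K`. -/
def IC (A : Subring K) : Prop := ∀ z : K, IsIntegral A z → z ∈ A

lemma ic_iff {A : Subring K} : IC A ↔ ∀ z : K, (∀ V ∈ ZR A, z ∈ V) → z ∈ A := by
  refine forall_congr' fun z ↦ ?_
  rw [isIntegral_iff_forall_mem]
  exact Iff.rfl

/-- If `g ∈ A` is invertible in all valuation rings above `A`, then it is a unit of `A`. -/
lemma inv_mem_of_forall {A : Subring K} {g : K} (hg : g ∈ A) (hg0 : g ≠ 0)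
    (h : ∀ V ∈ ZR A, g⁻¹ ∈ V) : g⁻¹ ∈ A := by
  obtain ⟨a, ha, hsum⟩ := exists_sum_eq_one A (fun _ : Unit ↦ g) (fun _ ↦ hg)
    (fun V hV ↦ ⟨(), hg0, h V hV⟩) 1
  have h1 : a () * g = 1 := by simpa using hsum
  rw [← eq_inv_of_mul_eq_one_left h1]
  exact ha ()

/-- Finite generation of the integral closure, in element form. -/
lemma exists_gens {R : Subring K} (hR : FinNorm R) {s : Set K} (hs : s.Finite) (x : K) :
    ∃ G : Finset K, (1 : K) ∈ G ∧ (∀ b ∈ G, IsIntegral (chartRing R s x) b) ∧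
      ∀ z : K, IsIntegral (chartRing R s x) z → z ∈ Subring.closure ((R : Set K) ∪ G) := by
  classical
  have hfin : Module.Finite (chartRing R s x) (integralClosure (chartRing R s x) K) :=
    hR _ (hs.image _)
  have hfg : (integralClosure (chartRing R s x) K).toSubmodule.FG :=
    Module.Finite.iff_fg.1 hfin
  obtain ⟨T, hT⟩ := hfg
  let G : Finset K := insert 1 (T ∪ (hs.image fun y ↦ y / x).toFinset)
  have hle : chartRing R s x ≤ Subring.closure ((R : Set K) ∪ G) := by
    rw [chartRing_le_iff]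
    refine ⟨fun r hr ↦ Subring.subset_closure (Or.inl hr), fun y hy ↦ Subring.subset_closure (Or.inr ?_)⟩
    refine Finset.mem_coe.2 (Finset.mem_insert_of_mem (Finset.mem_union_right _ ?_))
    exact (Set.Finite.mem_toFinset _).2 ⟨y, hy, rfl⟩
  refine ⟨G, Finset.mem_insert_self _ _, fun b hb ↦ ?_, fun z hz ↦ ?_⟩
  · rcases Finset.mem_insert.1 hb with rfl | hb
    · exact isIntegral_one
    rcases Finset.mem_union.1 hb with hb | hb
    · have : b ∈ (integralClosure (chartRing R s x) K).toSubmodule := by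
        rw [← hT]; exact Submodule.subset_span hb
      exact this
    · obtain ⟨y, hy, rfl⟩ := (Set.Finite.mem_toFinset _).1 hb
      exact isIntegral_algebraMap (x := (⟨y / x, div_mem_chartRing R x hy⟩ : chartRing R s x))
  · have hz' : z ∈ Submodule.span (chartRing R s x) (T : Set K) := by
      rw [hT]; exact hz
    refine Submodule.span_induction (p := fun z _ ↦ z ∈ Subring.closure ((R : Set K) ∪ G))
      ?_ ?_ ?_ ?_ hz'
    · intro b hb
      exact Subring.subset_closure (Or.inr (Finset.mem_coe.2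
        (Finset.mem_insert_of_mem (Finset.mem_union_left _ hb))))
    · exact zero_mem _
    · intro a b _ _ ha hb
      exact add_mem ha hb
    · intro a b _ hb
      have : a • b = (a : K) * b := rfl
      rw [this]
      exact mul_mem (hle a.2) hb

/-- A high power of `x / y` makes `b`, integral on the chart `x`, integral on the chart `y`. -/
lemma eventually_isIntegral (R : Subring K) {s : Set K} {x y b : K} (hx : x ∈ s) (hx0 : x ≠ 0)
    (hy0 : y ≠ 0) (hb : IsIntegral (chartRing R s x) b) :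
    ∀ᶠ N in Filter.atTop, IsIntegral (chartRing R s y) ((x / y) ^ N * b) := by
  have hg : x / y ∈ chartRing R s y := div_mem_chartRing R y hx
  obtain ⟨n, hn⟩ := exists_pow_mul_isIntegral (chartRing R s y) hg (div_ne_zero hx0 hy0) (x := b) (by
    intro V hV hinv
    rw [isIntegral_iff_forall_mem] at hb
    refine hb V ?_
    rw [chartRing_le_iff]
    refine ⟨(le_chartRing R s y).trans hV, fun z hz ↦ ?_⟩
    have h1 : z / x = z / y * (x / y)⁻¹ := by field_simp
    rw [h1]
    exact mul_mem (hV (div_mem_chartRing R y hz)) hinv)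
  filter_upwards [Filter.eventually_ge_atTop n] with N hN
  have h2 : (x / y) ^ N * b = (x / y) ^ (N - n) * ((x / y) ^ n * b) := by
    rw [← mul_assoc, ← pow_add, Nat.sub_add_cancel hN]
  rw [h2]
  exact IsIntegral.mul ((isIntegral_algebraMap
    (x := (⟨x / y, hg⟩ : chartRing R s y))).pow _) hn

/-- **Normalisation of models.** Every model is dominated by a model all of whose chart rings are
integrally closed in `K`. -/
theorem exists_normal_refinement (R : Subring K) (hR : FinNorm R) {s : Set K} (hs : IsTuple s) :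
    ∃ t : Set K, IsTuple t ∧ Refines R t s ∧ ∀ x ∈ t, x ≠ 0 → IC (chartRing R t x) := by
  classical
  choose G hG1 hGint hGgen using fun x : K ↦ exists_gens hR hs.finite x
  obtain ⟨N, hN⟩ : ∃ N : ℕ, ∀ x ∈ s, ∀ y ∈ s, ∀ b ∈ G x, x ≠ 0 → y ≠ 0 →
      IsIntegral (chartRing R s y) ((x / y) ^ N * b) := by
    have h1 : ∀ᶠ N in Filter.atTop, ∀ x ∈ s, ∀ y ∈ s, ∀ b ∈ (G x : Set K), x ≠ 0 → y ≠ 0 →
        IsIntegral (chartRing R s y) ((x / y) ^ N * b) := by
      rw [Filter.eventually_all_finite hs.finite]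
      intro x hx
      rw [Filter.eventually_all_finite hs.finite]
      intro y hy
      rw [Filter.eventually_all_finite (G x).finite_toSet]
      intro b hb
      by_cases hx0 : x = 0
      · exact Filter.Eventually.of_forall fun _ h ↦ (h hx0).elim
      by_cases hy0 : y = 0
      · exact Filter.Eventually.of_forall fun _ _ h ↦ (h hy0).elim
      filter_upwards [eventually_isIntegral R hx hx0 hy0 (hGint x b hb)] with N h _ _
      exact h
    exact h1.exists
  let t : Set K := ⋃ x ∈ s \ {0}, (fun b ↦ x ^ N * b) '' (G x : Set K)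
  have ht : ∀ w, w ∈ t ↔ ∃ x ∈ s, x ≠ 0 ∧ ∃ b ∈ G x, x ^ N * b = w := by
    intro w
    simp only [t, Set.mem_iUnion, Set.mem_image, Finset.mem_coe, Set.mem_sdiff, Set.mem_singleton_iff,
      exists_prop, and_assoc]
  have htfin : t.Finite := (hs.finite.subset Set.sdiff_subset).biUnion fun x _ ↦
    (G x).finite_toSet.image _
  have hpow : ∀ x ∈ s, x ≠ 0 → x ^ N ∈ t := fun x hx hx0 ↦
    (ht _).2 ⟨x, hx, hx0, 1, hG1 x, mul_one _⟩
  have htt : IsTuple t := by
    obtain ⟨x, hx, hx0⟩ := hs.exists_ne_zero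
    exact ⟨htfin, x ^ N, hpow x hx hx0, pow_ne_zero _ hx0⟩
  -- elements of `t / y ^ N` are integral over the chart `y` of `s`
  have hint : ∀ y ∈ s, y ≠ 0 → ∀ w ∈ t, IsIntegral (chartRing R s y) (w / y ^ N) := by
    intro y hy hy0 w hw
    obtain ⟨x, hx, hx0, b, hb, rfl⟩ := (ht w).1 hw
    have := hN x hx y hy b hb hx0 hy0
    have h2 : x ^ N * b / y ^ N = (x / y) ^ N * b := by
      rw [div_pow]; ring
    rwa [h2]
  have hB : ∀ y ∈ s, y ≠ 0 → ∀ z, IsIntegral (chartRing R s y) z → z ∈ chartRing R t (y ^ N) := by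
    intro y hy hy0 z hz
    have h1 : Subring.closure ((R : Set K) ∪ G y) ≤ chartRing R t (y ^ N) := by
      rw [Subring.closure_le]
      rintro b (hb | hb)
      · exact le_chartRing _ _ _ hb
      · have h2 : y ^ N * b ∈ t := (ht _).2 ⟨y, hy, hy0, b, hb, rfl⟩
        have h3 : y ^ N * b / y ^ N ∈ chartRing R t (y ^ N) := div_mem_chartRing R (y ^ N) h2
        have h4 : y ^ N * b / y ^ N = b := mul_div_cancel_left₀ b (pow_ne_zero N hy0)
        rw [h4] at h3
        exact h3
    exact h1 (hGgen y z hz)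
  have hle : ∀ y ∈ s, y ≠ 0 → chartRing R s y ≤ chartRing R t (y ^ N) := fun y hy hy0 z hz ↦
    hB y hy hy0 z (isIntegral_algebraMap (x := (⟨z, hz⟩ : chartRing R s y)))
  have hZR : ∀ y ∈ s, y ≠ 0 → ∀ V ∈ ZR (chartRing R s y), V ∈ ZR (chartRing R t (y ^ N)) := by
    intro y hy hy0 V hV
    refine chartRing_le_iff.2 ⟨(le_chartRing R s y).trans hV, fun w hw ↦ ?_⟩
    exact (isIntegral_iff_forall_mem _ _).1 (hint y hy hy0 w hw) V hV
  have hIC : ∀ y ∈ s, y ≠ 0 → IC (chartRing R t (y ^ N)) := by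
    intro y hy hy0 z hz
    refine hB y hy hy0 z ?_
    rw [isIntegral_iff_forall_mem] at hz ⊢
    exact fun V hV ↦ hz V (hZR y hy hy0 V hV)
  refine ⟨t * s, htt.mul hs, refines_mul_right R t s, ?_⟩
  rintro _ ⟨w, hw, x, hx, rfl⟩ hwx z hz
  have hw0 : w ≠ 0 := left_ne_zero_of_mul hwx
  have hx0 : x ≠ 0 := right_ne_zero_of_mul hwx
  have hxN : x ^ N ≠ 0 := pow_ne_zero _ hx0
  change z ∈ chartRing R (t * s) (w * x)
  have hz : IsIntegral (chartRing R (t * s) (w * x)) z := hz
  have hu : ∀ u ∈ t, u / w ∈ chartRing R (t * s) (w * x) := by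
    intro u hu
    have h1 := div_mem_chartRing R (w * x) (Set.mul_mem_mul hu hx)
    rwa [mul_div_mul_right _ _ hx0] at h1
  have hy : ∀ y ∈ s, y / x ∈ chartRing R (t * s) (w * x) := by
    intro y hy
    have h1 := div_mem_chartRing R (w * x) (Set.mul_mem_mul hw hy)
    rwa [mul_div_mul_left _ _ hw0] at h1
  have hg : x ^ N / w ∈ chartRing R (t * s) (w * x) := hu _ (hpow x hx hx0)
  have hg0 : x ^ N / w ≠ 0 := div_ne_zero hxN hw0
  have hsx : chartRing R s x ≤ chartRing R (t * s) (w * x) :=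
    chartRing_le_iff.2 ⟨le_chartRing _ _ _, hy⟩
  have hh : w / x ^ N ∈ chartRing R (t * s) (w * x) := by
    have h1 := inv_mem_of_forall hg hg0 (fun V hV ↦ by
      rw [inv_div]
      exact hZR x hx hx0 V (hsx.trans hV) (div_mem_chartRing R _ hw))
    rwa [inv_div] at h1
  have hBle : chartRing R t (x ^ N) ≤ chartRing R (t * s) (w * x) := by
    refine chartRing_le_iff.2 ⟨le_chartRing _ _ _, fun u hu' ↦ ?_⟩
    have h1 : u / x ^ N = u / w * (w / x ^ N) := by field_simp
    rw [h1]
    exact mul_mem (hu u hu') hh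
  obtain ⟨n, hn⟩ := exists_pow_mul_isIntegral (chartRing R t (x ^ N)) (div_mem_chartRing R _ hw)
    (div_ne_zero hw0 hxN) (x := z) (by
    intro V hV hinv
    refine (isIntegral_iff_forall_mem _ _).1 hz V (chartRing_le_iff.2 ⟨(le_chartRing _ _ _).trans hV, ?_⟩)
    rintro _ ⟨u, hu', y, hy', rfl⟩
    have h1 : u * y / (w * x) = u / x ^ N * (w / x ^ N)⁻¹ * (y / x) := by field_simp
    change u * y / (w * x) ∈ V.toSubring
    rw [h1]
    exact mul_mem (mul_mem (hV (div_mem_chartRing R _ hu')) hinv)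
      (hV (hle x hx hx0 (div_mem_chartRing R _ hy'))))
  have h1 : (w / x ^ N) ^ n * z ∈ chartRing R (t * s) (w * x) := hBle (hIC x hx hx0 _ hn)
  have h2 : z = (x ^ N / w) ^ n * ((w / x ^ N) ^ n * z) := by
    rw [← mul_assoc, ← mul_pow, div_mul_div_cancel₀ hw0, div_self hxN, one_pow, one_mul]
  rw [h2]
  exact mul_mem (pow_mem hg n) h1

/-- A localization of a subring integrally closed in `K` is integrally closed in `K`. -/
lemma IC.of_locOf {B A : Subring K} (hB : IC B) (h : LocOf B A) : IC A := by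
  classical
  intro z hz
  let M : Submonoid B :=
    { carrier := {t | (t : K) ≠ 0 ∧ (t : K)⁻¹ ∈ A}
      one_mem' := ⟨one_ne_zero, by simp [A.one_mem]⟩
      mul_mem' := by
        rintro a b ⟨ha, ha'⟩ ⟨hb, hb'⟩
        refine ⟨mul_ne_zero ha hb, ?_⟩
        change ((a : K) * b)⁻¹ ∈ A
        rw [mul_inv]
        exact mul_mem ha' hb' }
  let _ : Algebra B A := (Subring.inclusion h.le).toAlgebra
  have : IsScalarTower B A K := IsScalarTower.of_algebraMap_eq fun _ ↦ rfl
  have hloc : IsLocalization M A := by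
    refine ⟨⟨?_, ?_, ?_⟩⟩
    · rintro ⟨t, ht0, ht⟩
      refine IsUnit.of_mul_eq_one (⟨(t : K)⁻¹, ht⟩ : A) (Subtype.ext ?_)
      exact mul_inv_cancel₀ ht0
    · intro a
      obtain ⟨t, ht, ht0, ht', hmul⟩ := h.frac a a.2
      exact ⟨⟨⟨a * t, hmul⟩, ⟨⟨t, ht⟩, ht0, ht'⟩⟩, Subtype.ext rfl⟩
    · intro x y hxy
      refine ⟨1, ?_⟩
      have h1 : (x : K) = y := congrArg (fun a : A ↦ (a : K)) hxy
      rw [Subtype.ext h1]
  obtain ⟨⟨m, hm⟩, hN⟩ := IsIntegral.exists_multiple_integral_of_isLocalization M z hz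
  have h1 : (m : K) * z ∈ B := hB _ hN
  have h2 : z = (m : K)⁻¹ * (m * z) := by rw [← mul_assoc, inv_mul_cancel₀ hm.1, one_mul]
  rw [h2]
  exact mul_mem hm.2 (h.le h1)

/-- All local rings of a model with integrally closed chart rings are integrally closed in `K`. -/
lemma IC.of_isPt {R : Subring K} {t : Set K} (ht : ∀ x ∈ t, x ≠ 0 → IC (chartRing R t x)) {A : Subring K}
    (hA : IsPt R t A) : IC A := by
  obtain ⟨x, hx, hx0, h⟩ := hA
  exact (ht x hx hx0).of_locOf h

/-- `IC` gives Mathlib's `IsIntegrallyClosedIn`. -/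
lemma IC.isIntegrallyClosedIn {A : Subring K} (h : IC A) : IsIntegrallyClosedIn A K := by
  rw [isIntegrallyClosedIn_iff]
  exact ⟨Subtype.val_injective, fun {z} hz ↦ ⟨⟨z, h z hz⟩, rfl⟩⟩

/-- `IC` gives Mathlib's `IsIntegrallyClosed`, if `K` is the fraction field. -/
lemma IC.isIntegrallyClosed {A : Subring K} [IsFractionRing A K] (h : IC A) : IsIntegrallyClosed A := by
  rw [isIntegrallyClosed_iff K]
  exact fun {z} hz ↦ ⟨⟨z, h z hz⟩, rfl⟩

/-- `K` is the fraction field of every subring between `R` and `K`, if it is the fraction field of `R`. -/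
lemma isFractionRing_of_le {R A : Subring K} (h : R ≤ A) [hR : IsFractionRing R K] : IsFractionRing A K := by
  refine ⟨⟨?_, ?_, ?_⟩⟩
  · intro y
    exact isUnit_iff_ne_zero.2 (fun h0 ↦ nonZeroDivisors.ne_zero y.2 (Subtype.ext h0))
  · intro z
    obtain ⟨a, b, hb, rfl⟩ := IsFractionRing.div_surjective (A := R) z
    have hb0 : (b : K) ≠ 0 := fun h0 ↦ nonZeroDivisors.ne_zero hb (Subtype.ext h0)
    refine ⟨⟨⟨a, h a.2⟩, ⟨⟨b, h b.2⟩, mem_nonZeroDivisors_of_ne_zero ?_⟩⟩, ?_⟩
    · exact fun h0 ↦ hb0 (congrArg Subtype.val h0)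
    · exact div_mul_cancel₀ _ hb0
  · intro x y hxy
    refine ⟨1, ?_⟩
    have h1 : (x : K) = y := hxy
    rw [Subtype.ext h1]

end Groth.Agent.Lipman.NormMod
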