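import Groth.Agent.Lipman.B4Hilb
import Groth.Agent.Lipman.NormMod

/-!
# Lipman block B4, part (iii)

`A` a local ring whose powers `m^n` are integrally closed in the valuative sense.  The chart rings
`A[m/x]` of the blow-up of `m` are integrally closed, hence so are all quadratic transforms.
-/

set_option autoImplicit false

open IsLocalRing

namespace Groth.Agent.Lipman.B4H

open Groth.Agent.Lipman.Defs Groth.Agent.Lipman.NormMod Groth.Agent.Lipman.B4

universe u

variable {K : Type u} [Field K] {A : Subring K} [IsLocalRing A]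

theorem mem_mSet_iff {z : K} : z ∈ mSet A ↔ ∃ g ∈ maximalIdeal A, (g : K) = z := by
  constructor
  · rintro ⟨hz, h⟩
    refine ⟨⟨z, hz⟩, ?_, rfl⟩
    rw [mem_maximalIdeal, mem_nonunits_iff]
    intro hu
    obtain ⟨u, hu'⟩ := hu.exists_right_inv
    have h1 : z * (u : K) = 1 := congrArg Subtype.val hu'
    have hz0 : z ≠ 0 := left_ne_zero_of_mul_eq_one h1
    rcases h with h | h
    · exact hz0 h
    · exact h (by rw [← eq_inv_of_mul_eq_one_right h1]; exact u.2)
  · rintro ⟨g, hg, rfl⟩
    refine ⟨g.2, ?_⟩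
    by_contra hcon
    push Not at hcon
    rw [mem_maximalIdeal, mem_nonunits_iff] at hg
    refine hg (IsUnit.of_mul_eq_one ⟨(g : K)⁻¹, hcon.2⟩ (Subtype.ext ?_))
    exact mul_inv_cancel₀ hcon.1

theorem pow_mul_mem {x : K} (hx : x ∈ mSet A) {m : ℕ} {g : A} (hg : g ∈ maximalIdeal A ^ m) (n : ℕ) :
    ∃ g' ∈ maximalIdeal A ^ (m + n), (g' : K) = g * x ^ n := by
  obtain ⟨t, ht, rfl⟩ := mem_mSet_iff.1 hx
  refine ⟨g * t ^ n, ?_, by push_cast; rfl⟩
  rw [pow_add]
  exact Ideal.mul_mem_mul hg (Ideal.pow_mem_pow ht n)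

theorem exists_of_mem_chartRing {x : K} (hx : x ∈ mSet A) (hx0 : x ≠ 0) {z : K}
    (hz : z ∈ chartRing A (mSet A) x) : ∃ n : ℕ, ∃ g ∈ maximalIdeal A ^ n, z = (g : K) / x ^ n := by
  induction hz using Subring.closure_induction with
  | mem z hz =>
    rcases hz with hz | ⟨y, hy, rfl⟩
    · exact ⟨0, ⟨z, hz⟩, by simp, by simp⟩
    · obtain ⟨g, hg, rfl⟩ := mem_mSet_iff.1 hy
      exact ⟨1, g, by rwa [pow_one], by simp⟩
  | zero => exact ⟨0, 0, by simp, by simp⟩
  | one => exact ⟨0, 1, by simp, by simp⟩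
  | add z w _ _ hz hw =>
    obtain ⟨m, g, hg, rfl⟩ := hz
    obtain ⟨n, h, hh, rfl⟩ := hw
    obtain ⟨g', hg', hg''⟩ := pow_mul_mem hx hg n
    obtain ⟨h', hh', hh''⟩ := pow_mul_mem hx hh m
    refine ⟨m + n, g' + h', add_mem hg' (by rwa [add_comm m n]), ?_⟩
    push_cast
    rw [hg'', hh'']
    field_simp
    ring
  | neg z _ hz =>
    obtain ⟨m, g, hg, rfl⟩ := hz
    exact ⟨m, -g, neg_mem hg, by push_cast; ring⟩
  | mul z w _ _ hz hw =>
    obtain ⟨m, g, hg, rfl⟩ := hz
    obtain ⟨n, h, hh, rfl⟩ := hw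
    refine ⟨m + n, g * h, by rw [pow_add]; exact Ideal.mul_mem_mul hg hh, ?_⟩
    push_cast
    rw [pow_add]
    field_simp

theorem div_pow_mem_chartRing {x : K} {n : ℕ} {g : A} (hg : g ∈ maximalIdeal A ^ n) :
    (g : K) / x ^ n ∈ chartRing A (mSet A) x := by
  induction n generalizing g with
  | zero => simpa using le_chartRing A (mSet A) x g.2
  | succ n ih =>
    rw [pow_succ] at hg
    refine Submodule.mul_induction_on hg ?_ ?_
    · intro c hc d hd
      have h1 := ih hc
      have h2 : (d : K) / x ∈ chartRing A (mSet A) x :=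
        div_mem_chartRing A x (mem_mSet_iff.2 ⟨d, hd, rfl⟩)
      have : ((c * d : A) : K) / x ^ (n + 1) = (c : K) / x ^ n * ((d : K) / x) := by
        push_cast
        rw [pow_succ, mul_div_mul_comm]
      rw [this]
      exact mul_mem h1 h2
    · intro c d hc hd
      have : ((c + d : A) : K) / x ^ (n + 1) = (c : K) / x ^ (n + 1) + (d : K) / x ^ (n + 1) := by
        push_cast
        rw [add_div]
      rw [this]
      exact add_mem hc hd

/-- If the powers of `m` are integrally closed then the chart rings `A[m/x]` are integrally closed. -/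
theorem ic_chartRing (hfg : (maximalIdeal A).FG)
    (hI : ∀ (s : ℕ) (f : K), (∀ V ∈ ZR A, MemIV (maximalIdeal A ^ s) V f) →
      ∃ g ∈ maximalIdeal A ^ s, (g : K) = f) {x : K} (hx : x ∈ mSet A) (hx0 : x ≠ 0) :
    IC (chartRing A (mSet A) x) := by
  classical
  rintro z ⟨p, hp, hpz⟩
  set r := p.natDegree with hr
  -- common denominators
  choose n g hg hgz using fun i : ℕ => exists_of_mem_chartRing hx hx0 (p.coeff i).2
  let N := (Finset.range r).sup n
  have hN : ∀ i ∈ Finset.range r, ∃ g' ∈ maximalIdeal A ^ N, ((p.coeff i : _) : K) = (g' : K) / x ^ N := by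
    intro i hi
    have hle : n i ≤ N := Finset.le_sup hi
    obtain ⟨g', hg', hg''⟩ := pow_mul_mem hx (hg i) (N - n i)
    rw [Nat.add_sub_cancel' hle] at hg'
    refine ⟨g', hg', ?_⟩
    rw [hg'', hgz i, div_eq_div_iff (pow_ne_zero _ hx0) (pow_ne_zero _ hx0), mul_assoc, ← pow_add,
      Nat.sub_add_cancel hle]
  choose! c hc hcz using hN
  -- the equation for `w = x ^ N z`
  have hxN : x ^ N ≠ 0 := pow_ne_zero _ hx0
  have heq : z ^ r + ∑ i ∈ Finset.range r, ((c i : A) : K) / x ^ N * z ^ i = 0 := by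
    rw [Polynomial.eval₂_eq_sum_range, Finset.sum_range_succ, ← hr] at hpz
    have h1 : p.coeff r = 1 := hp
    rw [h1, map_one, one_mul] at hpz
    rw [← hpz, add_comm]
    congr 1
    refine Finset.sum_congr rfl fun i hi => ?_
    rw [← hcz i hi]
    rfl
  have heq' : (x ^ N * z) ^ r + ∑ i ∈ Finset.range r,
      (c i : K) * (x ^ N) ^ (r - i - 1) * (x ^ N * z) ^ i = 0 := by
    have h1 : (x ^ N) ^ r * (z ^ r + ∑ i ∈ Finset.range r, ((c i : A) : K) / x ^ N * z ^ i) = 0 := by
      rw [heq, mul_zero]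
    rw [← h1, mul_add, mul_pow, Finset.mul_sum]
    congr 1
    refine Finset.sum_congr rfl fun i hi => ?_
    have h2 : r = (r - i - 1) + 1 + i := by have := Finset.mem_range.1 hi; omega
    rw [mul_pow]
    conv_rhs => rw [h2]
    rw [pow_add (x ^ N) _ i, pow_add (x ^ N) _ 1, pow_one]
    field_simp
  -- valuations
  obtain ⟨g', hg', hg''⟩ := hI N (x ^ N * z) (by
    intro V hV
    have hV' := inZR_iff.2 hV
    obtain ⟨t, htm, ht⟩ := exists_max hV' hfg
    by_contra hcon
    have hlt : V.valuation ((t : K) ^ N) < V.valuation (x ^ N * z) := by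
      by_contra hle
      refine hcon ⟨t ^ N, Ideal.pow_mem_pow htm N, ?_⟩
      rw [algebraMap_eq]
      push_cast
      exact not_lt.1 hle
    have hxt : V.valuation (x ^ N) ≤ V.valuation ((t : K) ^ N) := by
      obtain ⟨x', hx', rfl⟩ := mem_mSet_iff.1 hx
      rw [map_pow, map_pow]
      gcongr
      exact ht x' hx'
    have hw0 : V.valuation (x ^ N * z) ≠ 0 := (lt_of_le_of_lt zero_le hlt).ne'
    have hsum : V.valuation (∑ i ∈ Finset.range r, (c i : K) * (x ^ N) ^ (r - i - 1) * (x ^ N * z) ^ i) <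
        V.valuation ((x ^ N * z) ^ r) := by
      refine Valuation.map_sum_lt _ (by rw [map_pow]; exact pow_ne_zero _ hw0) fun i hi => ?_
      have hci : V.valuation (c i : K) ≤ V.valuation ((t : K) ^ N) := by
        have := max_pow hV' ht N (c i) (hc i hi)
        rw [algebraMap_eq, algebraMap_eq] at this
        push_cast at this
        exact this
      have h2 : r = (r - i - 1) + 1 + i := by have := Finset.mem_range.1 hi; omega
      rw [map_mul, map_mul]
      calc V.valuation (c i : K) * V.valuation ((x ^ N) ^ (r - i - 1)) * V.valuation ((x ^ N * z) ^ i)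
          ≤ V.valuation ((t : K) ^ N) * V.valuation ((x ^ N * z) ^ (r - i - 1)) *
              V.valuation ((x ^ N * z) ^ i) := by
            have h3 : V.valuation ((x ^ N) ^ (r - i - 1)) ≤ V.valuation ((x ^ N * z) ^ (r - i - 1)) := by
              rw [map_pow _ (x ^ N), map_pow _ (x ^ N * z)]
              exact pow_le_pow_left₀ zero_le (hxt.trans hlt.le) _
            exact mul_le_mul' (mul_le_mul' hci h3) le_rfl
        _ < V.valuation (x ^ N * z) * V.valuation ((x ^ N * z) ^ (r - i - 1)) *
              V.valuation ((x ^ N * z) ^ i) := by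
            have h3 : 0 < V.valuation ((x ^ N * z) ^ (r - i - 1)) := by
              rw [map_pow]; exact zero_lt_iff.2 (pow_ne_zero _ hw0)
            have h4 : 0 < V.valuation ((x ^ N * z) ^ i) := by
              rw [map_pow]; exact zero_lt_iff.2 (pow_ne_zero _ hw0)
            gcongr
        _ = V.valuation ((x ^ N * z) ^ r) := by
            rw [← map_mul, ← map_mul]
            congr 1
            conv_rhs => rw [h2]
            rw [pow_add _ _ i, pow_add _ _ 1]
            ring
    have h5 : (x ^ N * z) ^ r =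
        -∑ i ∈ Finset.range r, (c i : K) * (x ^ N) ^ (r - i - 1) * (x ^ N * z) ^ i :=
      eq_neg_of_add_eq_zero_left heq'
    rw [h5, Valuation.map_neg] at hsum
    exact lt_irrefl _ hsum)
  have : z = (g' : K) / x ^ N := by rw [hg'']; field_simp
  rw [this]
  exact div_pow_mem_chartRing hg'

variable [IsNoetherianRing A] {a b : A} {k N : ℕ}

/-- Charts of the blow-up of the maximal ideal of a rational normal local ring are integrally closed. -/
theorem data_ic_chartRing (h : Data A a b k N) (hA : ∀ f : K, (∀ V ∈ ZR A, f ∈ V) → f ∈ A) {x : K}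
    (hx : x ∈ mSet A) (hx0 : x ≠ 0) : IC (chartRing A (mSet A) x) :=
  ic_chartRing (maximalIdeal A).fg_of_isNoetherianRing
    (fun s _ hf => h.mem_pow_of_forall hA s hf) hx hx0

/-- Quadratic transforms of a rational normal local ring are integrally closed. -/
theorem data_ic_of_qt (h : Data A a b k N) (hA : ∀ f : K, (∀ V ∈ ZR A, f ∈ V) → f ∈ A) {A' : Subring K}
    (hq : QT A A') : IC A' := by
  obtain ⟨x, hx, hx0, -, hl⟩ := hq
  exact (data_ic_chartRing h hA hx hx0).of_locOf hl

end Groth.Agent.Lipman.B4H
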