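import Groth.Agent.Lipman.B4Main
import Groth.Agent.Lipman.ZRD158

/-!
# Lipman block B4, part 3: exact sequence `0 → m^s → (m^(s+k))^2 → m^(s+2k) → 0`, charts are integrally closed
-/

set_option autoImplicit false

open IsLocalRing

namespace Groth.Agent.Lipman.B4

open Groth.Agent.Lipman.Defs

universe u

section General

variable {A : Type u} {K : Type u} [CommRing A] [Field K] [Algebra A K]

theorem memIV_mul_of_mem {m : Ideal A} {V : ValuationSubring K} {g : A} {k s : ℕ} (hg : g ∈ m ^ k) {z : K}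
    (hz : MemIV (m ^ s) V z) : MemIV (m ^ (s + k)) V (algebraMap A K g * z) := by
  rw [pow_add, mul_comm (m ^ s)]
  exact (memIV_algebraMap hg).mul hz

/-- Division by an element generating `m^k V`. -/
theorem memIV_div {m : Ideal A} (hm : m.FG) {V : ValuationSubring K} (hV : InZR A V) {a : A} {k s : ℕ}
    (ham : a ∈ m ^ k) (ha0 : algebraMap A K a ≠ 0)
    (ha : ∀ g ∈ m ^ k, V.valuation (algebraMap A K g) ≤ V.valuation (algebraMap A K a)) {z : K}
    (hz : MemIV (m ^ (s + k)) V z) : MemIV (m ^ s) V (z / algebraMap A K a) := by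
  obtain ⟨t, htm, ht⟩ := exists_max hV hm
  have hts := max_pow hV ht s
  have hmax := max_mul hV hts ha
  obtain ⟨g, hg, h⟩ := hz
  rw [pow_add] at hg
  have h1 := h.trans (hmax g hg)
  have ha0' : V.valuation (algebraMap A K a) ≠ 0 := by rw [Ne, V.valuation.zero_iff]; exact ha0
  refine ⟨t ^ s, Ideal.pow_mem_pow htm s, ?_⟩
  rw [map_div₀, div_le_iff₀ (zero_lt_iff.2 ha0'), ← map_mul, ← map_mul]
  exact h1

end General

variable {K : Type u} [Field K] {A : Subring K} [IsLocalRing A] [IsNoetherianRing A]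

namespace Data

variable {a b : A} {k N : ℕ}

theorem coe_a_ne (h : Data A a b k N) : (a : K) ≠ 0 := fun h0 => h.a_ne (Subtype.ext h0)
theorem coe_b_ne (h : Data A a b k N) : (b : K) ≠ 0 := fun h0 => h.b_ne (Subtype.ext h0)

/-- Surjectivity of `(m^(s+k))^2 → m^(s+2k)`. -/
theorem exists_eq_add (h : Data A a b k N) (hA : ∀ f : K, (∀ V ∈ ZR A, f ∈ V) → f ∈ A) (s : ℕ) :
    ∀ w ∈ maximalIdeal A ^ (s + k + k), ∃ u ∈ maximalIdeal A ^ (s + k),
      ∃ v ∈ maximalIdeal A ^ (s + k), w = a * u + b * v := by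
  intro w hw
  have ha0 := h.coe_a_ne
  have hb0 := h.coe_b_ne
  have hfg : (maximalIdeal A).FG := IsNoetherian.noetherian _
  have hsplit := Sec_inter_le (m := maximalIdeal A) h.a_mem h.pos (a := a) (K := K) ha0
    (P₁ := fun V => V.valuation (b : K) ≤ V.valuation (a : K))
    (P₂ := fun V => V.valuation (a : K) ≤ V.valuation (b : K)) h.le₁
    (sec_le_of_rat2 ha0 hb0 h.rat) s
  have ht : (w : K) / (a : K) / (b : K) ∈ Sec (maximalIdeal A ^ s) (fun V : ValuationSubring K =>
      V.valuation (b : K) ≤ V.valuation (a : K) ∧ V.valuation (a : K) ≤ V.valuation (b : K)) := by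
    intro V hV hP
    exact memIV_div hfg hV h.b_mem hb0 (h.le₂ V hV hP.2)
      (memIV_div hfg hV h.a_mem ha0 (h.le₁ V hV hP.1) (memIV_algebraMap hw))
  obtain ⟨t₁, ht₁, t₂, ht₂, ht₁₂⟩ := Submodule.mem_sup.1 (hsplit ht)
  have hu : ∀ V ∈ ZR A, MemIV (maximalIdeal A ^ (s + k)) V ((b : K) * t₂) := by
    intro V hV
    rcases le_total (V.valuation (a : K)) (V.valuation (b : K)) with hab | hab
    · exact memIV_mul_of_mem h.b_mem (ht₂ V (inZR_iff.2 hV) hab)
    · have h1 : (b : K) * t₂ = (w : K) / (a : K) - (b : K) * t₁ := by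
        have : t₂ = (w : K) / (a : K) / (b : K) - t₁ := by rw [← ht₁₂]; ring
        rw [this]; field_simp
      rw [h1]
      have h2 : ∀ x y : K, MemIV (maximalIdeal A ^ (s + k)) V x → MemIV (maximalIdeal A ^ (s + k)) V y →
          MemIV (maximalIdeal A ^ (s + k)) V (x - y) := by
        intro x y hx hy
        have h3 : x ∈ Sec (maximalIdeal A ^ (s + k)) (fun W : ValuationSubring K => W = V) := by
          rintro W - rfl; exact hx
        have h4 : y ∈ Sec (maximalIdeal A ^ (s + k)) (fun W : ValuationSubring K => W = V) := by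
          rintro W - rfl; exact hy
        exact sub_mem h3 h4 V (inZR_iff.2 hV) rfl
      exact h2 _ _ (memIV_div hfg (inZR_iff.2 hV) h.a_mem ha0 (h.le₁ V (inZR_iff.2 hV) hab)
        (memIV_algebraMap hw)) (memIV_mul_of_mem h.b_mem (ht₁ V (inZR_iff.2 hV) hab))
  have hv : ∀ V ∈ ZR A, MemIV (maximalIdeal A ^ (s + k)) V ((a : K) * t₁) := by
    intro V hV
    rcases le_total (V.valuation (b : K)) (V.valuation (a : K)) with hab | hab
    · exact memIV_mul_of_mem h.a_mem (ht₁ V (inZR_iff.2 hV) hab)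
    · have h1 : (a : K) * t₁ = (w : K) / (b : K) - (a : K) * t₂ := by
        have : t₁ = (w : K) / (a : K) / (b : K) - t₂ := by rw [← ht₁₂]; ring
        rw [this]; field_simp
      rw [h1]
      have h2 : ∀ x y : K, MemIV (maximalIdeal A ^ (s + k)) V x → MemIV (maximalIdeal A ^ (s + k)) V y →
          MemIV (maximalIdeal A ^ (s + k)) V (x - y) := by
        intro x y hx hy
        have h3 : x ∈ Sec (maximalIdeal A ^ (s + k)) (fun W : ValuationSubring K => W = V) := by
          rintro W - rfl; exact hx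
        have h4 : y ∈ Sec (maximalIdeal A ^ (s + k)) (fun W : ValuationSubring K => W = V) := by
          rintro W - rfl; exact hy
        exact sub_mem h3 h4 V (inZR_iff.2 hV) rfl
      exact h2 _ _ (memIV_div hfg (inZR_iff.2 hV) h.b_mem hb0 (h.le₂ V (inZR_iff.2 hV) hab)
        (memIV_algebraMap hw)) (memIV_mul_of_mem h.a_mem (ht₂ V (inZR_iff.2 hV) hab))
  obtain ⟨u, hu, hu'⟩ := h.mem_pow_of_forall hA (s + k) hu
  obtain ⟨v, hv, hv'⟩ := h.mem_pow_of_forall hA (s + k) hv
  refine ⟨u, hu, v, hv, ?_⟩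
  ext
  change (w : K) = (a : K) * u + (b : K) * v
  rw [hu', hv']
  have h1 : (a : K) * ((b : K) * t₂) + (b : K) * ((a : K) * t₁) = (a : K) * (b : K) * (t₁ + t₂) := by ring
  rw [h1, ht₁₂]
  field_simp

/-- Exactness in the middle. -/
theorem exists_eq_mul (h : Data A a b k N) (hA : ∀ f : K, (∀ V ∈ ZR A, f ∈ V) → f ∈ A) (s : ℕ) :
    ∀ u ∈ maximalIdeal A ^ (s + k), ∀ v ∈ maximalIdeal A ^ (s + k), a * u + b * v = 0 →
      ∃ w ∈ maximalIdeal A ^ s, u = b * w ∧ v = -(a * w) := by
  intro u hu v hv huv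
  have ha0 := h.coe_a_ne
  have hb0 := h.coe_b_ne
  have hfg : (maximalIdeal A).FG := IsNoetherian.noetherian _
  have huv' : (a : K) * u + (b : K) * v = 0 := congrArg Subtype.val huv
  have heq : (u : K) / (b : K) = -((v : K) / (a : K)) := by
    field_simp
    linear_combination huv'
  obtain ⟨w, hw, hw'⟩ := h.mem_pow_of_forall hA s (f := (u : K) / (b : K)) (fun V hV => by
    rcases le_total (V.valuation (a : K)) (V.valuation (b : K)) with hab | hab
    · exact memIV_div hfg (inZR_iff.2 hV) h.b_mem hb0 (h.le₂ V (inZR_iff.2 hV) hab) (memIV_algebraMap hu)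
    · rw [heq]
      obtain ⟨g, hg, hg'⟩ := memIV_div (K := K) hfg (inZR_iff.2 hV) h.a_mem ha0 (h.le₁ V (inZR_iff.2 hV) hab)
        (memIV_algebraMap hv)
      exact ⟨g, hg, by rw [Valuation.map_neg]; exact hg'⟩)
  refine ⟨w, hw, ?_, ?_⟩
  · ext
    change (u : K) = (b : K) * w
    rw [hw']; field_simp
  · ext
    change (v : K) = -((a : K) * w)
    rw [hw', heq]; field_simp

end Data

/-- Elements of the chart `A[m/x]` are of the form `y / x^j`, `y ∈ m^j`. -/
theorem exists_pow_mul_mem_chart {x : A} (hx : x ∈ maximalIdeal A) {c : K}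
    (hc : c ∈ chartRing A (mSet A) (x : K)) (hx0 : (x : K) ≠ 0) :
    ∃ j : ℕ, ∀ i, j ≤ i → ∃ y ∈ maximalIdeal A ^ i, (y : K) = (x : K) ^ i * c := by
  have hup : ∀ (j : ℕ) (c : K), (∃ y ∈ maximalIdeal A ^ j, (y : K) = (x : K) ^ j * c) →
      ∀ i, j ≤ i → ∃ y ∈ maximalIdeal A ^ i, (y : K) = (x : K) ^ i * c := by
    rintro j c ⟨y, hy, hyc⟩ i hij
    obtain ⟨l, rfl⟩ := Nat.exists_eq_add_of_le hij
    refine ⟨y * x ^ l, ?_, ?_⟩
    · rw [pow_add]; exact Ideal.mul_mem_mul hy (Ideal.pow_mem_pow hx l)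
    · change (y : K) * (x : K) ^ l = _
      rw [hyc, pow_add]; ring
  induction hc using Subring.closure_induction with
  | mem z hz =>
    rcases hz with hz | ⟨y, hy, rfl⟩
    · exact ⟨0, hup 0 z ⟨⟨z, hz⟩, by simp, by simp⟩⟩
    · have hy' : (⟨y, hy.1⟩ : A) ∈ maximalIdeal A := by
        rw [mem_maximalIdeal, mem_nonunits_iff]
        rintro ⟨u, hu⟩
        have h3 : (u : A) * ((u⁻¹ : (A)ˣ) : A) = 1 := u.mul_inv
        rw [hu] at h3
        have h4 : y * (((u⁻¹ : (A)ˣ) : A) : K) = 1 := congrArg Subtype.val h3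
        rcases hy.2 with h0 | h1
        · rw [h0, zero_mul] at h4; exact zero_ne_one h4
        · apply h1
          rw [← eq_inv_of_mul_eq_one_right h4]
          exact Subtype.property _
      refine ⟨1, hup 1 _ ⟨⟨y, hy.1⟩, by rw [pow_one]; exact hy', ?_⟩⟩
      change y = (x : K) ^ 1 * (y / x)
      rw [pow_one, mul_div_cancel₀ _ hx0]
  | zero => exact ⟨0, hup 0 0 ⟨0, zero_mem _, by simp⟩⟩
  | one => exact ⟨0, hup 0 1 ⟨1, by simp, by simp⟩⟩
  | add a b _ _ iha ihb =>
    obtain ⟨i, hi⟩ := iha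
    obtain ⟨j, hj⟩ := ihb
    refine ⟨max i j, fun l hl => ?_⟩
    obtain ⟨y, hy, hy'⟩ := hi l ((le_max_left _ _).trans hl)
    obtain ⟨z, hz, hz'⟩ := hj l ((le_max_right _ _).trans hl)
    refine ⟨y + z, add_mem hy hz, ?_⟩
    change (y : K) + z = _
    rw [hy', hz']; ring
  | neg a _ iha =>
    obtain ⟨i, hi⟩ := iha
    refine ⟨i, fun l hl => ?_⟩
    obtain ⟨y, hy, hy'⟩ := hi l hl
    refine ⟨-y, neg_mem hy, ?_⟩
    change -(y : K) = _
    rw [hy']; ring
  | mul a b _ _ iha ihb =>
    obtain ⟨i, hi⟩ := iha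
    obtain ⟨j, hj⟩ := ihb
    refine ⟨i + j, hup (i + j) _ ?_⟩
    obtain ⟨y, hy, hy'⟩ := hi i le_rfl
    obtain ⟨z, hz, hz'⟩ := hj j le_rfl
    refine ⟨y * z, by rw [pow_add]; exact Ideal.mul_mem_mul hy hz, ?_⟩
    change (y : K) * z = _
    rw [hy', hz', pow_add]; ring

/-- The charts of the blow-up of `m` are integrally closed in `K`, as soon as all powers of `m` are. -/
theorem mem_chartRing_of_forall
    (hIC : ∀ (s : ℕ) (f : K), (∀ V ∈ ZR A, MemIV (maximalIdeal A ^ s) V f) →
      ∃ g ∈ maximalIdeal A ^ s, (g : K) = f) {x : A} (hx : x ∈ maximalIdeal A) (hx0 : (x : K) ≠ 0) {f : K}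
    (hf : ∀ V ∈ ZR (chartRing A (mSet A) (x : K)), f ∈ V) : f ∈ chartRing A (mSet A) (x : K) := by
  classical
  obtain ⟨p, hp, hpf⟩ := Groth.Agent.Lipman.ZRD158.isIntegral_iff.2 hf
  -- a common exponent
  obtain ⟨j, hj⟩ : ∃ j : ℕ, ∀ i ∈ p.support, ∀ l, j ≤ l → ∃ y ∈ maximalIdeal A ^ l,
      (y : K) = (x : K) ^ l * ((p.coeff i : chartRing A (mSet A) (x : K)) : K) := by
    have h1 : ∀ i, ∃ j : ℕ, ∀ l, j ≤ l → ∃ y ∈ maximalIdeal A ^ l,
        (y : K) = (x : K) ^ l * ((p.coeff i : chartRing A (mSet A) (x : K)) : K) := fun i =>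
      exists_pow_mul_mem_chart hx (p.coeff i).2 hx0
    choose J hJ using h1
    refine ⟨p.support.sup J, fun i hi l hl => hJ i l ((Finset.le_sup hi).trans hl)⟩
  have hF : ∀ V ∈ ZR A, MemIV (maximalIdeal A ^ (j + 1)) V ((x : K) ^ (j + 1) * f) := by
    intro V hV
    have hV' := inZR_iff.2 hV
    obtain ⟨t, htm, ht⟩ := exists_max hV' (IsNoetherian.noetherian (maximalIdeal A))
    have ht0 : V.valuation (algebraMap A K t) ≠ 0 := by
      intro h0
      have h1 := ht x hx
      rw [h0] at h1
      exact hx0 ((V.valuation.zero_iff).1 (le_antisymm h1 zero_le))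
    refine ⟨t ^ (j + 1), Ideal.pow_mem_pow htm _, ?_⟩
    by_contra hcon
    rw [not_le] at hcon
    set F : K := (x : K) ^ (j + 1) * f with hFdef
    have hFpos : 0 < V.valuation F := lt_of_le_of_lt zero_le hcon
    -- the equation
    have heq : F ^ p.natDegree = -∑ i ∈ Finset.range p.natDegree,
        ((p.coeff i : chartRing A (mSet A) (x : K)) : K) * (x : K) ^ ((j + 1) * (p.natDegree - i)) *
          F ^ i := by
      have h1 : ∑ i ∈ Finset.range (p.natDegree + 1),
          ((p.coeff i : chartRing A (mSet A) (x : K)) : K) * f ^ i = 0 := by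
        rw [← hpf, Polynomial.eval₂_eq_sum_range]
        rfl
      rw [Finset.sum_range_succ, hp.coeff_natDegree] at h1
      have h2 : f ^ p.natDegree = -∑ i ∈ Finset.range p.natDegree,
          ((p.coeff i : chartRing A (mSet A) (x : K)) : K) * f ^ i := by
        have h3 : (((1 : chartRing A (mSet A) (x : K)) : K)) = 1 := rfl
        rw [h3, one_mul] at h1
        exact eq_neg_of_add_eq_zero_right h1
      rw [hFdef, mul_pow, h2, mul_neg, Finset.mul_sum]
      congr 1
      refine Finset.sum_congr rfl fun i hi => ?_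
      have hi' : i < p.natDegree := Finset.mem_range.1 hi
      have h4 : ((x : K) ^ (j + 1)) ^ p.natDegree =
          (x : K) ^ ((j + 1) * (p.natDegree - i)) * ((x : K) ^ (j + 1)) ^ i := by
        rw [← pow_mul, ← pow_mul, ← pow_add]
        congr 1
        rw [← Nat.mul_add, Nat.sub_add_cancel hi'.le]
      rw [h4, mul_pow]; ring
    have hlt : V.valuation (F ^ p.natDegree) < V.valuation (F ^ p.natDegree) := by
      conv_lhs => rw [heq]
      rw [Valuation.map_neg]
      refine Valuation.map_sum_lt _ ?_ ?_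
      · rw [map_pow]; exact (pow_pos hFpos _).ne'
      · intro i hi
        have hi' : i < p.natDegree := Finset.mem_range.1 hi
        rw [map_mul, map_pow V.valuation F p.natDegree]
        have h5 : V.valuation (((p.coeff i : chartRing A (mSet A) (x : K)) : K) *
            (x : K) ^ ((j + 1) * (p.natDegree - i))) ≤
            V.valuation (algebraMap A K t) ^ ((j + 1) * (p.natDegree - i)) := by
          by_cases hc : p.coeff i = 0
          · rw [hc]
            simp
          · obtain ⟨y, hy, hyc⟩ := hj i (Polynomial.mem_support_iff.2 hc) ((j + 1) * (p.natDegree - i)) (by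
              have : 1 ≤ p.natDegree - i := by omega
              calc j ≤ (j + 1) * 1 := by omega
                _ ≤ _ := Nat.mul_le_mul_left _ this)
            have h6 := max_pow hV' ht _ _ hy
            rw [map_pow, map_pow] at h6
            have h7 : ((p.coeff i : chartRing A (mSet A) (x : K)) : K) *
                (x : K) ^ ((j + 1) * (p.natDegree - i)) = algebraMap A K y := by
              rw [algebraMap_eq, hyc]; ring
            rw [h7]
            exact h6
        calc V.valuation (((p.coeff i : chartRing A (mSet A) (x : K)) : K) *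
            (x : K) ^ ((j + 1) * (p.natDegree - i))) * V.valuation (F ^ i)
            ≤ V.valuation (algebraMap A K t) ^ ((j + 1) * (p.natDegree - i)) * V.valuation (F ^ i) :=
              mul_le_mul_left h5 _
          _ < V.valuation F ^ (p.natDegree - i) * V.valuation (F ^ i) := by
              refine mul_lt_mul_of_pos_right ?_ ?_
              · rw [pow_mul]
                refine pow_lt_pow_left₀ ?_ zero_le (by omega)
                rw [map_pow, map_pow] at hcon
                exact hcon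
              · rw [map_pow]; exact pow_pos hFpos _
          _ = V.valuation F ^ p.natDegree := by
              rw [map_pow, ← pow_add, Nat.sub_add_cancel hi'.le]
    exact lt_irrefl _ hlt
  obtain ⟨g, hg, hgF⟩ := hIC (j + 1) _ hF
  -- elements of `m^i / x^i` are in the chart
  have hdiv : ∀ i : ℕ, ∀ g ∈ maximalIdeal A ^ i, (g : K) / (x : K) ^ i ∈ chartRing A (mSet A) (x : K) := by
    intro i
    induction i with
    | zero =>
      intro g _
      rw [pow_zero, div_one]
      exact le_chartRing _ _ _ g.2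
    | succ i ih =>
      intro g hg
      rw [pow_succ] at hg
      refine Submodule.mul_induction_on hg ?_ ?_
      · intro y hy z hz
        have h1 : ((y * z : A) : K) / (x : K) ^ (i + 1) = (y : K) / (x : K) ^ i * ((z : K) / x) := by
          change (y : K) * z / _ = _
          rw [pow_succ]; field_simp
        rw [h1]
        refine mul_mem (ih y hy) (div_mem_chartRing _ _ ⟨z.2, ?_⟩)
        by_contra hcon
        push Not at hcon
        rw [mem_maximalIdeal, mem_nonunits_iff] at hz
        apply hz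
        refine IsUnit.of_mul_eq_one ⟨(z : K)⁻¹, hcon.2⟩ ?_
        ext
        exact mul_inv_cancel₀ hcon.1
      · intro y z hy hz
        have h1 : ((y + z : A) : K) / (x : K) ^ (i + 1) =
            (y : K) / (x : K) ^ (i + 1) + (z : K) / (x : K) ^ (i + 1) := by
          change ((y : K) + z) / _ = _
          rw [add_div]
        rw [h1]
        exact add_mem hy hz
  have h1 := hdiv (j + 1) g hg
  rw [hgF, mul_div_cancel_left₀ _ (pow_ne_zero _ hx0)] at h1
  exact h1

end Groth.Agent.Lipman.B4
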