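import Mathlib.RingTheory.Length
import Mathlib.RingTheory.Polynomial.Basic
import Mathlib.Algebra.Polynomial.Module.AEval
import Mathlib.Algebra.Polynomial.FieldDivision
import Mathlib.Data.ENat.Basic
import Groth.Agent.FormalB.GrAlg

/-!
# Hilbert functions are eventually polynomial, and a rigidity statement

For a graded system `(M n)` of modules of finite length over a Noetherian ring, with finitely many
commuting operators `M n → M (n+1)` that generate eventually, the function `length (M n)` is killed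
by `T^a (T-1)^r` (`T` = shift).  If moreover `(T^k-1)^2` kills it then `(T-1)^2` kills it.
-/

set_option autoImplicit false
universe u

open Polynomial

namespace Groth.Agent.Lipman.HilbEv

/-- the shift operator. -/
def T : Module.End ℚ (ℕ → ℚ) where
  toFun f n := f (n + 1)
  map_add' _ _ := rfl
  map_smul' _ _ := rfl

theorem T_apply (f : ℕ → ℚ) (n : ℕ) : T f n = f (n + 1) := rfl

theorem T_pow_apply (f : ℕ → ℚ) (a n : ℕ) : (T ^ a) f n = f (n + a) := by
  induction a generalizing n with
  | zero => rfl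
  | succ a ih =>
    rw [pow_succ', Module.End.mul_apply, T_apply, ih]
    congr 1
    omega

/-- eventually polynomial functions. -/
def EvPoly (f : ℕ → ℚ) : Prop := ∃ a r : ℕ, aeval T ((X : ℚ[X]) ^ a * (X - 1) ^ r) f = 0

theorem aeval_zero_of_dvd {f : ℕ → ℚ} {p q : ℚ[X]} (h : p ∣ q) (hp : aeval T p f = 0) :
    aeval T q f = 0 := by
  obtain ⟨c, rfl⟩ := h
  rw [mul_comm, map_mul, Module.End.mul_apply, hp, map_zero]

theorem EvPoly.sub {f g : ℕ → ℚ} (hf : EvPoly f) (hg : EvPoly g) : EvPoly (f - g) := by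
  obtain ⟨a, r, h⟩ := hf
  obtain ⟨b, s, h'⟩ := hg
  refine ⟨max a b, max r s, ?_⟩
  rw [map_sub, aeval_zero_of_dvd (mul_dvd_mul (pow_dvd_pow _ (le_max_left _ _))
      (pow_dvd_pow _ (le_max_left _ _))) h,
    aeval_zero_of_dvd (mul_dvd_mul (pow_dvd_pow _ (le_max_right _ _))
      (pow_dvd_pow _ (le_max_right _ _))) h', sub_zero]

theorem evPoly_of_eventually_zero {f : ℕ → ℚ} (a : ℕ) (h : ∀ n, a ≤ n → f n = 0) : EvPoly f := by
  refine ⟨a, 0, ?_⟩
  rw [pow_zero, mul_one, map_pow, aeval_X]
  funext n
  rw [T_pow_apply]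
  exact h _ (by omega)

theorem EvPoly.of_shift {f : ℕ → ℚ} (h : EvPoly (T f)) : EvPoly f := by
  obtain ⟨a, r, h⟩ := h
  refine ⟨a + 1, r, ?_⟩
  rw [← h, pow_succ, mul_assoc, mul_comm X, ← mul_assoc, map_mul _ _ X, Module.End.mul_apply,
    aeval_X]

theorem EvPoly.of_diff {f : ℕ → ℚ} (h : EvPoly (fun n => f (n + 1) - f n)) : EvPoly f := by
  obtain ⟨a, r, h⟩ := h
  refine ⟨a, r + 1, ?_⟩
  rw [← h, pow_succ, ← mul_assoc, map_mul _ _ (X - 1), Module.End.mul_apply, map_sub, aeval_X,
    map_one]
  rfl

/-- Rigidity: an eventually polynomial function killed by `(T^k-1)^2` is killed by `(T-1)^2`. -/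
theorem EvPoly.diff_two_eq_zero {f : ℕ → ℚ} (hf : EvPoly f) {k : ℕ} (hk : 0 < k)
    (h : ∀ n, f (n + k + k) - 2 * f (n + k) + f n = 0) (n : ℕ) :
    f (n + 2) - 2 * f (n + 1) + f n = 0 := by
  obtain ⟨a, r, hf⟩ := hf
  let Q : ℚ[X] := ∑ i ∈ Finset.range k, X ^ i
  have hQ : Q * (X - 1) = X ^ k - 1 := geom_sum_mul X k
  have h1 : IsCoprime Q (X - 1) := by
    have : (X - 1 : ℚ[X]) = X - C 1 := by simp
    rw [this]
    refine IsCoprime.symm ((Polynomial.irreducible_X_sub_C (1 : ℚ)).coprime_iff_not_dvd.2 ?_)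
    rw [Polynomial.dvd_iff_isRoot]
    simp only [Q, IsRoot, eval_finsetSum, eval_pow, eval_X, one_pow, Finset.sum_const,
      Finset.card_range, nsmul_eq_mul, mul_one]
    exact_mod_cast hk.ne'
  have h0 : IsCoprime Q X := by
    have : (X : ℚ[X]) = X - C 0 := by simp
    rw [this]
    refine IsCoprime.symm ((Polynomial.irreducible_X_sub_C (0 : ℚ)).coprime_iff_not_dvd.2 ?_)
    rw [Polynomial.dvd_iff_isRoot]
    simp only [Q, IsRoot, eval_finsetSum, eval_pow, eval_X]
    obtain ⟨k, rfl⟩ := Nat.exists_eq_succ_of_ne_zero hk.ne'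
    rw [Finset.sum_range_succ']
    simp
  have h2 : IsCoprime (Q ^ 2) (X ^ a * (X - 1) ^ r) :=
    (IsCoprime.mul_right (h0.pow_right) (h1.pow_right)).pow_left
  obtain ⟨u, v, huv⟩ := h2
  have h3 : aeval T ((X ^ k - 1 : ℚ[X]) ^ 2) f = 0 := by
    have : ((X ^ k - 1 : ℚ[X]) ^ 2) = X ^ (k + k) - C 2 * X ^ k + 1 := by
      rw [show (C 2 : ℚ[X]) = 2 by rfl]; ring
    rw [this]
    funext n
    have := h n
    simp only [map_add, map_sub, map_mul, map_pow, aeval_X, map_one, aeval_C, LinearMap.add_apply,
      LinearMap.sub_apply, Module.End.mul_apply, Module.End.one_apply, Pi.add_apply, Pi.sub_apply,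
      T_pow_apply, Module.algebraMap_end_apply, Pi.smul_apply, smul_eq_mul, Pi.zero_apply]
    rw [← add_assoc]
    exact this
  have h4 : aeval T ((X - 1 : ℚ[X]) ^ 2) f = 0 := by
    have : ((X - 1 : ℚ[X]) ^ 2) = u * (X ^ k - 1) ^ 2 + (v * (X - 1) ^ 2) * (X ^ a * (X - 1) ^ r) := by
      calc ((X - 1 : ℚ[X]) ^ 2) = (u * Q ^ 2 + v * (X ^ a * (X - 1) ^ r)) * (X - 1) ^ 2 := by
            rw [huv, one_mul]
        _ = u * (Q * (X - 1)) ^ 2 + (v * (X - 1) ^ 2) * (X ^ a * (X - 1) ^ r) := by ring
        _ = _ := by rw [hQ]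
    rw [this, map_add, map_mul, map_mul _ (v * (X - 1) ^ 2), LinearMap.add_apply,
      Module.End.mul_apply, Module.End.mul_apply, h3, hf, map_zero, map_zero, add_zero]
  have h5 := congrFun h4 n
  have : ((X - 1 : ℚ[X]) ^ 2) = X ^ 2 - C 2 * X + 1 := by
    rw [show (C 2 : ℚ[X]) = 2 by rfl]; ring
  rw [this] at h5
  simp only [map_add, map_sub, map_mul, map_pow, aeval_X, map_one, aeval_C, LinearMap.add_apply,
      LinearMap.sub_apply, Module.End.mul_apply, Module.End.one_apply, Pi.add_apply, Pi.sub_apply,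
      T_pow_apply, T_apply, Module.algebraMap_end_apply, Pi.smul_apply, smul_eq_mul,
      Pi.zero_apply] at h5
  exact h5

theorem linear_of_diff_two {f : ℕ → ℚ} (h : ∀ n, f (n + 2) - 2 * f (n + 1) + f n = 0) (n : ℕ) :
    f n = f 0 + n * (f 1 - f 0) := by
  have : ∀ n, f (n + 1) - f n = f 1 - f 0 := by
    intro n
    induction n with
    | zero => rfl
    | succ n ih => rw [← ih]; linarith [h n]
  induction n with
  | zero => simp
  | succ n ih =>
    push_cast
    linarith [this n]

section Length

variable {A : Type u} [CommRing A]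

/-- the numerical function of a graded system. -/
noncomputable def len (A : Type u) [CommRing A] (M : Type*) [AddCommGroup M] [Module A M] : ℚ :=
  (Module.length A M).toNat

theorem len_of_exact {N M P : Type*} [AddCommGroup N] [AddCommGroup M] [AddCommGroup P]
    [Module A N] [Module A M] [Module A P] (f : N →ₗ[A] M) (g : M →ₗ[A] P)
    (hf : Function.Injective f) (hg : Function.Surjective g) (H : Function.Exact f g)
    (hM : Module.length A M ≠ ⊤) : len A M = len A N + len A P := by
  have h := Module.length_eq_add_of_exact f g hf hg H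
  have h1 : Module.length A N ≠ ⊤ := fun h' => hM (by rw [h, h', top_add])
  have h2 : Module.length A P ≠ ⊤ := fun h' => hM (by rw [h, h', add_top])
  rw [len, h, ENat.toNat_add h1 h2]
  push_cast
  rfl

theorem length_ne_top_of_injective {N M : Type*} [AddCommGroup N] [AddCommGroup M]
    [Module A N] [Module A M] (f : N →ₗ[A] M) (hf : Function.Injective f)
    (hM : Module.length A M ≠ ⊤) : Module.length A N ≠ ⊤ :=
  ne_top_of_le_ne_top hM (Module.length_le_of_injective f hf)

theorem length_ne_top_of_surjective {N M : Type*} [AddCommGroup N] [AddCommGroup M]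
    [Module A N] [Module A M] (f : M →ₗ[A] N) (hf : Function.Surjective f)
    (hM : Module.length A M ≠ ⊤) : Module.length A N ≠ ⊤ :=
  ne_top_of_le_ne_top hM (Module.length_le_of_surjective f hf)

theorem evPoly_len_aux [IsNoetherianRing A] (r : ℕ) :
    ∀ (M : ℕ → Type u) [∀ n, AddCommGroup (M n)] [∀ n, Module A (M n)]
      (x : Fin r → ∀ n, M n →ₗ[A] M (n + 1))
      (_ : ∀ i j n m, x i (n + 1) (x j n m) = x j (n + 1) (x i n m))
      (_ : ∀ n, Module.length A (M n) ≠ ⊤)
      (_ : ∃ n₀ : ℕ, ∀ n, n₀ ≤ n → (⊤ : Submodule A (M (n + 1))) ≤ ⨆ i, LinearMap.range (x i n)),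
      EvPoly (fun n => len A (M n)) := by
  induction r with
  | zero =>
    intro M _ _ x _ _ hgen
    obtain ⟨n₀, h⟩ := hgen
    refine evPoly_of_eventually_zero (n₀ + 1) fun n hn => ?_
    obtain ⟨n, rfl⟩ := Nat.exists_eq_succ_of_ne_zero (by omega : n ≠ 0)
    have h1 := h n (by omega)
    rw [iSup_of_empty, top_le_iff] at h1
    have h2 : Subsingleton (M (n + 1)) := by
      rw [← Submodule.subsingleton_iff A]
      exact ⟨fun a b => by
        have ha : a = ⊥ := le_bot_iff.1 (h1 ▸ le_top)
        have hb : b = ⊥ := le_bot_iff.1 (h1 ▸ le_top)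
        rw [ha, hb]⟩
    simp [len]
  | succ r ih =>
    intro M _ _ x hcomm hlen hgen
    have hfin : ∀ n, Module.Finite A (M n) := fun n => by
      have := (isFiniteLength_iff_isNoetherian_isArtinian.1 (Module.length_ne_top_iff.1 (hlen n))).1
      infer_instance
    let y := x (Fin.last r)
    -- the kernel system
    let K : ∀ n, Submodule A (M n) := fun n => LinearMap.ker (y n)
    have hK : ∀ i n, (K n).map (x i n) ≤ K (n + 1) := by
      rintro i n _ ⟨m, hm, rfl⟩
      have hm' : y n m = 0 := hm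
      change y (n + 1) (x i n m) = 0
      rw [hcomm, hm', map_zero]
    have hKgen := FormalB.GrAlg.exists_generated_submodule x hcomm hfin hgen K hK
    let xK : Fin r → ∀ n, K n →ₗ[A] K (n + 1) := fun i n =>
      (x i.castSucc n).restrict (fun m hm => hK _ _ ⟨m, hm, rfl⟩)
    have hKp : EvPoly (fun n => len A (K n)) := by
      refine ih (fun n => K n) xK ?_ ?_ ?_
      · intro i j n m
        apply Subtype.ext
        exact hcomm _ _ _ _
      · intro n
        exact length_ne_top_of_injective (K n).subtype Subtype.val_injective (hlen n)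
      · obtain ⟨n₀, h⟩ := hKgen
        refine ⟨n₀, fun n hn => ?_⟩
        have h1 := h n hn
        rintro ⟨m, hm⟩ -
        have h2 := h1 hm
        have h3 : (⨆ i, (K n).map (x i n)) ≤
            (⨆ i, LinearMap.range (xK i n)).map (K (n + 1)).subtype := by
          refine iSup_le fun i => ?_
          rintro _ ⟨w, hw, rfl⟩
          induction i using Fin.lastCases with
          | last =>
            have : y n w = 0 := hw
            change y n w ∈ _
            rw [this]
            exact Submodule.zero_mem _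
          | cast i =>
            refine ⟨xK i n ⟨w, hw⟩, Submodule.mem_iSup_of_mem i ⟨⟨w, hw⟩, rfl⟩, rfl⟩
        obtain ⟨m', hm', h4⟩ := h3 h2
        have h5 : m' = ⟨m, hm⟩ := Subtype.ext h4
        rw [← h5]
        exact hm'
    -- the cokernel system
    let R : ∀ n, Submodule A (M (n + 1)) := fun n => LinearMap.range (y n)
    have hR : ∀ i n, R n ≤ (R (n + 1)).comap (x i (n + 1)) := by
      rintro i n _ ⟨m, rfl⟩
      change x i (n + 1) (y n m) ∈ LinearMap.range (y (n + 1))
      rw [hcomm]
      exact ⟨_, rfl⟩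
    let xC : Fin r → ∀ n, (M (n + 1) ⧸ R n) →ₗ[A] (M (n + 1 + 1) ⧸ R (n + 1)) := fun i n =>
      (R n).mapQ (R (n + 1)) (x i.castSucc (n + 1)) (hR _ _)
    have hCp : EvPoly (fun n => len A (M (n + 1) ⧸ R n)) := by
      refine ih (fun n => M (n + 1) ⧸ R n) xC ?_ ?_ ?_
      · intro i j n m
        obtain ⟨m, rfl⟩ := Submodule.Quotient.mk_surjective _ m
        simp only [xC, Submodule.mapQ_apply]
        rw [hcomm]
      · intro n
        exact length_ne_top_of_surjective (R n).mkQ (Submodule.mkQ_surjective _) (hlen (n + 1))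
      · obtain ⟨n₀, h⟩ := hgen
        refine ⟨n₀, fun n hn => ?_⟩
        have h1 := h (n + 1) (by omega)
        rintro m -
        obtain ⟨m, rfl⟩ := Submodule.Quotient.mk_surjective _ m
        have h2 := h1 (Submodule.mem_top (x := m))
        have h3 : (⨆ i, LinearMap.range (x i (n + 1))) ≤
            (⨆ i, LinearMap.range (xC i n)).comap (R (n + 1)).mkQ := by
          refine iSup_le fun i => ?_
          rintro _ ⟨w, rfl⟩
          induction i using Fin.lastCases with
          | last =>
            have : (R (n + 1)).mkQ (x (Fin.last r) (n + 1) w) = 0 := by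
              rw [Submodule.mkQ_apply, Submodule.Quotient.mk_eq_zero]
              exact ⟨w, rfl⟩
            rw [Submodule.mem_comap, this]
            exact Submodule.zero_mem _
          | cast i =>
            exact Submodule.mem_iSup_of_mem i ⟨(R n).mkQ w, rfl⟩
        exact h3 h2
    refine EvPoly.of_diff ?_
    have : (fun n => len A (M (n + 1)) - len A (M n)) =
        (fun n => len A (M (n + 1) ⧸ R n)) - (fun n => len A (K n)) := by
      funext n
      have h1 := len_of_exact (K n).subtype (y n).rangeRestrict Subtype.val_injective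
        (LinearMap.surjective_rangeRestrict _) (by
          rw [LinearMap.exact_iff, LinearMap.ker_rangeRestrict, Submodule.range_subtype]) (hlen n)
      have h2 := len_of_exact (R n).subtype (R n).mkQ Subtype.val_injective
        (Submodule.mkQ_surjective _) (by
          rw [LinearMap.exact_iff, Submodule.ker_mkQ, Submodule.range_subtype]) (hlen (n + 1))
      rw [Pi.sub_apply]
      have h3 : len A (LinearMap.range (y n)) = len A (R n) := rfl
      rw [h1, h2, h3]
      ring
    rw [this]
    exact hCp.sub hKp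

/-- Hilbert functions are eventually polynomial. -/
theorem evPoly_len [IsNoetherianRing A] {ι : Type*} [Finite ι]
    (M : ℕ → Type u) [∀ n, AddCommGroup (M n)] [∀ n, Module A (M n)]
    (x : ι → ∀ n, M n →ₗ[A] M (n + 1))
    (hcomm : ∀ i j n m, x i (n + 1) (x j n m) = x j (n + 1) (x i n m))
    (hlen : ∀ n, Module.length A (M n) ≠ ⊤)
    (hgen : ∃ n₀ : ℕ, ∀ n, n₀ ≤ n → (⊤ : Submodule A (M (n + 1))) ≤ ⨆ i, LinearMap.range (x i n)) :
    EvPoly (fun n => len A (M n)) := by
  obtain ⟨r, ⟨e⟩⟩ := Finite.exists_equiv_fin ι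
  refine evPoly_len_aux r M (fun i => x (e.symm i)) (fun _ _ _ _ => hcomm _ _ _ _) hlen ?_
  obtain ⟨n₀, h⟩ := hgen
  refine ⟨n₀, fun n hn => (h n hn).trans (iSup_le fun i => ?_)⟩
  refine le_trans (le_of_eq ?_) (le_iSup (fun j => LinearMap.range (x (e.symm j) n)) (e i))
  simp

end Length

end Groth.Agent.Lipman.HilbEv
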