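import Mathlib.Algebra.Module.SpanRankOperations
import Mathlib.RingTheory.LocalRing.Module
import Mathlib.RingTheory.Artinian.Module
import Mathlib.Tactic.LinearCombination
import Groth.Agent.Lipman.HilbEv

/-!
# The Hilbert function of a rational surface singularity is linear

`A` a Noetherian local domain, `a, b ∈ m^k` such that
`0 → m^s → (m^(s+k))^2 → m^(s+2k) → 0` is exact for all `s ≥ 0`.  Then `μ(m^s) = n s + 1`.
-/

set_option autoImplicit false
universe u

open IsLocalRing

namespace Groth.Agent.Lipman.HilbLin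

open HilbEv

variable {A : Type u} [CommRing A] [IsLocalRing A]

/-- `m^(s+1)` inside `m^s`. -/
def sub (A : Type u) [CommRing A] [IsLocalRing A] (s : ℕ) :
    Submodule A (maximalIdeal A ^ s : Ideal A) :=
  Submodule.comap (Submodule.subtype (maximalIdeal A ^ s)) (maximalIdeal A ^ (s + 1))

theorem mem_sub {s : ℕ} (w : (maximalIdeal A ^ s : Ideal A)) :
    w ∈ sub A s ↔ (w : A) ∈ maximalIdeal A ^ (s + 1) := Iff.rfl

/-- `m^s / m^(s+1)`. -/
abbrev gr (A : Type u) [CommRing A] [IsLocalRing A] (s : ℕ) : Type u :=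
  (maximalIdeal A ^ s : Ideal A) ⧸ sub A s

theorem sub_eq (s : ℕ) : sub A s = maximalIdeal A • (⊤ : Submodule A (maximalIdeal A ^ s : Ideal A)) := by
  refine Submodule.map_injective_of_injective (f := Submodule.subtype (maximalIdeal A ^ s))
    Subtype.val_injective ?_
  rw [Submodule.map_smul'', Submodule.map_top, Submodule.range_subtype, sub,
    Submodule.map_comap_eq, Submodule.range_subtype, smul_eq_mul, ← pow_succ']
  exact inf_eq_right.2 (Ideal.pow_le_pow_right (Nat.le_succ s))

/-- multiplication by `a ∈ m^k` on `m^s`. -/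
def mulMap (k : ℕ) (a : A) (ha : a ∈ maximalIdeal A ^ k) (s : ℕ) :
    (maximalIdeal A ^ s : Ideal A) →ₗ[A] (maximalIdeal A ^ (s + k) : Ideal A) where
  toFun w := ⟨a * w, by rw [add_comm, pow_add]; exact Ideal.mul_mem_mul ha w.2⟩
  map_add' u v := Subtype.ext (mul_add _ _ _)
  map_smul' c u := Subtype.ext (by
    simp only [SetLike.val_smul, smul_eq_mul, RingHom.id_apply]; ring)

theorem mulMap_apply (k : ℕ) (a : A) (ha : a ∈ maximalIdeal A ^ k) (s : ℕ)
    (w : (maximalIdeal A ^ s : Ideal A)) : (mulMap k a ha s w : A) = a * w := rfl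

theorem mulMap_le (k : ℕ) (a : A) (ha : a ∈ maximalIdeal A ^ k) (s : ℕ) :
    sub A s ≤ (sub A (s + k)).comap (mulMap k a ha s) := by
  intro w hw
  rw [mem_sub] at hw
  rw [Submodule.mem_comap, mem_sub, mulMap_apply]
  have : a * (w : A) ∈ maximalIdeal A ^ k * maximalIdeal A ^ (s + 1) := Ideal.mul_mem_mul ha hw
  rw [← pow_add] at this
  rwa [show s + k + 1 = k + (s + 1) by omega]

/-- multiplication by `a` on the graded ring. -/
def grMap (k : ℕ) (a : A) (ha : a ∈ maximalIdeal A ^ k) (s : ℕ) :
    gr A s →ₗ[A] gr A (s + k) :=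
  (sub A s).mapQ (sub A (s + k)) (mulMap k a ha s) (mulMap_le k a ha s)

theorem smul_gr (s : ℕ) {c : A} (hc : c ∈ maximalIdeal A) (w : gr A s) : c • w = 0 := by
  obtain ⟨w, rfl⟩ := Submodule.Quotient.mk_surjective _ w
  rw [← Submodule.Quotient.mk_smul, Submodule.Quotient.mk_eq_zero, sub_eq]
  exact Submodule.smul_mem_smul hc trivial

section Noeth

variable [IsNoetherianRing A]

theorem length_gr (s : ℕ) :
    Module.length A (gr A s) = ((maximalIdeal A ^ s).spanFinrank : ℕ) := by
  let : Field (A ⧸ maximalIdeal A) := Ideal.Quotient.field _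
  rw [spanFinrank_eq_finrank_quotient _ (maximalIdeal A ^ s).fg_of_isNoetherianRing]
  rw [(Submodule.quotEquivOfEq _ _ (sub_eq s)).length_eq]
  have hfin : Module.Finite (A ⧸ maximalIdeal A) ((maximalIdeal A ^ s : Ideal A) ⧸
      maximalIdeal A • (⊤ : Submodule A (maximalIdeal A ^ s : Ideal A))) :=
    Module.Finite.of_restrictScalars_finite A _ _
  rw [Module.length_eq_of_surjective (S := A) (R := A ⧸ maximalIdeal A)
    (by exact Ideal.Quotient.mk_surjective), Module.length_eq_finrank]

theorem len_gr (s : ℕ) : len A (gr A s) = ((maximalIdeal A ^ s).spanFinrank : ℕ) := by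
  rw [len, length_gr, ENat.toNat_natCast]

theorem length_gr_ne_top (s : ℕ) : Module.length A (gr A s) ≠ ⊤ := by
  rw [length_gr]; exact ENat.natCast_ne_top _

theorem evPoly_gr : EvPoly (fun s => len A (gr A s)) := by
  obtain ⟨t, ht⟩ := (maximalIdeal A).fg_of_isNoetherianRing
  have htm : ∀ i : t, (i : A) ∈ maximalIdeal A ^ 1 := fun i => by
    rw [pow_one, ← ht]; exact Ideal.subset_span i.2
  refine evPoly_len (gr A) (fun i : t => grMap 1 (i : A) (htm i)) ?_ length_gr_ne_top ⟨0, ?_⟩
  · intro i j n m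
    obtain ⟨m, rfl⟩ := Submodule.Quotient.mk_surjective _ m
    simp only [grMap, Submodule.mapQ_apply]
    congr 1
    exact Subtype.ext (mul_left_comm _ _ _)
  · intro n _ m _
    obtain ⟨⟨m, hm⟩, rfl⟩ := Submodule.Quotient.mk_surjective _ m
    let W : Submodule A (gr A (n + 1)) := ⨆ i : t, LinearMap.range (grMap 1 (i : A) (htm i) n)
    let J : Ideal A := (W.comap (sub A (n + 1)).mkQ).map (Submodule.subtype (maximalIdeal A ^ (n + 1)))
    have key : maximalIdeal A ^ (n + 1) ≤ J := by
      rw [pow_succ']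
      refine Submodule.mul_le.2 fun c hc d hd => ?_
      have h1 : Ideal.span (t : Set A) ≤ Submodule.comap (LinearMap.mulRight A d) J := by
        refine Ideal.span_le.2 fun x hx => ?_
        exact ⟨mulMap 1 x (htm ⟨x, hx⟩) n ⟨d, hd⟩,
          Submodule.mem_iSup_of_mem ⟨x, hx⟩ ⟨Submodule.Quotient.mk ⟨d, hd⟩, rfl⟩, rfl⟩
      rw [ht] at h1
      exact h1 hc
    obtain ⟨m', hm', h⟩ := key hm
    have h' : m' = ⟨m, hm⟩ := Subtype.ext h
    rw [← h']
    exact hm'

theorem len_gr_zero : len A (gr A 0) = 1 := by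
  rw [len_gr, pow_zero]
  norm_cast
  rw [Submodule.spanFinrank_eq_one_iff]
  refine ⟨⟨1, ?_⟩, ?_⟩
  · rw [Ideal.one_eq_top]; exact Ideal.span_singleton_one.symm
  · rw [Ideal.one_eq_top]; exact top_ne_bot

/-- **The Hilbert function of a rational surface singularity is linear.** -/
theorem spanFinrank_pow [IsDomain A] (k : ℕ) (hk : 0 < k) (a b : A)
    (ha : a ∈ maximalIdeal A ^ k) (hb : b ∈ maximalIdeal A ^ k) (hb0 : b ≠ 0)
    (h2 : ∀ s, ∀ w ∈ maximalIdeal A ^ (s + k + k), ∃ u ∈ maximalIdeal A ^ (s + k),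
      ∃ v ∈ maximalIdeal A ^ (s + k), w = a * u + b * v)
    (h3 : ∀ s, ∀ u ∈ maximalIdeal A ^ (s + k), ∀ v ∈ maximalIdeal A ^ (s + k), a * u + b * v = 0 →
      ∃ w ∈ maximalIdeal A ^ s, u = b * w ∧ v = -(a * w)) (s : ℕ) :
    (maximalIdeal A ^ s).spanFinrank = s * ((maximalIdeal A).spanFinrank - 1) + 1 := by
  have hex : ∀ s, len A (gr A (s + k) × gr A (s + k)) = len A (gr A s) + len A (gr A (s + k + k)) := by
    intro s
    let f : gr A s →ₗ[A] gr A (s + k) × gr A (s + k) :=
      (grMap k b hb s).prod (-(grMap k a ha s))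
    let g : gr A (s + k) × gr A (s + k) →ₗ[A] gr A (s + k + k) :=
      (grMap k a ha (s + k)).coprod (grMap k b hb (s + k))
    have hcomb : ∀ (u v : (maximalIdeal A ^ (s + k) : Ideal A)),
        g (Submodule.Quotient.mk u, Submodule.Quotient.mk v) =
          Submodule.Quotient.mk (mulMap k a ha (s + k) u + mulMap k b hb (s + k) v) := fun u v => rfl
    have hlift : ∀ (u v : (maximalIdeal A ^ (s + k) : Ideal A)),
        a * (u : A) + b * (v : A) ∈ maximalIdeal A ^ (s + k + k + 1) →
        ∃ w : (maximalIdeal A ^ s : Ideal A), (u : A) - b * w ∈ maximalIdeal A ^ (s + k + 1) ∧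
          (v : A) + a * w ∈ maximalIdeal A ^ (s + k + 1) := by
      intro u v huv
      have h4 : a * (u : A) + b * (v : A) ∈ maximalIdeal A ^ (s + 1 + k + k) := by
        rwa [show s + 1 + k + k = s + k + k + 1 by omega]
      obtain ⟨u', hu', v', hv', h5⟩ := h2 (s + 1) _ h4
      rw [show s + 1 + k = s + k + 1 by omega] at hu' hv'
      have hle : maximalIdeal A ^ (s + k + 1) ≤ maximalIdeal A ^ (s + k) :=
        Ideal.pow_le_pow_right (Nat.le_succ _)
      obtain ⟨w, hw, hw1, hw2⟩ := h3 s (u - u') (Ideal.sub_mem _ u.2 (hle hu')) (v - v')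
        (Ideal.sub_mem _ v.2 (hle hv')) (by linear_combination h5)
      refine ⟨⟨w, hw⟩, ?_, ?_⟩
      · rw [← hw1]; simpa using hu'
      · have : (v : A) + a * w = v' := by linear_combination hw2
        change (v : A) + a * w ∈ _
        rw [this]; exact hv'
    rw [len_of_exact f g ?_ ?_ ?_ ?_]
    · rw [← LinearMap.ker_eq_bot, LinearMap.ker_eq_bot']
      intro w hw
      obtain ⟨w, rfl⟩ := Submodule.Quotient.mk_surjective _ w
      have h4 : (Submodule.Quotient.mk (mulMap k b hb s w) : gr A (s + k)) = 0 :=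
        congrArg Prod.fst hw
      have h5 : -(Submodule.Quotient.mk (mulMap k a ha s w) : gr A (s + k)) = 0 :=
        congrArg Prod.snd hw
      rw [neg_eq_zero] at h5
      rw [Submodule.Quotient.mk_eq_zero, mem_sub, mulMap_apply] at h4 h5
      rw [Submodule.Quotient.mk_eq_zero, mem_sub]
      have h6 := h3 (s + 1) (b * w) (by rwa [show s + 1 + k = s + k + 1 by omega]) (-(a * w))
        (by rw [neg_mem_iff]; rwa [show s + 1 + k = s + k + 1 by omega]) (by ring)
      obtain ⟨w', hw', h7, -⟩ := h6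
      rw [mul_right_inj' hb0] at h7
      rw [h7]
      exact hw'
    · intro w
      obtain ⟨w, rfl⟩ := Submodule.Quotient.mk_surjective _ w
      obtain ⟨u, hu, v, hv, h4⟩ := h2 s w w.2
      refine ⟨(Submodule.Quotient.mk ⟨u, hu⟩, Submodule.Quotient.mk ⟨v, hv⟩), ?_⟩
      rw [hcomb]
      congr 1
      exact Subtype.ext h4.symm
    · rintro ⟨u, v⟩
      obtain ⟨u, rfl⟩ := Submodule.Quotient.mk_surjective _ u
      obtain ⟨v, rfl⟩ := Submodule.Quotient.mk_surjective _ v
      constructor
      · intro h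
        rw [hcomb, Submodule.Quotient.mk_eq_zero, mem_sub] at h
        obtain ⟨w, hw1, hw2⟩ := hlift u v h
        refine ⟨Submodule.Quotient.mk w, ?_⟩
        refine Prod.ext ?_ ?_
        · refine ((Submodule.Quotient.eq _).2 ?_).symm
          exact hw1
        · change -(Submodule.Quotient.mk (mulMap k a ha s w) : gr A (s + k)) = _
          rw [← Submodule.Quotient.mk_neg]
          refine ((Submodule.Quotient.eq _).2 ?_).symm
          rw [mem_sub, sub_neg_eq_add]
          exact hw2
      · rintro ⟨w, hw⟩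
        rw [← hw]
        obtain ⟨w, rfl⟩ := Submodule.Quotient.mk_surjective _ w
        have : f (Submodule.Quotient.mk w) = (Submodule.Quotient.mk (mulMap k b hb s w),
            Submodule.Quotient.mk (-(mulMap k a ha s w))) := rfl
        rw [this, hcomb]
        have : mulMap k a ha (s + k) (mulMap k b hb s w) +
            mulMap k b hb (s + k) (-(mulMap k a ha s w)) = 0 := by
          apply Subtype.ext
          change a * (b * (w : A)) + b * (-(a * (w : A))) = 0
          ring
        rw [this, Submodule.Quotient.mk_zero]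
    · rw [Module.length_prod]
      intro h
      rcases WithTop.add_eq_top.1 h with h | h
      · exact length_gr_ne_top _ h
      · exact length_gr_ne_top _ h
  have hprod : ∀ s, len A (gr A s × gr A s) = 2 * len A (gr A s) := by
    intro s
    rw [len, len, Module.length_prod, ENat.toNat_add (length_gr_ne_top s) (length_gr_ne_top s)]
    push_cast
    ring
  have h1 := (evPoly_gr (A := A)).diff_two_eq_zero hk (fun n => by
    have := hex n
    rw [hprod] at this
    linarith)
  have h4 := linear_of_diff_two (f := fun s => len A (gr A s)) h1 s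
  simp only [len_gr_zero] at h4
  rw [len_gr, len_gr, pow_one] at h4
  have h5 : (1 : ℚ) ≤ ((maximalIdeal A).spanFinrank : ℕ) := by
    by_contra hlt
    push Not at hlt
    norm_cast at hlt
    have h6 : (maximalIdeal A).spanFinrank = 0 := by omega
    rw [Submodule.spanFinrank_eq_zero_iff_eq_bot (maximalIdeal A).fg_of_isNoetherianRing] at h6
    rw [h6] at hb
    rw [← Ideal.zero_eq_bot, zero_pow hk.ne'] at hb
    exact hb0 hb
  have h6 : 1 ≤ (maximalIdeal A).spanFinrank := by exact_mod_cast h5
  have h7 : ((maximalIdeal A ^ s).spanFinrank : ℚ) =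
      ((s * ((maximalIdeal A).spanFinrank - 1) + 1 : ℕ) : ℚ) := by
    push_cast [Nat.cast_sub h6]
    linarith
  exact_mod_cast h7

end Noeth

end Groth.Agent.Lipman.HilbLin
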