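import Groth.Agent.Lipman.B4Exact
import Groth.Agent.Lipman.HilbLin
import Groth.Agent.Lipman.TermDefs

/-!
# Lipman block B4, conclusion: a rational normal local ring is in the class `R(n)`, `n = embdim - 1`
-/

set_option autoImplicit false

open IsLocalRing

namespace Groth.Agent.Lipman.B4

open Groth.Agent.Lipman.Defs

universe u

variable {K : Type u} [Field K] {A : Subring K} [IsLocalRing A] [IsNoetherianRing A]

namespace Data

variable {a b : A} {k N : ℕ}

/-- Hilbert function. -/
theorem spanFinrank_pow (h : Data A a b k N) (hA : ∀ f : K, (∀ V ∈ ZR A, f ∈ V) → f ∈ A) (s : ℕ) :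
    (maximalIdeal A ^ s).spanFinrank = s * ((maximalIdeal A).spanFinrank - 1) + 1 :=
  Groth.Agent.Lipman.HilbLin.spanFinrank_pow k h.pos a b h.a_mem h.b_mem h.b_ne (h.exists_eq_add hA)
    (h.exists_eq_mul hA) s

/-- The class `R(n)`. -/
theorem ratLike (h : Data A a b k N) (hA : ∀ f : K, (∀ V ∈ ZR A, f ∈ V) → f ∈ A) :
    Groth.Agent.Lipman.Term.RatLike A ((maximalIdeal A).spanFinrank - 1) where
  hilb s := by rw [h.spanFinrank_pow hA s, mul_comm]
  ic z J hJ hz := h.mem_pow_of_mul_mem hA 2 z J hJ hz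

/-- Charts of the blow-up of the closed point are integrally closed. -/
theorem mem_chartRing (h : Data A a b k N) (hA : ∀ f : K, (∀ V ∈ ZR A, f ∈ V) → f ∈ A) {x : A}
    (hx : x ∈ maximalIdeal A) (hx0 : (x : K) ≠ 0) {f : K}
    (hf : ∀ V ∈ ZR (chartRing A (mSet A) (x : K)), f ∈ V) : f ∈ chartRing A (mSet A) (x : K) :=
  mem_chartRing_of_forall (fun s _ hf => h.mem_pow_of_forall hA s hf) hx hx0 hf

end Data

end Groth.Agent.Lipman.B4
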