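import Groth.Agent.Lipman.B4Main
import Groth.Agent.Lipman.HilbLin
import Groth.Agent.Lipman.TermDefs
import Groth.Agent.Lipman.ZRD158

/-!
# Lipman block B4, parts (ii), (iii)

For a rational normal local ring `A` (`B4.Data`): `μ(m^s) = n s + 1`, `RatLike A n`, and the charts
of the blow-up of `m` are integrally closed.
-/

set_option autoImplicit false

open IsLocalRing

namespace Groth.Agent.Lipman.B4H

open Groth.Agent.Lipman.Defs Groth.Agent.Lipman.B4

universe u v

section Gen

variable {A : Type u} {K : Type v} [CommRing A] [Field K] [Algebra A K]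

/-- Dividing by a generator `c` of `m ^ k V`. -/
theorem memIV_div {V : ValuationSubring K} (hV : InZR A V) {m : Ideal A} (hfg : m.FG) {c : A}
    {k s : ℕ} (hc0 : algebraMap A K c ≠ 0)
    (hc : ∀ g ∈ m ^ k, V.valuation (algebraMap A K g) ≤ V.valuation (algebraMap A K c)) {f : K}
    (hf : MemIV (m ^ (s + k)) V f) : MemIV (m ^ s) V (f / algebraMap A K c) := by
  obtain ⟨t, htm, ht⟩ := exists_max hV hfg
  obtain ⟨g, hg, h⟩ := hf
  have h1 := h.trans (max_pow hV ht (s + k) g hg)
  have h2 := hc (t ^ k) (Ideal.pow_mem_pow htm k)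
  have hc0' : V.valuation (algebraMap A K c) ≠ 0 := by
    rw [Ne, V.valuation.zero_iff]; exact hc0
  refine ⟨t ^ s, Ideal.pow_mem_pow htm s, ?_⟩
  rw [map_div₀, div_le_iff₀ (zero_lt_iff.2 hc0')]
  calc V.valuation f ≤ V.valuation (algebraMap A K (t ^ (s + k))) := h1
    _ = V.valuation (algebraMap A K (t ^ s)) * V.valuation (algebraMap A K (t ^ k)) := by
        rw [pow_add, map_mul, map_mul]
    _ ≤ _ := by gcongr

end Gen

variable {K : Type u} [Field K] {A : Subring K} [IsLocalRing A] [IsNoetherianRing A]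

variable {a b : A} {k N : ℕ}

omit [IsNoetherianRing A] in
theorem a_ne' (h : Data A a b k N) : (a : K) ≠ 0 := fun h0 => h.a_ne (Subtype.ext h0)

omit [IsNoetherianRing A] in
theorem b_ne' (h : Data A a b k N) : (b : K) ≠ 0 := fun h0 => h.b_ne (Subtype.ext h0)

/-- Exactness in the middle of `0 → m^s → (m^(s+k))^2 → m^(s+2k) → 0`. -/
theorem exists_of_add_eq_zero (h : Data A a b k N) (hA : ∀ f : K, (∀ V ∈ ZR A, f ∈ V) → f ∈ A)
    (s : ℕ) {u v : A} (hu : u ∈ maximalIdeal A ^ (s + k)) (hv : v ∈ maximalIdeal A ^ (s + k))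
    (huv : a * u + b * v = 0) : ∃ w ∈ maximalIdeal A ^ s, u = b * w ∧ v = -(a * w) := by
  have huv' : (a : K) * u + (b : K) * v = 0 := by exact_mod_cast congrArg (Subtype.val) huv
  have ha0 := (a_ne' h)
  have hb0 := (b_ne' h)
  have h1 : (u : K) / b = (-v : K) / a := by
    rw [div_eq_div_iff hb0 ha0]
    linear_combination huv'
  have hmem : ∀ V ∈ ZR A, MemIV (maximalIdeal A ^ s) V ((u : K) / b) := by
    intro V hV
    have hV' := inZR_iff.2 hV
    rcases le_total (V.valuation (b : K)) (V.valuation (a : K)) with hab | hab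
    · rw [h1]
      refine memIV_div hV' (maximalIdeal A).fg_of_isNoetherianRing (c := a) ha0 (h.le₁ V hV' hab) ?_
      have : (-v : K) = algebraMap A K (-v) := by rw [map_neg]; rfl
      rw [this]
      exact memIV_algebraMap (neg_mem hv)
    · exact memIV_div hV' (maximalIdeal A).fg_of_isNoetherianRing (c := b) hb0 (h.le₂ V hV' hab)
        (memIV_algebraMap hu)
  obtain ⟨w, hw, hwe⟩ := h.mem_pow_of_forall hA s hmem
  refine ⟨w, hw, ?_, ?_⟩
  · apply Subtype.ext
    push_cast
    rw [hwe]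
    field_simp
  · apply Subtype.ext
    push_cast
    rw [hwe, h1]
    field_simp

/-- Surjectivity in `0 → m^s → (m^(s+k))^2 → m^(s+2k) → 0`. -/
theorem exists_eq_add (h : Data A a b k N) (hA : ∀ f : K, (∀ V ∈ ZR A, f ∈ V) → f ∈ A)
    (s : ℕ) {w : A} (hw : w ∈ maximalIdeal A ^ (s + k + k)) :
    ∃ u ∈ maximalIdeal A ^ (s + k), ∃ v ∈ maximalIdeal A ^ (s + k), w = a * u + b * v := by
  have ha0 := (a_ne' h)
  have hb0 := (b_ne' h)
  have hfg := (maximalIdeal A).fg_of_isNoetherianRing
  let P₁ : ValuationSubring K → Prop := fun V => V.valuation (b : K) ≤ V.valuation (a : K)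
  let P₂ : ValuationSubring K → Prop := fun V => V.valuation (a : K) ≤ V.valuation (b : K)
  have hdiv : (w : K) / a / b ∈ Sec (maximalIdeal A ^ s) (fun V => P₁ V ∧ P₂ V) := by
    intro V hV hP
    refine memIV_div hV hfg (c := b) hb0 (h.le₂ V hV hP.2) ?_
    refine memIV_div hV hfg (c := a) ha0 (h.le₁ V hV hP.1) ?_
    exact memIV_algebraMap hw
  have hsplit := Sec_inter_le h.a_mem h.pos ha0 (P₁ := P₁) (P₂ := P₂) h.le₁
    (sec_le_of_rat2 ha0 hb0 h.rat) s hdiv
  obtain ⟨h₁, hh₁, h₂, hh₂, hsum⟩ := Submodule.mem_sup.1 hsplit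
  have hw' : (w : K) = a * b * (h₁ + h₂) := by rw [hsum]; field_simp
  -- the two components
  have hmula : ∀ {V : ValuationSubring K} {z : K}, MemIV (maximalIdeal A ^ s) V z →
      MemIV (maximalIdeal A ^ (s + k)) V (a * z) := by
    intro V z hz
    rw [add_comm, pow_add]
    exact (memIV_algebraMap h.a_mem).mul hz
  have hmulb : ∀ {V : ValuationSubring K} {z : K}, MemIV (maximalIdeal A ^ s) V z →
      MemIV (maximalIdeal A ^ (s + k)) V (b * z) := by
    intro V z hz
    rw [add_comm, pow_add]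
    exact (memIV_algebraMap h.b_mem).mul hz
  have hu : ∀ V ∈ ZR A, MemIV (maximalIdeal A ^ (s + k)) V (b * h₂) := by
    intro V hV
    have hV' := inZR_iff.2 hV
    rcases le_total (V.valuation (b : K)) (V.valuation (a : K)) with hab | hab
    · have h1 : MemIV (maximalIdeal A ^ (s + k)) V ((w : K) / a) :=
        memIV_div hV' hfg (c := a) ha0 (h.le₁ V hV' hab) (memIV_algebraMap hw)
      have h2 : MemIV (maximalIdeal A ^ (s + k)) V (b * h₁) := hmulb (hh₁ V hV' hab)
      have h3 : (b : K) * h₂ = (w : K) / a - b * h₁ := by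
        rw [hw']; field_simp; ring
      rw [h3]
      have h4 : (w : K) / a ∈ Sec (maximalIdeal A ^ (s + k)) (fun W => W = V) :=
        fun W _ hWV => by rw [hWV]; exact h1
      have h5 : (b : K) * h₁ ∈ Sec (maximalIdeal A ^ (s + k)) (fun W => W = V) :=
        fun W _ hWV => by rw [hWV]; exact h2
      exact Submodule.sub_mem _ h4 h5 V hV' rfl
    · exact hmulb (hh₂ V hV' hab)
  have hv : ∀ V ∈ ZR A, MemIV (maximalIdeal A ^ (s + k)) V (a * h₁) := by
    intro V hV
    have hV' := inZR_iff.2 hV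
    rcases le_total (V.valuation (b : K)) (V.valuation (a : K)) with hab | hab
    · exact hmula (hh₁ V hV' hab)
    · have h1 : MemIV (maximalIdeal A ^ (s + k)) V ((w : K) / b) :=
        memIV_div hV' hfg (c := b) hb0 (h.le₂ V hV' hab) (memIV_algebraMap hw)
      have h2 : MemIV (maximalIdeal A ^ (s + k)) V (a * h₂) := hmula (hh₂ V hV' hab)
      have h3 : (a : K) * h₁ = (w : K) / b - a * h₂ := by
        rw [hw']; field_simp; ring
      rw [h3]
      have h4 : (w : K) / b ∈ Sec (maximalIdeal A ^ (s + k)) (fun W => W = V) :=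
        fun W _ hWV => by rw [hWV]; exact h1
      have h5 : (a : K) * h₂ ∈ Sec (maximalIdeal A ^ (s + k)) (fun W => W = V) :=
        fun W _ hWV => by rw [hWV]; exact h2
      exact Submodule.sub_mem _ h4 h5 V hV' rfl
  obtain ⟨u, hum, hue⟩ := h.mem_pow_of_forall hA (s + k) hu
  obtain ⟨v, hvm, hve⟩ := h.mem_pow_of_forall hA (s + k) hv
  refine ⟨u, hum, v, hvm, Subtype.ext ?_⟩
  push_cast
  rw [hue, hve, hw']
  ring

/-- The Hilbert function of a rational normal local ring. -/
theorem spanFinrank_pow (h : Data A a b k N) (hA : ∀ f : K, (∀ V ∈ ZR A, f ∈ V) → f ∈ A) (s : ℕ) :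
    (maximalIdeal A ^ s).spanFinrank = ((maximalIdeal A).spanFinrank - 1) * s + 1 := by
  rw [HilbLin.spanFinrank_pow k h.pos a b h.a_mem h.b_mem h.b_ne
    (fun s _ hw => exists_eq_add h hA s hw) (fun s _ hu _ hv huv => exists_of_add_eq_zero h hA s hu hv huv) s,
    mul_comm]

/-- Rational normal local rings are in the class `R(n)` used in the termination block. -/
theorem ratLike (h : Data A a b k N) (hA : ∀ f : K, (∀ V ∈ ZR A, f ∈ V) → f ∈ A) :
    Term.RatLike A ((maximalIdeal A).spanFinrank - 1) where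
  hilb := spanFinrank_pow h hA
  ic := h.mem_pow_of_mul_mem hA 2

end Groth.Agent.Lipman.B4H
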