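import Mathlib.RingTheory.Valuation.ValuationSubring
import Mathlib.RingTheory.LocalRing.MaximalIdeal.Basic
import Mathlib.RingTheory.Noetherian.Basic
import Mathlib.RingTheory.Ideal.Operations
import Mathlib.RingTheory.IntegralClosure.IntegrallyClosed

/-!
# Lipman block B4, part 1: powers of the maximal ideal of a rational local ring are integrally closed

`A → K` an algebra, `K` a field. All "sheaves" are described by their values on the valuation rings `V` of `K` containing `A`.
-/

set_option autoImplicit false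

open IsLocalRing

namespace Groth.Agent.Lipman.B4

universe u v

variable {A : Type u} {K : Type v} [CommRing A] [Field K] [Algebra A K]

/-- `z ∈ I V`, for a valuation ring `V` containing (the image of) `A`. -/
def MemIV (I : Ideal A) (V : ValuationSubring K) (z : K) : Prop :=
  ∃ g ∈ I, V.valuation z ≤ V.valuation (algebraMap A K g)

/-- `V` contains `A`. -/
def InZR (A : Type u) {K : Type v} [CommRing A] [Field K] [Algebra A K] (V : ValuationSubring K) : Prop :=
  ∀ a : A, V.valuation (algebraMap A K a) ≤ 1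

/-- Sections of `I O` over the set of valuation rings satisfying `P`, as `A`-submodule of `K`. -/
def Sec (I : Ideal A) (P : ValuationSubring K → Prop) : Submodule A K where
  carrier := {z | ∀ V, InZR A V → P V → MemIV I V z}
  add_mem' := by
    intro z z' hz hz' V hV hP
    obtain ⟨g, hg, h⟩ := hz V hV hP
    obtain ⟨g', hg', h'⟩ := hz' V hV hP
    rcases le_total (V.valuation (algebraMap A K g)) (V.valuation (algebraMap A K g')) with hle | hle
    · exact ⟨g', hg', (V.valuation.map_add z z').trans (max_le (h.trans hle) h')⟩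
    · exact ⟨g, hg, (V.valuation.map_add z z').trans (max_le h (h'.trans hle))⟩
  zero_mem' := fun V _ _ => ⟨0, zero_mem _, by simp⟩
  smul_mem' := by
    intro c z hz V hV hP
    obtain ⟨g, hg, h⟩ := hz V hV hP
    refine ⟨g, hg, ?_⟩
    rw [Algebra.smul_def, map_mul]
    calc V.valuation (algebraMap A K c) * V.valuation z ≤ 1 * V.valuation z := by
          gcongr; exact hV c
      _ = V.valuation z := one_mul _
      _ ≤ _ := h

theorem mem_sec {I : Ideal A} {P : ValuationSubring K → Prop} {z : K} :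
    z ∈ Sec I P ↔ ∀ V, InZR A V → P V → MemIV I V z := Iff.rfl

theorem MemIV.mul {I J : Ideal A} {V : ValuationSubring K} {z w : K} (hz : MemIV I V z) (hw : MemIV J V w) :
    MemIV (I * J) V (z * w) := by
  obtain ⟨g, hg, h⟩ := hz
  obtain ⟨g', hg', h'⟩ := hw
  refine ⟨g * g', Ideal.mul_mem_mul hg hg', ?_⟩
  rw [map_mul, map_mul, map_mul]
  exact mul_le_mul' h h'

theorem MemIV.mono {I J : Ideal A} (hIJ : I ≤ J) {V : ValuationSubring K} {z : K} (hz : MemIV I V z) :
    MemIV J V z := by
  obtain ⟨g, hg, h⟩ := hz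
  exact ⟨g, hIJ hg, h⟩

theorem memIV_algebraMap {I : Ideal A} {V : ValuationSubring K} {g : A} (hg : g ∈ I) :
    MemIV I V (algebraMap A K g) := ⟨g, hg, le_rfl⟩

theorem memIV_top_iff {V : ValuationSubring K} (hV : InZR A V) {z : K} :
    MemIV (⊤ : Ideal A) V z ↔ V.valuation z ≤ 1 := by
  constructor
  · rintro ⟨g, -, h⟩
    exact h.trans (hV g)
  · intro h
    exact ⟨1, Submodule.mem_top, by simpa using h⟩

/-- If `I` is generated by elements of value at most `γ`, all of `I` has. -/
theorem valuation_le_of_mem_span {V : ValuationSubring K} (hV : InZR A V) {s : Set A} {γ : V.ValueGroup}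
    (hs : ∀ x ∈ s, V.valuation (algebraMap A K x) ≤ γ) {g : A} (hg : g ∈ Ideal.span s) :
    V.valuation (algebraMap A K g) ≤ γ := by
  induction hg using Submodule.span_induction with
  | mem x hx => exact hs x hx
  | zero => simp
  | add x y _ _ hx hy =>
    rw [map_add]
    exact (V.valuation.map_add _ _).trans (max_le hx hy)
  | smul c x _ hx =>
    rw [smul_eq_mul, map_mul, map_mul]
    calc V.valuation (algebraMap A K c) * V.valuation (algebraMap A K x)
        ≤ 1 * V.valuation (algebraMap A K x) := by gcongr; exact hV c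
      _ ≤ γ := by rw [one_mul]; exact hx

/-- A finitely generated ideal has an element of maximal value. -/
theorem exists_max {V : ValuationSubring K} (hV : InZR A V) {I : Ideal A} (hI : I.FG) :
    ∃ t ∈ I, ∀ g ∈ I, V.valuation (algebraMap A K g) ≤ V.valuation (algebraMap A K t) := by
  classical
  obtain ⟨s, rfl⟩ := hI
  rcases s.eq_empty_or_nonempty with rfl | hne
  · refine ⟨0, zero_mem _, ?_⟩
    intro g hg
    have : g = 0 := by simpa using hg
    rw [this]
  · obtain ⟨t, ht, hmax⟩ := s.exists_max_image (fun x => V.valuation (algebraMap A K x)) hne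
    exact ⟨t, Ideal.subset_span ht, fun g hg => valuation_le_of_mem_span hV hmax hg⟩

/-- The maximum is multiplicative. -/
theorem max_mul {V : ValuationSubring K} (hV : InZR A V) {I J : Ideal A} {t t' : A}
    (ht : ∀ g ∈ I, V.valuation (algebraMap A K g) ≤ V.valuation (algebraMap A K t))
    (ht' : ∀ g ∈ J, V.valuation (algebraMap A K g) ≤ V.valuation (algebraMap A K t')) :
    ∀ g ∈ I * J, V.valuation (algebraMap A K g) ≤ V.valuation (algebraMap A K (t * t')) := by
  intro g hg
  induction hg using Submodule.mul_induction_on' with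
  | mem_mul_mem x hx y hy =>
    rw [map_mul, map_mul, map_mul, map_mul]
    exact mul_le_mul' (ht x hx) (ht' y hy)
  | add x _ y _ hx hy =>
    rw [map_add]
    exact (V.valuation.map_add _ _).trans (max_le hx hy)

theorem memIV_iff_of_max {V : ValuationSubring K} {I : Ideal A} {t : A} (htI : t ∈ I)
    (ht : ∀ g ∈ I, V.valuation (algebraMap A K g) ≤ V.valuation (algebraMap A K t)) {z : K} :
    MemIV I V z ↔ V.valuation z ≤ V.valuation (algebraMap A K t) :=
  ⟨fun ⟨g, hg, h⟩ => h.trans (ht g hg), fun h => ⟨t, htI, h⟩⟩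

theorem Sec_mono {I J : Ideal A} (hIJ : I ≤ J) {P P' : ValuationSubring K → Prop} (hP : ∀ V, P' V → P V) :
    Sec I P ≤ Sec J P' := fun _ hz V hV hP' => (hz V hV (hP V hP')).mono hIJ

theorem smul_Sec_le {I J : Ideal A} {P : ValuationSubring K → Prop} :
    I • Sec J P ≤ Sec (I * J) P := by
  rw [Submodule.smul_le]
  intro g hg z hz V hV hP
  rw [Algebra.smul_def]
  exact (memIV_algebraMap hg).mul (hz V hV hP)

/-- Powers: the maximum of `m ^ n`. -/
theorem max_pow {V : ValuationSubring K} (hV : InZR A V) {I : Ideal A} {t : A}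
    (ht : ∀ g ∈ I, V.valuation (algebraMap A K g) ≤ V.valuation (algebraMap A K t)) (n : ℕ) :
    ∀ g ∈ I ^ n, V.valuation (algebraMap A K g) ≤ V.valuation (algebraMap A K (t ^ n)) := by
  induction n with
  | zero =>
    intro g _
    simpa using hV g
  | succ n ih =>
    rw [pow_succ, pow_succ]
    exact max_mul hV ih ht

/-- A reduction `(a, b) m^N = m^(N+k)`: on the chart `v(b) ≤ v(a)` the element `a` generates `m^k V`. -/
theorem le_of_reduction {V : ValuationSubring K} (hV : InZR A V) {m : Ideal A} (hmfg : m.FG) {a b : A}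
    {k N : ℕ} (hred : m ^ (N + k) ≤ Ideal.span {a, b} * m ^ N) (hm : ∃ g ∈ m, algebraMap A K g ≠ 0)
    (hab : V.valuation (algebraMap A K b) ≤ V.valuation (algebraMap A K a)) :
    ∀ g ∈ m ^ k, V.valuation (algebraMap A K g) ≤ V.valuation (algebraMap A K a) := by
  obtain ⟨t, htm, ht⟩ := exists_max hV hmfg
  obtain ⟨g₀, hg₀, hg₀'⟩ := hm
  have ht0 : V.valuation (algebraMap A K t) ≠ 0 := by
    intro h0
    have h1 := ht g₀ hg₀
    rw [h0] at h1
    have h2 : V.valuation (algebraMap A K g₀) = 0 := le_antisymm h1 zero_le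
    exact hg₀' ((V.valuation.zero_iff).1 h2)
  have htN := max_pow hV ht N
  have hab' : ∀ g ∈ Ideal.span {a, b}, V.valuation (algebraMap A K g) ≤ V.valuation (algebraMap A K a) := by
    intro g hg
    refine valuation_le_of_mem_span hV ?_ hg
    rintro x (rfl | rfl)
    · exact le_rfl
    · exact hab
  have hmul := max_mul hV hab' htN
  intro g hg
  have h1 : t ^ N * g ∈ m ^ (N + k) := by
    rw [pow_add]; exact Ideal.mul_mem_mul (Ideal.pow_mem_pow htm N) hg
  have h2 := hmul _ (hred h1)
  rw [map_mul, map_mul, map_mul, map_mul, mul_comm] at h2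
  refine le_of_mul_le_mul_right h2 ?_
  rw [map_pow, map_pow]
  exact pow_pos (zero_lt_iff.2 ht0) N

/-- `I O` is generated by `I` on a chart where `m^k` is generated by `a`. -/
theorem Sec_pow_le {m : Ideal A} {a : A} {k : ℕ} (ha : a ∈ m ^ k) (hk : 0 < k) (ha0 : algebraMap A K a ≠ 0)
    {P : ValuationSubring K → Prop}
    (hP : ∀ V, InZR A V → P V → ∀ g ∈ m ^ k, V.valuation (algebraMap A K g) ≤ V.valuation (algebraMap A K a))
    (s : ℕ) : Sec (m ^ s) P ≤ (m ^ s) • Sec (⊤ : Ideal A) P := by
  intro z hz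
  -- `a ^ s ∈ m ^ (k s) = m ^ s * m ^ (k s - s)`
  have hle : s ≤ k * s := Nat.le_mul_of_pos_left s hk
  have h1 : a ^ s ∈ m ^ s * m ^ (k * s - s) := by
    rw [← pow_add, Nat.add_sub_cancel' hle, pow_mul]
    exact Ideal.pow_mem_pow ha s
  have key : ∀ w ∈ m ^ s * m ^ (k * s - s),
      (algebraMap A K w / algebraMap A K a ^ s) * z ∈ (m ^ s) • Sec (⊤ : Ideal A) P := by
    intro w hw
    refine Submodule.mul_induction_on hw ?_ ?_
    · intro p hp q hq
      have h2 : (algebraMap A K (p * q) / algebraMap A K a ^ s) * z =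
          p • (algebraMap A K q * z / algebraMap A K a ^ s) := by
        rw [Algebra.smul_def, map_mul]; ring
      rw [h2]
      refine Submodule.smul_mem_smul hp ?_
      intro V hV hPV
      rw [memIV_top_iff hV]
      obtain ⟨g, hg, hzg⟩ := hz V hV hPV
      have h3 : q * g ∈ (m ^ k) ^ s := by
        rw [← pow_mul, ← Nat.add_sub_cancel' hle, pow_add, mul_comm q g]
        exact Ideal.mul_mem_mul hg hq
      have h4 := max_pow hV (hP V hV hPV) s _ h3
      rw [map_div₀, map_mul]
      have h5 : V.valuation (algebraMap A K a ^ s) ≠ 0 := by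
        rw [Ne, V.valuation.zero_iff]; exact pow_ne_zero _ ha0
      rw [div_le_one₀ (zero_lt_iff.2 h5)]
      calc V.valuation (algebraMap A K q) * V.valuation z
          ≤ V.valuation (algebraMap A K q) * V.valuation (algebraMap A K g) := by gcongr
        _ = V.valuation (algebraMap A K (q * g)) := by rw [map_mul, map_mul]
        _ ≤ V.valuation (algebraMap A K (a ^ s)) := h4
        _ = _ := by rw [map_pow (algebraMap A K)]
    · intro w w' hw hw'
      have : (algebraMap A K (w + w') / algebraMap A K a ^ s) * z =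
          (algebraMap A K w / algebraMap A K a ^ s) * z + (algebraMap A K w' / algebraMap A K a ^ s) * z := by
        rw [map_add]; ring
      rw [this]
      exact add_mem hw hw'
  have h2 := key _ h1
  rw [map_pow, div_self (pow_ne_zero _ ha0), one_mul] at h2
  exact h2

/-- Elements of `span (range z) • N`. -/
theorem exists_sum_of_mem_smul {ι : Type*} [Fintype ι] (z : ι → A) (N : Submodule A K) {f : K}
    (hf : f ∈ Ideal.span (Set.range z) • N) : ∃ u : ι → K, (∀ i, u i ∈ N) ∧ f = ∑ i, z i • u i := by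
  classical
  refine Submodule.smul_induction_on hf ?_ ?_
  · intro r hr n hn
    obtain ⟨c, rfl⟩ := Ideal.mem_span_range_iff_exists_fun.1 hr
    refine ⟨fun i => c i • n, fun i => N.smul_mem _ hn, ?_⟩
    rw [Finset.sum_smul]
    refine Finset.sum_congr rfl fun i _ => ?_
    rw [smul_smul, mul_comm]
  · rintro x y ⟨u, hu, rfl⟩ ⟨u', hu', rfl⟩
    refine ⟨fun i => u i + u' i, fun i => add_mem (hu i) (hu' i), ?_⟩
    rw [← Finset.sum_add_distrib]
    exact Finset.sum_congr rfl fun i _ => (smul_add _ _ _).symm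

/-- `H^1 = 0` for `m^s O` on a two chart model with `H^1(O) = 0`. -/
theorem Sec_inter_le {m : Ideal A} {a : A} {k : ℕ} (ha : a ∈ m ^ k) (hk : 0 < k)
    (ha0 : algebraMap A K a ≠ 0) {P₁ P₂ : ValuationSubring K → Prop}
    (h₁ : ∀ V, InZR A V → P₁ V → ∀ g ∈ m ^ k, V.valuation (algebraMap A K g) ≤ V.valuation (algebraMap A K a))
    (hR : Sec (⊤ : Ideal A) (fun V => P₁ V ∧ P₂ V) ≤ Sec (⊤ : Ideal A) P₁ ⊔ Sec (⊤ : Ideal A) P₂) (s : ℕ) :
    Sec (m ^ s) (fun V => P₁ V ∧ P₂ V) ≤ Sec (m ^ s) P₁ ⊔ Sec (m ^ s) P₂ := by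
  refine (Sec_pow_le ha hk ha0 (fun V hV hP => h₁ V hV hP.1) s).trans ?_
  refine (smul_mono_right (m ^ s) hR).trans ?_
  rw [Submodule.smul_sup]
  have h1 : ∀ P : ValuationSubring K → Prop, (m ^ s) • Sec (⊤ : Ideal A) P ≤ Sec (m ^ s) P := by
    intro P
    refine smul_Sec_le.trans (Sec_mono ?_ fun _ h => h)
    rw [Ideal.mul_top]
  exact sup_le_sup (h1 _) (h1 _)

/-- The Koszul step: `I_(n+1) = m I_n` for `n ≥ 1`. -/
theorem Sec_succ_le {ι : Type*} [Fintype ι] (z : ι → A) {a₁ a₂ : A} {k : ℕ} (hk : 0 < k)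
    (ha₁ : a₁ ∈ Ideal.span (Set.range z) ^ k) (ha₂ : a₂ ∈ Ideal.span (Set.range z) ^ k)
    (ha₁0 : algebraMap A K a₁ ≠ 0) (ha₂0 : algebraMap A K a₂ ≠ 0)
    {P₁ P₂ : ValuationSubring K → Prop} (hcov : ∀ V, InZR A V → P₁ V ∨ P₂ V)
    (h₁ : ∀ V, InZR A V → P₁ V → ∀ g ∈ Ideal.span (Set.range z) ^ k,
      V.valuation (algebraMap A K g) ≤ V.valuation (algebraMap A K a₁))
    (h₂ : ∀ V, InZR A V → P₂ V → ∀ g ∈ Ideal.span (Set.range z) ^ k,
      V.valuation (algebraMap A K g) ≤ V.valuation (algebraMap A K a₂))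
    (hR : Sec (⊤ : Ideal A) (fun V => P₁ V ∧ P₂ V) ≤ Sec (⊤ : Ideal A) P₁ ⊔ Sec (⊤ : Ideal A) P₂)
    {n : ℕ} (hn : 0 < n) :
    Sec (Ideal.span (Set.range z) ^ (n + 1)) (fun _ : ValuationSubring K => True) ≤
      Ideal.span (Set.range z) • Sec (Ideal.span (Set.range z) ^ n) (fun _ => True) := by
  classical
  set m := Ideal.span (Set.range z) with hm
  intro f hf
  -- local expressions
  have hloc : ∀ (a : A) (P : ValuationSubring K → Prop), a ∈ m ^ k → algebraMap A K a ≠ 0 →
      (∀ V, InZR A V → P V → ∀ g ∈ m ^ k, V.valuation (algebraMap A K g) ≤ V.valuation (algebraMap A K a)) →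
      ∃ u : ι → K, (∀ i, u i ∈ Sec (m ^ n) P) ∧ f = ∑ i, z i • u i := by
    intro a P ha ha0 hP
    have h1 : f ∈ Sec (m ^ (n + 1)) P := fun V hV _ => hf V hV trivial
    have h2 := Sec_pow_le ha hk ha0 hP (n + 1) h1
    rw [pow_succ', Submodule.mul_smul] at h2
    have h3 : m ^ n • Sec (⊤ : Ideal A) P ≤ Sec (m ^ n) P :=
      smul_Sec_le.trans (Sec_mono (by rw [Ideal.mul_top]) fun _ h => h)
    exact exists_sum_of_mem_smul z _ (smul_mono_right m h3 h2)
  obtain ⟨u, hu, hfu⟩ := hloc a₁ P₁ ha₁ ha₁0 h₁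
  obtain ⟨v, hv, hfv⟩ := hloc a₂ P₂ ha₂ ha₂0 h₂
  have hw : ∀ i, u i - v i ∈ Sec (m ^ n) (fun V => P₁ V ∧ P₂ V) := fun i =>
    sub_mem (fun V hV hP => hu i V hV hP.1) (fun V hV hP => hv i V hV hP.2)
  have hsum : ∑ i, z i • (u i - v i) = 0 := by
    simp only [smul_sub, Finset.sum_sub_distrib]
    rw [← hfu, ← hfv, sub_self]
  -- `a₁ = ∑ z i * g i`
  have ha₁' : a₁ ∈ m * m ^ (k - 1) := by
    rw [← pow_succ', Nat.sub_add_cancel hk]; exact ha₁
  obtain ⟨g, hg, hag⟩ : ∃ g : ι → A, (∀ i, g i ∈ m ^ (k - 1)) ∧ a₁ = ∑ i, z i * g i := by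
    have h1 : ∀ w ∈ m * m ^ (k - 1), ∃ g : ι → A, (∀ i, g i ∈ m ^ (k - 1)) ∧ w = ∑ i, z i * g i := by
      intro w hw
      refine Submodule.mul_induction_on hw ?_ ?_
      · intro r hr s hs
        obtain ⟨c, rfl⟩ := Ideal.mem_span_range_iff_exists_fun.1 hr
        refine ⟨fun i => c i * s, fun i => Ideal.mul_mem_left _ _ hs, ?_⟩
        rw [Finset.sum_mul]
        exact Finset.sum_congr rfl fun i _ => by ring
      · rintro x y ⟨g, hg, rfl⟩ ⟨g', hg', rfl⟩
        refine ⟨fun i => g i + g' i, fun i => add_mem (hg i) (hg' i), ?_⟩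
        rw [← Finset.sum_add_distrib]
        exact Finset.sum_congr rfl fun i _ => by ring
    exact h1 _ ha₁'
  let α : K := algebraMap A K a₁
  -- `t i j = (g i / a₁) * w j`
  have ht : ∀ i j, (algebraMap A K (g i) / α) * (u j - v j) ∈ Sec (m ^ (n - 1)) (fun V => P₁ V ∧ P₂ V) := by
    intro i j V hV hP
    have hmfg : m.FG := by
      rw [hm]
      exact ⟨(Set.finite_range z).toFinset, by rw [Set.Finite.coe_toFinset]⟩
    obtain ⟨t, htm, ht⟩ := exists_max hV hmfg
    have htn := max_pow hV ht n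
    have htk := max_pow hV ht k
    have htk1 := max_pow hV ht (k - 1)
    obtain ⟨h, hh, hwh⟩ := hw j V hV hP
    have hα : V.valuation α = V.valuation (algebraMap A K t) ^ k := by
      rw [← map_pow, ← map_pow]
      exact le_antisymm (htk _ ha₁) (h₁ V hV hP.1 _ (Ideal.pow_mem_pow htm k))
    have hα0 : V.valuation α ≠ 0 := by
      rw [Ne, V.valuation.zero_iff]; exact ha₁0
    have ht0 : V.valuation (algebraMap A K t) ≠ 0 := by
      intro h0
      rw [hα, h0, zero_pow hk.ne'] at hα0
      exact hα0 rfl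
    refine ⟨t ^ (n - 1), Ideal.pow_mem_pow htm _, ?_⟩
    rw [map_mul, map_div₀, hα, map_pow, map_pow]
    have h3 : V.valuation (algebraMap A K (g i)) ≤ V.valuation (algebraMap A K t) ^ (k - 1) := by
      have := htk1 _ (hg i)
      rwa [map_pow, map_pow] at this
    have h4 : V.valuation (u j - v j) ≤ V.valuation (algebraMap A K t) ^ n := by
      have := hwh.trans (htn _ hh)
      rwa [map_pow, map_pow] at this
    rw [div_mul_eq_mul_div, div_le_iff₀ (pow_pos (zero_lt_iff.2 ht0) k), ← pow_add]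
    calc V.valuation (algebraMap A K (g i)) * V.valuation (u j - v j)
        ≤ V.valuation (algebraMap A K t) ^ (k - 1) * V.valuation (algebraMap A K t) ^ n :=
          mul_le_mul' h3 h4
      _ = V.valuation (algebraMap A K t) ^ (n - 1 + k) := by
          rw [← pow_add]; congr 1; omega
  have hsplit : ∀ i j, ∃ p ∈ Sec (m ^ (n - 1)) P₁, ∃ q ∈ Sec (m ^ (n - 1)) P₂,
      p + q = (algebraMap A K (g i) / α) * (u j - v j) := fun i j =>
    Submodule.mem_sup.1 (Sec_inter_le ha₁ hk ha₁0 h₁ hR (n - 1) (ht i j))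
  choose p hp q hq hpq using hsplit
  -- corrected sections
  have hzmul : ∀ (P : ValuationSubring K → Prop) (i : ι) (y : K), y ∈ Sec (m ^ (n - 1)) P →
      z i • y ∈ Sec (m ^ n) P := by
    intro P i y hy
    have h1 : z i • y ∈ m • Sec (m ^ (n - 1)) P :=
      Submodule.smul_mem_smul (Ideal.subset_span ⟨i, rfl⟩) hy
    have h2 := smul_Sec_le h1
    rwa [← pow_succ', Nat.sub_add_cancel hn] at h2
  let u' : ι → K := fun l => u l - ∑ i, z i • (p i l - p l i)
  let v' : ι → K := fun l => v l + ∑ i, z i • (q i l - q l i)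
  have hu' : ∀ l, u' l ∈ Sec (m ^ n) P₁ := fun l =>
    sub_mem (hu l) (Submodule.sum_mem _ fun i _ => hzmul _ _ _ (sub_mem (hp i l) (hp l i)))
  have hv' : ∀ l, v' l ∈ Sec (m ^ n) P₂ := fun l =>
    add_mem (hv l) (Submodule.sum_mem _ fun i _ => hzmul _ _ _ (sub_mem (hq i l) (hq l i)))
  have hα0 : α ≠ 0 := ha₁0
  have huv : ∀ l, u' l = v' l := by
    intro l
    have h1 : u' l - v' l = (u l - v l) - ∑ i, z i • ((p i l + q i l) - (p l i + q l i)) := by
      simp only [u', v']
      have : ∑ i, z i • ((p i l + q i l) - (p l i + q l i)) =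
          ∑ i, z i • (p i l - p l i) + ∑ i, z i • (q i l - q l i) := by
        rw [← Finset.sum_add_distrib]
        refine Finset.sum_congr rfl fun i _ => ?_
        rw [← smul_add]; congr 1; ring
      rw [this]; ring
    have h2 : ∑ i, z i • ((p i l + q i l) - (p l i + q l i)) = u l - v l := by
      simp only [hpq]
      have h3 : ∀ i, z i • ((algebraMap A K (g i) / α) * (u l - v l) -
          (algebraMap A K (g l) / α) * (u i - v i)) =
          (algebraMap A K (z i * g i) / α) * (u l - v l) -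
            (algebraMap A K (g l) / α) * (z i • (u i - v i)) := by
        intro i
        rw [Algebra.smul_def, Algebra.smul_def, map_mul]; ring
      simp only [h3]
      rw [Finset.sum_sub_distrib, ← Finset.mul_sum, hsum, mul_zero, sub_zero, ← Finset.sum_mul]
      have h5 : ∑ i, algebraMap A K (z i * g i) / α = 1 := by
        simp only [div_eq_mul_inv]
        rw [← Finset.sum_mul, ← map_sum, ← hag]
        exact mul_inv_cancel₀ hα0
      rw [h5, one_mul]
    rw [h2, sub_self] at h1
    exact sub_eq_zero.1 h1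
  have hglob : ∀ l, u' l ∈ Sec (m ^ n) (fun _ => True) := by
    intro l V hV _
    rcases hcov V hV with h | h
    · exact hu' l V hV h
    · rw [huv]; exact hv' l V hV h
  have hfu' : f = ∑ l, z l • u' l := by
    have h1 : ∑ l, z l • ∑ i, z i • (p i l - p l i) = 0 := by
      have h2 : ∑ l, z l • ∑ i, z i • (p i l - p l i) =
          ∑ l, ∑ i, (z l * z i) • p i l - ∑ l, ∑ i, (z l * z i) • p l i := by
        rw [← Finset.sum_sub_distrib]
        refine Finset.sum_congr rfl fun l _ => ?_
        rw [Finset.smul_sum, ← Finset.sum_sub_distrib]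
        refine Finset.sum_congr rfl fun i _ => ?_
        rw [smul_smul, smul_sub]
      rw [h2, Finset.sum_comm, sub_eq_zero]
      refine Finset.sum_congr rfl fun l _ => Finset.sum_congr rfl fun i _ => ?_
      rw [mul_comm]
    simp only [u', smul_sub (z _) (u _) _, Finset.sum_sub_distrib]
    rw [h1, sub_zero]
    exact hfu
  rw [hfu']
  exact Submodule.sum_mem _ fun l _ => Submodule.smul_mem_smul (Ideal.subset_span ⟨l, rfl⟩) (hglob l)

end Groth.Agent.Lipman.B4
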