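import Mathlib.RingTheory.Valuation.ValuationSubring
import Mathlib.RingTheory.LocalRing.Basic
import Mathlib.RingTheory.IntegralClosure.IntegrallyClosed
import Mathlib.RingTheory.AdicCompletion.Basic
import Mathlib.RingTheory.KrullDimension.Basic
import Mathlib.RingTheory.RegularLocalRing.Defs
import Mathlib.Algebra.Group.Pointwise.Set.Basic
import Mathlib.Data.Set.Finite.Basic
import Mathlib.RingTheory.Finiteness.Basic

/-!
# Language for the elementary resolution of complete normal surface germs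

`K` is a field, all rings are subrings of `K`, blow-ups are encoded by finite sets `s ⊆ K` ("tuples"),
functions on the Zariski-Riemann space are `φ : ValuationSubring K → K`, only the class of `φ V`
modulo `V` matters.
-/

set_option autoImplicit false
universe u

open IsLocalRing

namespace Groth.Agent.Lipman.Defs

variable {K : Type u} [Field K]

/-- The Zariski-Riemann space of `R`: all valuation rings of `K` containing `R`. -/
def ZR (R : Subring K) : Set (ValuationSubring K) := {V | R ≤ V.toSubring}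

/-- `V` lies on the chart `x` of the blow-up of `s`. -/
def Chart (s : Set K) (x : K) (V : ValuationSubring K) : Prop := x ≠ 0 ∧ ∀ y ∈ s, y / x ∈ V

/-- The ring `R[s/x]` of the chart `x` of the blow-up of `s`. -/
def chartRing (R : Subring K) (s : Set K) (x : K) : Subring K :=
  Subring.closure ((R : Set K) ∪ (fun y ↦ y / x) '' s)

/-- A tuple: a finite set of elements of `K`, not all zero. -/
structure IsTuple (s : Set K) : Prop where
  finite : s.Finite
  exists_ne_zero : ∃ x ∈ s, x ≠ 0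

/-- `φ` is constant modulo integral elements on the charts of the blow-up of `s`. -/
def IsConst (R : Subring K) (s : Set K) (φ : ValuationSubring K → K) : Prop :=
  ∃ f : K → K, ∀ V ∈ ZR R, ∀ x ∈ s, Chart s x V → φ V - f x ∈ V

/-- The functions constant modulo integral elements on the charts of some blow-up. -/
def D (R : Subring K) : Set (ValuationSubring K → K) := {φ | ∃ s, IsTuple s ∧ IsConst R s φ}

/-- `φ` is trivial: globally constant modulo integral elements. -/
def IsTriv (R : Subring K) (φ : ValuationSubring K → K) : Prop := ∃ f : K, ∀ V ∈ ZR R, φ V - f ∈ V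

/-- `V` dominates `R` (for a local ring `R`: the centre of `V` is the maximal ideal). -/
def Dom (R : Subring K) (V : ValuationSubring K) : Prop :=
  R ≤ V.toSubring ∧ ∀ r ∈ R, r⁻¹ ∈ V → r⁻¹ ∈ R

/-- One blow-up works for all functions in `D R`. -/
def Bounded (R : Subring K) : Prop := ∃ s : Set K, IsTuple s ∧ ∀ φ ∈ D R, IsConst R s φ

/-- The blow-up of `s` dominates the blow-up of `s₀`. -/
def Refines (R : Subring K) (s s₀ : Set K) : Prop :=
  ∀ x ∈ s, x ≠ 0 → ∃ y ∈ s₀, y ≠ 0 ∧ ∀ z ∈ s₀, z / y ∈ chartRing R s x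

/-- Every finitely generated subalgebra `R[s]` of `K` has finite integral closure in `K`. -/
def FinNorm (R : Subring K) : Prop :=
  ∀ s : Set K, s.Finite → Module.Finite (Subring.closure ((R : Set K) ∪ s))
    (integralClosure (Subring.closure ((R : Set K) ∪ s)) K)

/-- The local ring `A` is a localization of `B` (at the prime `m_A ∩ B`). -/
structure LocOf (B A : Subring K) : Prop where
  le : B ≤ A
  isLocalRing : IsLocalRing A
  frac : ∀ z ∈ A, ∃ t ∈ B, t ≠ 0 ∧ t⁻¹ ∈ A ∧ z * t ∈ B

/-- `A` is a local ring of the blow-up of `s`. -/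
def IsPt (R : Subring K) (s : Set K) (A : Subring K) : Prop :=
  ∃ x ∈ s, x ≠ 0 ∧ LocOf (chartRing R s x) A

/-- Nonunits of `A`, as elements of `K` (for a local ring: the maximal ideal). -/
def mSet (A : Subring K) : Set K := {z | z ∈ A ∧ (z = 0 ∨ z⁻¹ ∉ A)}

/-- `A'` is a quadratic transform of the local ring `A`: a localization of `A[m/x]` at a prime
containing `x`, for some nonzero `x ∈ m`. -/
def QT (A A' : Subring K) : Prop :=
  ∃ x ∈ mSet A, x ≠ 0 ∧ x⁻¹ ∉ A' ∧ LocOf (chartRing A (mSet A) x) A'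

/-- Vanishing of the first Čech cohomology of the two charts of `(a, b)` on the Zariski-Riemann
space of `A`. -/
def Rat2 (A : Subring K) (a b : K) : Prop :=
  ∀ g : K, (∀ V ∈ ZR A, b / a ∈ V → a / b ∈ V → g ∈ V) →
    ∃ g₁ g₂ : K, g = g₁ + g₂ ∧ (∀ V ∈ ZR A, b / a ∈ V → g₁ ∈ V) ∧ (∀ V ∈ ZR A, a / b ∈ V → g₂ ∈ V)

/-! ### first lemmas -/

lemma mem_ZR {R : Subring K} {V : ValuationSubring K} : V ∈ ZR R ↔ R ≤ V.toSubring := Iff.rfl

lemma ZR_anti {R S : Subring K} (h : R ≤ S) : ZR S ⊆ ZR R := fun _ hV ↦ h.trans hV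

lemma mem_of_mem_ZR {R : Subring K} {V : ValuationSubring K} (h : V ∈ ZR R) {x : K} (hx : x ∈ R) :
    x ∈ V := h hx

lemma le_chartRing (R : Subring K) (s : Set K) (x : K) : R ≤ chartRing R s x :=
  fun _ hy ↦ Subring.subset_closure (Or.inl hy)

lemma div_mem_chartRing (R : Subring K) {s : Set K} (x : K) {y : K} (hy : y ∈ s) :
    y / x ∈ chartRing R s x := Subring.subset_closure (Or.inr ⟨y, hy, rfl⟩)

lemma chartRing_le_iff {R S : Subring K} {s : Set K} {x : K} :
    chartRing R s x ≤ S ↔ R ≤ S ∧ ∀ y ∈ s, y / x ∈ S := by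
  rw [chartRing, Subring.closure_le, Set.union_subset_iff, Set.image_subset_iff]
  exact Iff.rfl

lemma mem_ZR_chartRing {R : Subring K} {s : Set K} {x : K} (hx : x ≠ 0) {V : ValuationSubring K} :
    V ∈ ZR (chartRing R s x) ↔ V ∈ ZR R ∧ Chart s x V := by
  rw [mem_ZR, chartRing_le_iff]
  exact ⟨fun h ↦ ⟨h.1, hx, h.2⟩, fun h ↦ ⟨h.1, h.2.2⟩⟩

/-- Every valuation ring lies on some chart. -/
lemma exists_chart {s : Set K} (hs : IsTuple s) (V : ValuationSubring K) : ∃ x ∈ s, Chart s x V := by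
  obtain ⟨x, hx, hmax⟩ := Set.exists_max_image s V.valuation hs.finite
    ⟨_, hs.exists_ne_zero.choose_spec.1⟩
  obtain ⟨y, hy, hy0⟩ := hs.exists_ne_zero
  have hx0 : x ≠ 0 := by
    rintro rfl
    have := hmax y hy
    rw [map_zero, le_zero_iff, map_eq_zero] at this
    exact hy0 this
  refine ⟨x, hx, hx0, fun z hz ↦ ?_⟩
  rw [← V.valuation_le_one_iff, map_div₀]
  exact div_le_one_of_le₀ (hmax z hz) zero_le

open scoped Pointwise in
lemma IsTuple.mul {s t : Set K} (hs : IsTuple s) (ht : IsTuple t) : IsTuple (s * t) := by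
  obtain ⟨x, hx, hx0⟩ := hs.exists_ne_zero
  obtain ⟨y, hy, hy0⟩ := ht.exists_ne_zero
  exact ⟨hs.finite.mul ht.finite, x * y, Set.mul_mem_mul hx hy, mul_ne_zero hx0 hy0⟩

open scoped Pointwise in
lemma Chart.mul {s t : Set K} {x y : K} {V : ValuationSubring K} (hx : Chart s x V)
    (hy : Chart t y V) : Chart (s * t) (x * y) V := by
  refine ⟨mul_ne_zero hx.1 hy.1, ?_⟩
  rintro _ ⟨a, ha, b, hb, rfl⟩
  rw [mul_div_mul_comm]
  exact V.mul_mem _ _ (hx.2 a ha) (hy.2 b hb)

open scoped Pointwise in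
lemma Chart.of_mul_left {s t : Set K} {x y : K} (hy : y ∈ t) {V : ValuationSubring K}
    (h : Chart (s * t) (x * y) V) : Chart s x V := by
  have hx0 : x ≠ 0 := fun h0 ↦ h.1 (by rw [h0, zero_mul])
  have hy0 : y ≠ 0 := fun h0 ↦ h.1 (by rw [h0, mul_zero])
  refine ⟨hx0, fun z hz ↦ ?_⟩
  have := h.2 (z * y) (Set.mul_mem_mul hz hy)
  rwa [mul_div_mul_right _ _ hy0] at this

open scoped Pointwise in
lemma Chart.of_mul_right {s t : Set K} {x y : K} (hx : x ∈ s) {V : ValuationSubring K}
    (h : Chart (s * t) (x * y) V) : Chart t y V := by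
  rw [mul_comm s t, mul_comm x y] at h
  exact h.of_mul_left hx

open scoped Pointwise in
lemma refines_mul_left (R : Subring K) (s t : Set K) : Refines R (s * t) s := by
  rintro _ ⟨x, hx, y, hy, rfl⟩ h0
  have hx0 : x ≠ 0 := left_ne_zero_of_mul h0
  have hy0 : y ≠ 0 := right_ne_zero_of_mul h0
  refine ⟨x, hx, hx0, fun z hz ↦ ?_⟩
  have := div_mem_chartRing R (x * y) (Set.mul_mem_mul hz hy)
  rwa [mul_div_mul_right _ _ hy0] at this

open scoped Pointwise in
lemma refines_mul_right (R : Subring K) (s t : Set K) : Refines R (s * t) t := by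
  rw [mul_comm]; exact refines_mul_left R t s

lemma Refines.isConst {R : Subring K} {s s₀ : Set K} (h : Refines R s s₀)
    {φ : ValuationSubring K → K} (hφ : IsConst R s₀ φ) : IsConst R s φ := by
  classical
  obtain ⟨f, hf⟩ := hφ
  choose! g hg using h
  refine ⟨fun x ↦ f (g x), fun V hV x hx hc ↦ ?_⟩
  obtain ⟨h1, h2, h3⟩ := hg x hx hc.1
  refine hf V hV (g x) h1 ⟨h2, fun z hz ↦ ?_⟩
  exact ((mem_ZR_chartRing hc.1).2 ⟨hV, hc⟩) (h3 z hz)

lemma Refines.trans {R : Subring K} {s t u : Set K} (h : Refines R s t) (h' : Refines R t u) :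
    Refines R s u := by
  intro x hx hx0
  obtain ⟨y, hy, hy0, h1⟩ := h x hx hx0
  obtain ⟨z, hz, hz0, h2⟩ := h' y hy hy0
  refine ⟨z, hz, hz0, fun w hw ↦ ?_⟩
  have : chartRing R t y ≤ chartRing R s x := chartRing_le_iff.2 ⟨le_chartRing _ _ _, h1⟩
  exact this (h2 w hw)

end Groth.Agent.Lipman.Defs
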