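import Groth.Agent.Lipman.B4Koszul
import Groth.Agent.Lipman.Defs
import Groth.Agent.Lipman.ZR158

/-!
# Lipman block B4, part 2: powers of the maximal ideal of a rational local ring are integrally closed
-/

set_option autoImplicit false

open IsLocalRing

namespace Groth.Agent.Lipman.B4

open Groth.Agent.Lipman.Defs

universe u

variable {K : Type u} [Field K] {A : Subring K}

theorem algebraMap_eq (g : A) : algebraMap A K g = (g : K) := rfl

theorem inZR_iff {V : ValuationSubring K} : InZR A V ↔ V ∈ ZR A := by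
  constructor
  · intro h a ha
    exact (V.valuation_le_one_iff a).1 (h ⟨a, ha⟩)
  · intro h a
    exact (V.valuation_le_one_iff _).2 (h a.2)

theorem memIV_iff {I : Ideal A} {V : ValuationSubring K} {z : K} :
    MemIV I V z ↔ ∃ g ∈ I, V.valuation z ≤ V.valuation (g : K) := Iff.rfl

theorem mem_iff_valuation_le {V : ValuationSubring K} {a b : K} (ha : a ≠ 0) :
    b / a ∈ V ↔ V.valuation b ≤ V.valuation a := by
  have ha' : V.valuation a ≠ 0 := by rw [Ne, V.valuation.zero_iff]; exact ha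
  rw [← V.valuation_le_one_iff, map_div₀, div_le_one₀ (zero_lt_iff.2 ha')]

/-- Rationality of a two chart model in terms of `Sec`. -/
theorem sec_le_of_rat2 {a b : K} (ha : a ≠ 0) (hb : b ≠ 0) (hR : Rat2 A a b) :
    Sec (⊤ : Ideal A) (fun V : ValuationSubring K =>
      V.valuation b ≤ V.valuation a ∧ V.valuation a ≤ V.valuation b) ≤
    Sec (⊤ : Ideal A) (fun V : ValuationSubring K => V.valuation b ≤ V.valuation a) ⊔
      Sec (⊤ : Ideal A) (fun V : ValuationSubring K => V.valuation a ≤ V.valuation b) := by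
  intro g hg
  obtain ⟨g₁, g₂, rfl, h₁, h₂⟩ := hR g (fun V hV hba hab => by
    have h1 := hg V (inZR_iff.2 hV) ⟨(mem_iff_valuation_le ha).1 hba, (mem_iff_valuation_le hb).1 hab⟩
    rw [memIV_top_iff (inZR_iff.2 hV)] at h1
    exact (V.valuation_le_one_iff _).1 h1)
  refine Submodule.add_mem_sup ?_ ?_
  · intro V hV h
    rw [memIV_top_iff hV, V.valuation_le_one_iff]
    exact h₁ V (inZR_iff.1 hV) ((mem_iff_valuation_le ha).2 h)
  · intro V hV h
    rw [memIV_top_iff hV, V.valuation_le_one_iff]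
    exact h₂ V (inZR_iff.1 hV) ((mem_iff_valuation_le hb).2 h)

/-- There is a valuation ring dominating `A`. -/
theorem exists_dominating [IsLocalRing A] :
    ∃ V ∈ ZR A, ∀ g ∈ maximalIdeal A, V.valuation (g : K) < 1 := by
  obtain ⟨V, hV, hc⟩ := Groth.Agent.Lipman.ZR158.exists_ctr_eq A (maximalIdeal A)
  refine ⟨V, hV, fun g hg => ?_⟩
  rw [← hc, Groth.Agent.Lipman.ZR158.mem_ctr] at hg
  exact hg

variable [IsLocalRing A] [IsNoetherianRing A]

/-- The maximal ideal of a normal local ring is integrally closed. -/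
theorem mem_maximalIdeal_of_forall (hA : ∀ f : K, (∀ V ∈ ZR A, f ∈ V) → f ∈ A) {f : K}
    (hf : ∀ V ∈ ZR A, MemIV (maximalIdeal A) V f) : ∃ g ∈ maximalIdeal A, (g : K) = f := by
  have hfA : f ∈ A := hA f fun V hV => by
    obtain ⟨g, _, h⟩ := hf V hV
    exact (V.valuation_le_one_iff _).1 (h.trans ((V.valuation_le_one_iff _).2 (hV g.2)))
  refine ⟨⟨f, hfA⟩, ?_, rfl⟩
  by_contra hcon
  rw [mem_maximalIdeal, mem_nonunits_iff, not_not] at hcon
  obtain ⟨V, hV, hdom⟩ := exists_dominating (A := A)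
  obtain ⟨g, hg, h⟩ := hf V hV
  have h1 := h.trans_lt (hdom g hg)
  obtain ⟨u, hu⟩ := hcon
  have h2 : (f : K) * ((u⁻¹ : (A)ˣ) : A) = 1 := by
    have h3 : (u : A) * ((u⁻¹ : (A)ˣ) : A) = 1 := u.mul_inv
    rw [hu] at h3
    exact congrArg Subtype.val h3
  have h3 : V.valuation f * V.valuation (((u⁻¹ : (A)ˣ) : A) : K) = 1 := by rw [← map_mul, h2, map_one]
  have h4 : V.valuation (((u⁻¹ : (A)ˣ) : A) : K) ≤ 1 := (V.valuation_le_one_iff _).2 (hV (Subtype.property _))
  have h5 : V.valuation f * V.valuation (((u⁻¹ : (A)ˣ) : A) : K) < 1 :=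
    mul_lt_one_of_lt_of_le h1 h4
  exact absurd h3 h5.ne

/-- Input data: two elements of `m^k` forming a reduction, with vanishing `H^1`. -/
structure Data (A : Subring K) [IsLocalRing A] (a b : A) (k N : ℕ) : Prop where
  pos : 0 < k
  a_ne : a ≠ 0
  b_ne : b ≠ 0
  a_mem : a ∈ maximalIdeal A ^ k
  b_mem : b ∈ maximalIdeal A ^ k
  red : maximalIdeal A ^ (N + k) ≤ Ideal.span {a, b} * maximalIdeal A ^ N
  rat : Rat2 A (a : K) (b : K)

namespace Data

variable {a b : A} {k N : ℕ}

theorem exists_ne_zero (h : Data A a b k N) : ∃ g ∈ maximalIdeal A, algebraMap A K g ≠ 0 :=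
  ⟨a, Ideal.pow_le_self h.pos.ne' h.a_mem, fun h0 => h.a_ne (Subtype.ext h0)⟩

theorem le₁ (h : Data A a b k N) : ∀ V : ValuationSubring K, InZR A V →
    V.valuation (b : K) ≤ V.valuation (a : K) → ∀ g ∈ maximalIdeal A ^ k,
      V.valuation (algebraMap A K g) ≤ V.valuation (algebraMap A K a) := fun _ hV hab =>
  le_of_reduction hV (IsNoetherian.noetherian _) h.red h.exists_ne_zero hab

theorem le₂ (h : Data A a b k N) : ∀ V : ValuationSubring K, InZR A V →
    V.valuation (a : K) ≤ V.valuation (b : K) → ∀ g ∈ maximalIdeal A ^ k,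
      V.valuation (algebraMap A K g) ≤ V.valuation (algebraMap A K b) := fun _ hV hab =>
  le_of_reduction (a := b) (b := a) hV (IsNoetherian.noetherian _)
    (by rw [Set.pair_comm]; exact h.red) h.exists_ne_zero hab

theorem sec_succ_le (h : Data A a b k N) {n : ℕ} (hn : 0 < n) :
    Sec (maximalIdeal A ^ (n + 1)) (fun _ : ValuationSubring K => True) ≤
      maximalIdeal A • Sec (maximalIdeal A ^ n) (fun _ => True) := by
  obtain ⟨r, z, hz⟩ := Submodule.fg_iff_exists_fin_generating_family.1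
    (maximalIdeal A).fg_of_isNoetherianRing
  have hz' : Ideal.span (Set.range z) = maximalIdeal A := hz
  rw [← hz']
  refine Sec_succ_le z h.pos (a₁ := a) (a₂ := b) ?_ ?_ ?_ ?_
    (P₁ := fun V => V.valuation (b : K) ≤ V.valuation (a : K))
    (P₂ := fun V => V.valuation (a : K) ≤ V.valuation (b : K)) (fun V _ => le_total _ _) ?_ ?_ ?_ hn
  · rw [hz']; exact h.a_mem
  · rw [hz']; exact h.b_mem
  · exact fun h0 => h.a_ne (Subtype.ext h0)
  · exact fun h0 => h.b_ne (Subtype.ext h0)
  · rw [hz']; exact h.le₁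
  · rw [hz']; exact h.le₂
  · exact sec_le_of_rat2 (fun h0 => h.a_ne (Subtype.ext h0)) (fun h0 => h.b_ne (Subtype.ext h0)) h.rat

/-- All powers of the maximal ideal of a rational normal local ring are integrally closed. -/
theorem mem_pow_of_forall (h : Data A a b k N) (hA : ∀ f : K, (∀ V ∈ ZR A, f ∈ V) → f ∈ A) (s : ℕ)
    {f : K} (hf : ∀ V ∈ ZR A, MemIV (maximalIdeal A ^ s) V f) :
    ∃ g ∈ maximalIdeal A ^ s, (g : K) = f := by
  have key : ∀ s : ℕ, Sec (maximalIdeal A ^ (s + 1)) (fun _ : ValuationSubring K => True) ≤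
      Submodule.map (Algebra.linearMap A K) (maximalIdeal A ^ (s + 1)) := by
    intro s
    induction s with
    | zero =>
      intro f hf
      obtain ⟨g, hg, rfl⟩ := mem_maximalIdeal_of_forall hA (f := f) (fun V hV => by
        have := hf V (inZR_iff.2 hV) trivial
        rwa [zero_add, pow_one] at this)
      exact ⟨g, by rw [zero_add, pow_one]; exact hg, rfl⟩
    | succ s ih =>
      refine (h.sec_succ_le (Nat.succ_pos s)).trans ?_
      refine (smul_mono_right _ ih).trans ?_
      rw [Submodule.smul_le]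
      rintro r hr _ ⟨g, hg, rfl⟩
      refine ⟨r * g, ?_, ?_⟩
      · rw [SetLike.mem_coe, pow_succ' _ (s + 1)]
        exact Ideal.mul_mem_mul hr hg
      · rw [Algebra.linearMap_apply, Algebra.linearMap_apply, map_mul, Algebra.smul_def]
  cases s with
  | zero =>
    have hfA : f ∈ A := hA f fun V hV => by
      obtain ⟨g, _, h⟩ := hf V hV
      exact (V.valuation_le_one_iff _).1 (h.trans ((V.valuation_le_one_iff _).2 (hV g.2)))
    exact ⟨⟨f, hfA⟩, by simp, rfl⟩
  | succ s =>
    obtain ⟨g, hg, hgf⟩ := key s (fun V hV _ => hf V (inZR_iff.1 hV))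
    exact ⟨g, hg, hgf⟩

/-- The form used in the termination block. -/
theorem mem_pow_of_mul_mem (h : Data A a b k N) (hA : ∀ f : K, (∀ V ∈ ZR A, f ∈ V) → f ∈ A) (s : ℕ)
    (z : A) (J : Ideal A) (hJ : J ≠ ⊥) (hz : ∀ w ∈ J, z * w ∈ maximalIdeal A ^ s * J) :
    z ∈ maximalIdeal A ^ s := by
  obtain ⟨g, hg, hgz⟩ := h.mem_pow_of_forall hA s (f := (z : K)) (fun V hV => by
    have hV' := inZR_iff.2 hV
    obtain ⟨t, htJ, ht⟩ := exists_max hV' (IsNoetherian.noetherian J)
    obtain ⟨t', ht'm, ht'⟩ := exists_max hV' (IsNoetherian.noetherian (maximalIdeal A ^ s))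
    have ht0 : V.valuation (algebraMap A K t) ≠ 0 := by
      obtain ⟨w, hw, hw0⟩ := Submodule.exists_mem_ne_zero_of_ne_bot hJ
      intro h0
      have h1 := ht w hw
      rw [h0] at h1
      have h2 : V.valuation (algebraMap A K w) = 0 := le_antisymm h1 zero_le
      exact hw0 (Subtype.ext ((V.valuation.zero_iff).1 h2))
    have h1 := max_mul hV' ht' ht _ (hz t htJ)
    rw [map_mul, map_mul, map_mul, map_mul] at h1
    exact ⟨t', ht'm, le_of_mul_le_mul_right h1 (zero_lt_iff.2 ht0)⟩)
  have : g = z := Subtype.ext hgz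
  rw [← this]
  exact hg

end Data

end Groth.Agent.Lipman.B4
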