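import Groth.Agent.Localalg.Matlis5
import Mathlib.LinearAlgebra.Matrix.Charpoly.LinearMap

/-!
# Boundedness: submodules of an Artinian module over a complete local ring of dimension two

Module-theoretic core of the boundedness of `H^1(X, O_X)` over all normal modifications `X` of a complete normal
local domain of dimension two (Matlis duality, no traces, no canonical modules).
-/

set_option autoImplicit false
universe u v

open IsLocalRing InjHull

namespace Groth.Agent.Lipman.Bound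

variable {A : Type u} [CommRing A] {H : Type u} [AddCommGroup H] [Module A H]

/-- One step at a height one prime `p`. Here `P` plays the role of `H^2_m(p) = p ⊗ H^2_m(A)`, `m : P → H` is the
multiplication and `β z h = z ⊗ h`. -/
lemma exists_dual [IsDomain A] {E : Type u} [AddCommGroup E] [Module A E] (hE : Module.Injective A E)
    (W : Submodule A H) (p : Ideal A) (hpp : p.IsPrime) (hp0 : p ≠ ⊥) (g : p) (d : A) (hd : d ∉ p)
    (hg : ∀ z : p, ∃ a : A, d * z = a * g)
    {P : Type v} [AddCommGroup P] [Module A P] (m : P →ₗ[A] H) (β : p → H → P)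
    (hm : ∀ z h, m (β z h) = (z : A) • h)
    (hF : ∀ a : p →ₗ[A] A, ∃ F : P →ₗ[A] H, ∀ z h, F (β z h) = a z • h)
    (hsurj : Function.Surjective m)
    (V : Submodule A P) (hV : ∀ (g : p), ∀ w ∈ W, β g w ∈ V) (c : A) (hc : c ∉ p)
    (hcV : ∀ t ∈ V, m t = 0 → c • t = 0) (μ : H →ₗ[A] E) :
    ∃ e : A, e ∉ p ∧ ∃ ν : H →ₗ[A] E, ∀ w ∈ W, e • μ w - (g : A) • ν w = 0 := by
  have hd0 : d ≠ 0 := fun h ↦ hd (h ▸ p.zero_mem)
  have hg0 : (g : A) ≠ 0 := by
    intro h0
    obtain ⟨z, hz, hz0⟩ := Submodule.exists_mem_ne_zero_of_ne_bot hp0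
    obtain ⟨a, ha⟩ := hg ⟨z, hz⟩
    rw [h0, mul_zero] at ha
    exact mul_ne_zero hd0 hz0 ha
  choose a₀ ha₀ using hg
  let a : p →ₗ[A] A :=
    { toFun := a₀
      map_add' := fun z w ↦ by
        apply mul_right_cancel₀ hg0
        rw [← ha₀, add_mul, ← ha₀, ← ha₀]
        push_cast
        ring
      map_smul' := fun r z ↦ by
        apply mul_right_cancel₀ hg0
        rw [← ha₀, RingHom.id_apply, smul_eq_mul, mul_assoc, ← ha₀]
        push_cast
        rw [smul_eq_mul]
        ring }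
  have ha : ∀ z : p, d * z = a z * g := ha₀
  have hag : a g = d := mul_right_cancel₀ hg0 (ha g).symm
  obtain ⟨F, hF⟩ := hF a
  let lam : P →ₗ[A] E := μ ∘ₗ F
  have hlam : ∀ (z : p) (h : H), lam (β z h) = a z • μ h := fun z h ↦ by simp [lam, hF]
  -- extend `c • lam` from `ker m` to a functional killing `V`
  let T : Submodule A P := LinearMap.ker m
  let i : T →ₗ[A] (P ⧸ V) := V.mkQ ∘ₗ T.subtype
  have hker : LinearMap.ker i ≤ LinearMap.ker ((c • lam) ∘ₗ T.subtype) := by
    intro t ht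
    have h1 : (t : P) ∈ V := by
      have h0 : i t = 0 := ht
      simpa [i] using h0
    have h2 := hcV t h1 t.2
    rw [LinearMap.mem_ker, LinearMap.comp_apply, LinearMap.smul_apply, Submodule.subtype_apply,
      ← map_smul, h2, map_zero]
  let χ : (T ⧸ LinearMap.ker i) →ₗ[A] E := (LinearMap.ker i).liftQ ((c • lam) ∘ₗ T.subtype) hker
  let j : (T ⧸ LinearMap.ker i) →ₗ[A] (P ⧸ V) := (LinearMap.ker i).liftQ i le_rfl
  have hj : Function.Injective j := by
    rw [← LinearMap.ker_eq_bot]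
    exact Submodule.ker_liftQ_eq_bot _ _ _ le_rfl
  obtain ⟨χ', hχ'⟩ := Groth.Agent.Localalg.Matlis.exists_extend hE j hj χ
  let lam' : P →ₗ[A] E := χ' ∘ₗ V.mkQ
  have h1 : ∀ t ∈ T, lam' t = c • lam t := by
    intro t ht
    have h2 := LinearMap.congr_fun hχ' (Submodule.Quotient.mk ⟨t, ht⟩)
    simpa [j, i, χ, lam'] using h2
  have h2 : T ≤ LinearMap.ker (lam' - c • lam) := by
    intro t ht
    rw [LinearMap.mem_ker, LinearMap.sub_apply, LinearMap.smul_apply, h1 t ht, sub_self]
  let ν : H →ₗ[A] E := (T.liftQ (lam' - c • lam) h2) ∘ₗ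
    (m.quotKerEquivOfSurjective hsurj).symm.toLinearMap
  have hν : ∀ t : P, ν (m t) = lam' t - c • lam t := by
    intro t
    have h3 : (m.quotKerEquivOfSurjective hsurj).symm (m t) = Submodule.Quotient.mk t := by
      rw [LinearEquiv.symm_apply_eq]
      rfl
    simp only [ν, LinearMap.comp_apply, LinearEquiv.coe_coe, h3]
    rfl
  refine ⟨c * d, fun hcd ↦ (hpp.mem_or_mem hcd).elim hc hd, -ν, fun w hw ↦ ?_⟩
  have h3 := hν (β g w)
  rw [hm, map_smul, hlam, hag] at h3
  have h4 : lam' (β g w) = 0 := by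
    have h5 : V.mkQ (β g w) = 0 := by
      rw [Submodule.mkQ_apply, Submodule.Quotient.mk_eq_zero]
      exact hV g w hw
    simp only [lam', LinearMap.comp_apply, h5, map_zero]
  rw [h4, zero_sub] at h3
  rw [LinearMap.neg_apply, smul_neg, h3, neg_neg, mul_smul, sub_self]

/-- A finite module `M` such that every element is multiplied by something outside `p` into `p M` is killed by
something outside `p`. -/
lemma exists_notMem_annihilator {M : Type u} [AddCommGroup M] [Module A M] [Module.Finite A M] (p : Ideal A)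
    [hp : p.IsPrime] (h : ∀ x : M, ∃ e : A, e ∉ p ∧ e • x ∈ (p • ⊤ : Submodule A M)) :
    ∃ e : A, e ∉ p ∧ ∀ x : M, e • x = 0 := by
  classical
  obtain ⟨s, hs⟩ := Module.Finite.fg_top (R := A) (M := M)
  choose e he hex using h
  set E := ∏ x ∈ s, e x with hE
  have hEp : E ∉ p := by
    rw [hE, Ideal.IsPrime.prod_mem_iff]
    push Not
    exact fun x _ ↦ he x
  have h1 : ∀ x : M, E • x ∈ (p • ⊤ : Submodule A M) := by
    intro x
    have hx : x ∈ Submodule.span A (s : Set M) := by rw [hs]; trivial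
    refine Submodule.span_induction (p := fun x _ ↦ E • x ∈ (p • ⊤ : Submodule A M)) ?_ ?_ ?_ ?_ hx
    · intro x hx
      rw [hE, ← Finset.prod_erase_mul _ _ hx, mul_smul]
      exact Submodule.smul_mem _ _ (hex x)
    · rw [smul_zero]; exact zero_mem _
    · intro x y _ _ hx hy
      rw [smul_add]; exact add_mem hx hy
    · intro r x _ hx
      rw [smul_comm]; exact Submodule.smul_mem _ _ hx
  obtain ⟨q, hqm, -, hqc, hq0⟩ :=
    LinearMap.exists_monic_and_natDegree_eq_and_coeff_mem_pow_and_aeval_eq_zero A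
      (algebraMap A (Module.End A M) E) p (by
        rintro _ ⟨x, rfl⟩
        exact h1 x)
  refine ⟨q.eval E, fun hc ↦ ?_, fun x ↦ ?_⟩
  · have h2 : (q.map (Ideal.Quotient.mk p)) = Polynomial.X ^ q.natDegree := by
      ext k
      rw [Polynomial.coeff_map, Polynomial.coeff_X_pow]
      split_ifs with hk
      · rw [hk, Polynomial.Monic.coeff_natDegree hqm, map_one]
      · rcases lt_or_gt_of_ne hk with hk | hk
        · rw [Ideal.Quotient.eq_zero_iff_mem]
          exact Ideal.pow_le_self (by omega) (hqc k)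
        · rw [Polynomial.coeff_eq_zero_of_natDegree_lt hk, map_zero]
    have h3 : Ideal.Quotient.mk p (q.eval E) = Ideal.Quotient.mk p E ^ q.natDegree := by
      rw [← Polynomial.eval_map_apply, h2, Polynomial.eval_pow, Polynomial.eval_X]
    rw [Ideal.Quotient.eq_zero_iff_mem.2 hc] at h3
    exact hEp (Ideal.Quotient.eq_zero_iff_mem.1 (eq_zero_of_pow_eq_zero h3.symm))
  · have h2 := LinearMap.congr_fun hq0 x
    rw [Polynomial.aeval_algebraMap_apply] at h2
    simpa using h2

/-- **Boundedness.** `A` complete Noetherian local domain of dimension two, `H` Artinian (`= H^2_m(A)`), `W ≤ H`.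
If at every prime `p ≠ 0, m` there is a module `P` (`= H^2_m(p) = p ⊗ H`) with a submodule `V` such that `p ⊗ W`
goes to `V` and `V ∩ ker (P → H)` is killed by some element outside `p`, then `W` is killed by a power of `m`. -/
theorem exists_pow_smul_eq_zero [IsDomain A] [IsLocalRing A] [IsNoetherianRing A]
    [IsAdicComplete (maximalIdeal A) A] [IsArtinian A H] (W : Submodule A H)
    (hex : ∃ p : Ideal A, p.IsPrime ∧ p ≠ ⊥ ∧ p ≠ maximalIdeal A)
    (hp : ∀ p : Ideal A, p.IsPrime → p ≠ ⊥ → p ≠ maximalIdeal A →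
      ∃ (g : p) (d : A), d ∉ p ∧ (∀ z : p, ∃ a : A, d * z = a * g) ∧
      ∃ (P : Type u) (_ : AddCommGroup P) (_ : Module A P) (m : P →ₗ[A] H) (β : p → H → P),
        (∀ z h, m (β z h) = (z : A) • h) ∧
        (∀ a : p →ₗ[A] A, ∃ F : P →ₗ[A] H, ∀ z h, F (β z h) = a z • h) ∧
        Function.Surjective m ∧
        ∃ V : Submodule A P, (∀ (g : p), ∀ w ∈ W, β g w ∈ V) ∧
          ∃ c : A, c ∉ p ∧ ∀ t ∈ V, m t = 0 → c • t = 0) :
    ∃ n : ℕ, ∀ a ∈ maximalIdeal A ^ n, ∀ w ∈ W, a • w = 0 := by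
  obtain ⟨E, _, _, f, hf⟩ :=
    Groth.Agent.Localalg.InjHull.exists_injective_hull A (ResidueField A)
  have hfin : Module.Finite A (H →ₗ[A] E) :=
    Groth.Agent.Localalg.Matlis.finite_dual_of_isArtinian hf H
  let N : Submodule A (H →ₗ[A] E) :=
    { carrier := {μ | ∀ w ∈ W, μ w = 0}
      add_mem' := fun {a b} ha hb w hw ↦ by rw [LinearMap.add_apply, ha w hw, hb w hw, add_zero]
      zero_mem' := fun w _ ↦ rfl
      smul_mem' := fun r a ha w hw ↦ by rw [LinearMap.smul_apply, ha w hw, smul_zero] }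
  let M := (H →ₗ[A] E) ⧸ N
  have key : ∀ p : Ideal A, p.IsPrime → p ≠ ⊥ → p ≠ maximalIdeal A →
      ∃ e : A, e ∉ p ∧ ∀ x : M, e • x = 0 := by
    intro p hpp hp0 hpm
    obtain ⟨g, d, hd, hg, P, _, _, m, β, hm, hF, hsurj, V, hV, c, hc, hcV⟩ := hp p hpp hp0 hpm
    refine exists_notMem_annihilator p fun x ↦ ?_
    obtain ⟨μ, rfl⟩ := Submodule.mkQ_surjective _ x
    obtain ⟨e, he, ν, hν⟩ := exists_dual hf.isInjective W p hpp hp0 g d hd hg m β hm hF hsurj V hV c hc
      hcV μ
    refine ⟨e, he, ?_⟩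
    have h1 : e • N.mkQ μ = (g : A) • N.mkQ ν := by
      rw [← sub_eq_zero, ← map_smul, ← map_smul, ← map_sub, Submodule.mkQ_apply,
        Submodule.Quotient.mk_eq_zero]
      exact fun w hw ↦ hν w hw
    rw [h1]
    exact Submodule.smul_mem_smul g.2 trivial
  have hrad : maximalIdeal A ≤ (Module.annihilator A M).radical := by
    rw [Ideal.radical_eq_sInf]
    refine le_sInf fun p hp ↦ ?_
    obtain ⟨hpa, hpp⟩ := hp
    by_contra hc
    have hpm : p ≠ maximalIdeal A := fun h ↦ hc (h ▸ le_rfl)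
    have hann : ∀ q : Ideal A, q.IsPrime → q ≠ ⊥ → q ≠ maximalIdeal A →
        ¬ Module.annihilator A M ≤ q := by
      intro q hq hq0 hqm hle
      obtain ⟨e, he, hex⟩ := key q hq hq0 hqm
      exact he (hle (Module.mem_annihilator.2 hex))
    by_cases hp0 : p = ⊥
    · obtain ⟨q, hq, hq0, hqm⟩ := hex
      exact hann q hq hq0 hqm (hpa.trans (hp0 ▸ bot_le))
    · exact hann p hpp hp0 hpm hpa
  obtain ⟨n, hn⟩ := Ideal.exists_pow_le_of_le_radical_of_fg hrad (IsNoetherian.noetherian _)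
  refine ⟨n, fun a ha w hw ↦ ?_⟩
  by_contra h0
  obtain ⟨μ, hμ⟩ := Groth.Agent.Localalg.Matlis.exists_apply_ne_zero hf h0
  apply hμ
  have h1 := Module.mem_annihilator.1 (hn ha) (N.mkQ μ)
  rw [← map_smul, Submodule.mkQ_apply, Submodule.Quotient.mk_eq_zero] at h1
  have h2 := h1 w hw
  rwa [LinearMap.smul_apply, ← map_smul] at h2

end Groth.Agent.Lipman.Bound
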