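import Mathlib.RingTheory.FiniteLength
import Mathlib.RingTheory.Artinian.Module
import Mathlib.RingTheory.Ideal.KrullsHeightTheorem
import Mathlib.RingTheory.KrullDimension.Field
import Mathlib.RingTheory.LocalRing.RingHom.Basic
import Mathlib.LinearAlgebra.Charpoly.ToMatrix
import Mathlib.LinearAlgebra.Matrix.Charpoly.LinearMap
import Mathlib.Algebra.Module.Torsion.Basic
import Groth.Agent.Ega41.PowComplete

/-!
# A finite length criterion over complete local domains of dimension two

Let `A` be a complete Noetherian local domain of dimension two and `W` an `A`-module such that every element is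
killed by a power of `m`, every `W[m^n]` has finite length, and for every prime `p ≠ 0, m` the submodule `W[p]` is
killed by some `s ∉ p`.  Then `W` has finite length.
-/

set_option autoImplicit false
universe u v

open IsLocalRing Submodule

namespace Groth.Agent.Lipman.BoundAlg

section General

variable {A : Type u} [CommRing A] {W : Type v} [AddCommGroup W] [Module A W]

theorem isFiniteLength_of_range_eq_ker {M N P : Type*} [AddCommGroup M] [Module A M] [AddCommGroup N]
    [Module A N] [AddCommGroup P] [Module A P] (hM : IsFiniteLength A M) (hP : IsFiniteLength A P)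
    (f : M →ₗ[A] N) (g : N →ₗ[A] P) (h : LinearMap.range f = LinearMap.ker g) : IsFiniteLength A N := by
  rw [isFiniteLength_iff_isNoetherian_isArtinian] at *
  obtain ⟨_, _⟩ := hM
  obtain ⟨_, _⟩ := hP
  exact ⟨isNoetherian_of_range_eq_ker f g h, isArtinian_of_range_eq_ker f g h⟩

theorem isFiniteLength_of_le {p q : Submodule A W} (h : p ≤ q) (hq : IsFiniteLength A q) :
    IsFiniteLength A p :=
  hq.of_injective (f := Submodule.inclusion h) (Submodule.inclusion_injective h)

/-- The submodule of elements killed by the ideal `I`. -/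
abbrev tors (W : Type v) [AddCommGroup W] [Module A W] (I : Ideal A) : Submodule A W :=
  torsionBySet A W (I : Set A)

theorem mem_tors {I : Ideal A} {w : W} : w ∈ tors W I ↔ ∀ a ∈ I, a • w = 0 := by
  rw [mem_torsionBySet_iff]
  exact ⟨fun h a ha => h ⟨a, ha⟩, fun h a => h a a.2⟩

theorem tors_le {I J : Ideal A} (h : I ≤ J) : tors W J ≤ tors W I := fun _ hw =>
  mem_tors.2 fun a ha => mem_tors.1 hw a (h ha)

theorem tors_span_singleton (e : A) : tors W (Ideal.span {e}) = torsionBy A W e := by
  ext w
  rw [mem_tors, mem_torsionBy_iff]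
  constructor
  · intro h
    exact h e (Ideal.mem_span_singleton_self e)
  · intro h a ha
    obtain ⟨b, rfl⟩ := Ideal.mem_span_singleton'.1 ha
    rw [mul_smul, h, smul_zero]

theorem isFiniteLength_pi_fin (n : ℕ) {M : Type*} [AddCommGroup M] [Module A M]
    (hM : IsFiniteLength A M) : IsFiniteLength A (Fin n → M) := by
  rw [isFiniteLength_iff_isNoetherian_isArtinian] at *
  obtain ⟨_, _⟩ := hM
  exact ⟨inferInstance, inferInstance⟩

theorem tors_mul (I J : Ideal A) (hJ : J.FG) (hI : IsFiniteLength A (tors W I))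
    (hJ' : IsFiniteLength A (tors W J)) : IsFiniteLength A (tors W (I * J)) := by
  obtain ⟨n, g, hg⟩ := Submodule.fg_iff_exists_fin_generating_family.1 hJ
  have hgJ : ∀ i, g i ∈ J := fun i => hg ▸ Submodule.subset_span ⟨i, rfl⟩
  let f : tors W (I * J) →ₗ[A] (Fin n → tors W I) :=
    LinearMap.pi fun i => LinearMap.codRestrict (tors W I)
      ((LinearMap.lsmul A W (g i)).comp (tors W (I * J)).subtype) (by
        intro w
        rw [mem_tors]
        intro a ha
        change a • g i • (w : W) = 0
        rw [smul_smul]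
        exact mem_tors.1 w.2 _ (Ideal.mul_mem_mul ha (hgJ i)))
  have hker : ∀ w : tors W (I * J), f w = 0 → (w : W) ∈ tors W J := by
    intro w hw
    rw [mem_tors]
    intro a ha
    rw [← hg] at ha
    induction ha using Submodule.span_induction with
    | mem x hx =>
      obtain ⟨i, rfl⟩ := hx
      exact congrArg Subtype.val (congrFun hw i)
    | zero => rw [zero_smul]
    | add x y _ _ hx hy => rw [add_smul, hx, hy, add_zero]
    | smul c x _ hx => rw [smul_eq_mul, mul_smul, hx, smul_zero]
  have hle : Submodule.map (tors W (I * J)).subtype (LinearMap.ker f) ≤ tors W J := by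
    rintro _ ⟨w, hw, rfl⟩
    exact hker w hw
  have h1 : IsFiniteLength A (LinearMap.ker f) := by
    have h2 := isFiniteLength_of_le hle hJ'
    exact (Submodule.equivSubtypeMap _ _).symm.isFiniteLength h2
  exact isFiniteLength_of_range_eq_ker h1 (isFiniteLength_pi_fin n hI) (LinearMap.ker f).subtype f
    (Submodule.range_subtype _)

theorem tors_multiset_prod [IsNoetherianRing A] (Z : Multiset (PrimeSpectrum A))
    (h : ∀ p ∈ Z, IsFiniteLength A (tors W p.asIdeal)) :
    IsFiniteLength A (tors W (Z.map PrimeSpectrum.asIdeal).prod) := by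
  induction Z using Multiset.induction_on with
  | empty =>
    rw [Multiset.map_zero, Multiset.prod_zero, Ideal.one_eq_top]
    have : tors W (⊤ : Ideal A) = ⊥ := by
      rw [eq_bot_iff]
      intro w hw
      rw [Submodule.mem_bot, ← one_smul A w]
      exact mem_tors.1 hw 1 trivial
    rw [this]
    exact IsFiniteLength.of_subsingleton
  | cons p Z ih =>
    rw [Multiset.map_cons, Multiset.prod_cons]
    exact tors_mul _ _ (IsNoetherian.noetherian _) (h p (Multiset.mem_cons_self p Z))
      (ih fun q hq => h q (Multiset.mem_cons_of_mem hq))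

/-- Stabilization of `e^n W`. -/
theorem exists_range_pow_eq (e : A) (hfl : IsFiniteLength A (torsionBy A W e))
    (htors : ∀ w : W, ∃ n : ℕ, e ^ n • w = 0) :
    ∃ n : ℕ, ∀ w : W, ∃ z : W, e ^ n • w = e ^ (n + 1) • z := by
  rw [isFiniteLength_iff_isNoetherian_isArtinian] at hfl
  obtain ⟨_, _⟩ := hfl
  let G : ℕ →o (Submodule A (torsionBy A W e))ᵒᵈ :=
    { toFun := fun k => OrderDual.toDual ((LinearMap.range (LinearMap.lsmul A W (e ^ k))).comap
        (torsionBy A W e).subtype)
      monotone' := by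
        intro i j hij
        obtain ⟨d, rfl⟩ := Nat.exists_eq_add_of_le hij
        rintro x ⟨z, hz⟩
        refine ⟨e ^ d • z, ?_⟩
        rw [← hz]
        change e ^ i • e ^ d • z = e ^ (i + d) • z
        rw [smul_smul, pow_add] }
  obtain ⟨n, hn⟩ := IsArtinian.monotone_stabilizes G
  have key : ∀ k : ℕ, ∀ w : W, e ^ k • e ^ n • w = 0 → ∃ z : W, e ^ n • w = e ^ (n + 1) • z := by
    intro k
    induction k with
    | zero =>
      intro w hw
      exact ⟨0, by simpa using hw⟩
    | succ k ih =>
      intro w hw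
      -- `e^k (e^n w)` lies in `W[e] ∩ e^(n+k) W`
      have h1 : e ^ (n + k) • w ∈ torsionBy A W e := by
        rw [mem_torsionBy_iff, smul_smul]
        rw [smul_smul] at hw
        rw [← hw]
        congr 1
        ring
      have h2 : (⟨_, h1⟩ : torsionBy A W e) ∈ OrderDual.ofDual (G (n + k)) := ⟨w, rfl⟩
      rw [← hn (n + k) (Nat.le_add_right _ _), hn (n + k + 1) (by omega)] at h2
      obtain ⟨z, hz⟩ := h2
      have hz' : e ^ (n + k + 1) • z = e ^ (n + k) • w := hz
      have h3 : e ^ k • e ^ n • (w - e • z) = 0 := by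
        have h4 : e ^ k • e ^ n • (w - e • z) = e ^ (n + k) • w - e ^ (n + k + 1) • z := by
          rw [smul_sub, smul_sub, smul_smul, smul_smul, smul_smul]
          congr 2 <;> ring
        rw [h4, hz', sub_self]
      obtain ⟨y, hy⟩ := ih _ h3
      refine ⟨y + z, ?_⟩
      rw [smul_add, ← hy, smul_sub, smul_smul, pow_succ, sub_add_cancel]
  refine ⟨n, fun w => ?_⟩
  obtain ⟨k, hk⟩ := htors w
  refine key k w ?_
  rw [smul_comm, hk, smul_zero]

/-- The Tate module of an `e`-divisible module. -/
def tate (W : Type v) [AddCommGroup W] [Module A W] (e : A) : Submodule A (ℕ → W) where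
  carrier := {t | t 0 = 0 ∧ ∀ i, e • t (i + 1) = t i}
  add_mem' := by
    rintro s t ⟨hs0, hs⟩ ⟨ht0, ht⟩
    refine ⟨?_, fun i => ?_⟩
    · rw [Pi.add_apply, hs0, ht0, add_zero]
    · rw [Pi.add_apply, smul_add, hs, ht, Pi.add_apply]
  zero_mem' := ⟨rfl, fun i => smul_zero e⟩
  smul_mem' := by
    rintro c t ⟨ht0, ht⟩
    refine ⟨?_, fun i => ?_⟩
    · rw [Pi.smul_apply, ht0, smul_zero]
    · rw [Pi.smul_apply, smul_comm, ht, Pi.smul_apply]

theorem tate_pow {e : A} (t : tate W e) (i j : ℕ) : e ^ j • (t : ℕ → W) (i + j) = (t : ℕ → W) i := by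
  induction j with
  | zero => rw [pow_zero, one_smul, add_zero]
  | succ j ih => rw [pow_succ, mul_smul, ← add_assoc, t.2.2, ih]

theorem tate_pow_zero {e : A} (t : tate W e) (i : ℕ) : e ^ i • (t : ℕ → W) i = 0 := by
  have := tate_pow t 0 i
  rw [zero_add] at this
  rw [this, t.2.1]

theorem exists_tate_eq {e : A} (hdiv : ∀ w : W, ∃ z : W, w = e • z) (w : W) (k : ℕ)
    (hw : e ^ k • w = 0) : ∃ t : tate W e, (t : ℕ → W) k = w := by
  choose d hd using hdiv
  let t : ℕ → W := fun i => if i ≤ k then e ^ (k - i) • w else d^[i - k] w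
  have ht : ∀ i, e • t (i + 1) = t i := by
    intro i
    simp only [t]
    by_cases h : i + 1 ≤ k
    · rw [if_pos h, if_pos (by omega), smul_smul, ← pow_succ']
      congr 2
      omega
    · rw [if_neg h]
      by_cases h' : i ≤ k
      · have hik : i = k := by omega
        subst hik
        rw [if_pos le_rfl, Nat.sub_self, pow_zero, one_smul, Nat.add_sub_cancel_left,
          Function.iterate_one, ← hd]
      · rw [if_neg h', show i + 1 - k = (i - k) + 1 by omega, Function.iterate_succ_apply', ← hd]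
  refine ⟨⟨t, ?_, ht⟩, ?_⟩
  · simp only [t]
    rw [if_pos (Nat.zero_le k), Nat.sub_zero, hw]
  · simp [t]

/-- `eT` consists of the sequences with `t 1 = 0`. -/
theorem exists_smul_eq {e : A} (t : tate W e) (j : ℕ) (h : (t : ℕ → W) j = 0) :
    ∃ s : tate W e, t = e ^ j • s := by
  refine ⟨⟨fun i => (t : ℕ → W) (i + j), ?_, fun i => ?_⟩, ?_⟩
  · change (t : ℕ → W) (0 + j) = 0
    rw [zero_add, h]
  · change e • (t : ℕ → W) (i + 1 + j) = (t : ℕ → W) (i + j)
    rw [add_right_comm]
    exact t.2.2 _
  · apply Subtype.ext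
    funext i
    exact (tate_pow t i j).symm

end General

section Complete

variable {A : Type u} [CommRing A] [IsLocalRing A] [IsNoetherianRing A] {W : Type v} [AddCommGroup W]
  [Module A W]

omit [IsNoetherianRing A] in
theorem exists_pow_smul_eq_zero {M : Type*} [AddCommGroup M] [Module A M]
    (hM : IsFiniteLength A M) (htors : ∀ w : M, ∃ n : ℕ, ∀ a ∈ maximalIdeal A ^ n, a • w = 0) :
    ∃ n : ℕ, ∀ w : M, ∀ a ∈ maximalIdeal A ^ n, a • w = 0 := by
  rw [isFiniteLength_iff_isNoetherian_isArtinian] at hM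
  obtain ⟨_, _⟩ := hM
  obtain ⟨k, s, hs⟩ := Module.Finite.exists_fin (R := A) (M := M)
  choose n hn using fun i => htors (s i)
  refine ⟨∑ i, n i, fun w => ?_⟩
  have hw : w ∈ Submodule.span A (Set.range s) := hs ▸ Submodule.mem_top
  intro a ha
  induction hw using Submodule.span_induction with
  | mem x hx =>
    obtain ⟨i, rfl⟩ := hx
    refine hn i a (Ideal.pow_le_pow_right ?_ ha)
    exact Finset.single_le_sum (fun j _ => Nat.zero_le (n j)) (Finset.mem_univ i)
  | zero => rw [smul_zero]
  | add x y _ _ hx hy => rw [smul_add, hx, hy, add_zero]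
  | smul c x _ hx => rw [smul_comm, hx, smul_zero]

omit [IsNoetherianRing A] in
theorem finite_tate [IsAdicComplete (maximalIdeal A) A] {e : A} (he : e ∈ maximalIdeal A)
    (hfl : IsFiniteLength A (torsionBy A W e))
    (htors : ∀ w : W, ∃ n : ℕ, ∀ a ∈ maximalIdeal A ^ n, a • w = 0) :
    Module.Finite A (tate W e) ∧ ∃ N : ℕ, ∀ a ∈ maximalIdeal A ^ N, ∀ t : tate W e,
      ∃ s : tate W e, a • t = e • s := by
  obtain ⟨N, hN⟩ := exists_pow_smul_eq_zero hfl (fun w => by
    obtain ⟨n, hn⟩ := htors w
    exact ⟨n, fun a ha => Subtype.ext (hn a ha)⟩)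
  have h1 : ∀ t : tate W e, (t : ℕ → W) 1 ∈ torsionBy A W e := by
    intro t
    rw [mem_torsionBy_iff, t.2.2 0, t.2.1]
  have key : ∀ a ∈ maximalIdeal A ^ N, ∀ t : tate W e, ∃ s : tate W e, a • t = e • s := by
    intro a ha t
    have h2 : (a • t : tate W e).1 1 = 0 := congrArg Subtype.val (hN ⟨_, h1 t⟩ a ha)
    obtain ⟨s, hs⟩ := exists_smul_eq (a • t) 1 h2
    exact ⟨s, by rw [hs, pow_one]⟩
  refine ⟨?_, N, key⟩
  -- separatedness
  have hsep : ∀ k : ℕ, ∀ t ∈ (maximalIdeal A ^ (N * k) • ⊤ : Submodule A (tate W e)),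
      ∃ s : tate W e, t = e ^ k • s := by
    intro k
    induction k with
    | zero =>
      intro t _
      exact ⟨t, by rw [pow_zero, one_smul]⟩
    | succ k ih =>
      intro t ht
      rw [mul_add, mul_one, pow_add, mul_comm, Submodule.mul_smul] at ht
      induction ht using Submodule.smul_induction_on' with
      | smul a ha x hx =>
        obtain ⟨s, hs⟩ := ih x hx
        obtain ⟨s', hs'⟩ := key a ha s
        exact ⟨s', by rw [hs, smul_comm, hs', smul_smul, ← pow_succ]⟩
      | add x hx y hy ihx ihy =>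
        obtain ⟨s, hs⟩ := ihx
        obtain ⟨s', hs'⟩ := ihy
        exact ⟨s + s', by rw [smul_add, ← hs, ← hs']⟩
  have hhaus : IsHausdorff (maximalIdeal A) (tate W e) := by
    refine ⟨fun t ht => ?_⟩
    apply Subtype.ext
    funext i
    have h2 := ht (N * i)
    rw [SModEq.zero] at h2
    obtain ⟨s, hs⟩ := hsep i t h2
    have h3 : (t : ℕ → W) i = e ^ i • (s : ℕ → W) i := congrFun (congrArg Subtype.val hs) i
    rw [h3, tate_pow_zero]
    rfl
  refine Groth.Agent.Ega41.PowComplete.finite_of_complete (I := maximalIdeal A) ?_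
  -- the quotient embeds into `W[e]` modulo `m`
  rw [isFiniteLength_iff_isNoetherian_isArtinian] at hfl
  obtain ⟨_, _⟩ := hfl
  let φ : tate W e →ₗ[A] torsionBy A W e := LinearMap.codRestrict (torsionBy A W e)
    ((LinearMap.proj (R := A) (φ := fun _ : ℕ => W) 1).comp (tate W e).subtype) h1
  have hker : LinearMap.ker φ ≤ (maximalIdeal A • ⊤ : Submodule A (tate W e)) := by
    intro t ht
    obtain ⟨s, hs⟩ := exists_smul_eq t 1 (congrArg Subtype.val ht)
    rw [hs, pow_one]
    exact Submodule.smul_mem_smul he Submodule.mem_top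
  have h3 : Module.Finite A (tate W e ⧸ LinearMap.ker φ) :=
    Module.Finite.equiv (LinearMap.quotKerEquivRange φ).symm
  exact Module.Finite.of_surjective (Submodule.factor hker) (Submodule.factor_surjective hker)

omit [IsLocalRing A] [IsNoetherianRing A] in
/-- An ideal-theoretic consequence: the Tate module is killed by a nonzero element. -/
theorem exists_annihilator {M : Type*} [AddCommGroup M] [Module A M] [Module.Finite A M] {e x : A}
    (P : Ideal A) [P.IsPrime] (he : e ∈ P) (hx : x ∉ P)
    (h : ∀ t : M, ∃ s : M, x • t = e • s) : ∃ b ∉ P, ∀ t : M, b • t = 0 := by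
  obtain ⟨p, hmon, -, hcoeff, hp⟩ :=
    LinearMap.exists_monic_and_natDegree_eq_and_coeff_mem_pow_and_aeval_eq_zero A
      (algebraMap A (Module.End A M) x) (Ideal.span {e}) (by
        rintro _ ⟨t, rfl⟩
        obtain ⟨s, hs⟩ := h t
        rw [Module.algebraMap_end_apply, hs]
        exact Submodule.smul_mem_smul (Ideal.mem_span_singleton_self e) Submodule.mem_top)
  refine ⟨p.eval x, fun hmem => ?_, fun t => ?_⟩
  · have h1 : p.eval x - x ^ p.natDegree ∈ P := by
      rw [Polynomial.eval_eq_sum_range, Finset.sum_range_succ, hmon.coeff_natDegree, one_mul,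
        add_sub_cancel_right]
      refine Ideal.sum_mem _ fun i hi => Ideal.mul_mem_right _ _ ?_
      rw [Finset.mem_range] at hi
      have h2 := hcoeff i
      have h3 : Ideal.span {e} ^ (p.natDegree - i) ≤ P :=
        (Ideal.pow_le_self (by omega)).trans ((Ideal.span_singleton_le_iff_mem P).2 he)
      exact h3 h2
    have h2 : x ^ p.natDegree ∈ P := by
      have := Ideal.sub_mem _ hmem h1
      rwa [sub_sub_cancel] at this
    exact hx (Ideal.IsPrime.mem_of_pow_mem inferInstance _ h2)
  · rw [Polynomial.aeval_algebraMap_apply, Polynomial.coe_aeval_eq_eval] at hp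
    exact congr($hp t)

/-- If `W` is `m`-power torsion and `W[e]` has finite length for all nonzero `e ∈ m`, then `W` has finite
length. -/
theorem isFiniteLength_of_forall_torsionBy [IsDomain A] [IsAdicComplete (maximalIdeal A) A]
    (hdim : 2 ≤ (maximalIdeal A).height)
    (htors : ∀ w : W, ∃ n : ℕ, ∀ a ∈ maximalIdeal A ^ n, a • w = 0)
    (hfl : ∀ e : A, e ≠ 0 → IsFiniteLength A (torsionBy A W e)) : IsFiniteLength A W := by
  -- choose `0 ≠ e ∈ m`
  have hm0 : maximalIdeal A ≠ ⊥ := by
    intro h
    rw [h, Ideal.height_bot] at hdim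
    exact absurd hdim (by decide)
  obtain ⟨e, hem, he0⟩ := Submodule.exists_mem_ne_zero_of_ne_bot hm0
  -- a prime `P` containing `e`, different from `m`
  obtain ⟨P, hP⟩ : Nonempty (Ideal.span {e}).minimalPrimes :=
    Ideal.nonempty_minimalPrimes (by
      rw [Ne, Ideal.span_singleton_eq_top]
      exact hem)
  have hPprime : P.IsPrime := hP.1.1
  have heP : e ∈ P := hP.1.2 (Ideal.mem_span_singleton_self e)
  have hPht : P.height ≤ 1 := Ideal.height_le_one_of_isPrincipal_of_mem_minimalPrimes _ P hP
  have hPm : ¬ maximalIdeal A ≤ P := by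
    intro h
    have h1 : P = maximalIdeal A := le_antisymm (IsLocalRing.le_maximalIdeal hPprime.ne_top) h
    rw [h1] at hPht
    exact absurd (hdim.trans hPht) (by decide)
  obtain ⟨y, hym, hyP⟩ := SetLike.not_le_iff_exists.1 hPm
  have htorse : ∀ w : W, ∃ n : ℕ, e ^ n • w = 0 := fun w => by
    obtain ⟨n, hn⟩ := htors w
    exact ⟨n, hn _ (Ideal.pow_mem_pow hem n)⟩
  obtain ⟨n, hn⟩ := exists_range_pow_eq e (hfl e he0) htorse
  let W' : Submodule A W := LinearMap.range (LinearMap.lsmul A W (e ^ n))
  have hW'tors : ∀ w : W', ∃ n : ℕ, ∀ a ∈ maximalIdeal A ^ n, a • w = 0 := by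
    intro w
    obtain ⟨k, hk⟩ := htors w
    exact ⟨k, fun a ha => Subtype.ext (hk a ha)⟩
  have hW'fl : ∀ b : A, b ≠ 0 → IsFiniteLength A (torsionBy A W' b) := by
    intro b hb
    have h1 : ∀ w : torsionBy A W' b, ((w : W') : W) ∈ torsionBy A W b := by
      intro w
      rw [mem_torsionBy_iff]
      exact congrArg Subtype.val ((mem_torsionBy_iff _ _).1 w.2)
    refine (hfl b hb).of_injective (f := LinearMap.codRestrict (torsionBy A W b)
      (W'.subtype.comp (torsionBy A W' b).subtype) h1) ?_
    intro x y hxy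
    have hxy' := congrArg (Submodule.subtype _) hxy
    exact Subtype.ext (Subtype.ext hxy')
  have hdiv : ∀ w : W', ∃ z : W', w = e • z := by
    rintro ⟨_, z, rfl⟩
    obtain ⟨z', hz'⟩ := hn z
    refine ⟨⟨_, z', rfl⟩, Subtype.ext ?_⟩
    change e ^ n • z = e • e ^ n • z'
    rw [hz', smul_smul, ← pow_succ']
  obtain ⟨hfin, N, hN⟩ := finite_tate (W := W') hem (hW'fl e he0) hW'tors
  obtain ⟨b, hbP, hb⟩ := exists_annihilator (M := tate W' e) P heP
    (x := y ^ N) (fun h => hyP (hPprime.mem_of_pow_mem _ h)) (hN _ (Ideal.pow_mem_pow hym N))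
  have hb0 : b ≠ 0 := fun h => hbP (h ▸ P.zero_mem)
  have hbW' : ∀ w : W', b • w = 0 := by
    intro w
    obtain ⟨k, hk⟩ := hW'tors w
    obtain ⟨t, ht⟩ := exists_tate_eq hdiv w k (hk _ (Ideal.pow_mem_pow hem k))
    rw [← ht]
    exact congrFun (congrArg Subtype.val (hb t)) k
  have hW'len : IsFiniteLength A W' := by
    have h1 : torsionBy A W' b = ⊤ := by
      rw [eq_top_iff]
      intro w _
      rw [mem_torsionBy_iff]
      exact hbW' w
    have h2 := hW'fl b hb0
    rw [h1] at h2
    exact Submodule.topEquiv.isFiniteLength h2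
  have hW'zero : ∀ w : W', w = 0 := by
    rw [isFiniteLength_iff_isNoetherian_isArtinian] at hW'len
    obtain ⟨_, _⟩ := hW'len
    have hsurj : Function.Surjective (LinearMap.lsmul A W' e) := fun w => by
      obtain ⟨z, hz⟩ := hdiv w
      exact ⟨z, hz.symm⟩
    have hinj := IsNoetherian.injective_of_surjective_endomorphism _ hsurj
    intro w
    obtain ⟨k, hk⟩ := hW'tors w
    have h1 : e ^ k • w = 0 := hk _ (Ideal.pow_mem_pow hem k)
    clear hk
    induction k with
    | zero => simpa using h1
    | succ k ih =>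
      apply ih
      apply hinj
      change e • e ^ k • w = e • 0
      rw [smul_smul, ← pow_succ', h1, smul_zero]
  have h1 : torsionBy A W (e ^ n) = ⊤ := by
    rw [eq_top_iff]
    intro w _
    rw [mem_torsionBy_iff]
    exact congrArg Subtype.val (hW'zero ⟨_, w, rfl⟩)
  have h2 := hfl (e ^ n) (pow_ne_zero n he0)
  rw [h1] at h2
  exact Submodule.topEquiv.isFiniteLength h2

/-- **Boundedness criterion.** -/
theorem isFiniteLength_of_kill [IsDomain A] [IsAdicComplete (maximalIdeal A) A]
    (hdim : ringKrullDim A = 2)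
    (htors : ∀ w : W, ∃ n : ℕ, ∀ a ∈ maximalIdeal A ^ n, a • w = 0)
    (hsoc : ∀ n : ℕ, IsFiniteLength A (tors W (maximalIdeal A ^ n)))
    (hp : ∀ p : Ideal A, p.IsPrime → p ≠ ⊥ → p ≠ maximalIdeal A →
      ∃ s ∉ p, ∀ w : W, (∀ a ∈ p, a • w = 0) → s • w = 0) : IsFiniteLength A W := by
  have hht : (maximalIdeal A).height = 2 := by
    have := IsLocalRing.maximalIdeal_height_eq_ringKrullDim (R := A)
    rw [hdim] at this
    exact WithBot.coe_injective this
  -- primes strictly between
  have hmid : ∀ p q : Ideal A, p.IsPrime → q.IsPrime → p ≠ ⊥ → p < q → q = maximalIdeal A := by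
    intro p q hpp hqp hp0 hpq
    by_contra hqm
    have h1 : (⊥ : Ideal A).height < p.height :=
      Ideal.height_strict_mono_of_isPrime_of_isPrime (bot_lt_iff_ne_bot.2 hp0)
    have h2 : p.height < q.height := Ideal.height_strict_mono_of_isPrime_of_isPrime hpq
    have h3 : q.height < (maximalIdeal A).height :=
      Ideal.height_strict_mono_of_isPrime_of_isPrime (lt_of_le_of_ne (IsLocalRing.le_maximalIdeal hqp.ne_top) hqm)
    rw [hht] at h3
    have h4 : 1 ≤ p.height := Order.one_le_iff_pos.2 (pos_of_gt h1)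
    have h5 : 2 ≤ q.height := by
      have : (1 : ℕ∞) + 1 ≤ q.height := Order.add_one_le_of_lt (lt_of_le_of_lt h4 h2)
      rwa [one_add_one_eq_two] at this
    exact absurd h3 (not_lt.2 h5)
  have hprime : ∀ p : Ideal A, p.IsPrime → p ≠ ⊥ → IsFiniteLength A (tors W p) := by
    intro p hpp hp0
    by_cases hpm : p = maximalIdeal A
    · have := hsoc 1
      rw [pow_one] at this
      rw [hpm]
      exact this
    obtain ⟨s, hs, hkill⟩ := hp p hpp hp0 hpm
    have hrad : maximalIdeal A ≤ (p ⊔ Ideal.span {s}).radical := by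
      rw [Ideal.radical_eq_sInf]
      refine le_sInf ?_
      rintro q ⟨hq, hqp⟩
      have hpq : p < q := by
        refine lt_of_le_of_ne (le_sup_left.trans hq) ?_
        rintro rfl
        exact hs (hq (Ideal.mem_sup_right (Ideal.mem_span_singleton_self s)))
      rw [hmid p q hpp hqp hp0 hpq]
    obtain ⟨n, hn⟩ := Ideal.exists_pow_le_of_le_radical_of_fg hrad (IsNoetherian.noetherian _)
    refine isFiniteLength_of_le ?_ (hsoc n)
    intro w hw
    rw [mem_tors] at hw ⊢
    intro a ha
    obtain ⟨b, hb, c, hc, rfl⟩ := Submodule.mem_sup.1 (hn ha)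
    obtain ⟨d, rfl⟩ := Ideal.mem_span_singleton'.1 hc
    rw [add_smul, hw b hb, mul_smul, hkill w hw, smul_zero, add_zero]
  refine isFiniteLength_of_forall_torsionBy hht.ge htors ?_
  intro e he
  have hnf : ¬ IsField A := by
    intro hf
    rw [ringKrullDim_eq_zero_of_isField hf] at hdim
    exact absurd hdim (by decide)
  obtain ⟨Z, hZ, hZ0⟩ := PrimeSpectrum.exists_primeSpectrum_prod_le_and_ne_bot_of_domain hnf
    (I := Ideal.span {e}) (by rwa [Ne, Ideal.span_singleton_eq_bot])
  rw [← tors_span_singleton]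
  refine isFiniteLength_of_le (tors_le hZ) (tors_multiset_prod Z fun p hpZ => hprime _ p.2 ?_)
  intro h0
  apply hZ0
  obtain ⟨Z', rfl⟩ := Multiset.exists_cons_of_mem hpZ
  rw [Multiset.map_cons, Multiset.prod_cons, h0, Ideal.bot_mul]

end Complete

end Groth.Agent.Lipman.BoundAlg
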