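import Groth.Agent.Lipman.Defs
import Groth.Agent.Lipman.QC679
import Groth.Agent.Lipman.ZR158
import Mathlib.RingTheory.Ideal.Height
import Mathlib.RingTheory.KrullDimension.Basic

/-!
# Boundedness, part (V1): classes of Cousin data are killed by powers of the maximal ideal

For `R ⊆ K` Noetherian normal local of dimension two and `φ ∈ D R` there is `n` such that `a • φ` is
trivial for all `a ∈ m ^ n`.
-/

set_option autoImplicit false
set_option linter.unusedVariables false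
universe u

open IsLocalRing

namespace Groth.Agent.Lipman.BoundV1

open Groth.Agent.Lipman.Defs

variable {K : Type u} [Field K]

/-- The ideal of all `a` such that `a • φ` is trivial. -/
def annTriv (R : Subring K) (φ : ValuationSubring K → K) : Ideal R where
  carrier := {a | IsTriv R (fun V ↦ (a : K) * φ V)}
  zero_mem' := ⟨0, fun V _ ↦ by simp⟩
  add_mem' := by
    rintro a b ⟨f, hf⟩ ⟨g, hg⟩
    refine ⟨f + g, fun V hV ↦ ?_⟩
    have : ((a + b : R) : K) * φ V - (f + g) = ((a : K) * φ V - f) + ((b : K) * φ V - g) := by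
      push_cast; ring
    simp only [this]
    exact V.add_mem _ _ (hf V hV) (hg V hV)
  smul_mem' := by
    rintro c a ⟨f, hf⟩
    refine ⟨c * f, fun V hV ↦ ?_⟩
    have : ((c • a : R) : K) * φ V - (c * f) = (c : K) * ((a : K) * φ V - f) := by
      rw [smul_eq_mul]; push_cast; ring
    simp only [this]
    exact V.mul_mem _ _ (hV c.2) (hf V hV)

lemma mem_annTriv {R : Subring K} {φ : ValuationSubring K → K} {a : R} :
    a ∈ annTriv R φ ↔ IsTriv R (fun V ↦ (a : K) * φ V) := Iff.rfl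

/-- If `a • (s / x) ⊆ R` then a power of `a` makes `φ` trivial. -/
theorem exists_pow_mem {R : Subring K} {s : Set K} (hs : IsTuple s) {φ : ValuationSubring K → K}
    (hφ : IsConst R s φ) {x : K} (hx : x ∈ s) (hx0 : x ≠ 0) (a : R)
    (ha : ∀ y ∈ s, (a : K) * (y / x) ∈ R) : ∃ N : ℕ, a ^ N ∈ annTriv R φ := by
  classical
  obtain ⟨f, hf⟩ := hφ
  by_cases ha0 : (a : K) = 0
  · refine ⟨1, ?_⟩
    have : a = 0 := Subtype.ext ha0
    rw [this, pow_one]
    exact (annTriv R φ).zero_mem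
  have key : ∀ x' ∈ s, ∃ N : ℕ, x' ≠ 0 → ∀ M ≥ N, ∀ V : ValuationSubring K,
      chartRing R s x' ≤ V.toSubring → (a : K) ^ M * (f x' - f x) ∈ V := by
    intro x' hx'
    by_cases hx'0 : x' = 0
    · exact ⟨0, fun h ↦ absurd hx'0 h⟩
    obtain ⟨N, hN⟩ := QC.exists_pow_mul_mem (chartRing R s x') (g := (a : K)) (x := f x' - f x)
      (le_chartRing R s x' a.2) ha0 (by
        intro V hV hinv
        obtain ⟨hVR, hc'⟩ := (mem_ZR_chartRing hx'0).1 hV
        have hc : Chart s x V := by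
          refine ⟨hx0, fun y hy ↦ ?_⟩
          have h1 : (a : K)⁻¹ * ((a : K) * (y / x)) = y / x := by field_simp
          rw [← h1]
          exact V.mul_mem _ _ hinv (hVR (ha y hy))
        have h2 := hf V hVR x hx hc
        have h3 := hf V hVR x' hx' hc'
        have h4 : f x' - f x = (φ V - f x) - (φ V - f x') := by ring
        rw [h4]
        exact V.sub_mem h2 h3)
    refine ⟨N, fun _ M hM V hV ↦ ?_⟩
    have h5 : (a : K) ^ M * (f x' - f x) = (a : K) ^ (M - N) * ((a : K) ^ N * (f x' - f x)) := by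
      rw [← mul_assoc, ← pow_add, Nat.sub_add_cancel hM]
    rw [h5]
    exact V.mul_mem _ _ (pow_mem (hV (le_chartRing R s x' a.2)) _) (hN V hV)
  choose! N hN using key
  obtain ⟨M, hM⟩ : ∃ M, ∀ x' ∈ s, N x' ≤ M := by
    obtain ⟨M, hM⟩ := (hs.finite.image N).bddAbove
    exact ⟨M, fun x' hx' ↦ hM ⟨x', hx', rfl⟩⟩
  refine ⟨M, (a : K) ^ M * f x, fun V hV ↦ ?_⟩
  obtain ⟨x', hx', hc'⟩ := exists_chart hs V
  have h1 := hf V hV x' hx' hc'
  have h2 := hN x' hx' hc'.1 M (hM x' hx') V ((mem_ZR_chartRing hc'.1).2 ⟨hV, hc'⟩)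
  have h3 : ((a ^ M : R) : K) * φ V - (a : K) ^ M * f x =
      (a : K) ^ M * (φ V - f x') + (a : K) ^ M * (f x' - f x) := by
    push_cast; ring
  simp only [h3]
  exact V.add_mem _ _ (V.mul_mem _ _ (pow_mem (hV a.2) _) h1) h2

/-- Common denominators. -/
lemma exists_common {R : Subring K} (q : Ideal R) [q.IsPrime] {T : Set K} (hT : T.Finite)
    (h : ∀ t ∈ T, ∃ a : R, a ∉ q ∧ (a : K) * t ∈ R) : ∃ a : R, a ∉ q ∧ ∀ t ∈ T, (a : K) * t ∈ R := by
  classical
  induction T, hT using Set.Finite.induction_on with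
  | empty => exact ⟨1, fun h1 ↦ (Ideal.IsPrime.ne_top ‹_›) ((Ideal.eq_top_iff_one q).2 h1), by simp⟩
  | @insert t T _ _ ih =>
    obtain ⟨a, ha, h1⟩ := ih (fun t' ht' ↦ h t' (Set.mem_insert_of_mem _ ht'))
    obtain ⟨b, hb, h2⟩ := h t (Set.mem_insert _ _)
    refine ⟨a * b, fun hab ↦ (Ideal.IsPrime.mem_or_mem ‹_› hab).elim ha hb, ?_⟩
    rintro t' (rfl | ht')
    · have : ((a * b : R) : K) * t' = (a : K) * ((b : K) * t') := by push_cast; ring
      rw [this]
      exact R.mul_mem a.2 h2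
    · have : ((a * b : R) : K) * t' = (b : K) * ((a : K) * t') := by push_cast; ring
      rw [this]
      exact R.mul_mem b.2 (h1 t' ht')

/-- At a height one prime of a Noetherian normal domain the blow-up of `s` is an isomorphism. -/
theorem exists_of_height_one {R : Subring K} [IsFractionRing R K] [IsNoetherianRing R]
    [IsIntegrallyClosed R] (q : Ideal R) [q.IsPrime]
    (hmin : ∀ q' : Ideal R, q'.IsPrime → q' ≠ ⊥ → q' ≤ q → q' = q) {s : Set K} (hs : IsTuple s) :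
    ∃ x ∈ s, x ≠ 0 ∧ ∃ a : R, a ∉ q ∧ ∀ y ∈ s, (a : K) * (y / x) ∈ R := by
  obtain ⟨V, hV⟩ := ZR158.exists_valuationSubring_of_height_one q hmin
  obtain ⟨x, hx, hc⟩ := exists_chart hs V
  refine ⟨x, hx, hc.1, ?_⟩
  obtain ⟨a, ha, h⟩ := exists_common q (T := (fun y ↦ y / x) '' s) (hs.finite.image _) (by
    rintro _ ⟨y, hy, rfl⟩
    have h1 : y / x ∈ (LocalSubring.ofPrime R q).toSubring := by
      rw [← hV]; exact hc.2 y hy
    obtain ⟨b, c, hcq, h2⟩ := ZR158.mem_ofPrime_iff.1 h1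
    refine ⟨c, hcq, ?_⟩
    have hc0 : (c : K) ≠ 0 := fun h0 ↦ hcq (by
      rw [show c = 0 from Subtype.ext h0]; exact q.zero_mem)
    have h3 : (c : K) * (y / x) = b := by
      rw [h2]; field_simp
    change (c : K) * (y / x) ∈ R
    rw [h3]; exact b.2)
  exact ⟨a, ha, fun y hy ↦ h _ ⟨y, hy, rfl⟩⟩

/-- At the zero ideal. -/
theorem exists_of_bot {R : Subring K} [IsFractionRing R K] {s : Set K} (hs : IsTuple s) :
    ∃ x ∈ s, x ≠ 0 ∧ ∃ a : R, a ≠ 0 ∧ ∀ y ∈ s, (a : K) * (y / x) ∈ R := by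
  obtain ⟨x, hx, hx0⟩ := hs.exists_ne_zero
  refine ⟨x, hx, hx0, ?_⟩
  obtain ⟨a, ha, h⟩ := exists_common (⊥ : Ideal R) (T := (fun y ↦ y / x) '' s) (hs.finite.image _) (by
    rintro _ ⟨y, hy, rfl⟩
    obtain ⟨b, c, hc, h2⟩ := IsFractionRing.div_surjective (A := R) (y / x)
    have hc' : c ≠ 0 := nonZeroDivisors.ne_zero hc
    refine ⟨c, by simpa using hc', ?_⟩
    have hc0 : (c : K) ≠ 0 := fun h0 ↦ hc' (Subtype.ext h0)
    have h3 : (c : K) * (y / x) = b := by
      rw [← h2]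
      change (c : K) * ((b : K) / (c : K)) = b
      field_simp
    change (c : K) * (y / x) ∈ R
    rw [h3]; exact b.2)
  exact ⟨a, by simpa using ha, fun y hy ↦ h _ ⟨y, hy, rfl⟩⟩

/-- The only prime containing `annTriv R φ` is the maximal ideal. -/
theorem eq_maximalIdeal {R : Subring K} [IsFractionRing R K] [IsNoetherianRing R]
    [IsIntegrallyClosed R] [IsLocalRing R]
    (hdim : ∀ q : Ideal R, q.IsPrime → q ≠ ⊥ → q ≠ maximalIdeal R →
      ∀ q' : Ideal R, q'.IsPrime → q' ≠ ⊥ → q' ≤ q → q' = q)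
    {φ : ValuationSubring K → K} (hφ : φ ∈ D R) (q : Ideal R) [hq : q.IsPrime]
    (h : annTriv R φ ≤ q) : q = maximalIdeal R := by
  obtain ⟨s, hs, hc⟩ := hφ
  by_contra hne
  have h1 : ∃ x ∈ s, x ≠ 0 ∧ ∃ a : R, a ∉ q ∧ ∀ y ∈ s, (a : K) * (y / x) ∈ R := by
    by_cases hbot : q = ⊥
    · obtain ⟨x, hx, hx0, a, ha, h2⟩ := exists_of_bot (R := R) hs
      exact ⟨x, hx, hx0, a, by rw [hbot]; simpa using ha, h2⟩
    · exact exists_of_height_one q (hdim q hq hbot hne) hs
  obtain ⟨x, hx, hx0, a, ha, h2⟩ := h1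
  obtain ⟨N, hN⟩ := exists_pow_mem hs hc hx hx0 a h2
  exact ha (hq.mem_of_pow_mem N (h hN))

/-- **(V1)** of the boundedness theorem: the class of `φ ∈ D R` is killed by a power of the maximal
ideal. -/
theorem exists_pow_le {R : Subring K} [IsFractionRing R K] [IsNoetherianRing R]
    [IsIntegrallyClosed R] [IsLocalRing R]
    (hdim : ∀ q : Ideal R, q.IsPrime → q ≠ ⊥ → q ≠ maximalIdeal R →
      ∀ q' : Ideal R, q'.IsPrime → q' ≠ ⊥ → q' ≤ q → q' = q)
    {φ : ValuationSubring K → K} (hφ : φ ∈ D R) : ∃ n : ℕ, maximalIdeal R ^ n ≤ annTriv R φ := by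
  have h1 : maximalIdeal R ≤ (annTriv R φ).radical := by
    rw [Ideal.radical_eq_sInf]
    refine le_sInf ?_
    rintro q ⟨hq, hq'⟩
    exact (eq_maximalIdeal hdim hφ q hq).ge
  exact Ideal.exists_pow_le_of_le_radical_of_fg h1 (IsNoetherian.noetherian _)

/-- In a local domain of dimension at most two every nonzero nonmaximal prime has height one. -/
theorem height_one_of_dim {R : Type u} [CommRing R] [IsDomain R] [IsLocalRing R]
    (hd : ringKrullDim R ≤ 2) (q : Ideal R) (hq : q.IsPrime) (hq0 : q ≠ ⊥) (hqm : q ≠ maximalIdeal R)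
    (q' : Ideal R) (hq' : q'.IsPrime) (hq'0 : q' ≠ ⊥) (hle : q' ≤ q) : q' = q := by
  by_contra hne
  have hlt : q' < q := lt_of_le_of_ne hle hne
  let p0 : PrimeSpectrum R := ⟨⊥, Ideal.isPrime_bot⟩
  let p1 : PrimeSpectrum R := ⟨q', hq'⟩
  let p2 : PrimeSpectrum R := ⟨q, hq⟩
  let p3 : PrimeSpectrum R := ⟨maximalIdeal R, inferInstance⟩
  have h1 : p0 < p1 := (bot_lt_iff_ne_bot.2 hq'0 : (⊥ : Ideal R) < q')
  have h2 : p1 < p2 := hlt
  have h3 : p2 < p3 := lt_of_le_of_ne (IsLocalRing.le_maximalIdeal hq.ne_top : q ≤ maximalIdeal R)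
    (fun h ↦ hqm (congrArg (fun z : PrimeSpectrum R ↦ z.asIdeal) h))
  let l : LTSeries (PrimeSpectrum R) :=
    { length := 3
      toFun := ![p0, p1, p2, p3]
      step := by
        intro i
        fin_cases i
        · exact h1
        · exact h2
        · exact h3 }
  have h4 := Order.LTSeries.length_le_krullDim l
  have h5 : l.length = 3 := rfl
  rw [h5] at h4
  have h6 : ((3 : ℕ) : WithBot ℕ∞) ≤ 2 := h4.trans hd
  norm_cast at h6

/-- **(V1)** with a Krull dimension hypothesis, elementwise. -/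
theorem exists_pow_triv {R : Subring K} [IsFractionRing R K] [IsNoetherianRing R]
    [IsIntegrallyClosed R] [IsLocalRing R] (hd : ringKrullDim R ≤ 2)
    {φ : ValuationSubring K → K} (hφ : φ ∈ D R) :
    ∃ n : ℕ, ∀ a ∈ maximalIdeal R ^ n, IsTriv R (fun V ↦ (a : K) * φ V) := by
  obtain ⟨n, hn⟩ := exists_pow_le (height_one_of_dim hd) hφ
  exact ⟨n, fun a ha ↦ hn ha⟩

end Groth.Agent.Lipman.BoundV1
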