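import Groth.Agent.Lipman.CompVal
import Groth.Agent.Lipman.Arc

/-!
# Boundedness, step (V2)

`R` Noetherian normal local of dimension two with fraction field `K`, satisfying the
Grauert-Riemenschneider property; `p` a prime of height one whose residue domain has finite
normalization.  Then some `s ∉ p` kills the `p`-torsion of `D(R)/(constants + trivial)`.
-/

set_option autoImplicit false
set_option linter.unusedSectionVars false
universe u

open IsLocalRing
open Groth.Agent.Lipman.Defs Groth.Agent.Lipman.CompVal Groth.Agent.Lipman.Arc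

namespace Groth.Agent.Lipman.BoundV2

variable {K : Type u} [Field K] {R : Subring K}

section Closure

lemma IsConst.smul {s : Set K} {φ : ValuationSubring K → K} (h : IsConst R s φ) {a : K}
    (ha : a ∈ R) : IsConst R s (fun V => a * φ V) := by
  obtain ⟨f, hf⟩ := h
  refine ⟨fun x => a * f x, fun V hV x hx hc => ?_⟩
  rw [← mul_sub]
  exact V.mul_mem _ _ (hV ha) (hf V hV x hx hc)

lemma IsConst.add_const {s : Set K} {φ : ValuationSubring K → K} (h : IsConst R s φ) (k : K) :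
    IsConst R s (fun V => φ V + k) := by
  obtain ⟨f, hf⟩ := h
  refine ⟨fun x => f x + k, fun V hV x hx hc => ?_⟩
  rw [add_sub_add_right_eq_sub]
  exact hf V hV x hx hc

lemma D_smul {φ : ValuationSubring K → K} (h : φ ∈ D R) {a : K} (ha : a ∈ R) :
    (fun V => a * φ V) ∈ D R := by
  obtain ⟨s, hs, h⟩ := h
  exact ⟨s, hs, IsConst.smul h ha⟩

lemma D_add_const {φ : ValuationSubring K → K} (h : φ ∈ D R) (k : K) :
    (fun V => φ V + k) ∈ D R := by
  obtain ⟨s, hs, h⟩ := h
  exact ⟨s, hs, IsConst.add_const h k⟩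

end Closure

section Center

/-- the centre of `V` on `R`. -/
def center {V : ValuationSubring K} (hV : V ∈ ZR R) : Ideal R :=
  (maximalIdeal V).comap (Subring.inclusion hV : R →+* V.toSubring)

instance {V : ValuationSubring K} (hV : V ∈ ZR R) : (center hV).IsPrime :=
  Ideal.comap_isPrime _ _

lemma mem_center {V : ValuationSubring K} (hV : V ∈ ZR R) {r : R} :
    r ∈ center hV ↔ (r : K) = 0 ∨ (r : K)⁻¹ ∉ V := by
  have h0 : r ∈ center hV ↔ ¬ IsUnit (⟨r, hV r.2⟩ : V) := Iff.rfl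
  rw [h0]
  constructor
  · intro h
    by_cases hr : (r : K) = 0
    · exact Or.inl hr
    · refine Or.inr fun hi => h ?_
      exact IsUnit.of_mul_eq_one (⟨(r : K)⁻¹, hi⟩ : V) (Subtype.ext (mul_inv_cancel₀ hr))
  · rintro (h | h) hu
    · obtain ⟨u, hu⟩ := hu
      have h1 := congrArg (fun z : V => (z : K)) (u.mul_inv)
      rw [show ((u : V) * (↑u⁻¹ : V) : V) = ⟨r, hV r.2⟩ * (↑u⁻¹ : V) from by rw [hu]] at h1
      have h2 : (r : K) * ((↑u⁻¹ : V) : K) = 1 := h1
      rw [h, zero_mul] at h2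
      exact zero_ne_one h2
    · obtain ⟨u, hu⟩ := hu
      have h1 := congrArg (fun z : V => (z : K)) (u.mul_inv)
      rw [show ((u : V) * (↑u⁻¹ : V) : V) = ⟨r, hV r.2⟩ * (↑u⁻¹ : V) from by rw [hu]] at h1
      have h2 : (r : K) * ((↑u⁻¹ : V) : K) = 1 := h1
      apply h
      rw [← eq_inv_of_mul_eq_one_right h2]
      exact (↑u⁻¹ : V).2

lemma center_ne_of_not_dom [IsLocalRing R] {V : ValuationSubring K} (hV : V ∈ ZR R)
    (h : ¬ Dom R V) : center hV ≠ maximalIdeal R := by
  intro hc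
  apply h
  refine ⟨hV, fun r hr hi => ?_⟩
  by_cases hr0 : r = 0
  · rw [hr0, inv_zero]; exact R.zero_mem
  · have h1 : (⟨r, hr⟩ : R) ∉ maximalIdeal R := by
      rw [← hc, mem_center]
      rintro (h | h)
      · exact hr0 h
      · exact h hi
    have h2 : IsUnit (⟨r, hr⟩ : R) := by
      by_contra hu; exact h1 ((mem_maximalIdeal _).2 hu)
    obtain ⟨u, hu⟩ := h2
    have h3 := congrArg (fun z : R => (z : K)) (u.mul_inv)
    rw [show ((u : R) * (↑u⁻¹ : R) : R) = ⟨r, hr⟩ * (↑u⁻¹ : R) from by rw [hu]] at h3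
    have h4 : (r : K) * ((↑u⁻¹ : R) : K) = 1 := h3
    rw [← eq_inv_of_mul_eq_one_right h4]
    exact (↑u⁻¹ : R).2

variable [IsNoetherianRing R] [IsIntegrallyClosed R] [IsFractionRing R K]

lemma eq_top_of_center_eq_bot {V : ValuationSubring K} (hV : V ∈ ZR R) (h : center hV = ⊥)
    (x : K) : x ∈ V := by
  obtain ⟨a, b, hb, rfl⟩ := IsFractionRing.div_surjective (A := R) x
  have hb0 : b ≠ 0 := nonZeroDivisors.ne_zero hb
  have h1 : b ∉ center hV := by rw [h]; exact hb0
  rw [mem_center, not_or, not_not] at h1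
  rw [div_eq_mul_inv]
  exact V.mul_mem _ _ (hV a.2) h1.2

/-- the valuation rings with centre of height one -/
lemma eq_locVal {V : ValuationSubring K} (hV : V ∈ ZR R)
    (hmin : ∀ q : Ideal R, q.IsPrime → q ≠ ⊥ → q ≤ center hV → q = center hV) :
    V = locVal R (center hV) hmin := by
  apply le_antisymm
  · intro x hx
    by_contra hc
    obtain ⟨π, hπ, hgen⟩ := exists_local_generator (center hV) hmin
    have hi : x⁻¹ ∈ locVal R (center hV) hmin :=
      ((locVal R (center hV) hmin).mem_or_inv_mem x).resolve_left hc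
    obtain ⟨s, hs, hsx⟩ := hi
    have hx0 : x ≠ 0 := by
      rintro rfl; exact hc (locVal R (center hV) hmin).zero_mem
    have hsK : (s : K) ≠ 0 := fun h => hs (by
      rw [show s = 0 from Subtype.ext h]; exact (center hV).zero_mem)
    -- `s x⁻¹ ∈ center`
    have h1 : (⟨(s : K) * x⁻¹, hsx⟩ : R) ∈ center hV := by
      by_contra h2
      apply hc
      refine ⟨⟨(s : K) * x⁻¹, hsx⟩, h2, ?_⟩
      have : ((⟨(s : K) * x⁻¹, hsx⟩ : R) : K) * x = s := by
        change (s : K) * x⁻¹ * x = s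
        rw [mul_assoc, inv_mul_cancel₀ hx0, mul_one]
      rw [this]
      exact s.2
    obtain ⟨c, hc', d, hcd⟩ := hgen _ h1
    have hcK : (c : K) ≠ 0 := fun h => hc' (by
      rw [show c = 0 from Subtype.ext h]; exact (center hV).zero_mem)
    have h3 : (c : K) * ((s : K) * x⁻¹) = d * π := congrArg Subtype.val hcd
    have hπ0 : (π : K) ≠ 0 := by
      intro h
      rw [h, mul_zero] at h3
      have := mul_ne_zero hcK (mul_ne_zero hsK (inv_ne_zero hx0))
      exact this h3
    rcases (mem_center hV).1 hπ with h | h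
    · exact hπ0 h
    · apply h
      have hcV : (c : K)⁻¹ ∈ V := by
        rw [mem_center, not_or, not_not] at hc'
        exact hc'.2
      have hsV : (s : K)⁻¹ ∈ V := by
        rw [mem_center, not_or, not_not] at hs
        exact hs.2
      have h4 : (π : K)⁻¹ = d * (x * ((c : K)⁻¹ * (s : K)⁻¹)) := by
        field_simp at h3 ⊢
        rw [h3]
      rw [h4]
      exact V.mul_mem _ _ (hV d.2) (V.mul_mem _ _ hx (V.mul_mem _ _ hcV hsV))
  · rintro x ⟨s, hs, hsx⟩
    rw [mem_center, not_or, not_not] at hs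
    have : x = (s : K)⁻¹ * (s * x) := by
      rw [← mul_assoc, inv_mul_cancel₀ hs.1, one_mul]
    rw [this]
    exact V.mul_mem _ _ hs.2 (hV hsx)

end Center

section Main

variable [IsNoetherianRing R] [IsIntegrallyClosed R] [IsFractionRing R K] [IsLocalRing R]

/-- The Grauert-Riemenschneider property, valuation form. -/
def GRProp (R : Subring K) : Prop :=
  ∀ φ ∈ D R, (∀ V ∈ ZR R, ¬ Dom R V → φ V ∈ V) → ∀ V ∈ ZR R, φ V ∈ V

/-- Claim 2: it is enough to control `φ` at the height one primes containing `e`. -/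
lemma mem_of_height_one (hGR : GRProp R) (hdim : ringKrullDim R ≤ 2)
    {φ : ValuationSubring K → K} (hφ : φ ∈ D R) {e : R}
    (he : ∀ V ∈ ZR R, (e : K) * φ V ∈ V)
    (hq : ∀ (q : Ideal R) [q.IsPrime] (hmin : ∀ q' : Ideal R, q'.IsPrime → q' ≠ ⊥ → q' ≤ q → q' = q),
      q ≠ ⊥ → e ∈ q → φ (locVal R q hmin) ∈ locVal R q hmin) :
    ∀ V ∈ ZR R, φ V ∈ V := by
  refine hGR φ hφ fun V hV hD => ?_
  by_cases hbot : center hV = ⊥
  · exact eq_top_of_center_eq_bot hV hbot _
  have hm := center_ne_of_not_dom hV hD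
  have hmin : ∀ q : Ideal R, q.IsPrime → q ≠ ⊥ → q ≤ center hV → q = center hV := by
    intro q hq' hq0 hle
    by_contra hne
    have := three_le_ringKrullDim q (center hV) hq0 (lt_of_le_of_ne hle hne) hm
    exact absurd (this.trans hdim) (by decide)
  by_cases heq : e ∈ center hV
  · have h1 := hq (center hV) hmin hbot heq
    rw [← eq_locVal hV hmin] at h1
    exact h1
  · rw [mem_center, not_or, not_not] at heq
    have h1 : φ V = (e : K)⁻¹ * ((e : K) * φ V) := by
      rw [← mul_assoc, inv_mul_cancel₀ heq.1, one_mul]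
    rw [h1]
    exact V.mul_mem _ _ heq.2 (he V hV)

variable {p : Ideal R} [p.IsPrime]
  (hmin : ∀ q : Ideal R, q.IsPrime → q ≠ ⊥ → q ≤ p → q = p)

/-- the structure map from `R` to the residue field of `R_p` -/
noncomputable def toRes : R →+* ResidueField (locVal R p hmin) :=
  (residue (locVal R p hmin)).comp (Subring.inclusion (locVal_mem_ZR hmin))

lemma toRes_eq_zero_iff {r : R} : toRes hmin r = 0 ↔ r ∈ p := by
  have h1 : toRes hmin r = 0 ↔ ¬ IsUnit (⟨r, locVal_mem_ZR hmin r.2⟩ : locVal R p hmin) := by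
    change residue _ _ = 0 ↔ _
    rw [residue_eq_zero_iff]
    rfl
  rw [h1]
  by_cases hr : r = 0
  · subst hr
    refine iff_of_true ?_ p.zero_mem
    intro h
    exact not_isUnit_zero h
  constructor
  · intro h
    by_contra hrp
    apply h
    have h2 := (inv_mem_locVal_iff hmin hr).2 hrp
    exact IsUnit.of_mul_eq_one (⟨(r : K)⁻¹, h2⟩ : locVal R p hmin)
      (Subtype.ext (mul_inv_cancel₀ fun h => hr (Subtype.ext h)))
  · intro hrp hu
    obtain ⟨u, hu⟩ := hu
    have h3 := congrArg (fun z : locVal R p hmin => (z : K)) (u.mul_inv)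
    rw [show ((u : locVal R p hmin) * (↑u⁻¹ : locVal R p hmin) : locVal R p hmin) =
      ⟨r, locVal_mem_ZR hmin r.2⟩ * (↑u⁻¹ : locVal R p hmin) from by rw [hu]] at h3
    have h4 : (r : K) * ((↑u⁻¹ : locVal R p hmin) : K) = 1 := h3
    refine (inv_mem_locVal_iff hmin hr).1 ?_ hrp
    rw [← eq_inv_of_mul_eq_one_right h4]
    exact (↑u⁻¹ : locVal R p hmin).2

/-- elements of `R_p` with residue zero are divisible by `π`. -/
lemma div_mem_of_residue_eq_zero {π : R} (hπ0 : π ≠ 0)
    (hgen : ∀ z ∈ p, ∃ c : R, c ∉ p ∧ ∃ d, c * z = d * π)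
    {y : K} (hy : y ∈ locVal R p hmin) (h0 : residue (locVal R p hmin) ⟨y, hy⟩ = 0) :
    y / π ∈ locVal R p hmin := by
  obtain ⟨s, hs, hsy⟩ := hy
  have h1 : (⟨(s : K) * y, hsy⟩ : R) ∈ p := by
    rw [← toRes_eq_zero_iff hmin]
    have : toRes hmin ⟨(s : K) * y, hsy⟩ = residue (locVal R p hmin)
        (⟨s, locVal_mem_ZR hmin s.2⟩ * ⟨y, ⟨s, hs, hsy⟩⟩) := rfl
    rw [this, map_mul, h0, mul_zero]
  obtain ⟨c, hc, d, hcd⟩ := hgen _ h1
  have hπK : (π : K) ≠ 0 := fun h => hπ0 (Subtype.ext h)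
  refine ⟨c * s, fun h => ?_, ?_⟩
  · rcases ‹p.IsPrime›.mem_or_mem h with h | h
    · exact hc h
    · exact hs h
  · have h2 : (c : K) * ((s : K) * y) = d * π := congrArg Subtype.val hcd
    have h3 : ((c * s : R) : K) * (y / π) = d := by
      push_cast
      rw [← mul_div_assoc, mul_assoc, h2, mul_div_cancel_right₀ _ hπK]
    rw [h3]
    exact d.2

/-- Claim 1: the class of `e φ` at `R_p` is integral over `R/p`. -/
lemma isIntegral_class {φ : ValuationSubring K → K} (hφ : φ ∈ D R) {e : R} (he : e ∈ p)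
    (hψ : ∀ V ∈ ZR R, (e : K) * φ V ∈ V) :
    (toRes hmin).IsIntegralElem
      (residue (locVal R p hmin) ⟨_, hψ (locVal R p hmin) (locVal_mem_ZR hmin)⟩) := by
  obtain ⟨s, hs, f, hf⟩ := hφ
  refine isIntegral_residue (locVal_mem_ZR hmin) _ fun W hW => ?_
  have hV : comp (locVal R p hmin) W ∈ ZR R := mem_ZR_comp (locVal_mem_ZR hmin) hW
  obtain ⟨x, hx, hc⟩ := exists_chart hs (comp (locVal R p hmin) W)
  have hcp : Chart s x (locVal R p hmin) := ⟨hc.1, fun y hy => comp_le (hc.2 y hy)⟩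
  have h1 := hf _ hV x hx hc
  have h2 := hf _ (locVal_mem_ZR hmin) x hx hcp
  have h3 : (e : K) * f x ∈ comp (locVal R p hmin) W := by
    have : (e : K) * f x = (e : K) * φ (comp (locVal R p hmin) W) -
      (e : K) * (φ (comp (locVal R p hmin) W) - f x) := by ring
    rw [this]
    exact sub_mem (hψ _ hV) (mul_mem (hV e.2) h1)
  obtain ⟨h4, h5⟩ := h3
  have h6 : residue (locVal R p hmin) ⟨(e : K) * φ (locVal R p hmin),
      hψ (locVal R p hmin) (locVal_mem_ZR hmin)⟩ =
      residue (locVal R p hmin) ⟨(e : K) * f x, h4⟩ := by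
    rw [← sub_eq_zero, ← map_sub]
    have h7 : (⟨(e : K) * φ (locVal R p hmin), hψ (locVal R p hmin) (locVal_mem_ZR hmin)⟩ -
        ⟨(e : K) * f x, h4⟩ : locVal R p hmin) =
        ⟨e, locVal_mem_ZR hmin e.2⟩ * ⟨φ (locVal R p hmin) - f x, h2⟩ :=
      Subtype.ext (mul_sub _ _ _).symm
    rw [h7, map_mul]
    have h8 : residue (locVal R p hmin) ⟨e, locVal_mem_ZR hmin e.2⟩ = 0 :=
      (toRes_eq_zero_iff hmin).2 he
    rw [h8, zero_mul]
  rw [h6]
  exact h5

omit [IsIntegrallyClosed R] [IsFractionRing R K] [IsLocalRing R] in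
/-- one denominator for all of `p` -/
lemma exists_uniform {π : R} (hgen : ∀ z ∈ p, ∃ c : R, c ∉ p ∧ ∃ d, c * z = d * π) :
    ∃ t : R, t ∉ p ∧ ∀ z ∈ p, ∃ d, t * z = d * π := by
  classical
  obtain ⟨S, hS⟩ := (IsNoetherian.noetherian p : p.FG)
  have h1 : ∃ t : R, t ∉ p ∧ ∀ z ∈ S, ∃ d, t * z = d * π := by
    have hSp : ∀ z ∈ S, z ∈ p := fun z hz => hS ▸ Submodule.subset_span hz
    clear hS
    induction S using Finset.induction with
    | empty => exact ⟨1, (Ideal.ne_top_iff_one p).1 (Ideal.IsPrime.ne_top inferInstance), by simp⟩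
    | insert a T haT ih =>
      obtain ⟨t, ht, hT⟩ := ih fun z hz => hSp z (Finset.mem_insert_of_mem hz)
      obtain ⟨c, hc, d, hd⟩ := hgen a (hSp a (Finset.mem_insert_self a T))
      refine ⟨t * c, fun h => ?_, fun z hz => ?_⟩
      · rcases ‹p.IsPrime›.mem_or_mem h with h | h
        · exact ht h
        · exact hc h
      · rcases Finset.mem_insert.1 hz with rfl | hz
        · exact ⟨t * d, by rw [mul_assoc, hd, mul_assoc]⟩
        · obtain ⟨d', hd'⟩ := hT z hz
          exact ⟨c * d', by rw [mul_comm t, mul_assoc, hd', mul_assoc]⟩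
  obtain ⟨t, ht, htS⟩ := h1
  refine ⟨t, ht, fun z hz => ?_⟩
  rw [← hS] at hz
  refine Submodule.span_induction (p := fun z _ => ∃ d, t * z = d * π) ?_ ?_ ?_ ?_ hz
  · exact htS
  · exact ⟨0, by simp⟩
  · rintro a b _ _ ⟨d, hd⟩ ⟨d', hd'⟩
    exact ⟨d + d', by rw [mul_add, hd, hd', add_mul]⟩
  · rintro a b _ ⟨d, hd⟩
    exact ⟨a * d, by rw [smul_eq_mul, mul_left_comm, hd, mul_assoc]⟩

/-- **(V2)** -/
theorem exists_smul_triv (hGR : GRProp R) (hdim : ringKrullDim R ≤ 2) (hp0 : p ≠ ⊥)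
    (hfin : ∃ s', s' ∉ p ∧ ∀ z, (toRes hmin).IsIntegralElem z →
      ∃ r : R, toRes hmin s' * z = toRes hmin r) :
    ∃ s, s ∉ p ∧ ∀ φ ∈ D R, (∀ z ∈ p, IsTriv R (fun V => (z : K) * φ V)) →
      IsTriv R (fun V => (s : K) * φ V) := by
  obtain ⟨π, hπ, hgen⟩ := exists_local_generator p hmin
  have hπ0 : π ≠ 0 := by
    rintro rfl
    apply hp0
    rw [eq_bot_iff]
    intro z hz
    obtain ⟨c, hc, d, hcd⟩ := hgen z hz
    rw [mul_zero] at hcd
    exact (mul_eq_zero.1 hcd).resolve_left fun h => hc (h ▸ p.zero_mem)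
  have hπK : (π : K) ≠ 0 := fun h => hπ0 (Subtype.ext h)
  obtain ⟨t, ht, htp⟩ := exists_uniform hgen
  obtain ⟨s', hs', hs'r⟩ := hfin
  refine ⟨t * s', fun h => ?_, fun φ hφ htriv => ?_⟩
  · rcases ‹p.IsPrime›.mem_or_mem h with h | h
    · exact ht h
    · exact hs' h
  obtain ⟨k, hk⟩ := htriv π hπ
  -- normalise
  have hφ₁ : (fun V => φ V + (-(k / π))) ∈ D R := D_add_const hφ _
  have hψ : ∀ V ∈ ZR R, (π : K) * (φ V + (-(k / π))) ∈ V := by
    intro V hV
    have : (π : K) * (φ V + (-(k / π))) = π * φ V - k := by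
      field_simp
      ring
    rw [this]
    exact hk V hV
  have hint := isIntegral_class hmin hφ₁ hπ hψ
  obtain ⟨r, hr⟩ := hs'r _ hint
  -- the residue of `s' ψ(V_p) - r` is zero
  have hVp := locVal_mem_ZR (R := R) hmin
  have hmem : (s' : K) * ((π : K) * (φ (locVal R p hmin) + (-(k / π)))) - r ∈ locVal R p hmin :=
    sub_mem (mul_mem (hVp s'.2) (hψ _ hVp)) (hVp r.2)
  have hres : residue (locVal R p hmin) ⟨_, hmem⟩ = 0 := by
    have : (⟨_, hmem⟩ : locVal R p hmin) = ⟨s', hVp s'.2⟩ *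
        ⟨(π : K) * (φ (locVal R p hmin) + (-(k / π))), hψ _ hVp⟩ - ⟨r, hVp r.2⟩ := rfl
    rw [this, map_sub, map_mul, sub_eq_zero]
    exact hr
  have hdiv := div_mem_of_residue_eq_zero hmin hπ0 hgen hmem hres
  -- the corrected datum
  set φ₂ : ValuationSubring K → K :=
    fun V => ((t * s' : R) : K) * (φ V + (-(k / π))) + (-((t : K) * r / π)) with hφ₂
  have hφ₂D : φ₂ ∈ D R := D_add_const (D_smul hφ₁ (t * s').2) _
  have hφ₂e : ∀ V, (π : K) * φ₂ V =
      t * ((s' : K) * ((π : K) * (φ V + (-(k / π)))) - r) := by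
    intro V
    rw [hφ₂]
    push_cast
    field_simp
    ring
  have hφ₂' : ∀ V, φ₂ V = t * (((s' : K) * ((π : K) * (φ V + (-(k / π)))) - r) / π) := by
    intro V
    rw [← mul_div_assoc, ← hφ₂e, mul_div_cancel_left₀ _ hπK]
  have hall := mem_of_height_one hGR hdim hφ₂D (e := π)
    (fun V hV => by
      rw [hφ₂e]
      exact mul_mem (hV t.2) (sub_mem (mul_mem (hV s'.2) (hψ V hV)) (hV r.2)))
    (fun q _ hqmin hq0 hπq => by
      by_cases hpq : p = q
      · subst hpq
        rw [hφ₂']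
        exact mul_mem (hVp t.2) hdiv
      · have hnle : ¬ p ≤ q := fun hle => hpq (hqmin p inferInstance hp0 hle)
        obtain ⟨z, hzp, hzq⟩ := Set.not_subset.1 hnle
        obtain ⟨d, hd⟩ := htp z hzp
        have hzK : (z : K) ≠ 0 := fun h => hzq (by
          rw [show z = 0 from Subtype.ext h]; exact q.zero_mem)
        have hVq := locVal_mem_ZR (R := R) hqmin
        have h1 : (t : K) / π ∈ locVal R q hqmin := by
          refine ⟨z, hzq, ?_⟩
          have h2 : (t : K) * z = d * π := congrArg Subtype.val hd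
          have h3 : (z : K) * (t / π) = d := by
            rw [← mul_div_assoc, mul_comm, h2, mul_div_cancel_right₀ _ hπK]
          rw [h3]; exact d.2
        have h4 : φ₂ (locVal R q hqmin) = (t / π) * ((s' : K) * ((π : K) *
            (φ (locVal R q hqmin) + (-(k / π)))) - r) := by
          rw [hφ₂', div_mul_eq_mul_div, mul_div_assoc]
        rw [h4]
        exact mul_mem h1 (sub_mem (mul_mem (hVq s'.2) (hψ _ hVq)) (hVq r.2)))
  refine ⟨((t * s' : R) : K) * (k / π) + (t : K) * r / π, fun V hV => ?_⟩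
  have := hall V hV
  have h5 : ((t * s' : R) : K) * φ V - (((t * s' : R) : K) * (k / π) + (t : K) * r / π) = φ₂ V := by
    rw [hφ₂]; ring
  rw [h5]
  exact this

/-- conductor of a finite normalization -/
lemma exists_conductor {C F : Type*} [CommRing C] [IsDomain C] [Field F] [Algebra C F]
    [IsFractionRing C F] (h : Module.Finite C (integralClosure C F)) :
    ∃ s : C, s ≠ 0 ∧ ∀ z : F, IsIntegral C z → ∃ c, algebraMap C F s * z = algebraMap C F c := by
  classical
  obtain ⟨S, hS⟩ := h.fg_top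
  have h1 : ∃ s : C, s ≠ 0 ∧ ∀ z ∈ S, ∃ c, algebraMap C F s * (z : F) = algebraMap C F c := by
    clear hS
    induction S using Finset.induction with
    | empty => exact ⟨1, one_ne_zero, by simp⟩
    | insert a T haT ih =>
      obtain ⟨s, hs, hT⟩ := ih
      obtain ⟨⟨b, c⟩, hbc⟩ := IsLocalization.surj (nonZeroDivisors C) (a : F)
      simp only at hbc
      refine ⟨s * c, mul_ne_zero hs (nonZeroDivisors.ne_zero c.2), fun z hz => ?_⟩
      rcases Finset.mem_insert.1 hz with rfl | hz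
      · exact ⟨s * b, by rw [map_mul, map_mul, mul_assoc, ← hbc, mul_comm (algebraMap C F c)]⟩
      · obtain ⟨d, hd⟩ := hT z hz
        exact ⟨c * d, by rw [map_mul, map_mul, ← hd]; ring⟩
  obtain ⟨s, hs, hsS⟩ := h1
  refine ⟨s, hs, fun z hz => ?_⟩
  have hz' : (⟨z, hz⟩ : integralClosure C F) ∈ Submodule.span C (S : Set (integralClosure C F)) := by
    rw [hS]; trivial
  refine Submodule.span_induction
    (p := fun y _ => ∃ c, algebraMap C F s * ((y : integralClosure C F) : F) = algebraMap C F c)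
    ?_ ?_ ?_ ?_ hz'
  · exact hsS
  · exact ⟨0, by simp⟩
  · rintro a b _ _ ⟨d, hd⟩ ⟨d', hd'⟩
    exact ⟨d + d', by rw [map_add, ← hd, ← hd', ← mul_add]; rfl⟩
  · rintro a b _ ⟨d, hd⟩
    refine ⟨a * d, ?_⟩
    have : ((a • b : integralClosure C F) : F) = algebraMap C F a * (b : F) :=
      Algebra.smul_def a (b : F)
    rw [this, map_mul, ← hd]; ring

/-- The hypothesis of `exists_smul_triv` from finiteness of the normalization of `R/p`. -/
theorem hfin_of_finite
    (h : Module.Finite (R ⧸ p) (integralClosure (R ⧸ p) (FractionRing (R ⧸ p)))) :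
    ∃ s', s' ∉ p ∧ ∀ z, (toRes hmin).IsIntegralElem z →
      ∃ r : R, toRes hmin s' * z = toRes hmin r := by
  let θ : R ⧸ p →+* ResidueField (locVal R p hmin) :=
    Ideal.Quotient.lift p (toRes hmin) (fun a ha => (toRes_eq_zero_iff hmin).2 ha)
  have hθ : Function.Injective θ := by
    rw [injective_iff_map_eq_zero]
    intro a ha
    obtain ⟨a, rfl⟩ := Ideal.Quotient.mk_surjective a
    exact Ideal.Quotient.eq_zero_iff_mem.2 ((toRes_eq_zero_iff hmin).1 ha)
  let _ : Algebra (R ⧸ p) (ResidueField (locVal R p hmin)) := θ.toAlgebra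
  have hfrac : IsFractionRing (R ⧸ p) (ResidueField (locVal R p hmin)) := by
    have : FaithfulSMul (R ⧸ p) (ResidueField (locVal R p hmin)) :=
      (faithfulSMul_iff_algebraMap_injective _ _).2 hθ
    refine IsFractionRing.of_field _ _ fun z => ?_
    obtain ⟨⟨y, s, hs, hsy⟩, rfl⟩ := residue_surjective z
    refine ⟨Ideal.Quotient.mk p ⟨(s : K) * y, hsy⟩, Ideal.Quotient.mk p s, ?_⟩
    have h1 : toRes hmin s ≠ 0 := fun h0 => hs ((toRes_eq_zero_iff hmin).1 h0)
    change residue _ _ = toRes hmin ⟨(s : K) * y, hsy⟩ / toRes hmin s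
    rw [eq_div_iff h1]
    have h2 : toRes hmin ⟨(s : K) * y, hsy⟩ = residue (locVal R p hmin)
        (⟨s, locVal_mem_ZR hmin s.2⟩ * ⟨y, ⟨s, hs, hsy⟩⟩) := rfl
    rw [h2, map_mul, mul_comm]
    rfl
  let e : FractionRing (R ⧸ p) ≃ₐ[R ⧸ p] ResidueField (locVal R p hmin) :=
    FractionRing.algEquiv (R ⧸ p) _
  obtain ⟨s, hs0, hs⟩ := exists_conductor h
  obtain ⟨s, rfl⟩ := Ideal.Quotient.mk_surjective s
  refine ⟨s, fun hsp => hs0 (Ideal.Quotient.eq_zero_iff_mem.2 hsp), fun z hz => ?_⟩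
  have hz1 : IsIntegral (R ⧸ p) z := by
    obtain ⟨P, hP, hP0⟩ := hz
    refine ⟨P.map (Ideal.Quotient.mk p), hP.map _, ?_⟩
    rw [Polynomial.eval₂_map]
    exact hP0
  have hz2 : IsIntegral (R ⧸ p) (e.symm z) := (isIntegral_algEquiv e.symm).2 hz1
  obtain ⟨c, hc⟩ := hs _ hz2
  obtain ⟨c, rfl⟩ := Ideal.Quotient.mk_surjective c
  refine ⟨c, ?_⟩
  have := congrArg e hc
  rw [map_mul, AlgEquiv.commutes, AlgEquiv.commutes, AlgEquiv.apply_symm_apply] at this
  exact this

end Main

end Groth.Agent.Lipman.BoundV2
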