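import Groth.Agent.Lipman.BoundV1
import Groth.Agent.Lipman.BoundAlg
import Mathlib.RingTheory.Artinian.Ring
import Mathlib.RingTheory.Ideal.KrullsHeightTheorem
import Mathlib.RingTheory.KrullDimension.Zero

/-!
# Boundedness, part (V3): elements killed by `m ^ n` form a module of finite length

`W = D / trivial`; for a system of parameters `x, y ∈ m ^ n` the submodule `W[(x, y)]` embeds into
`R / (x, y)`, by the vanishing theorem `GR`.
-/

set_option autoImplicit false
set_option linter.unusedVariables false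
universe u v

open IsLocalRing

namespace Groth.Agent.Lipman.BoundV3

open Groth.Agent.Lipman.Defs Groth.Agent.Lipman.BoundAlg

variable {K : Type u} [Field K]

/-! ### `D R` and the trivial functions as submodules -/

open scoped Pointwise in
lemma D_add {R : Subring K} {φ ψ : ValuationSubring K → K} (hφ : φ ∈ D R) (hψ : ψ ∈ D R) :
    φ + ψ ∈ D R := by
  obtain ⟨s, hs, hc⟩ := hφ
  obtain ⟨t, ht, hd⟩ := hψ
  obtain ⟨f, hf⟩ := (refines_mul_left R s t).isConst hc
  obtain ⟨g, hg⟩ := (refines_mul_right R s t).isConst hd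
  refine ⟨s * t, hs.mul ht, f + g, fun V hV x hx hcx ↦ ?_⟩
  have : (φ + ψ) V - (f + g) x = (φ V - f x) + (ψ V - g x) := by
    simp only [Pi.add_apply]; ring
  rw [this]
  exact V.add_mem _ _ (hf V hV x hx hcx) (hg V hV x hx hcx)

lemma D_smul {R : Subring K} (a : R) {φ : ValuationSubring K → K} (hφ : φ ∈ D R) :
    a • φ ∈ D R := by
  obtain ⟨s, hs, f, hf⟩ := hφ
  refine ⟨s, hs, fun x ↦ (a : K) * f x, fun V hV x hx hcx ↦ ?_⟩
  have : (a • φ) V - (a : K) * f x = (a : K) * (φ V - f x) := by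
    change (a : K) * φ V - _ = _
    ring
  rw [this]
  exact V.mul_mem _ _ (hV a.2) (hf V hV x hx hcx)

lemma D_of_triv {R : Subring K} {φ : ValuationSubring K → K} (h : IsTriv R φ) : φ ∈ D R := by
  obtain ⟨f, hf⟩ := h
  exact ⟨{1}, ⟨Set.finite_singleton _, 1, rfl, one_ne_zero⟩, fun _ ↦ f, fun V hV x _ _ ↦ hf V hV⟩

lemma triv_const (R : Subring K) (k : K) : IsTriv R (fun _ ↦ k) := ⟨k, fun V _ ↦ by simp⟩

/-- `D R` as a submodule. -/
def DMod (R : Subring K) : Submodule R (ValuationSubring K → K) where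
  carrier := D R
  zero_mem' := D_of_triv (triv_const R 0)
  add_mem' := D_add
  smul_mem' a _ := D_smul a

lemma mem_DMod {R : Subring K} {φ : ValuationSubring K → K} : φ ∈ DMod R ↔ φ ∈ D R := Iff.rfl

/-- The trivial functions as a submodule. -/
def TrivMod (R : Subring K) : Submodule R (ValuationSubring K → K) where
  carrier := {φ | IsTriv R φ}
  zero_mem' := triv_const R 0
  add_mem' := by
    rintro φ ψ ⟨f, hf⟩ ⟨g, hg⟩
    refine ⟨f + g, fun V hV ↦ ?_⟩
    have : (φ + ψ) V - (f + g) = (φ V - f) + (ψ V - g) := by simp only [Pi.add_apply]; ring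
    rw [this]
    exact V.add_mem _ _ (hf V hV) (hg V hV)
  smul_mem' := by
    rintro a φ ⟨f, hf⟩
    refine ⟨(a : K) * f, fun V hV ↦ ?_⟩
    have : (a • φ) V - (a : K) * f = (a : K) * (φ V - f) := by
      change (a : K) * φ V - _ = _
      ring
    rw [this]
    exact V.mul_mem _ _ (hV a.2) (hf V hV)

lemma mem_TrivMod {R : Subring K} {φ : ValuationSubring K → K} : φ ∈ TrivMod R ↔ IsTriv R φ := Iff.rfl

/-! ### the relation -/

/-- Pairs `(φ, r)` with `x φ ∈ V` and `y φ - r / x ∈ V` for all `V`. -/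
def Rel (R : Subring K) (x y : R) : Submodule R ((ValuationSubring K → K) × R) where
  carrier := {p | p.1 ∈ D R ∧ ∀ V ∈ ZR R, (x : K) * p.1 V ∈ V ∧ (y : K) * p.1 V - (p.2 : K) / x ∈ V}
  zero_mem' := ⟨D_of_triv (triv_const R 0), fun V _ ↦ by simp⟩
  add_mem' := by
    rintro ⟨φ, r⟩ ⟨ψ, t⟩ ⟨h1, h2⟩ ⟨h3, h4⟩
    refine ⟨D_add h1 h3, fun V hV ↦ ⟨?_, ?_⟩⟩
    · have : (x : K) * ((φ, r) + (ψ, t)).1 V = (x : K) * φ V + (x : K) * ψ V := by
        change (x : K) * (φ V + ψ V) = _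
        ring
      rw [this]
      exact V.add_mem _ _ (h2 V hV).1 (h4 V hV).1
    · have : (y : K) * ((φ, r) + (ψ, t)).1 V - ((((φ, r) + (ψ, t)).2 : R) : K) / x =
          ((y : K) * φ V - (r : K) / x) + ((y : K) * ψ V - (t : K) / x) := by
        change (y : K) * (φ V + ψ V) - ((r + t : R) : K) / x = _
        push_cast; ring
      rw [this]
      exact V.add_mem _ _ (h2 V hV).2 (h4 V hV).2
  smul_mem' := by
    rintro a ⟨φ, r⟩ ⟨h1, h2⟩
    refine ⟨D_smul a h1, fun V hV ↦ ⟨?_, ?_⟩⟩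
    · have : (x : K) * (a • (φ, r)).1 V = (a : K) * ((x : K) * φ V) := by
        change (x : K) * ((a : K) * φ V) = _
        ring
      rw [this]
      exact V.mul_mem _ _ (hV a.2) (h2 V hV).1
    · have : (y : K) * (a • (φ, r)).1 V - (((a • (φ, r)).2 : R) : K) / x =
          (a : K) * ((y : K) * φ V - (r : K) / x) := by
        change (y : K) * ((a : K) * φ V) - ((a * r : R) : K) / x = _
        push_cast; ring
      rw [this]
      exact V.mul_mem _ _ (hV a.2) (h2 V hV).2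

/-- If `r ∈ (x, y)` then `φ` is trivial. -/
theorem isTriv_of_mem {R : Subring K}
    (hGR : ∀ φ ∈ D R, (∀ V ∈ ZR R, ¬ Dom R V → φ V ∈ V) → ∀ V ∈ ZR R, φ V ∈ V)
    {x y : R} (hx0 : x ≠ 0) (hxy : ∀ V ∈ ZR R, ¬ Dom R V → (x : K)⁻¹ ∈ V ∨ ((y : K) ≠ 0 ∧ (y : K)⁻¹ ∈ V))
    {φ : ValuationSubring K → K} {r : R} (h : (φ, r) ∈ Rel R x y) (hr : r ∈ Ideal.span {x, y}) :
    IsTriv R φ := by
  obtain ⟨hD, h⟩ := h
  obtain ⟨a, b, hab⟩ := Ideal.mem_span_pair.1 hr
  have hx0' : (x : K) ≠ 0 := fun h0 ↦ hx0 (Subtype.ext h0)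
  have hφ' : (fun V ↦ φ V - (b : K) / x) ∈ D R := by
    have : (fun V ↦ φ V - (b : K) / x) = φ + (fun _ ↦ - ((b : K) / x)) := by
      funext V; simp only [Pi.add_apply]; ring
    rw [this]
    exact D_add hD (D_of_triv (triv_const R _))
  refine ⟨(b : K) / x, hGR _ hφ' ?_⟩
  intro V hV hdom
  obtain ⟨h1, h2⟩ := h V hV
  rcases hxy V hV hdom with h3 | ⟨hy0, h3⟩
  · have h4 : φ V - (b : K) / x = (x : K)⁻¹ * ((x : K) * φ V - b) := by field_simp
    simp only [h4]
    exact V.mul_mem _ _ h3 (V.sub_mem h1 (hV b.2))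
  · have h5 : (r : K) = a * x + b * y := by rw [← hab]; push_cast; ring
    have h4 : φ V - (b : K) / x = (y : K)⁻¹ * (((y : K) * φ V - (r : K) / x) + a) := by
      rw [h5]; field_simp; ring
    simp only [h4]
    exact V.mul_mem _ _ h3 (V.add_mem _ _ h2 (hV a.2))

/-- Existence of the partner `r`. -/
theorem exists_rel {R : Subring K} [IsFractionRing R K] [IsIntegrallyClosed R]
    {x y : R} (hx0 : x ≠ 0) {φ : ValuationSubring K → K} (hD : φ ∈ D R)
    (hx : IsTriv R (fun V ↦ (x : K) * φ V)) (hy : IsTriv R (fun V ↦ (y : K) * φ V)) :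
    ∃ (k : K) (r : R), (φ - (fun _ ↦ k), r) ∈ Rel R x y := by
  obtain ⟨k, hk⟩ := hx
  obtain ⟨l, hl⟩ := hy
  have hx0' : (x : K) ≠ 0 := fun h0 ↦ hx0 (Subtype.ext h0)
  -- `φ' = φ - k / x`, `y φ' = l - y k / x`
  have h1 : ∀ V ∈ ZR R, (x : K) * (φ V - k / x) ∈ V := by
    intro V hV
    have : (x : K) * (φ V - k / x) = x * φ V - k := by field_simp
    rw [this]; exact hk V hV
  have h2 : ∀ V ∈ ZR R, (y : K) * (φ V - k / x) - (l - y * (k / x)) ∈ V := by
    intro V hV
    have : (y : K) * (φ V - k / x) - (l - y * (k / x)) = y * φ V - l := by ring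
    rw [this]; exact hl V hV
  have h3 : ∀ V : ValuationSubring K, R ≤ V.toSubring → (x : K) * (l - y * (k / x)) ∈ V := by
    intro V hV
    have : (x : K) * (l - y * (k / x)) = (y : K) * ((x : K) * (φ V - k / x)) -
        (x : K) * ((y : K) * (φ V - k / x) - (l - y * (k / x))) := by ring
    rw [this]
    exact V.sub_mem (V.mul_mem _ _ (hV y.2) (h1 V hV)) (V.mul_mem _ _ (hV x.2) (h2 V hV))
  have h4 : (x : K) * (l - y * (k / x)) ∈ R := by
    have h5 := (QC.isIntegral_iff_forall_mem R _).2 h3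
    obtain ⟨r, hr⟩ := IsIntegrallyClosed.isIntegral_iff.1 h5
    rw [← hr]; exact r.2
  refine ⟨k / x, ⟨_, h4⟩, ?_, fun V hV ↦ ⟨h1 V hV, ?_⟩⟩
  · have : φ - (fun _ ↦ k / x) = φ + (fun _ ↦ - (k / x)) := by
      funext V; simp only [Pi.sub_apply, Pi.add_apply]; ring
    rw [this]
    exact D_add hD (D_of_triv (triv_const R _))
  · have : (y : K) * (φ - (fun _ ↦ k / (x : K)) : ValuationSubring K → K) V - ((⟨_, h4⟩ : R) : K) / x =
        (y : K) * (φ V - k / x) - (l - y * (k / x)) := by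
      change (y : K) * (φ V - k / x) - ((x : K) * (l - y * (k / x))) / x = _
      rw [mul_div_cancel_left₀ _ hx0']
    rw [this]
    exact h2 V hV

/-- The finite length statement for a pair `x, y`. -/
theorem isFiniteLength_tors_span {R : Subring K} [IsFractionRing R K] [IsIntegrallyClosed R]
    (hGR : ∀ φ ∈ D R, (∀ V ∈ ZR R, ¬ Dom R V → φ V ∈ V) → ∀ V ∈ ZR R, φ V ∈ V)
    {x y : R} (hx0 : x ≠ 0) (hxy : ∀ V ∈ ZR R, ¬ Dom R V → (x : K)⁻¹ ∈ V ∨ ((y : K) ≠ 0 ∧ (y : K)⁻¹ ∈ V))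
    (hfl : IsFiniteLength R (R ⧸ Ideal.span {x, y}))
    {W : Type v} [AddCommGroup W] [Module R W] (π : DMod R →ₗ[R] W) (hπ : Function.Surjective π)
    (hk : ∀ φ : DMod R, π φ = 0 ↔ IsTriv R φ.1) :
    IsFiniteLength R (tors W (Ideal.span {x, y})) := by
  let P := Rel R x y
  let g : P →ₗ[R] R ⧸ Ideal.span {x, y} :=
    (Ideal.span {x, y}).mkQ ∘ₗ (LinearMap.snd R (ValuationSubring K → K) R) ∘ₗ P.subtype
  let i : P →ₗ[R] DMod R := LinearMap.codRestrict (DMod R)
    ((LinearMap.fst R (ValuationSubring K → K) R) ∘ₗ P.subtype) (fun p ↦ p.2.1)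
  let h : P →ₗ[R] W := π ∘ₗ i
  have hgh : LinearMap.ker g ≤ LinearMap.ker h := by
    intro p hp
    have h1 : p.1.2 ∈ Ideal.span {x, y} := by
      rw [LinearMap.mem_ker] at hp
      exact (Submodule.Quotient.mk_eq_zero _).1 hp
    have h2 : IsTriv R p.1.1 := isTriv_of_mem hGR hx0 hxy (r := p.1.2) p.2 h1
    rw [LinearMap.mem_ker]
    exact (hk (i p)).2 h2
  have hfl2 : IsFiniteLength R (P ⧸ LinearMap.ker g) :=
    hfl.of_injective (f := (LinearMap.ker g).liftQ g le_rfl) (by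
      rw [← LinearMap.ker_eq_bot]
      exact Submodule.ker_liftQ_eq_bot _ _ _ le_rfl)
  have hfl3 : IsFiniteLength R (LinearMap.range h) := by
    refine hfl2.of_surjective (f := (LinearMap.ker g).liftQ h.rangeRestrict (by
      rw [LinearMap.ker_rangeRestrict]; exact hgh)) ?_
    intro w
    obtain ⟨p, hp⟩ := LinearMap.surjective_rangeRestrict h w
    exact ⟨Submodule.Quotient.mk p, hp⟩
  refine isFiniteLength_of_le ?_ hfl3
  intro w hw
  obtain ⟨φ, rfl⟩ := hπ w
  rw [mem_tors] at hw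
  have h1 : IsTriv R (fun V ↦ (x : K) * φ.1 V) := by
    have := hw x (Ideal.subset_span (by simp))
    rw [← map_smul] at this
    exact (hk _).1 this
  have h2 : IsTriv R (fun V ↦ (y : K) * φ.1 V) := by
    have := hw y (Ideal.subset_span (by simp))
    rw [← map_smul] at this
    exact (hk _).1 this
  obtain ⟨k, r, hr⟩ := exists_rel hx0 φ.2 h1 h2
  refine ⟨⟨_, hr⟩, ?_⟩
  have h3 : π (i ⟨_, hr⟩ - φ) = 0 := by
    rw [hk]
    refine ⟨-k, fun V hV ↦ ?_⟩
    have : ((i ⟨_, hr⟩ - φ : DMod R) : ValuationSubring K → K) V - -k = 0 := by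
      change (φ.1 V - k) - φ.1 V - -k = 0
      ring
    rw [this]
    exact V.zero_mem
  rw [map_sub, sub_eq_zero] at h3
  exact h3

/-- Parameters in powers of the maximal ideal. -/
theorem exists_params {R : Type u} [CommRing R] [IsDomain R] [IsLocalRing R] [IsNoetherianRing R]
    (hd : ringKrullDim R = 2) (n : ℕ) : ∃ x y : R, x ≠ 0 ∧ x ∈ maximalIdeal R ^ n ∧
      y ∈ maximalIdeal R ^ n ∧ ∀ q : Ideal R, q.IsPrime → x ∈ q → y ∈ q → q = maximalIdeal R := by
  classical
  have hht : (maximalIdeal R).height = 2 := by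
    have := IsLocalRing.maximalIdeal_height_eq_ringKrullDim (R := R)
    rw [hd] at this
    exact WithBot.coe_injective this
  obtain ⟨s, hs, hcard⟩ := Ideal.exists_finset_card_eq_height_of_isNoetherianRing (maximalIdeal R)
  rw [hht] at hcard
  have hcard' : s.card = 2 := by exact_mod_cast hcard
  obtain ⟨x, y, hne, rfl⟩ := Finset.card_eq_two.1 hcard'
  have hsub : ∀ z ∈ ({x, y} : Finset R), z ∈ maximalIdeal R := fun z hz ↦
    hs.1.2 (Ideal.subset_span hz)
  have hx0 : x ≠ 0 := by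
    rintro rfl
    have h1 : (maximalIdeal R).height ≤ 1 := by
      refine Ideal.height_le_one_of_isPrincipal_of_mem_minimalPrimes (Ideal.span {y}) _ ?_
      have : Ideal.span (({0, y} : Finset R) : Set R) = Ideal.span {y} := by
        rw [Finset.coe_insert, Finset.coe_singleton, Ideal.span_insert_zero]
      rw [← this]
      exact hs
    rw [hht] at h1
    exact absurd h1 (by decide)
  refine ⟨x ^ n, y ^ n, pow_ne_zero n hx0, Ideal.pow_mem_pow (hsub x (by simp)) n,
    Ideal.pow_mem_pow (hsub y (by simp)) n, fun q hq hxq hyq ↦ ?_⟩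
  have h1 : Ideal.span (({x, y} : Finset R) : Set R) ≤ q := by
    rw [Ideal.span_le]
    intro z hz
    simp only [Finset.coe_insert, Finset.coe_singleton, Set.mem_insert_iff,
      Set.mem_singleton_iff] at hz
    rcases hz with rfl | rfl
    · exact hq.mem_of_pow_mem n hxq
    · exact hq.mem_of_pow_mem n hyq
  exact le_antisymm (IsLocalRing.le_maximalIdeal hq.ne_top)
    (hs.2 ⟨hq, h1⟩ (IsLocalRing.le_maximalIdeal hq.ne_top))

/-- A quotient by a primary ideal for the maximal ideal has finite length. -/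
theorem isFiniteLength_quotient {R : Type u} [CommRing R] [IsLocalRing R] [IsNoetherianRing R]
    (I : Ideal R) (h : ∀ q : Ideal R, q.IsPrime → I ≤ q → q = maximalIdeal R) :
    IsFiniteLength R (R ⧸ I) := by
  have h1 : IsArtinianRing (R ⧸ I) := by
    rw [isArtinianRing_iff_isNoetherianRing_krullDimLE_zero]
    refine ⟨inferInstance, ?_⟩
    rw [Ring.krullDimLE_zero_iff]
    intro q hq
    have h2 := h (q.comap (Ideal.Quotient.mk I)) (Ideal.comap_isPrime _ q) (by
      intro z hz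
      rw [Ideal.mem_comap, Ideal.Quotient.eq_zero_iff_mem.2 hz]
      exact q.zero_mem)
    refine Ideal.isMaximal_of_isIntegral_of_isMaximal_comap' (Ideal.Quotient.mk I)
      (RingHom.isIntegral_of_surjective _ Ideal.Quotient.mk_surjective) q ?_
    rw [h2]; infer_instance
  rw [isFiniteLength_iff_isNoetherian_isArtinian]
  refine ⟨inferInstance, ?_⟩
  have h1' : IsArtinian (R ⧸ I) (R ⧸ I) := h1
  exact isArtinian_of_surjective_algebraMap (R := R ⧸ I) Ideal.Quotient.mk_surjective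

/-- A valuation ring above `R` with centre not the maximal ideal is not dominating. -/
lemma inv_mem_or {R : Subring K} [IsLocalRing R] {x y : R} (hx0 : x ≠ 0)
    (h : ∀ q : Ideal R, q.IsPrime → x ∈ q → y ∈ q → q = maximalIdeal R)
    {V : ValuationSubring K} (hV : V ∈ ZR R) (hdom : ¬ Dom R V) :
    (x : K)⁻¹ ∈ V ∨ ((y : K) ≠ 0 ∧ (y : K)⁻¹ ∈ V) := by
  by_contra hne
  push Not at hne
  apply hdom
  refine ⟨hV, fun r hr hrV ↦ ?_⟩
  have hV' : R ≤ V.toSubring := hV
  have h1 : ZR158.ctr R V hV' = maximalIdeal R := by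
    refine h _ (ZR158.ctr_isPrime R V hV') ?_ ?_
    · by_contra hx
      exact hne.1 (ZR158.inv_mem_of_notMem_ctr hV' hx)
    · by_contra hy
      refine hne.2 (fun h0 ↦ hy ?_) (ZR158.inv_mem_of_notMem_ctr hV' hy)
      rw [show y = 0 from Subtype.ext h0]
      exact (ZR158.ctr R V hV').zero_mem
  by_cases hr0 : r = 0
  · rw [hr0, inv_zero]; exact R.zero_mem
  have h2 : (⟨r, hr⟩ : R) ∉ maximalIdeal R := by
    rw [← h1, ZR158.mem_ctr]
    exact ZR158.not_nonunits_of_inv_mem hr0 hrV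
  have h3 : IsUnit (⟨r, hr⟩ : R) := by
    by_contra h4
    exact h2 ((IsLocalRing.mem_maximalIdeal _).2 h4)
  obtain ⟨u, hu⟩ := h3
  have h4 : (r : K) * ((↑u⁻¹ : R) : K) = 1 := by
    have := congrArg R.subtype u.mul_inv
    rw [hu, map_mul, map_one] at this
    exact this
  rw [inv_eq_of_mul_eq_one_right h4]
  exact (↑u⁻¹ : R).2

/-- **(V3)** of the boundedness theorem: `W[m ^ n]` has finite length. -/
theorem isFiniteLength_tors_pow {R : Subring K} [IsFractionRing R K] [IsIntegrallyClosed R]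
    [IsNoetherianRing R] [IsLocalRing R] (hd : ringKrullDim R = 2)
    (hGR : ∀ φ ∈ D R, (∀ V ∈ ZR R, ¬ Dom R V → φ V ∈ V) → ∀ V ∈ ZR R, φ V ∈ V)
    {W : Type v} [AddCommGroup W] [Module R W] (π : DMod R →ₗ[R] W) (hπ : Function.Surjective π)
    (hk : ∀ φ : DMod R, π φ = 0 ↔ IsTriv R φ.1) (n : ℕ) :
    IsFiniteLength R (tors W (maximalIdeal R ^ n)) := by
  obtain ⟨x, y, hx0, hx, hy, h⟩ := exists_params hd n
  have h1 : IsFiniteLength R (tors W (Ideal.span {x, y})) := by
    refine isFiniteLength_tors_span hGR hx0 (fun V hV hdom ↦ inv_mem_or hx0 h hV hdom) ?_ π hπ hk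
    refine isFiniteLength_quotient _ (fun q hq hle ↦ h q hq ?_ ?_)
    · exact hle (Ideal.subset_span (by simp))
    · exact hle (Ideal.subset_span (by simp))
  refine isFiniteLength_of_le (tors_le ?_) h1
  rw [Ideal.span_le]
  rintro z (rfl | rfl)
  · exact hx
  · exact hy

end Groth.Agent.Lipman.BoundV3
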