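import Groth.Agent.Lipman.BoundAlg
import Groth.Agent.Lipman.ZRD158

/-!
# Boundedness: assembly

`W R = D R / {trivial functions}` is the colimit of the `H^1(X, O_X)` over all normal modifications `X` of `Spec R`.
If `R` is complete and the three valuation theoretic inputs hold, then `W R` is a finite `R`-module and hence one
blow-up works for all functions in `D R`.
-/

set_option autoImplicit false
universe u

open IsLocalRing Groth.Agent.Lipman.Defs Groth.Agent.Lipman.ZRD158 Groth.Agent.Lipman.BoundAlg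

namespace Groth.Agent.Lipman.BoundMain

variable {K : Type u} [Field K] (R : Subring K)

/-- The module of classes of functions in `D R` modulo trivial ones. -/
abbrev WMod : Type u := ↥(DMod R) ⧸ (TrivMod R).comap (DMod R).subtype

variable {R}

/-- The class of a function. -/
def cls (φ : ValuationSubring K → K) (h : φ ∈ D R) : WMod R := Submodule.Quotient.mk ⟨φ, h⟩

theorem cls_surjective (w : WMod R) : ∃ (φ : ValuationSubring K → K) (h : φ ∈ D R), w = cls φ h := by
  obtain ⟨⟨φ, h⟩, rfl⟩ := Submodule.Quotient.mk_surjective _ w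
  exact ⟨φ, h, rfl⟩

theorem cls_eq_zero_iff {φ : ValuationSubring K → K} {h : φ ∈ D R} : cls φ h = 0 ↔ IsTriv R φ := by
  rw [cls, Submodule.Quotient.mk_eq_zero]
  exact Iff.rfl

theorem smul_cls (a : R) {φ : ValuationSubring K → K} {h : φ ∈ D R} :
    a • cls φ h = cls (fun V ↦ (a : K) * φ V) ((DMod R).smul_mem a h) := rfl

theorem smul_cls_eq_zero_iff (a : R) {φ : ValuationSubring K → K} {h : φ ∈ D R} :
    a • cls φ h = 0 ↔ IsTriv R (fun V ↦ (a : K) * φ V) := by
  rw [smul_cls, cls_eq_zero_iff]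

/-- If `W R` is finite, one tuple works for all functions. -/
theorem bounded_of_finite (h : Module.Finite R (WMod R)) : Bounded R := by
  obtain ⟨n, w, hw⟩ := Module.Finite.exists_fin (R := R) (M := WMod R)
  choose φ hφ hwφ using fun i ↦ cls_surjective (w i)
  obtain ⟨s, hs, hc⟩ := exists_isConst_of_finite φ hφ
  refine ⟨s, hs, fun ψ hψ ↦ ?_⟩
  have h1 : cls ψ hψ ∈ Submodule.span R (Set.range w) := hw ▸ Submodule.mem_top
  have h2 : Submodule.span R (Set.range w) ≤
      ((ConstMod R s).comap (DMod R).subtype).map (Submodule.mkQ _) := by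
    rw [Submodule.span_le]
    rintro _ ⟨i, rfl⟩
    exact ⟨⟨φ i, hφ i⟩, hc i, (hwφ i).symm⟩
  obtain ⟨⟨χ, hχ⟩, hχc, hχψ⟩ := h2 h1
  have h3 : (⟨ψ, hψ⟩ : DMod R) - ⟨χ, hχ⟩ ∈ (TrivMod R).comap (DMod R).subtype := by
    rw [← Submodule.Quotient.eq]
    exact hχψ.symm
  have h4 : IsConst R s (fun V ↦ ψ V - χ V) := IsTriv.isConst h3 s
  have h5 : IsConst R s χ := hχc
  have h6 := h4.add h5
  refine h6.congr fun V hV ↦ ?_
  rw [sub_add_cancel, sub_self]
  exact V.zero_mem

/-- **Boundedness**, from the three inputs. -/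
theorem bounded_of [IsLocalRing R] [IsNoetherianRing R] [IsAdicComplete (maximalIdeal R) R]
    (hdim : ringKrullDim R = 2)
    (h1 : ∀ φ ∈ D R, ∃ n : ℕ, ∀ a ∈ maximalIdeal R ^ n, IsTriv R (fun V ↦ (a : K) * φ V))
    (h2 : ∀ p : Ideal R, p.IsPrime → p ≠ ⊥ → p ≠ maximalIdeal R → ∃ s ∉ p, ∀ φ ∈ D R,
      (∀ a ∈ p, IsTriv R (fun V ↦ ((a : R) : K) * φ V)) → IsTriv R (fun V ↦ (s : K) * φ V))
    (h3 : ∀ n : ℕ, IsFiniteLength R (tors (WMod R) (maximalIdeal R ^ n))) : Bounded R := by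
  apply bounded_of_finite
  have h : IsFiniteLength R (WMod R) := by
    refine isFiniteLength_of_kill hdim (fun w ↦ ?_) h3 (fun p hp hp0 hpm ↦ ?_)
    · obtain ⟨φ, hφ, rfl⟩ := cls_surjective w
      obtain ⟨n, hn⟩ := h1 φ hφ
      exact ⟨n, fun a ha ↦ (smul_cls_eq_zero_iff a).2 (hn a ha)⟩
    · obtain ⟨s, hs, hk⟩ := h2 p hp hp0 hpm
      refine ⟨s, hs, fun w hw ↦ ?_⟩
      obtain ⟨φ, hφ, rfl⟩ := cls_surjective w
      exact (smul_cls_eq_zero_iff s).2 (hk φ hφ fun a ha ↦ (smul_cls_eq_zero_iff a).1 (hw a ha))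
  rw [isFiniteLength_iff_isNoetherian_isArtinian] at h
  obtain ⟨_, _⟩ := h
  infer_instance

end Groth.Agent.Lipman.BoundMain
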