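import Groth.Agent.Lipman.BoundV3
import Groth.Agent.Lipman.BoundMain

/-!
# (V3) in the form used by `BoundMain.bounded_of`
-/

set_option autoImplicit false
universe u

open IsLocalRing

namespace Groth.Agent.Lipman.BoundV3W

open Groth.Agent.Lipman.Defs Groth.Agent.Lipman.BoundAlg Groth.Agent.Lipman.BoundMain

variable {K : Type u} [Field K]

/-- **(V3)**, input `h3` of `BoundMain.bounded_of`. -/
theorem isFiniteLength_tors_WMod {R : Subring K} [IsFractionRing R K] [IsIntegrallyClosed R]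
    [IsNoetherianRing R] [IsLocalRing R] (hd : ringKrullDim R = 2)
    (hGR : ∀ φ ∈ D R, (∀ V ∈ ZR R, ¬ Dom R V → φ V ∈ V) → ∀ V ∈ ZR R, φ V ∈ V) (n : ℕ) :
    IsFiniteLength R (tors (WMod R) (maximalIdeal R ^ n)) := by
  have he : BoundV3.DMod R = ZRD158.DMod R := by ext; rfl
  refine BoundV3.isFiniteLength_tors_pow hd hGR
    ((Submodule.mkQ _) ∘ₗ (LinearEquiv.ofEq _ _ he).toLinearMap) ?_ ?_ n
  · exact (Submodule.mkQ_surjective _).comp (LinearEquiv.ofEq _ _ he).surjective
  · rintro ⟨φ, hφ⟩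
    exact cls_eq_zero_iff (h := hφ)

end Groth.Agent.Lipman.BoundV3W
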