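import Groth.Agent.CurvesC.ModDim
import Mathlib.AlgebraicGeometry.Morphisms.Proper

/-!
Functions on a reduced scheme universally closed over `Spec A`, `A` local, all of whose points lie over the
closed point: the locus where a global function is invertible is open and closed.
-/

set_option autoImplicit false

universe u

open CategoryTheory AlgebraicGeometry TopologicalSpace IsLocalRing

namespace Groth.Agent.Lipman.ClopenSec

open Groth.Agent.CurvesC.ModDim

/-- Algebra core: an element integral over a local ring whose maximal ideal acts by zero. -/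
theorem exists_of_isIntegral {A B : Type*} [CommRing A] [IsLocalRing A] [CommRing B] (θ : A →+* B)
    (hθ : ∀ a ∈ maximalIdeal A, θ a = 0) (t : B) (ht : θ.IsIntegralElem t) :
    ∃ (c : ℕ) (v w g : B), IsUnit v ∧ w = v + t * g ∧ t ^ c * w = 0 := by
  obtain ⟨P, hP, hPt⟩ := ht
  have hex : ∃ k, P.coeff k ∉ maximalIdeal A := ⟨P.natDegree, by
    rw [Polynomial.Monic.coeff_natDegree hP]
    exact (Ideal.ne_top_iff_one _).mp (maximalIdeal.isMaximal A).ne_top⟩
  obtain ⟨c, hc, hmin⟩ : ∃ c, P.coeff c ∉ maximalIdeal A ∧ ∀ k < c, P.coeff k ∈ maximalIdeal A := by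
    classical
    exact ⟨Nat.find hex, Nat.find_spec hex, fun k hk => not_not.mp (Nat.find_min hex hk)⟩
  have hu : IsUnit (θ (P.coeff c)) := by
    refine IsUnit.map θ ?_
    by_contra h
    exact hc ((mem_maximalIdeal _).mpr h)
  obtain ⟨Q, hQ⟩ : (Polynomial.X : Polynomial B) ^ c ∣ P.map θ := by
    rw [Polynomial.X_pow_dvd_iff]
    intro k hk
    rw [Polynomial.coeff_map]
    exact hθ _ (hmin k hk)
  have hQ0 : Q.coeff 0 = θ (P.coeff c) := by
    rw [← Polynomial.coeff_map, hQ, Polynomial.coeff_X_pow_mul', if_pos le_rfl, Nat.sub_self]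
  refine ⟨c, Q.coeff 0, Q.eval t, Q.divX.eval t, by rwa [hQ0], ?_, ?_⟩
  · have h := congrArg (Polynomial.eval t) (Polynomial.divX_mul_X_add Q)
    simp only [Polynomial.eval_add, Polynomial.eval_mul, Polynomial.eval_X, Polynomial.eval_C] at h
    rw [← h]
    ring
  · have h := congrArg (Polynomial.eval t) hQ
    rw [Polynomial.eval_map, hPt, Polynomial.eval_mul, Polynomial.eval_pow, Polynomial.eval_X] at h
    exact h.symm

/-- On a reduced scheme `E`, universally closed over `Spec A` with `A` local, all of whose points lie over the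
closed point, the invertibility locus of a global function is closed (and open). -/
theorem isClosed_basicOpen {A : Type u} [CommRing A] [IsLocalRing A] {E : Scheme.{u}} [IsReduced E]
    (g : E ⟶ Spec (CommRingCat.of A)) [UniversallyClosed g] (hg : ∀ e : E, g e = closedPoint A)
    (t : Γ(E, ⊤)) : IsClosed (E.basicOpen t : Set E) := by
  have h0 : ∀ a ∈ maximalIdeal A, toSec g ⊤ a = 0 := by
    intro a ha
    rw [← basicOpen_eq_bot_iff, eq_bot_iff]
    intro e he
    have h1 := comap_pr g e (V := ⊤) trivial
    rw [hg e] at h1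
    have h2 : a ∈ (pr e (V := ⊤) trivial).comap (toSec g ⊤) := by
      rw [h1]
      exact ha
    rw [Ideal.mem_comap, mem_pr] at h2
    exact h2 he
  have hint : (toSec g ⊤).IsIntegral := by
    have h1 : g.appTop.hom.IsIntegral := isIntegral_appTop_of_universallyClosed g
    have hbij : Function.Bijective (Scheme.ΓSpecIso (CommRingCat.of A)).inv.hom :=
      ConcreteCategory.bijective_of_isIso (Scheme.ΓSpecIso (CommRingCat.of A)).inv
    have h2 : toSec g ⊤ = g.appTop.hom.comp (Scheme.ΓSpecIso (CommRingCat.of A)).inv.hom := by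
      unfold toSec rs
      ext a
      simp
    rw [h2]
    exact RingHom.IsIntegral.trans _ _ (RingHom.isIntegral_of_surjective _ hbij.2) h1
  obtain ⟨c, v, w, r, hv, hw, hcw⟩ := exists_of_isIntegral (toSec g ⊤) h0 t (hint t)
  have h1 : (E.basicOpen t : Set E) = (E.basicOpen w : Set E)ᶜ := by
    ext e
    rw [Set.mem_compl_iff]
    change e ∈ E.basicOpen t ↔ e ∉ E.basicOpen w
    have hvu : IsUnit (E.presheaf.germ ⊤ e trivial v) := hv.map _
    rw [Scheme.mem_basicOpen E t e trivial, Scheme.mem_basicOpen E w e trivial]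
    have h2 : (E.presheaf.germ ⊤ e trivial t) ^ c * E.presheaf.germ ⊤ e trivial w = 0 := by
      rw [← map_pow, ← map_mul, hcw, map_zero]
    constructor
    · intro h3 h4
      exact not_isUnit_zero (h2 ▸ (h3.pow c).mul h4)
    · intro h3
      by_contra h4
      apply h3
      rw [hw, map_add, map_mul]
      rw [← mem_nonunits_iff, ← mem_maximalIdeal] at h4
      by_contra h5
      rw [← mem_nonunits_iff, ← mem_maximalIdeal] at h5
      have h6 := Ideal.sub_mem _ h5 (Ideal.mul_mem_right (E.presheaf.germ ⊤ e trivial r) _ h4)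
      rw [add_sub_cancel_right] at h6
      exact (mem_maximalIdeal _).mp h6 hvu
  rw [h1]
  exact (E.basicOpen w).2.isClosed_compl

end Groth.Agent.Lipman.ClopenSec
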