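import Groth.Agent.Lipman.Defs
import Mathlib.RingTheory.Valuation.LocalSubring
import Mathlib.RingTheory.DiscreteValuationRing.TFAE
import Mathlib.RingTheory.Localization.AtPrime.Basic

/-!
# Composite valuation rings, and the valuation ring of a height one prime

* `comp V W`: for `V` a valuation ring of `K` and `W` a valuation ring of its residue field, the
  valuation ring of all `x ∈ V` with residue in `W`.
* `locVal R p`: for `R ⊆ K` Noetherian and integrally closed with fraction field `K` and `p` a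
  prime of height one, the discrete valuation ring `R_p` as a valuation subring of `K`.
-/

set_option autoImplicit false
universe u

open IsLocalRing
open Groth.Agent.Lipman.Defs

namespace Groth.Agent.Lipman.CompVal

variable {K : Type u} [Field K]

section Comp

variable (V : ValuationSubring K) (W : ValuationSubring (ResidueField V))

/-- The composite of two valuation rings. -/
def comp : ValuationSubring K where
  carrier := {x | ∃ h : x ∈ V, residue V ⟨x, h⟩ ∈ W}
  mul_mem' := by
    rintro a b ⟨ha, ha'⟩ ⟨hb, hb'⟩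
    exact ⟨V.mul_mem _ _ ha hb, W.mul_mem _ _ ha' hb'⟩
  one_mem' := ⟨V.one_mem, W.one_mem⟩
  add_mem' := by
    rintro a b ⟨ha, ha'⟩ ⟨hb, hb'⟩
    exact ⟨V.add_mem _ _ ha hb, W.add_mem _ _ ha' hb'⟩
  zero_mem' := ⟨V.zero_mem, by
    have : (⟨0, V.zero_mem⟩ : V) = 0 := rfl
    rw [this, map_zero]; exact W.zero_mem⟩
  neg_mem' := by
    rintro a ⟨ha, ha'⟩
    exact ⟨V.neg_mem _ ha, W.neg_mem _ ha'⟩
  mem_or_inv_mem' := by
    intro x
    by_cases hx : x ∈ V
    · by_cases hx' : x⁻¹ ∈ V
      · rcases W.mem_or_inv_mem (residue V ⟨x, hx⟩) with h | h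
        · exact Or.inl ⟨hx, h⟩
        · refine Or.inr ⟨hx', ?_⟩
          by_cases hx0 : x = 0
          · subst hx0
            have : (⟨(0 : K)⁻¹, hx'⟩ : V) = 0 := Subtype.ext inv_zero
            rw [this, map_zero]; exact W.zero_mem
          · have h1 : residue V ⟨x, hx⟩ * residue V ⟨x⁻¹, hx'⟩ = 1 := by
              rw [← map_mul, ← map_one (residue V)]
              congr 1
              exact Subtype.ext (mul_inv_cancel₀ hx0)
            rwa [inv_eq_of_mul_eq_one_right h1] at h
      · left
        refine ⟨hx, ?_⟩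
        have : residue V ⟨x, hx⟩ = 0 := by
          rw [residue_eq_zero_iff, mem_maximalIdeal, mem_nonunits_iff]
          intro hu
          have h1 := V.valuation_eq_one_iff ⟨x, hx⟩
          have h2 := h1.1 hu
          apply hx'
          rw [← V.valuation_le_one_iff, map_inv₀]
          have h3 : V.valuation x = 1 := h2
          rw [h3, inv_one]
        rw [this]; exact W.zero_mem
    · have hx' : x⁻¹ ∈ V := (V.mem_or_inv_mem x).resolve_left hx
      right
      refine ⟨hx', ?_⟩
      have : residue V ⟨x⁻¹, hx'⟩ = 0 := by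
        rw [residue_eq_zero_iff, mem_maximalIdeal, mem_nonunits_iff]
        intro hu
        have h2 := (V.valuation_eq_one_iff ⟨x⁻¹, hx'⟩).1 hu
        apply hx
        have h3 : V.valuation x⁻¹ = 1 := h2
        rw [← V.valuation_le_one_iff]
        rw [map_inv₀, inv_eq_one] at h3
        exact h3.le
      rw [this]; exact W.zero_mem

variable {V W}

lemma mem_comp {x : K} : x ∈ comp V W ↔ ∃ h : x ∈ V, residue V ⟨x, h⟩ ∈ W := Iff.rfl

lemma comp_le : comp V W ≤ V := fun _ h => h.1

lemma mem_ZR_comp {R : Subring K} (hR : V ∈ ZR R)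
    (hW : ∀ r : K, ∀ hr : r ∈ R, residue V ⟨r, hR hr⟩ ∈ W) : comp V W ∈ ZR R :=
  fun r hr => ⟨hR hr, hW r hr⟩

/-- An element of `V` whose residue lies in all valuation rings of the residue field containing
the image of `R` is integral over (the image of) `R`. -/
lemma isIntegral_residue {R : Subring K} (hR : V ∈ ZR R) (z : ResidueField V)
    (h : ∀ W : ValuationSubring (ResidueField V),
      (∀ r : K, ∀ hr : r ∈ R, residue V ⟨r, hR hr⟩ ∈ W) → z ∈ W) :
    ((residue V).comp (Subring.inclusion hR)).IsIntegralElem z := by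
  set S : Subring (ResidueField V) := ((residue V).comp (Subring.inclusion hR)).range with hS
  have h1 : z ∈ (⨅ V' : {V' : ValuationSubring (ResidueField V) //
      (S : Set (ResidueField V)) ⊆ V'.toSubring}, V'.1.toSubring) := by
    rw [Subring.mem_iInf]
    rintro ⟨W, hW⟩
    exact h W fun r hr => hW ⟨⟨r, hr⟩, rfl⟩
  rw [iInf_valuationSubring_superset] at h1
  have h2 : IsIntegral (Subring.closure (S : Set (ResidueField V))) z := h1
  obtain ⟨P, hP, hP0⟩ := h2
  let g : R →+* Subring.closure (S : Set (ResidueField V)) :=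
    ((residue V).comp (Subring.inclusion hR)).codRestrict _
      (fun r => Subring.subset_closure ⟨r, rfl⟩)
  have h3 : Function.Surjective g := by
    rintro ⟨c, hc⟩
    rw [Subring.closure_eq] at hc
    obtain ⟨r, hr⟩ := hc
    exact ⟨r, Subtype.ext hr⟩
  obtain ⟨Q, hQ, -, hQm⟩ := Polynomial.lifts_and_natDegree_eq_and_monic
    ((Polynomial.mem_lifts P).2 (Polynomial.map_surjective g h3 P)) hP
  refine ⟨Q, hQm, ?_⟩
  rw [← hQ, Polynomial.eval₂_map] at hP0
  exact hP0

end Comp

section LocVal

/-- The localization of `R` at `p`, inside `K`. -/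
def locAt (R : Subring K) (p : Ideal R) [p.IsPrime] : Subring K where
  carrier := {x | ∃ s : R, s ∉ p ∧ (s : K) * x ∈ R}
  mul_mem' := by
    rintro a b ⟨s, hs, hsa⟩ ⟨t, ht, htb⟩
    refine ⟨s * t, fun h => ?_, ?_⟩
    · rcases ‹p.IsPrime›.mem_or_mem h with h | h
      · exact hs h
      · exact ht h
    · have := R.mul_mem hsa htb
      have h2 : ((s * t : R) : K) * (a * b) = (s : K) * a * ((t : K) * b) := by
        push_cast; ring
      rwa [h2]
  one_mem' := ⟨1, (Ideal.ne_top_iff_one p).1 (Ideal.IsPrime.ne_top inferInstance), by simp⟩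
  add_mem' := by
    rintro a b ⟨s, hs, hsa⟩ ⟨t, ht, htb⟩
    refine ⟨s * t, fun h => ?_, ?_⟩
    · rcases ‹p.IsPrime›.mem_or_mem h with h | h
      · exact hs h
      · exact ht h
    · have := R.add_mem (R.mul_mem t.2 hsa) (R.mul_mem s.2 htb)
      have h2 : ((s * t : R) : K) * (a + b) = (t : K) * ((s : K) * a) + s * ((t : K) * b) := by
        push_cast; ring
      rwa [h2]
  zero_mem' := ⟨1, (Ideal.ne_top_iff_one p).1 (Ideal.IsPrime.ne_top inferInstance), by simp⟩
  neg_mem' := by
    rintro a ⟨s, hs, hsa⟩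
    exact ⟨s, hs, by rw [mul_neg]; exact R.neg_mem hsa⟩

variable {R : Subring K} {p : Ideal R} [p.IsPrime]

lemma mem_locAt {x : K} : x ∈ locAt R p ↔ ∃ s : R, s ∉ p ∧ (s : K) * x ∈ R := Iff.rfl

lemma le_locAt : R ≤ locAt R p := fun x hx =>
  ⟨1, (Ideal.ne_top_iff_one p).1 (Ideal.IsPrime.ne_top inferInstance), by simpa using hx⟩

lemma locAt_mem_or_inv [IsNoetherianRing R] [IsIntegrallyClosed R] [IsFractionRing R K]
    (hmin : ∀ q : Ideal R, q.IsPrime → q ≠ ⊥ → q ≤ p → q = p) (x : K) :
    x ∈ locAt R p ∨ x⁻¹ ∈ locAt R p := by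
  let W := Localization.AtPrime p
  have hle : p.primeCompl ≤ nonZeroDivisors R := p.primeCompl_le_nonZeroDivisors
  have : IsDomain W := IsLocalization.isDomain_localization hle
  have : IsIntegrallyClosed W := isIntegrallyClosed_of_isLocalization _ p.primeCompl hle
  have : IsNoetherianRing W := IsLocalization.isNoetherianRing p.primeCompl W inferInstance
  have hval : ValuationRing W := by
    have htfae := (tfae_of_isNoetherianRing_of_isLocalRing_of_isDomain W).out 3 1
    refine htfae.1 ⟨inferInstance, ?_⟩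
    intro P hP hPp
    have h1 : P.under R ≠ ⊥ := by
      intro hc
      apply hP
      rw [← IsLocalization.map_under p.primeCompl W P, hc, Ideal.map_bot]
    have h2 : P.under R ≤ p := by
      intro z hz
      exact (IsLocalization.AtPrime.to_map_mem_maximal_iff W p z).1
        (IsLocalRing.le_maximalIdeal hPp.ne_top hz)
    have h3 := hmin _ (Ideal.IsPrime.under R P) h1 h2
    rw [← IsLocalization.map_under p.primeCompl W P, h3]
    exact Localization.AtPrime.map_eq_maximalIdeal
  have key : ∀ a b : R, b ≠ 0 → (∃ c : W, algebraMap R W b * c = algebraMap R W a) →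
      (a : K) / b ∈ locAt R p := by
    rintro a b hb ⟨c, hc⟩
    obtain ⟨⟨c₁, s⟩, hc₁⟩ := IsLocalization.surj p.primeCompl c
    simp only at hc₁
    have h1 : (s : R) * a = b * c₁ := by
      apply IsLocalization.injective W hle
      rw [map_mul, map_mul, ← hc₁, ← hc]
      ring
    refine ⟨s, s.2, ?_⟩
    have hbK : (b : K) ≠ 0 := fun h => hb (Subtype.ext h)
    have h2 : ((s : R) : K) * (a / b) = c₁ := by
      have := congrArg (Subtype.val) h1
      rw [← mul_div_assoc, div_eq_iff hbK]
      push_cast at this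
      rw [this, mul_comm]
    rw [h2]
    exact c₁.2
  obtain ⟨a, b, hb, rfl⟩ := IsFractionRing.div_surjective (A := R) x
  have hb0 : b ≠ 0 := nonZeroDivisors.ne_zero hb
  by_cases ha0 : a = 0
  · left
    subst ha0
    rw [map_zero, zero_div]
    exact (locAt R p).zero_mem
  obtain ⟨c, hc | hc⟩ := ValuationRing.cond (algebraMap R W b) (algebraMap R W a)
  · exact Or.inl (key a b hb0 ⟨c, hc⟩)
  · right
    rw [inv_div]
    exact key b a ha0 ⟨c, hc⟩

/-- `R_p` as a valuation subring of `K`. -/
def locVal (R : Subring K) (p : Ideal R) [p.IsPrime] [IsNoetherianRing R] [IsIntegrallyClosed R]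
    [IsFractionRing R K] (hmin : ∀ q : Ideal R, q.IsPrime → q ≠ ⊥ → q ≤ p → q = p) :
    ValuationSubring K where
  __ := locAt R p
  mem_or_inv_mem' := locAt_mem_or_inv hmin

variable [IsNoetherianRing R] [IsIntegrallyClosed R] [IsFractionRing R K]
  (hmin : ∀ q : Ideal R, q.IsPrime → q ≠ ⊥ → q ≤ p → q = p)

lemma mem_locVal {x : K} : x ∈ locVal R p hmin ↔ ∃ s : R, s ∉ p ∧ (s : K) * x ∈ R := Iff.rfl

lemma locVal_mem_ZR : locVal R p hmin ∈ ZR R := le_locAt

lemma inv_mem_locVal_iff {s : R} (hs : s ≠ 0) : (s : K)⁻¹ ∈ locVal R p hmin ↔ s ∉ p := by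
  have hsK : (s : K) ≠ 0 := fun h => hs (Subtype.ext h)
  constructor
  · rintro ⟨t, ht, hts⟩ hsp
    apply ht
    have h1 : t = ⟨(t : K) * (s : K)⁻¹, hts⟩ * s := by
      apply Subtype.ext
      push_cast
      rw [mul_assoc, inv_mul_cancel₀ hsK, mul_one]
    rw [h1]
    exact p.mul_mem_left _ hsp
  · intro hsp
    exact ⟨s, hsp, by rw [mul_inv_cancel₀ hsK]; exact R.one_mem⟩

end LocVal

end Groth.Agent.Lipman.CompVal
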