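import Mathlib.RingTheory.Ideal.Operations
import Mathlib.RingTheory.Ideal.Maximal
import Mathlib.Order.Minimal
import Mathlib.Data.Finset.Order
import Mathlib.Order.Preorder.Finite

/-!
Coset prime avoidance: if no member of a finite set of primes contains both `a` and `b`, then some
element `b + p * a` lies in none of them.
-/

set_option autoImplicit false

namespace Groth.Agent.Lipman.CosetAvoid

theorem exists_forall_notMem {A : Type*} [CommRing A] (S : Finset (Ideal A))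
    (hS : ∀ P ∈ S, P.IsPrime) (a b : A) (h : ∀ P ∈ S, ¬ (a ∈ P ∧ b ∈ P)) :
    ∃ p : A, ∀ P ∈ S, b + p * a ∉ P := by
  classical
  set M : Finset (Ideal A) := S.filter (fun P => Maximal (· ∈ S) P) with hM
  have hMS : ∀ P ∈ M, P ∈ S := fun P hP => (Finset.mem_filter.1 hP).1
  have hMmax : ∀ P ∈ M, Maximal (· ∈ S) P := fun P hP => (Finset.mem_filter.1 hP).2
  have hex : ∀ P ∈ S, ∃ Q ∈ M, P ≤ Q := by
    intro P hP
    obtain ⟨Q, hPQ, hQ⟩ := S.exists_le_maximal hP
    exact ⟨Q, Finset.mem_filter.2 ⟨hQ.1, hQ⟩, hPQ⟩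
  set M1 : Finset (Ideal A) := M.filter (fun P => b ∉ P) with hM1
  set M2 : Finset (Ideal A) := M.filter (fun P => b ∈ P) with hM2
  have hav : ¬ ((M1.inf id : Ideal A) : Set A) ⊆
      ⋃ i ∈ (↑M2 : Set (Ideal A)), ((id i : Ideal A) : Set A) := by
    intro hsub
    obtain ⟨P', hP', hle⟩ := (Ideal.subset_union_prime (f := (id : Ideal A → Ideal A)) (s := M2)
      (⊥ : Ideal A) (⊥ : Ideal A)
      (fun i hi _ _ => hS i (hMS i (Finset.mem_filter.1 hi).1))).1 hsub
    have hP'M := (Finset.mem_filter.1 hP').1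
    have hbP' := (Finset.mem_filter.1 hP').2
    obtain ⟨P, hP, hPP'⟩ := ((hS P' (hMS P' hP'M)).inf_le').1 hle
    have hPM := (Finset.mem_filter.1 hP).1
    have hbP := (Finset.mem_filter.1 hP).2
    have : P' ≤ P := (hMmax P hPM).2 (hMS P' hP'M) hPP'
    exact hbP (this hbP')
  obtain ⟨p, hp1, hp2⟩ := Set.not_subset.1 hav
  refine ⟨p, fun P hP hmem => ?_⟩
  obtain ⟨Q, hQ, hPQ⟩ := hex P hP
  have hmemQ : b + p * a ∈ Q := hPQ hmem
  by_cases hb : b ∈ Q
  · have hpQ : p ∉ Q := by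
      intro hpQ
      have hQ2 : Q ∈ M2 := by rw [hM2]; exact Finset.mem_filter.2 ⟨hQ, hb⟩
      exact hp2 (Set.mem_iUnion₂.2 ⟨Q, Finset.mem_coe.2 hQ2, hpQ⟩)
    have haQ : a ∉ Q := fun ha => h Q (hMS Q hQ) ⟨ha, hb⟩
    have : p * a ∈ Q := (Ideal.add_mem_iff_right Q hb).1 hmemQ
    rcases (hS Q (hMS Q hQ)).mem_or_mem this with h1 | h1
    · exact hpQ h1
    · exact haQ h1
  · have hpQ : p ∈ Q := by
      have hQ1 : Q ∈ M1 := by rw [hM1]; exact Finset.mem_filter.2 ⟨hQ, hb⟩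
      have hle := Finset.inf_le (f := (id : Ideal A → Ideal A)) hQ1
      exact hle hp1
    exact hb ((Ideal.add_mem_iff_left Q (Ideal.mul_mem_right a Q hpQ)).1 hmemQ)

end Groth.Agent.Lipman.CosetAvoid
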