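import Groth.Agent.Ega4C.DimOneNormalization
import Mathlib.RingTheory.Valuation.LocalSubring
import Mathlib.RingTheory.KrullDimension.Field

/-!
# Valuation rings above a complete local domain of dimension one

`C` a complete Noetherian local domain of dimension one with fraction field `L`: the only valuation
rings of `L` containing `C` are `L` and the integral closure of `C` in `L`.
-/

set_option autoImplicit false
universe u v

open IsLocalRing

namespace Groth.Agent.Lipman.Curve

/-- A valuation subring above a discrete valuation ring is this ring or the whole field. -/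
theorem mem_iff_of_isDiscreteValuationRing {O : Type u} [CommRing O] [IsDomain O]
    [IsDiscreteValuationRing O] {L : Type v} [Field L] [Algebra O L] [IsFractionRing O L]
    (V : ValuationSubring L) (hV : ∀ a : O, algebraMap O L a ∈ V) (hne : V ≠ ⊤) (x : L) :
    x ∈ V ↔ ∃ a : O, algebraMap O L a = x := by
  refine ⟨fun hx ↦ ?_, by rintro ⟨a, rfl⟩; exact hV a⟩
  obtain ⟨ϖ, hϖ⟩ := IsDiscreteValuationRing.exists_irreducible O
  have hϖ0 : algebraMap O L ϖ ≠ 0 := by
    rw [Ne, IsFractionRing.to_map_eq_zero_iff]; exact hϖ.ne_zero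
  have hinv : (algebraMap O L ϖ)⁻¹ ∉ V := by
    intro hinv
    apply hne
    rw [eq_top_iff]
    intro y _
    obtain ⟨b, c, hc, rfl⟩ := IsFractionRing.div_surjective (A := O) y
    have hc0 : c ≠ 0 := nonZeroDivisors.ne_zero hc
    obtain ⟨n, w, rfl⟩ := IsDiscreteValuationRing.eq_unit_mul_pow_irreducible hc0 hϖ
    rw [div_eq_mul_inv, map_mul, mul_inv, map_pow, ← inv_pow]
    refine V.mul_mem _ _ (hV b) (V.mul_mem _ _ ?_ (pow_mem hinv n))
    have h1 : (algebraMap O L (w : O))⁻¹ = algebraMap O L ((w⁻¹ : Oˣ) : O) := by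
      rw [eq_comm]
      apply eq_inv_of_mul_eq_one_left
      rw [← map_mul, Units.inv_mul, map_one]
    rw [h1]
    exact hV _
  by_cases h0 : x = 0
  · exact ⟨0, by rw [h0, map_zero]⟩
  obtain ⟨b, c, hc, rfl⟩ := IsFractionRing.div_surjective (A := O) x
  have hc0 : c ≠ 0 := nonZeroDivisors.ne_zero hc
  have hb0 : b ≠ 0 := by
    rintro rfl
    simp at h0
  obtain ⟨n, w, rfl⟩ := IsDiscreteValuationRing.eq_unit_mul_pow_irreducible hc0 hϖ
  obtain ⟨m, z, rfl⟩ := IsDiscreteValuationRing.eq_unit_mul_pow_irreducible hb0 hϖ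
  have hw : algebraMap O L (w : O) ≠ 0 := by
    rw [Ne, IsFractionRing.to_map_eq_zero_iff]; exact w.ne_zero
  by_cases hmn : n ≤ m
  · refine ⟨(z : O) * ((w⁻¹ : Oˣ) : O) * ϖ ^ (m - n), ?_⟩
    rw [eq_div_iff (by rw [map_mul, map_pow]; exact mul_ne_zero hw (pow_ne_zero _ hϖ0)), ← map_mul]
    congr 1
    calc (z : O) * ((w⁻¹ : Oˣ) : O) * ϖ ^ (m - n) * ((w : O) * ϖ ^ n)
        = (z : O) * (((w⁻¹ : Oˣ) : O) * (w : O)) * (ϖ ^ (m - n) * ϖ ^ n) := by ring
      _ = (z : O) * ϖ ^ m := by rw [Units.inv_mul, ← pow_add, Nat.sub_add_cancel hmn, mul_one]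
  · exfalso
    apply hinv
    push Not at hmn
    have h2 : (algebraMap O L ϖ)⁻¹ =
        (algebraMap O L (w : O) * algebraMap O L ((z⁻¹ : Oˣ) : O) * algebraMap O L ϖ ^ (n - m - 1)) *
          (algebraMap O L ((z : O) * ϖ ^ m) / algebraMap O L ((w : O) * ϖ ^ n)) := by
      have h3 : algebraMap O L ((z⁻¹ : Oˣ) : O) * algebraMap O L (z : O) = 1 := by
        rw [← map_mul, Units.inv_mul, map_one]
      have h4 : algebraMap O L ϖ ^ n = algebraMap O L ϖ ^ (n - m - 1) * algebraMap O L ϖ ^ m *
          algebraMap O L ϖ := by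
        rw [← pow_add, ← pow_succ]
        congr 1
        omega
      rw [map_mul, map_mul, map_pow, map_pow, ← mul_div_assoc, eq_div_iff
        (mul_ne_zero hw (pow_ne_zero _ hϖ0)), h4]
      calc (algebraMap O L ϖ)⁻¹ * (algebraMap O L (w : O) * (algebraMap O L ϖ ^ (n - m - 1) *
            algebraMap O L ϖ ^ m * algebraMap O L ϖ))
          = algebraMap O L (w : O) * algebraMap O L ϖ ^ (n - m - 1) * algebraMap O L ϖ ^ m *
            ((algebraMap O L ϖ)⁻¹ * algebraMap O L ϖ) := by ring
        _ = algebraMap O L (w : O) * (algebraMap O L ((z⁻¹ : Oˣ) : O) * algebraMap O L (z : O)) *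
            algebraMap O L ϖ ^ (n - m - 1) * algebraMap O L ϖ ^ m := by
              rw [inv_mul_cancel₀ hϖ0, h3]; ring
        _ = _ := by ring
    rw [h2]
    exact V.mul_mem _ _ (V.mul_mem _ _ (V.mul_mem _ _ (hV _) (hV _)) (pow_mem (hV _) _)) hx

variable {C : Type u} [CommRing C] [IsDomain C] [IsLocalRing C] [IsNoetherianRing C]
  [IsAdicComplete (maximalIdeal C) C] {L : Type v} [Field L] [Algebra C L] [IsFractionRing C L]

/-- A nontrivial valuation ring of the fraction field of a complete Noetherian local domain of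
dimension one containing this domain is the integral closure of the domain. -/
theorem mem_iff_isIntegral [Ring.DimensionLEOne C] (hC : ¬ IsField C) (V : ValuationSubring L)
    (hV : ∀ c : C, algebraMap C L c ∈ V) (hne : V ≠ ⊤) (x : L) : x ∈ V ↔ IsIntegral C x := by
  have hdvr := Groth.Agent.Ega4C.DimOneNormalization.isDiscreteValuationRing_integralClosure C L hC
  have : IsFractionRing (integralClosure C L) L :=
    integralClosure.isFractionRing_of_finite_extension L L
  have hVO : ∀ a : integralClosure C L, algebraMap (integralClosure C L) L a ∈ V := by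
    intro a
    obtain ⟨p, hp, hpa⟩ := a.2
    let ψ : C →+* V := (algebraMap C L).codRestrict V.toSubring hV
    have h1 : IsIntegral V (a : L) := by
      refine ⟨p.map ψ, hp.map _, ?_⟩
      rw [Polynomial.eval₂_map]
      exact hpa
    obtain ⟨y, hy⟩ := IsIntegrallyClosed.isIntegral_iff.1 h1
    change (a : L) ∈ V
    rw [← hy]
    exact y.2
  rw [mem_iff_of_isDiscreteValuationRing V hVO hne x]
  constructor
  · rintro ⟨a, rfl⟩; exact a.2
  · intro h; exact ⟨⟨x, h⟩, rfl⟩

/-- **Uniqueness**: two nontrivial valuation rings above a complete Noetherian local domain of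
dimension one agree. -/
theorem eq_of_ne_top [Ring.DimensionLEOne C] (hC : ¬ IsField C) {V W : ValuationSubring L}
    (hV : ∀ c : C, algebraMap C L c ∈ V) (hW : ∀ c : C, algebraMap C L c ∈ W)
    (hV' : V ≠ ⊤) (hW' : W ≠ ⊤) : V = W :=
  ValuationSubring.ext _ _ fun x ↦ by
    rw [mem_iff_isIntegral hC V hV hV', mem_iff_isIntegral hC W hW hW']

/-- The dimension hypothesis in terms of the Krull dimension. -/
theorem dimensionLEOne_of_ringKrullDim_le (C : Type u) [CommRing C] [IsDomain C]
    (h : ringKrullDim C ≤ 1) : Ring.DimensionLEOne C := by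
  have : Ring.KrullDimLE 1 C := (Ring.krullDimLE_iff).2 h
  exact ⟨fun {P} hP hP' ↦ Ideal.isMaximal_of_isPrime_of_ne_bot P hP⟩

theorem not_isField_of_ringKrullDim (C : Type u) [CommRing C] (h : ringKrullDim C = 1) :
    ¬ IsField C := by
  intro hf
  have h1 := ringKrullDim_eq_zero_of_isField hf
  rw [h] at h1
  exact one_ne_zero h1

/-- **Uniqueness**, with the Krull dimension. -/
theorem eq_of_ne_top' (hC : ringKrullDim C = 1) {V W : ValuationSubring L}
    (hV : ∀ c : C, algebraMap C L c ∈ V) (hW : ∀ c : C, algebraMap C L c ∈ W)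
    (hV' : V ≠ ⊤) (hW' : W ≠ ⊤) : V = W := by
  have := dimensionLEOne_of_ringKrullDim_le C hC.le
  exact eq_of_ne_top (not_isField_of_ringKrullDim C hC) hV hW hV' hW'

theorem mem_iff_isIntegral' (hC : ringKrullDim C = 1) (V : ValuationSubring L)
    (hV : ∀ c : C, algebraMap C L c ∈ V) (hne : V ≠ ⊤) (x : L) : x ∈ V ↔ IsIntegral C x := by
  have := dimensionLEOne_of_ringKrullDim_le C hC.le
  exact mem_iff_isIntegral (not_isField_of_ringKrullDim C hC) V hV hne x

end Groth.Agent.Lipman.Curve
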