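import Groth.Agent.Lipman.QC661
import Groth.Agent.Lipman.ZRD158

/-!
# Extension by zero of Cousin data from a local ring of a modification (block B3)
-/

set_option autoImplicit false

universe u

open IsLocalRing

namespace Groth.Agent.Lipman.Ext

open Groth.Agent.Lipman.Defs Groth.Agent.Lipman.ZR158 Groth.Agent.Lipman.ZRD158
open Groth.Agent.Lipman.Cpt Groth.Agent.Lipman.QC

variable {K : Type u} [Field K]

/-- A function on the Zariski-Riemann space which is locally constant modulo integral elements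
belongs to `D R`. -/
theorem mem_D_of_locally_const (R : Subring K) (φ : ValuationSubring K → K)
    (hφ : ∀ V ∈ ZR R, ∃ (S : Finset K) (f : K), (∀ s ∈ S, s ∈ V) ∧
      ∀ W ∈ ZR R, (∀ s ∈ S, s ∈ W) → φ W - f ∈ W) : φ ∈ D R := by
  classical
  choose S f hS hf using hφ
  obtain ⟨T, hT⟩ := exists_finite_cover R (ι := {V : ValuationSubring K // V ∈ ZR R})
    (fun V ↦ S V.1 V.2) (fun _ ↦ ∅) (fun V hV ↦ ⟨⟨V, hV⟩, hS V hV, by simp⟩)
  obtain ⟨n, c, ⟨i₀, hi₀⟩, hc⟩ := exists_tuple R (L := T) (fun V ↦ S V.1.1 V.1.2)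
    (fun V ↦ f V.1.1 V.1.2) φ
    (fun V hV ↦ by
      obtain ⟨W, hW, h1, -⟩ := hT V hV
      exact ⟨⟨W, hW⟩, h1⟩)
    (fun V W hW h ↦ hf V.1.1 V.1.2 W hW h)
  refine ⟨Set.range c, ⟨Set.finite_range c, c i₀, ⟨i₀, rfl⟩, hi₀⟩, ?_⟩
  have key : ∀ x : K, ∃ g : K, x ∈ Set.range c → x ≠ 0 → ∀ V ∈ ZR R, Chart (Set.range c) x V →
      φ V - g ∈ V := by
    intro x
    by_cases hx : x ∈ Set.range c ∧ x ≠ 0
    · obtain ⟨⟨i, rfl⟩, h0⟩ := hx
      obtain ⟨g, hg⟩ := hc i h0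
      exact ⟨g, fun _ _ V hV hch ↦ hg V hV fun j ↦ hch.2 _ ⟨j, rfl⟩⟩
    · exact ⟨0, fun h1 h2 ↦ absurd ⟨h1, h2⟩ hx⟩
  choose g hg using key
  exact ⟨g, fun V hV x hx hch ↦ hg x hx hch.1 V hV hch⟩

variable {R A B : Subring K}

/-- Step 1: a neighbourhood of the local scheme of `A` on which `b` has no other zeros. -/
theorem exists_nhd [IsNoetherianRing B] (hRB : R ≤ B) (S : Finset K)
    (hB : ∀ V ∈ ZR R, (∀ s ∈ S, s ∈ V) → V ∈ ZR B) (hSA : ∀ s ∈ S, s ∈ A)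
    (hloc : LocOf B A) (b : K) (hb : b ∈ A) (hb0 : b ≠ 0)
    (hsp : ∀ V ∈ ZR A, b⁻¹ ∉ V → ∀ V' ∈ ZR R, V' ≤ V → V' ∈ ZR A) :
    ∃ S₁ : Finset K, (∀ s ∈ S₁, s ∈ A) ∧
      ∀ V ∈ ZR R, (∀ s ∈ S₁, s ∈ V) → b⁻¹ ∉ V → V ∈ ZR A := by
  classical
  obtain ⟨t, ht, ht0, hti, hbt⟩ := hloc.frac b hb
  let 𝔫 : Ideal B := LocOf.prime hloc
  have hA : A = (LocalSubring.ofPrime B 𝔫).toSubring := LocOf.eq_ofPrime hloc
  -- units of `A` coming from `B`
  have hunit : ∀ x : B, x ∉ 𝔫 → (x : K)⁻¹ ∈ A := by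
    intro x hx
    by_contra hcon
    exact hx ((LocOf.mem_prime hloc).mpr (Or.inr hcon))
  let bt : B := ⟨b * t, hbt⟩
  have hfin : (Ideal.span {bt}).minimalPrimes.Finite :=
    Ideal.finite_minimalPrimes_of_isNoetherianRing B _
  -- choose an element of all bad minimal primes outside `𝔫`
  obtain ⟨u, hu𝔫, hu⟩ : ∃ u : B, u ∉ 𝔫 ∧ ∀ p ∈ (Ideal.span {bt}).minimalPrimes, ¬ p ≤ 𝔫 → u ∈ p := by
    let T : Finset (Ideal B) := hfin.toFinset.filter fun p ↦ ¬ p ≤ 𝔫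
    have h1 : ∀ p ∈ T, ∃ u : B, u ∈ p ∧ u ∉ 𝔫 := by
      intro p hp
      have := (Finset.mem_filter.mp hp).2
      exact Set.not_subset.mp this
    choose! w hw1 hw2 using h1
    refine ⟨∏ p ∈ T, w p, ?_, fun p hp hpn ↦ ?_⟩
    · intro hmem
      obtain ⟨p, hp, hpm⟩ := (Ideal.IsPrime.prod_mem_iff (hp := LocOf.prime_isPrime hloc)).mp hmem
      exact hw2 p hp hpm
    · have hpT : p ∈ T := Finset.mem_filter.mpr ⟨hfin.mem_toFinset.mpr hp, hpn⟩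
      exact Ideal.mem_of_dvd _ (Finset.dvd_prod_of_mem w hpT) (hw1 p hpT)
  refine ⟨S ∪ {t⁻¹, (u : K)⁻¹}, ?_, ?_⟩
  · intro s hs
    simp only [Finset.mem_union, Finset.mem_insert, Finset.mem_singleton] at hs
    rcases hs with hs | rfl | rfl
    · exact hSA s hs
    · exact hti
    · exact hunit u hu𝔫
  · intro V hV hVS hbV
    have hVB : V ∈ ZR B := hB V hV fun s hs ↦ hVS s (Finset.mem_union_left _ hs)
    have htV : t⁻¹ ∈ V := hVS _ (by simp)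
    have huV : (u : K)⁻¹ ∈ V := hVS _ (by simp)
    have hbt_nu : (b * t) ∈ V.nonunits := by
      rw [ValuationSubring.mem_nonunits_iff_or]
      right
      intro h
      apply hbV
      have : b⁻¹ = (b * t)⁻¹ * t := by
        rw [mul_inv, mul_assoc, inv_mul_cancel₀ ht0, mul_one]
      rw [this]
      exact V.mul_mem _ _ h (hVB ht)
    have hbt_mem : bt ∈ ctr B V hVB := (mem_ctr hVB).mpr hbt_nu
    obtain ⟨p, hpmin, hple⟩ := Ideal.exists_minimalPrimes_le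
      (I := Ideal.span {bt}) (J := ctr B V hVB)
      (by rw [Ideal.span_singleton_le_iff_mem]; exact hbt_mem)
    have hpprime : p.IsPrime := hpmin.1.1
    -- the minimal prime is good
    have hpn : p ≤ 𝔫 := by
      by_contra hcon
      have h1 : u ∈ ctr B V hVB := hple (hu p hpmin hcon)
      rw [mem_ctr, ValuationSubring.mem_nonunits_iff_or] at h1
      rcases h1 with h1 | h1
      · exact hu𝔫 (by rw [show u = 0 from Subtype.ext h1]; exact 𝔫.zero_mem)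
      · exact h1 huV
    -- a valuation with centre `p`
    obtain ⟨V₁, hV₁B, hV₁⟩ := exists_ctr_eq B p
    have hV₁A : V₁ ∈ ZR A := by
      rw [mem_ZR, hA]
      exact ofPrime_le hV₁B (by rw [hV₁]; exact hpn)
    have hbV₁ : b⁻¹ ∉ V₁ := by
      intro h
      have h1 : bt ∈ ctr B V₁ hV₁B := by
        rw [hV₁]; exact hpmin.1.2 (Ideal.mem_span_singleton_self bt)
      rw [mem_ctr, ValuationSubring.mem_nonunits_iff_or] at h1
      rcases h1 with h1 | h1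
      · exact mul_ne_zero hb0 ht0 h1
      · apply h1
        change (b * t)⁻¹ ∈ V₁
        rw [mul_inv]
        exact V₁.mul_mem _ _ h (hV₁A hti)
    -- specialise to the centre of `V`
    obtain ⟨V₂, hV₂B, hV₂le, hV₂⟩ := exists_le_ctr_eq hV₁B (ctr B V hVB) (by rw [hV₁]; exact hple)
    have hV₂A : V₂ ∈ ZR A := hsp V₁ hV₁A hbV₁ V₂ (hRB.trans hV₂B) hV₂le
    have hctr : ctr B V hVB ≤ 𝔫 := by
      intro x hx
      by_contra hxn
      have h1 : (x : K)⁻¹ ∈ V₂ := hV₂A (hunit x hxn)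
      rw [← hV₂, mem_ctr, ValuationSubring.mem_nonunits_iff_or] at hx
      rcases hx with hx | hx
      · exact hxn (by rw [show x = 0 from Subtype.ext hx]; exact 𝔫.zero_mem)
      · exact hx h1
    rw [mem_ZR, hA]
    exact ofPrime_le hVB hctr

/-- Step 2: the condition on `f` spreads out. -/
theorem exists_spread (_hRA : R ≤ A) (a b f : K)
    (hf : ∀ V ∈ ZR A, b / a ∈ V → a / b ∈ V → f ∈ V) :
    ∃ S₂ : Finset K, (∀ s ∈ S₂, s ∈ A) ∧
      ∀ V ∈ ZR R, (∀ s ∈ S₂, s ∈ V) → b / a ∈ V → a / b ∈ V → f ∈ V := by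
  classical
  by_contra hcon
  push Not at hcon
  obtain ⟨V, hV, h1, h2⟩ := exists_of_forall_finite R ((A : Set K) ∪ {b / a, a / b}) {f} (by
    intro F G hF hG
    obtain ⟨V, hV, h1, h2, h3, h4⟩ := hcon (F.filter (· ∈ A)) (fun s hs ↦ (Finset.mem_filter.mp hs).2)
    refine ⟨V, hV, fun x hx ↦ ?_, fun x hx ↦ ?_⟩
    · by_cases hxA : x ∈ A
      · exact h1 x (Finset.mem_filter.mpr ⟨hx, hxA⟩)
      · rcases hF hx with h | h | h
        · exact absurd h hxA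
        · rw [h]; exact h2
        · rw [Set.mem_singleton_iff.mp h]; exact h3
    · rw [Set.mem_singleton_iff.mp (hG hx)]; exact h4)
  exact h2 f rfl (hf V (fun x hx ↦ h1 x (Or.inl hx)) (h1 _ (by simp)) (h1 _ (by simp)))

/-- Step 3: points outside the closed set `{V ∈ ZR A : b ∈ m_V}` have a neighbourhood missing it. -/
theorem exists_avoid (_hRA : R ≤ A) (b : K)
    (hsp : ∀ V ∈ ZR A, b⁻¹ ∉ V → ∀ V' ∈ ZR R, V' ≤ V → V' ∈ ZR A)
    (V : ValuationSubring K) (hV : V ∈ ZR R) (hVT : ¬ (V ∈ ZR A ∧ b⁻¹ ∉ V)) :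
    ∃ S : Finset K, (∀ s ∈ S, s ∈ V) ∧ ∀ W ∈ ZR R, (∀ s ∈ S, s ∈ W) → ¬ (W ∈ ZR A ∧ b⁻¹ ∉ W) := by
  classical
  by_contra hcon
  push Not at hcon
  obtain ⟨W, hW, h1, h2⟩ := exists_of_forall_finite R ((A : Set K) ∪ (V : Set K)) {b⁻¹} (by
    intro F G hF hG
    obtain ⟨W, hW, h1, h2, h3⟩ := hcon (F.filter (· ∈ V)) (fun s hs ↦ (Finset.mem_filter.mp hs).2)
    refine ⟨W, hW, fun x hx ↦ ?_, fun x hx ↦ ?_⟩
    · by_cases hxV : x ∈ V
      · exact h1 x (Finset.mem_filter.mpr ⟨hx, hxV⟩)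
      · rcases hF hx with h | h
        · exact h2 h
        · exact absurd h hxV
    · rw [Set.mem_singleton_iff.mp (hG hx)]; exact h3)
  have hWA : W ∈ ZR A := fun x hx ↦ h1 x (Or.inl hx)
  have hbW : b⁻¹ ∉ W := h2 _ rfl
  have hle : V ≤ W := fun x hx ↦ h1 x (Or.inr hx)
  exact hVT ⟨hsp W hWA hbW V hV hle, fun h ↦ hbW (hle h)⟩

/-- **Extension by zero.** -/
theorem ext_mem_D [IsNoetherianRing B] (hRB : R ≤ B) (S : Finset K)
    (hB : ∀ V ∈ ZR R, (∀ s ∈ S, s ∈ V) → V ∈ ZR B) (hSA : ∀ s ∈ S, s ∈ A)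
    (hloc : LocOf B A) (a b : K) (ha : a ∈ A) (hb : b ∈ A) (hb0 : b ≠ 0)
    (hsp : ∀ V ∈ ZR A, b⁻¹ ∉ V → ∀ V' ∈ ZR R, V' ≤ V → V' ∈ ZR A)
    (f : K) (hf : ∀ V ∈ ZR A, b / a ∈ V → a / b ∈ V → f ∈ V)
    (φ : ValuationSubring K → K)
    (hφ₁ : ∀ V ∈ ZR A, b⁻¹ ∉ V → b / a ∈ V → φ V = f)
    (hφ₂ : ∀ V ∈ ZR R, ¬ (V ∈ ZR A ∧ b⁻¹ ∉ V ∧ b / a ∈ V) → φ V = 0) : φ ∈ D R := by
  classical
  have hRA : R ≤ A := hRB.trans hloc.le
  obtain ⟨S₁, hS₁A, hS₁⟩ := exists_nhd hRB S hB hSA hloc b hb hb0 hsp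
  obtain ⟨S₂, hS₂A, hS₂⟩ := exists_spread hRA a b f hf
  refine mem_D_of_locally_const R φ fun V hV ↦ ?_
  by_cases hVT : V ∈ ZR A ∧ b⁻¹ ∉ V
  · obtain ⟨hVA, hbV⟩ := hVT
    by_cases hba : b / a ∈ V
    · refine ⟨S₁ ∪ S₂ ∪ {a, b, b / a}, f, ?_, ?_⟩
      · intro s hs
        simp only [Finset.mem_union, Finset.mem_insert, Finset.mem_singleton] at hs
        rcases hs with (hs | hs) | rfl | rfl | rfl
        · exact hVA (hS₁A s hs)
        · exact hVA (hS₂A s hs)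
        · exact hVA ha
        · exact hVA hb
        · exact hba
      · intro W hW hWS
        have h1 : ∀ s ∈ S₁, s ∈ W := fun s hs ↦ hWS s (by simp [hs])
        have h2 : ∀ s ∈ S₂, s ∈ W := fun s hs ↦ hWS s (by simp [hs])
        have haW : a ∈ W := hWS a (by simp)
        have hbaW : b / a ∈ W := hWS (b / a) (by simp)
        by_cases hbW : b⁻¹ ∈ W
        · have hab : a / b ∈ W := by rw [div_eq_mul_inv]; exact W.mul_mem _ _ haW hbW
          rw [hφ₂ W hW (fun h ↦ h.2.1 hbW), zero_sub]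
          exact W.neg_mem _ (hS₂ W hW h2 hbaW hab)
        · rw [hφ₁ W (hS₁ W hW h1 hbW) hbW hbaW, sub_self]
          exact W.zero_mem
    · have hab : a / b ∈ V := by
        rcases V.mem_or_inv_mem (a / b) with h | h
        · exact h
        · rw [inv_div] at h; exact absurd h hba
      refine ⟨S₁ ∪ S₂ ∪ {a / b}, 0, ?_, ?_⟩
      · intro s hs
        simp only [Finset.mem_union, Finset.mem_singleton] at hs
        rcases hs with (hs | hs) | rfl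
        · exact hVA (hS₁A s hs)
        · exact hVA (hS₂A s hs)
        · exact hab
      · intro W hW hWS
        have h1 : ∀ s ∈ S₁, s ∈ W := fun s hs ↦ hWS s (by simp [hs])
        have h2 : ∀ s ∈ S₂, s ∈ W := fun s hs ↦ hWS s (by simp [hs])
        have habW : a / b ∈ W := hWS (a / b) (by simp)
        rw [sub_zero]
        by_cases hW' : W ∈ ZR A ∧ b⁻¹ ∉ W ∧ b / a ∈ W
        · rw [hφ₁ W hW'.1 hW'.2.1 hW'.2.2]
          exact hS₂ W hW h2 hW'.2.2 habW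
        · rw [hφ₂ W hW hW']
          exact W.zero_mem
  · obtain ⟨S₃, hS₃V, hS₃⟩ := exists_avoid hRA b hsp V hV hVT
    refine ⟨S₃, 0, hS₃V, fun W hW hWS ↦ ?_⟩
    rw [sub_zero, hφ₂ W hW (fun h ↦ hS₃ W hW hWS ⟨h.1, h.2.1⟩)]
    exact W.zero_mem

/-- Boundedness at a tuple dominated by the model of `A` gives `Rat2`. -/
theorem rat2_of_isConst [IsNoetherianRing B] (hRB : R ≤ B) (S : Finset K)
    (hB : ∀ V ∈ ZR R, (∀ s ∈ S, s ∈ V) → V ∈ ZR B) (hSA : ∀ s ∈ S, s ∈ A)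
    (hloc : LocOf B A) (a b : K) (ha : a ∈ A) (hb : b ∈ A) (hb0 : b ≠ 0)
    (hsp : ∀ V ∈ ZR A, b⁻¹ ∉ V → ∀ V' ∈ ZR R, V' ≤ V → V' ∈ ZR A)
    (hconst : ∀ φ ∈ D R, ∃ f : K, ∀ V ∈ ZR A, φ V - f ∈ V) : Rat2 A a b := by
  classical
  intro g hg
  have hRA : R ≤ A := hRB.trans hloc.le
  let φ : ValuationSubring K → K := fun V ↦ if V ∈ ZR A ∧ b⁻¹ ∉ V ∧ b / a ∈ V then g else 0
  have hφ₁ : ∀ V ∈ ZR A, b⁻¹ ∉ V → b / a ∈ V → φ V = g := fun V h1 h2 h3 ↦ if_pos ⟨h1, h2, h3⟩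
  have hφ₂ : ∀ V, ¬ (V ∈ ZR A ∧ b⁻¹ ∉ V ∧ b / a ∈ V) → φ V = 0 := fun V h ↦ if_neg h
  have hφ : φ ∈ D R := ext_mem_D hRB S hB hSA hloc a b ha hb hb0 hsp g hg φ hφ₁ (fun V _ h ↦ hφ₂ V h)
  obtain ⟨f, hf⟩ := hconst φ hφ
  refine ⟨g - f, f, by ring, fun V hV hba ↦ ?_, fun V hV hab ↦ ?_⟩
  · by_cases hbV : b⁻¹ ∈ V
    · have hab : a / b ∈ V := by rw [div_eq_mul_inv]; exact V.mul_mem _ _ (hV ha) hbV
      have h1 := hf V hV
      rw [hφ₂ V (fun h ↦ h.2.1 hbV), zero_sub] at h1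
      rw [sub_eq_add_neg]
      exact V.add_mem _ _ (hg V hV hba hab) h1
    · have h1 := hf V hV
      rwa [hφ₁ V hV hbV hba] at h1
  · have h1 := hf V hV
    by_cases hV' : V ∈ ZR A ∧ b⁻¹ ∉ V ∧ b / a ∈ V
    · rw [hφ₁ V hV'.1 hV'.2.1 hV'.2.2] at h1
      have h2 : f = g - (g - f) := by ring
      rw [h2]
      exact sub_mem (hg V hV hV'.2.2 hab) h1
    · rw [hφ₂ V hV', zero_sub] at h1
      simpa using V.neg_mem _ h1

end Groth.Agent.Lipman.Ext
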