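import Groth.Agent.Lipman.Defs

/-!
# Interface statements of the S1634 / S2208 project

* `Tower R s₀`: output of blocks B1-B6 (proved in `Lipman/Tower.lean`), input of block B7.
* `RES R`: output of block B7, input of blocks B8 / B9.
-/

set_option autoImplicit false
universe u

open IsLocalRing

namespace Groth.Agent.Lipman.Defs

variable {K : Type u} [Field K]

/-- `A` is a normal two-dimensional local ring of a blow-up dominating the blow-up of `s₀`. -/
structure NPt (R : Subring K) (s₀ : Set K) (A : Subring K) : Prop where
  isPt : ∃ s, IsTuple s ∧ Refines R s s₀ ∧ IsPt R s A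
  isIntegrallyClosed : IsIntegrallyClosed A
  dim : ringKrullDim A = 2

/-- Normality is preserved by quadratic transforms of points above `s₀`, and every infinite sequence
of two-dimensional quadratic transforms contains a regular ring. -/
structure Tower (R : Subring K) (s₀ : Set K) : Prop where
  isIntegrallyClosed : ∀ A A' : Subring K, NPt R s₀ A → QT A A' → IsIntegrallyClosed A'
  exists_regular : ∀ A : ℕ → Subring K, NPt R s₀ (A 0) → (∀ i, ringKrullDim (A i) = 2) →
    (∀ i, QT (A i) (A (i + 1))) → ∃ i, IsRegularLocalRing (A i)

/-- Resolution of `Spec R` by the blow-up of an ideal containing a power of the maximal ideal. -/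
def RES (R : Subring K) [IsLocalRing R] : Prop :=
  ∃ s : Set K, s.Finite ∧ s.Nonempty ∧ (∀ x ∈ s, x ≠ 0) ∧ (∀ x ∈ s, x ∈ R) ∧
    (∃ N : ℕ, ∀ r : R, r ∈ maximalIdeal R ^ N → (r : K) ∈ Submodule.span R s) ∧
    ∀ A : Subring K, IsPt R s A → IsRegularLocalRing A

end Groth.Agent.Lipman.Defs
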