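import Groth.Agent.Lipman.NormMod

/-!
# Normalisation of models, primary form

If `R` is integrally closed in `K` and `s ⊆ R`, the tuple of the normalised model can be taken in `R`, generating
an ideal which contains a power of the ideal generated by `s`.
-/

set_option autoImplicit false
universe u

open Groth.Agent.Lipman.Defs
open Groth.Agent.Lipman.QC (isIntegral_iff_forall_mem exists_pow_mul_isIntegral exists_sum_eq_one)
open scoped Pointwise

namespace Groth.Agent.Lipman.NormMod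

variable {K : Type u} [Field K]

/-- **Normalisation of models**, precise form: the tuple is `t * s`, where `t` lies in the integral closure of
`s ^ N` and contains the `N`-th powers of the nonzero elements of `s`. -/
theorem exists_normal_refinement_pow (R : Subring K) (hR : FinNorm R) {s : Set K} (hs : IsTuple s) :
    ∃ (N : ℕ) (t : Set K), IsTuple t ∧ (∀ x ∈ s, x ≠ 0 → x ^ N ∈ t) ∧
      (∀ V ∈ ZR R, ∀ y ∈ s, Chart s y V → Chart t (y ^ N) V) ∧
      Refines R (t * s) s ∧ ∀ x ∈ t * s, x ≠ 0 → IC (chartRing R (t * s) x) := by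
  classical
  choose G hG1 hGint hGgen using fun x : K ↦ exists_gens hR hs.finite x
  obtain ⟨N, hN⟩ : ∃ N : ℕ, ∀ x ∈ s, ∀ y ∈ s, ∀ b ∈ G x, x ≠ 0 → y ≠ 0 →
      IsIntegral (chartRing R s y) ((x / y) ^ N * b) := by
    have h1 : ∀ᶠ N in Filter.atTop, ∀ x ∈ s, ∀ y ∈ s, ∀ b ∈ (G x : Set K), x ≠ 0 → y ≠ 0 →
        IsIntegral (chartRing R s y) ((x / y) ^ N * b) := by
      rw [Filter.eventually_all_finite hs.finite]
      intro x hx
      rw [Filter.eventually_all_finite hs.finite]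
      intro y hy
      rw [Filter.eventually_all_finite (G x).finite_toSet]
      intro b hb
      by_cases hx0 : x = 0
      · exact Filter.Eventually.of_forall fun _ h ↦ (h hx0).elim
      by_cases hy0 : y = 0
      · exact Filter.Eventually.of_forall fun _ _ h ↦ (h hy0).elim
      filter_upwards [eventually_isIntegral R hx hx0 hy0 (hGint x b hb)] with N h _ _
      exact h
    exact h1.exists
  let t : Set K := ⋃ x ∈ s \ {0}, (fun b ↦ x ^ N * b) '' (G x : Set K)
  have ht : ∀ w, w ∈ t ↔ ∃ x ∈ s, x ≠ 0 ∧ ∃ b ∈ G x, x ^ N * b = w := by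
    intro w
    simp only [t, Set.mem_iUnion, Set.mem_image, Finset.mem_coe, Set.mem_sdiff, Set.mem_singleton_iff,
      exists_prop, and_assoc]
  have htfin : t.Finite := (hs.finite.subset Set.sdiff_subset).biUnion fun x _ ↦
    (G x).finite_toSet.image _
  have hpow : ∀ x ∈ s, x ≠ 0 → x ^ N ∈ t := fun x hx hx0 ↦
    (ht _).2 ⟨x, hx, hx0, 1, hG1 x, mul_one _⟩
  have htt : IsTuple t := by
    obtain ⟨x, hx, hx0⟩ := hs.exists_ne_zero
    exact ⟨htfin, x ^ N, hpow x hx hx0, pow_ne_zero _ hx0⟩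
  -- elements of `t / y ^ N` are integral over the chart `y` of `s`
  have hint : ∀ y ∈ s, y ≠ 0 → ∀ w ∈ t, IsIntegral (chartRing R s y) (w / y ^ N) := by
    intro y hy hy0 w hw
    obtain ⟨x, hx, hx0, b, hb, rfl⟩ := (ht w).1 hw
    have := hN x hx y hy b hb hx0 hy0
    have h2 : x ^ N * b / y ^ N = (x / y) ^ N * b := by
      rw [div_pow]; ring
    rwa [h2]
  have hB : ∀ y ∈ s, y ≠ 0 → ∀ z, IsIntegral (chartRing R s y) z → z ∈ chartRing R t (y ^ N) := by
    intro y hy hy0 z hz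
    have h1 : Subring.closure ((R : Set K) ∪ G y) ≤ chartRing R t (y ^ N) := by
      rw [Subring.closure_le]
      rintro b (hb | hb)
      · exact le_chartRing _ _ _ hb
      · have h2 : y ^ N * b ∈ t := (ht _).2 ⟨y, hy, hy0, b, hb, rfl⟩
        have h3 : y ^ N * b / y ^ N ∈ chartRing R t (y ^ N) := div_mem_chartRing R (y ^ N) h2
        have h4 : y ^ N * b / y ^ N = b := mul_div_cancel_left₀ b (pow_ne_zero N hy0)
        rw [h4] at h3
        exact h3
    exact h1 (hGgen y z hz)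
  have hle : ∀ y ∈ s, y ≠ 0 → chartRing R s y ≤ chartRing R t (y ^ N) := fun y hy hy0 z hz ↦
    hB y hy hy0 z (isIntegral_algebraMap (x := (⟨z, hz⟩ : chartRing R s y)))
  have hZR : ∀ y ∈ s, y ≠ 0 → ∀ V ∈ ZR (chartRing R s y), V ∈ ZR (chartRing R t (y ^ N)) := by
    intro y hy hy0 V hV
    refine chartRing_le_iff.2 ⟨(le_chartRing R s y).trans hV, fun w hw ↦ ?_⟩
    exact (isIntegral_iff_forall_mem _ _).1 (hint y hy hy0 w hw) V hV
  have hIC : ∀ y ∈ s, y ≠ 0 → IC (chartRing R t (y ^ N)) := by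
    intro y hy hy0 z hz
    refine hB y hy hy0 z ?_
    rw [isIntegral_iff_forall_mem] at hz ⊢
    exact fun V hV ↦ hz V (hZR y hy hy0 V hV)
  refine ⟨N, t, htt, hpow, fun V hV y hy hc ↦ ?_, refines_mul_right R t s, ?_⟩
  · exact ((mem_ZR_chartRing (pow_ne_zero N hc.1)).1
      (hZR y hy hc.1 V ((mem_ZR_chartRing hc.1).2 ⟨hV, hc⟩))).2
  rintro _ ⟨w, hw, x, hx, rfl⟩ hwx z hz
  have hw0 : w ≠ 0 := left_ne_zero_of_mul hwx
  have hx0 : x ≠ 0 := right_ne_zero_of_mul hwx
  have hxN : x ^ N ≠ 0 := pow_ne_zero _ hx0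
  change z ∈ chartRing R (t * s) (w * x)
  have hz : IsIntegral (chartRing R (t * s) (w * x)) z := hz
  have hu : ∀ u ∈ t, u / w ∈ chartRing R (t * s) (w * x) := by
    intro u hu
    have h1 := div_mem_chartRing R (w * x) (Set.mul_mem_mul hu hx)
    rwa [mul_div_mul_right _ _ hx0] at h1
  have hy : ∀ y ∈ s, y / x ∈ chartRing R (t * s) (w * x) := by
    intro y hy
    have h1 := div_mem_chartRing R (w * x) (Set.mul_mem_mul hw hy)
    rwa [mul_div_mul_left _ _ hw0] at h1
  have hg : x ^ N / w ∈ chartRing R (t * s) (w * x) := hu _ (hpow x hx hx0)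
  have hg0 : x ^ N / w ≠ 0 := div_ne_zero hxN hw0
  have hsx : chartRing R s x ≤ chartRing R (t * s) (w * x) :=
    chartRing_le_iff.2 ⟨le_chartRing _ _ _, hy⟩
  have hh : w / x ^ N ∈ chartRing R (t * s) (w * x) := by
    have h1 := inv_mem_of_forall hg hg0 (fun V hV ↦ by
      rw [inv_div]
      exact hZR x hx hx0 V (hsx.trans hV) (div_mem_chartRing R _ hw))
    rwa [inv_div] at h1
  have hBle : chartRing R t (x ^ N) ≤ chartRing R (t * s) (w * x) := by
    refine chartRing_le_iff.2 ⟨le_chartRing _ _ _, fun u hu' ↦ ?_⟩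
    have h1 : u / x ^ N = u / w * (w / x ^ N) := by field_simp
    rw [h1]
    exact mul_mem (hu u hu') hh
  obtain ⟨n, hn⟩ := exists_pow_mul_isIntegral (chartRing R t (x ^ N)) (div_mem_chartRing R _ hw)
    (div_ne_zero hw0 hxN) (x := z) (by
    intro V hV hinv
    refine (isIntegral_iff_forall_mem _ _).1 hz V (chartRing_le_iff.2 ⟨(le_chartRing _ _ _).trans hV, ?_⟩)
    rintro _ ⟨u, hu', y, hy', rfl⟩
    have h1 : u * y / (w * x) = u / x ^ N * (w / x ^ N)⁻¹ * (y / x) := by field_simp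
    change u * y / (w * x) ∈ V.toSubring
    rw [h1]
    exact mul_mem (mul_mem (hV (div_mem_chartRing R _ hu')) hinv)
      (hV (hle x hx hx0 (div_mem_chartRing R _ hy'))))
  have h1 : (w / x ^ N) ^ n * z ∈ chartRing R (t * s) (w * x) := hBle (hIC x hx hx0 _ hn)
  have h2 : z = (x ^ N / w) ^ n * ((w / x ^ N) ^ n * z) := by
    rw [← mul_assoc, ← mul_pow, div_mul_div_cancel₀ hw0, div_self hxN, one_pow, one_mul]
  rw [h2]
  exact mul_mem (pow_mem hg n) h1

/-- **Normalisation of models**, primary form. -/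
theorem exists_normal_refinement_primary (R : Subring K) (hR : FinNorm R) (hIC : IC R) {s : Set K}
    (hs : IsTuple s) (hsR : s ⊆ R) :
    ∃ T : Set K, IsTuple T ∧ T ⊆ R ∧ Refines R T s ∧ (∀ x ∈ T, x ≠ 0 → IC (chartRing R T x)) ∧
      ∃ M : ℕ, Ideal.span ((↑) ⁻¹' s : Set R) ^ M ≤ Ideal.span ((↑) ⁻¹' T : Set R) := by
  obtain ⟨N, t, ht, hpow, hch, href, hic⟩ := exists_normal_refinement_pow R hR hs
  have htR : t ⊆ R := by
    intro w hw
    refine ic_iff.1 hIC w fun V hV ↦ ?_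
    obtain ⟨y, hy, hc⟩ := exists_chart hs V
    have h1 := (hch V hV y hy hc).2 w hw
    have h2 : w = w / y ^ N * y ^ N := (div_mul_cancel₀ _ (pow_ne_zero _ hc.1)).symm
    rw [h2]
    exact mul_mem h1 (pow_mem (hV (hsR hy)) N)
  refine ⟨t * s, ht.mul hs, ?_, href, hic, ?_⟩
  · rintro _ ⟨a, ha, b, hb, rfl⟩
    exact R.mul_mem (htR ha) (hsR hb)
  · have hfg : (Ideal.span ((↑) ⁻¹' s : Set R)).FG := by
      refine ⟨(hs.finite.preimage Subtype.val_injective.injOn).toFinset, ?_⟩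
      rw [Set.Finite.coe_toFinset]
    refine Ideal.exists_pow_le_of_le_radical_of_fg ?_ hfg
    rw [Ideal.span_le]
    intro x hx
    by_cases hx0 : (x : K) = 0
    · rw [show x = 0 from Subtype.ext hx0]
      exact zero_mem _
    · refine ⟨N + 1, Ideal.subset_span ?_⟩
      change ((x ^ (N + 1) : R) : K) ∈ t * s
      refine ⟨(x : K) ^ N, hpow _ hx hx0, x, hx, ?_⟩
      simp [pow_succ]

/-- **Normalisation of models**, version with a prescribed ideal `m`. -/
theorem exists_normal_refinement_ideal (R : Subring K) (hR : FinNorm R) (hIC : IC R) {s : Set K}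
    (hs : IsTuple s) (hsR : s ⊆ R) (m : Ideal R) (hm : ∃ n : ℕ, m ^ n ≤ Ideal.span ((↑) ⁻¹' s : Set R)) :
    ∃ T : Set K, IsTuple T ∧ T ⊆ R ∧ Refines R T s ∧ (∀ x ∈ T, x ≠ 0 → IC (chartRing R T x)) ∧
      ∃ n : ℕ, m ^ n ≤ Ideal.span ((↑) ⁻¹' T : Set R) := by
  obtain ⟨T, hT, hTR, href, hic, M, hM⟩ := exists_normal_refinement_primary R hR hIC hs hsR
  obtain ⟨n, hn⟩ := hm
  exact ⟨T, hT, hTR, href, hic, n * M, by rw [pow_mul]; exact (Ideal.pow_right_mono hn M).trans hM⟩

end Groth.Agent.Lipman.NormMod
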