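import Groth.Agent.Lipman.Defs
import Groth.Agent.Lipman.ZR158
import Groth.Agent.Lipman.Arc
import Groth.Agent.Lipman.NormMod2

/-!
# Every tuple is refined by a tuple generating an ideal primary to the maximal ideal

`R` a normal Noetherian local domain of dimension at most two with fraction field `K`, `s₀` a tuple:
if `t` generates `(R : s₀)` then the products `s₀ * t` are in `R` and their span contains a power of
the maximal ideal.
-/

set_option autoImplicit false
universe u

open IsLocalRing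
open scoped Pointwise

namespace Groth.Agent.Lipman.MPrim

open Groth.Agent.Lipman.Defs Groth.Agent.Lipman.ZR158

variable {K : Type u} [Field K]

/-- The set `(R : s₀)` is a finitely generated nonzero `R`-module. -/
theorem exists_span_eq_colon (R : Subring K) [IsNoetherianRing R] [IsFractionRing R K]
    {s₀ : Set K} (h₀ : IsTuple s₀) :
    ∃ t : Set K, IsTuple t ∧ ∀ x : K, (∀ y ∈ s₀, x * y ∈ R) ↔ x ∈ Submodule.span R t := by
  classical
  obtain ⟨y₀, hy₀, hy₀0⟩ := h₀.exists_ne_zero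
  let T : Submodule R K :=
    { carrier := {x | ∀ y ∈ s₀, x * y ∈ R}
      add_mem' := fun {a b} ha hb y hy ↦ by
        rw [add_mul]; exact R.add_mem (ha y hy) (hb y hy)
      zero_mem' := fun y _ ↦ by rw [zero_mul]; exact R.zero_mem
      smul_mem' := fun c x hx y hy ↦ by
        change (c : K) * x * y ∈ R
        rw [mul_assoc]
        exact R.mul_mem c.2 (hx y hy) }
  have hTle : T ≤ Submodule.span R {y₀⁻¹} := by
    intro x hx
    rw [Submodule.mem_span_singleton]
    refine ⟨⟨x * y₀, hx y₀ hy₀⟩, ?_⟩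
    change x * y₀ * y₀⁻¹ = x
    rw [mul_assoc, mul_inv_cancel₀ hy₀0, mul_one]
  have hfg : T.FG := Submodule.FG.of_le (Submodule.fg_span_singleton _) hTle
  obtain ⟨G, hG⟩ := hfg
  -- a common denominator
  obtain ⟨d, hd0, hd⟩ : ∃ d : R, (d : K) ≠ 0 ∧ (d : K) ∈ T := by
    obtain ⟨b, hb⟩ := IsLocalization.exist_integer_multiples_of_finset (nonZeroDivisors R)
      h₀.finite.toFinset
    refine ⟨b, fun h ↦ nonZeroDivisors.ne_zero b.2 (Subtype.ext h), fun y hy ↦ ?_⟩
    obtain ⟨r, hr⟩ := hb y (h₀.finite.mem_toFinset.2 hy)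
    have : ((b : R) : K) * y = algebraMap R K r := by rw [hr]; rfl
    rw [this]
    exact r.2
  refine ⟨G, ⟨G.finite_toSet, ?_⟩, fun x ↦ ?_⟩
  · by_contra hcon
    push Not at hcon
    have h1 : T = ⊥ := by
      rw [← hG, Submodule.span_eq_bot]
      exact hcon
    rw [h1] at hd
    exact hd0 ((Submodule.mem_bot R).1 hd)
  · rw [hG]
    exact Iff.rfl

/-- **Refinement by a primary tuple.** -/
theorem exists_primary (R : Subring K) [IsLocalRing R] [IsNoetherianRing R] [IsIntegrallyClosed R]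
    [IsFractionRing R K] (hd : ringKrullDim R ≤ 2) {s₀ : Set K} (h₀ : IsTuple s₀) :
    ∃ t : Set K, IsTuple t ∧ (∀ x ∈ s₀ * t, x ∈ R) ∧
      ∃ N : ℕ, ∀ r : R, r ∈ maximalIdeal R ^ N → (r : K) ∈ Submodule.span R (s₀ * t) := by
  classical
  obtain ⟨t, ht, hspan⟩ := exists_span_eq_colon R h₀
  refine ⟨t, ht, ?_, ?_⟩
  · rintro _ ⟨y, hy, x, hx, rfl⟩
    change y * x ∈ R
    rw [mul_comm]
    exact (hspan x).2 (Submodule.subset_span hx) y hy
  let J : Ideal R := (Submodule.span R (s₀ * t)).comap (Algebra.linearMap R K)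
  have hJ : ∀ r : R, r ∈ J ↔ (r : K) ∈ Submodule.span R (s₀ * t) := fun _ ↦ Iff.rfl
  have hmulJ : ∀ y ∈ s₀, ∀ x ∈ Submodule.span R t, y * x ∈ Submodule.span R (s₀ * t) := by
    intro y hy x hx
    rw [← Submodule.span_mul_span]
    exact Submodule.mul_mem_mul (Submodule.subset_span hy) hx
  have key : ∀ p : Ideal R, p.IsPrime → J ≤ p → p = maximalIdeal R := by
    intro p hp hJp
    by_contra hne
    have hmin : ∀ q : Ideal R, q.IsPrime → q ≠ ⊥ → q ≤ p → q = p := by
      intro q hq hq0 hqp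
      by_contra hqne
      have h3 := Arc.three_le_ringKrullDim q p hq0 (lt_of_le_of_ne hqp hqne) hne
      exact absurd (h3.trans hd) (by decide)
    obtain ⟨V, hV⟩ := exists_valuationSubring_of_height_one p hmin
    obtain ⟨y, hy, hc⟩ := Defs.exists_chart h₀ V
    have h1 : ∀ z ∈ s₀, ∃ u : R, u ∉ p ∧ (u : K) * (z / y) ∈ R := by
      intro z hz
      have h2 : z / y ∈ (LocalSubring.ofPrime R p).toSubring := by
        rw [← hV]; exact hc.2 z hz
      obtain ⟨a, s, hs, h3⟩ := mem_ofPrime_iff.1 h2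
      have hs0 : (s : K) ≠ 0 := fun h0 ↦ hs (by
        rw [show s = 0 from Subtype.ext h0]; exact p.zero_mem)
      refine ⟨s, hs, ?_⟩
      rw [h3, mul_div_cancel₀ _ hs0]
      exact a.2
    choose! u hup hu using h1
    let w : R := ∏ z ∈ h₀.finite.toFinset, u z
    have hwp : w ∉ p := by
      intro hw
      obtain ⟨z, hz, hzp⟩ := (Ideal.IsPrime.prod_mem_iff (hp := hp)).1 hw
      exact hup z (h₀.finite.mem_toFinset.1 hz) hzp
    have hw : ∀ z ∈ s₀, (w : K) / y * z ∈ R := by
      intro z hz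
      have h2 : w = (∏ z' ∈ h₀.finite.toFinset.erase z, u z') * u z :=
        (Finset.prod_erase_mul _ _ (h₀.finite.mem_toFinset.2 hz)).symm
      have h3 : (w : K) / y * z =
          ((∏ z' ∈ h₀.finite.toFinset.erase z, u z' : R) : K) * ((u z : K) * (z / y)) := by
        rw [h2]
        push_cast
        ring
      rw [h3]
      exact R.mul_mem (Subtype.prop _) (hu z hz)
    have h4 : (w : K) ∈ Submodule.span R (s₀ * t) := by
      have h5 := hmulJ y hy _ ((hspan _).1 hw)
      rwa [mul_div_cancel₀ _ hc.1] at h5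
    exact hwp (hJp ((hJ w).2 h4))
  have hrad : maximalIdeal R ≤ J.radical := by
    rw [Ideal.radical_eq_sInf]
    refine le_sInf fun p hp ↦ ?_
    rw [key p hp.2 hp.1]
  obtain ⟨N, hN⟩ := Ideal.exists_pow_le_of_le_radical_of_fg hrad (IsNoetherian.noetherian _)
  exact ⟨N, fun r hr ↦ (hJ r).1 (hN hr)⟩

/-- Every tuple `s₀` is refined by a tuple of nonzero elements of `R` whose span contains a power of
the maximal ideal. -/
theorem exists_primary_refinement (R : Subring K) [IsLocalRing R] [IsNoetherianRing R]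
    [IsIntegrallyClosed R] [IsFractionRing R K] (hd : ringKrullDim R ≤ 2) {s₀ : Set K}
    (h₀ : IsTuple s₀) :
    ∃ s : Set K, IsTuple s ∧ (∀ x ∈ s, x ≠ 0) ∧ (∀ x ∈ s, x ∈ R) ∧ Refines R s s₀ ∧
      ∃ N : ℕ, ∀ r : R, r ∈ maximalIdeal R ^ N → (r : K) ∈ Submodule.span R s := by
  obtain ⟨t, ht, htR, N, hN⟩ := exists_primary R hd h₀
  have hst := h₀.mul ht
  refine ⟨(s₀ * t) \ {0}, ⟨hst.finite.subset Set.sdiff_subset, ?_⟩, fun x hx ↦ hx.2,
    fun x hx ↦ htR x hx.1, ?_, N, fun r hr ↦ ?_⟩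
  · obtain ⟨x, hx, hx0⟩ := hst.exists_ne_zero
    exact ⟨x, ⟨hx, hx0⟩, hx0⟩
  · intro x hx hx0
    obtain ⟨y, hy, hy0, h⟩ := refines_mul_left R s₀ t x hx.1 hx0
    refine ⟨y, hy, hy0, fun z hz ↦ ?_⟩
    have h1 := h z hz
    have h2 : Defs.chartRing R (s₀ * t) x ≤ Defs.chartRing R ((s₀ * t) \ {0}) x := by
      rw [Defs.chartRing_le_iff]
      refine ⟨Defs.le_chartRing _ _ _, fun y hy ↦ ?_⟩
      by_cases hy0 : y = 0
      · rw [hy0, zero_div]; exact Subring.zero_mem _
      · exact Defs.div_mem_chartRing R x ⟨hy, hy0⟩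
    exact h2 h1
  · have := hN r hr
    rwa [Submodule.span_sdiff_singleton_zero] 

/-- Removing zero from a tuple does not change the chart rings. -/
theorem chartRing_diff_zero (R : Subring K) (s : Set K) (x : K) :
    Defs.chartRing R (s \ {0}) x = Defs.chartRing R s x := by
  apply le_antisymm
  · rw [Defs.chartRing_le_iff]
    exact ⟨Defs.le_chartRing _ _ _, fun y hy ↦ Defs.div_mem_chartRing R x hy.1⟩
  · rw [Defs.chartRing_le_iff]
    refine ⟨Defs.le_chartRing _ _ _, fun y hy ↦ ?_⟩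
    by_cases hy0 : y = 0
    · rw [hy0, zero_div]; exact Subring.zero_mem _
    · exact Defs.div_mem_chartRing R x ⟨hy, hy0⟩

/-- The two forms of "the span of `s` contains a power of `m`" agree. -/
theorem pow_le_span_iff (R : Subring K) {s : Set K} (hs : ∀ x ∈ s, x ∈ R) (m : Ideal R) (N : ℕ) :
    m ^ N ≤ Ideal.span ((↑) ⁻¹' s : Set R) ↔
      ∀ r : R, r ∈ m ^ N → (r : K) ∈ Submodule.span R s := by
  have h1 : Submodule.map (Algebra.linearMap R K) (Submodule.span R ((↑) ⁻¹' s : Set R)) =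
      Submodule.span R s := by
    rw [Submodule.map_span]
    congr 1
    ext x
    constructor
    · rintro ⟨r, hr, rfl⟩; exact hr
    · intro hx; exact ⟨⟨x, hs x hx⟩, hx, rfl⟩
  have h2 : ∀ r : R, r ∈ Ideal.span ((↑) ⁻¹' s : Set R) ↔ (r : K) ∈ Submodule.span R s := by
    intro r
    rw [← h1]
    constructor
    · intro h; exact ⟨r, h, rfl⟩
    · rintro ⟨r', hr', h⟩
      have : r' = r := Subtype.ext h
      rwa [← this]
  exact forall_congr' fun r ↦ imp_congr Iff.rfl (h2 r)

/-- `IC` follows from Mathlib's `IsIntegrallyClosed` if `K` is the fraction field. -/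
theorem ic_of_isIntegrallyClosed (R : Subring K) [IsIntegrallyClosed R] [IsFractionRing R K] :
    NormMod.IC R := by
  intro z hz
  obtain ⟨y, hy⟩ := IsIntegrallyClosed.isIntegral_iff.1 hz
  rw [← hy]
  exact y.2

/-- **Normal primary refinement**: every tuple `s₀` is refined by a tuple of nonzero elements of `R`
whose span contains a power of the maximal ideal and whose chart rings are integrally closed. -/
theorem exists_normal_primary_refinement (R : Subring K) [IsLocalRing R] [IsNoetherianRing R]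
    [IsIntegrallyClosed R] [IsFractionRing R K] (hd : ringKrullDim R ≤ 2) (hR : FinNorm R)
    {s₀ : Set K} (h₀ : IsTuple s₀) :
    ∃ s : Set K, IsTuple s ∧ (∀ x ∈ s, x ≠ 0) ∧ (∀ x ∈ s, x ∈ R) ∧ Refines R s s₀ ∧
      (∀ x ∈ s, NormMod.IC (Defs.chartRing R s x)) ∧
      ∃ N : ℕ, ∀ r : R, r ∈ maximalIdeal R ^ N → (r : K) ∈ Submodule.span R s := by
  obtain ⟨s₁, hs₁, -, hs₁R, href₁, N₁, hN₁⟩ := exists_primary_refinement R hd h₀
  obtain ⟨T, hT, hTR, href, hic, N, hN⟩ := NormMod.exists_normal_refinement_ideal R hR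
    (ic_of_isIntegrallyClosed R) hs₁ hs₁R (maximalIdeal R)
    ⟨N₁, (pow_le_span_iff R hs₁R _ _).2 hN₁⟩
  have hsub : ∀ x ∈ T \ {0}, x ∈ R := fun x hx ↦ hTR hx.1
  refine ⟨T \ {0}, ⟨hT.finite.subset Set.sdiff_subset, ?_⟩, fun x hx ↦ hx.2, hsub, ?_, ?_, N, ?_⟩
  · obtain ⟨x, hx, hx0⟩ := hT.exists_ne_zero
    exact ⟨x, ⟨hx, hx0⟩, hx0⟩
  · intro x hx hx0
    obtain ⟨y, hy, hy0, h⟩ := (href.trans href₁) x hx.1 hx0
    refine ⟨y, hy, hy0, fun z hz ↦ ?_⟩
    rw [chartRing_diff_zero]
    exact h z hz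
  · intro x hx
    rw [chartRing_diff_zero]
    exact hic x hx.1 hx.2
  · intro r hr
    have := (pow_le_span_iff R hTR _ _).1 hN r hr
    rwa [Submodule.span_sdiff_singleton_zero]

end Groth.Agent.Lipman.MPrim
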