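import Groth.Agent.Lipman.Pts
import Groth.Agent.Ega1.ReducedSub

/-!
Grauert-Riemenschneider type vanishing for modifications of normal local domains of dimension at least two,
in cohomology-free form.

Let `A` be a Noetherian normal local domain of dimension at least two, `f : X ⟶ Spec A` proper, `X` integral and
normal, `f` an isomorphism over a nonempty open. Let `V i` be open subsets of `X` covering the closed fibre, and
let `s i` be rational functions, regular at the points of `V i` outside the closed fibre, and with `s i - s j`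
regular on `V i ∩ V j`. Then each `s i` is regular on `V i`.
-/

set_option autoImplicit false

universe u

open CategoryTheory AlgebraicGeometry TopologicalSpace IsLocalRing

namespace Groth.Agent.Lipman.GR

open Groth.Agent.Lipman.Loc Groth.Agent.Lipman.OrdLoc Groth.Agent.Lipman.Pts
  Groth.Agent.Ega4dB.CDivNormal

section Glue

theorem one_not_isVan {X : Scheme.{u}} [IsIntegral X] (x : X) : ¬ IsVan (1 : X.functionField) x := by
  intro h
  rw [isVan_iff] at h
  exact h.2 one_ne_zero (by rw [inv_one]; exact (loc x).one_mem)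

/-- If `s - t` is regular at `y` and `s` is not, then `t` has the same order as `s`. -/
theorem ord_eq_of_sub_mem {X : Scheme.{u}} [IsIntegral X] [IsLocallyNoetherian X] (y : X)
    [IsDiscreteValuationRing (X.presheaf.stalk y)] {s t : X.functionField} (hst : s - t ∈ loc y)
    (hs : s ∉ loc y) : t ≠ 0 ∧ Scheme.ord t y = Scheme.ord s y := by
  have hs0 : s ≠ 0 := by
    rintro rfl
    exact hs (loc y).zero_mem
  have h1 : Scheme.ord s y < 0 := ord_neg_of_not_mem_range y s hs0 hs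
  have h2 : IsVan s⁻¹ y := by
    rw [isVan_iff_ord y (inv_ne_zero hs0), ord_inv hs0]
    omega
  have h3 : IsVan ((s - t) * s⁻¹) y := h2.mul_left hst
  have h4 : (s - t) * s⁻¹ = 1 - t * s⁻¹ := by
    rw [sub_mul, mul_inv_cancel₀ hs0]
  rw [h4] at h3
  have h5 : ¬ IsVan (t * s⁻¹) y := by
    intro h6
    have := h3.add h6
    rw [sub_add_cancel] at this
    exact one_not_isVan y this
  have h6 : t * s⁻¹ ≠ 0 := by
    intro h
    rw [h] at h5
    exact h5 (isVan_zero y)
  have ht0 : t ≠ 0 := left_ne_zero_of_mul h6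
  have h7 : t * s⁻¹ ∈ loc y := by
    have : t * s⁻¹ = 1 - (1 - t * s⁻¹) := by ring
    rw [this]
    exact (loc y).sub_mem (loc y).one_mem h3.mem_loc
  refine ⟨ht0, ?_⟩
  rw [isVan_iff_ord y h6] at h5
  rw [mem_loc_iff_ord y h6] at h7
  rw [Scheme.ord_mul ht0 (inv_ne_zero hs0), ord_inv hs0] at h5 h7
  omega

/-- Glueing the restrictions to a reduced scheme of functions which differ by vanishing functions. -/
theorem exists_glue {E X : Scheme.{u}} [IsReduced E] [IsIntegral X] (j : E ⟶ X) (W : E → X.Opens)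
    (hW : ∀ e, j e ∈ W e) (F : E → X.functionField) (hF : ∀ e, ∀ x ∈ W e, F e ∈ loc x)
    (hFF : ∀ e e' z, j z ∈ W e → j z ∈ W e' → IsVan (F e - F e') (j z)) :
    ∃ t : Γ(E, ⊤), ∀ e z, j z ∈ W e → (z ∈ E.basicOpen t ↔ ¬ IsVan (F e) (j z)) := by
  have hne : ∀ e, Nonempty (W e) := fun e => ⟨⟨_, hW e⟩⟩
  have hS : ∀ e, ∃ S : Γ(X, W e), X.germToFunctionField (W e) S = F e := fun e =>
    exists_section (W e) (F e) (hF e)
  choose S hS using hS
  let tt : ∀ e, Γ(E, j ⁻¹ᵁ W e) := fun e => j.app (W e) (S e)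
  obtain ⟨t, ht, -⟩ := E.sheaf.existsUnique_gluing' (fun e => j ⁻¹ᵁ W e) ⊤ (fun e => homOfLE le_top)
    (fun e _ => Opens.mem_iSup.mpr ⟨e, hW e⟩) tt (by
      intro e e'
      change E.presheaf.map (Opens.infLELeft _ _).op (tt e) = E.presheaf.map (Opens.infLERight _ _).op (tt e')
      rw [← sub_eq_zero, ← basicOpen_eq_bot_iff, eq_bot_iff]
      intro z hz
      have hzO : z ∈ j ⁻¹ᵁ W e ⊓ j ⁻¹ᵁ W e' := E.basicOpen_le _ hz
      have hz1 : j z ∈ W e := hzO.1
      have hz2 : j z ∈ W e' := hzO.2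
      rw [Scheme.mem_basicOpen E _ z hzO, map_sub] at hz
      have e1 : E.presheaf.germ _ z hzO (E.presheaf.map (Opens.infLELeft _ _).op (tt e)) =
          (j.stalkMap z) (X.presheaf.germ (W e) (j z) hz1 (S e)) :=
        (E.presheaf.germ_res_apply _ _ _ _).trans (Scheme.Hom.germ_stalkMap_apply j (W e) z hz1 (S e)).symm
      have e2 : E.presheaf.germ _ z hzO (E.presheaf.map (Opens.infLERight _ _).op (tt e')) =
          (j.stalkMap z) (X.presheaf.germ (W e') (j z) hz2 (S e')) :=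
        (E.presheaf.germ_res_apply _ _ _ _).trans (Scheme.Hom.germ_stalkMap_apply j (W e') z hz2 (S e')).symm
      rw [e1, e2, ← map_sub] at hz
      have h3 := (isUnit_map_iff (j.stalkMap z).hom _).mp hz
      obtain ⟨a, ha, haF⟩ := hFF e e' z hz1 hz2
      have h4 : a = X.presheaf.germ (W e) (j z) hz1 (S e) - X.presheaf.germ (W e') (j z) hz2 (S e') := by
        apply inj (j z)
        rw [haF, map_sub, Scheme.algebraMap_germ_eq_germToFunctionField,
          Scheme.algebraMap_germ_eq_germToFunctionField, hS, hS]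
      rw [← h4] at h3
      exact (mem_maximalIdeal _).mp ha h3)
  refine ⟨t, ?_⟩
  intro e z hz
  rw [← hS e, isVan_germToFunctionField_iff _ hz, not_not]
  have h1 : E.presheaf.map (homOfLE (le_top : j ⁻¹ᵁ W e ≤ ⊤)).op t = j.app (W e) (S e) := ht e
  have h2 : z ∈ j ⁻¹ᵁ W e := hz
  have h3 : z ∈ E.basicOpen t ↔ z ∈ E.basicOpen (E.presheaf.map (homOfLE (le_top : j ⁻¹ᵁ W e ≤ ⊤)).op t) := by
    rw [Scheme.basicOpen_res]
    exact ⟨fun h => ⟨h2, h⟩, fun h => h.2⟩
  rw [h3, h1, ← Scheme.preimage_basicOpen]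
  rfl

end Glue

section Main

variable {A : Type u} [CommRing A] [IsDomain A] [IsLocalRing A] [IsNoetherianRing A] [IsIntegrallyClosed A]
  {X : Scheme.{u}} [IsIntegral X] (f : X ⟶ Spec (CommRingCat.of A)) [IsProper f]
  (U : (Spec (CommRingCat.of A)).Opens) [IsIso (f ∣_ U)]

/-- The pole function: at a point `y` with discrete valuation local ring, the common pole order of the `s i` with
`y ∈ V i`. -/
theorem exists_pole {X : Scheme.{u}} [IsIntegral X] [IsLocallyNoetherian X] {ι : Type*} (V : ι → X.Opens)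
    (s : ι → X.functionField) (hss : ∀ i j, ∀ x ∈ V i, x ∈ V j → s i - s j ∈ loc x) (y : X)
    [IsDiscreteValuationRing (X.presheaf.stalk y)] :
    ∃ n : ℕ, (∀ j, y ∈ V j → s j = 0 ∨ -(n : ℤ) ≤ Scheme.ord (s j) y) ∧
      (∀ j, y ∈ V j → 0 < n → s j ≠ 0 ∧ Scheme.ord (s j) y = -(n : ℤ)) ∧
      (∀ j, y ∈ V j → s j ∉ loc y → 0 < n) := by
  by_cases h : ∃ i, y ∈ V i ∧ s i ∉ loc y
  · obtain ⟨i, hi, hsi⟩ := h
    have hs0 : s i ≠ 0 := by
      intro h0
      rw [h0] at hsi
      exact hsi (loc y).zero_mem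
    have h1 : Scheme.ord (s i) y < 0 := ord_neg_of_not_mem_range y (s i) hs0 hsi
    have h2 : ∀ j, y ∈ V j → s j ≠ 0 ∧ Scheme.ord (s j) y = Scheme.ord (s i) y := fun j hj =>
      ord_eq_of_sub_mem y (hss i j y hi hj) hsi
    refine ⟨(-Scheme.ord (s i) y).toNat, ?_, ?_, ?_⟩
    · intro j hj
      right
      rw [(h2 j hj).2]
      omega
    · intro j hj _
      refine ⟨(h2 j hj).1, ?_⟩
      rw [(h2 j hj).2]
      omega
    · intro j hj _
      omega
  · push Not at h
    refine ⟨0, ?_, ?_, ?_⟩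
    · intro j hj
      by_cases h0 : s j = 0
      · exact Or.inl h0
      · right
        have := (mem_loc_iff_ord y h0).mp (h j hj)
        simpa using this
    · intro j hj h0
      exact absurd h0 (lt_irrefl _)
    · intro j hj h1
      exact absurd (h j hj) h1

theorem closedPoint_of_specializes {y x : X} (hyx : y ⤳ x) (hy : f y = closedPoint A) : f x = closedPoint A := by
  have h1 : f y ⤳ f x := hyx.map f.continuous
  rw [hy] at h1
  have h2 : IsClosed ({closedPoint A} : Set (PrimeSpectrum A)) :=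
    (PrimeSpectrum.isClosed_singleton_iff_isMaximal (closedPoint A)).mpr (maximalIdeal.isMaximal A)
  exact h1.mem_closed h2 rfl

/-- **Grauert-Riemenschneider vanishing** in cohomology-free form. -/
theorem gr (hd : 1 < ringKrullDim A) (hX : ∀ x : X, IsIntegrallyClosed (X.presheaf.stalk x))
    (hU : (U : Set (Spec (CommRingCat.of A))).Nonempty)
    {ι : Type*} (V : ι → X.Opens) (hV : ∀ x, f x = closedPoint A → ∃ i, x ∈ V i)
    (s : ι → X.functionField)
    (hs : ∀ i, ∀ x ∈ V i, f x ≠ closedPoint A → s i ∈ loc x)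
    (hss : ∀ i j, ∀ x ∈ V i, x ∈ V j → s i - s j ∈ loc x) :
    ∀ i, ∀ x ∈ V i, s i ∈ loc x := by
  have hN : IsLocallyNoetherian X := LocallyOfFiniteType.isLocallyNoetherian f
  have hA : maximalIdeal A ≠ ⊥ := by
    intro h
    have h1 : IsField A := by
      by_contra h2
      exact (Ring.ne_bot_of_isMaximal_of_not_isField (maximalIdeal.isMaximal A) h2) h
    rw [ringKrullDim_eq_zero_of_isField h1] at hd
    exact absurd hd (by decide)
  by_contra! hcon
  obtain ⟨i0, x0, hx0, hnot⟩ := hcon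
  have gen : ∀ {i x y}, x ∈ V i → y ⤳ x → y ∈ V i := fun hx hyx => hyx.mem_open (V _).2 hx
  -- the codimension one points in the closed fibre
  let N : Set X := {y | f y = closedPoint A ∧ IsDiscreteValuationRing (X.presheaf.stalk y)}
  have hN1 : ∀ y ∈ N, Order.coheight y = 1 := by
    rintro y ⟨-, hy⟩
    exact coheight_eq_one y
  have hNfin : N.Finite := (finite_codimOne f U hU hA).subset fun y hy => ⟨hy.1, hN1 y hy⟩
  -- pole points
  have pole : ∀ i x, x ∈ V i → s i ∉ loc x → ∃ y ∈ N, y ⤳ x ∧ y ∈ V i ∧ s i ∉ loc y := by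
    intro i x hx hsx
    have h0 : s i ≠ 0 := by
      intro h0
      rw [h0] at hsx
      exact hsx (loc x).zero_mem
    obtain ⟨y, hyx, hdvr, -, hord⟩ := exists_ord_neg hX x (s i) h0 hsx
    have hyV : y ∈ V i := gen hx hyx
    have hy : s i ∉ loc y := by
      rw [mem_loc_iff_ord y h0]
      omega
    refine ⟨y, ⟨?_, hdvr⟩, hyx, hyV, hy⟩
    by_contra h1
    exact hy (hs i y hyV h1)
  obtain ⟨y1, hy1N, -, hy1V, hy1s⟩ := pole i0 x0 hx0 hnot
  -- the function `h`
  have hcp : ∀ y : N, ∃ (x ζ : X) (h : A), y.1 ⤳ x ∧ f x = closedPoint A ∧ ζ ⤳ x ∧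
      f ζ ≠ closedPoint A ∧ h ≠ 0 ∧ h ∈ (f ζ).asIdeal := fun y =>
    exists_curve_point f U hd hU y.2.1 (hN1 y.1 y.2)
  choose px pζ ph hpx hpxm hpζ hpζm hph0 hph using hcp
  have : Fintype N := hNfin.fintype
  let h : A := ∏ y : N, ph y
  have hh0 : h ≠ 0 := Finset.prod_ne_zero_iff.mpr fun y _ => hph0 y
  have hhζ : ∀ y : N, h ∈ (f (pζ y)).asIdeal := fun y =>
    Ideal.mem_of_dvd _ (Finset.dvd_prod_of_mem ph (Finset.mem_univ y)) (hph y)
  have hhm : h ∈ maximalIdeal A :=
    le_maximalIdeal (f (pζ ⟨y1, hy1N⟩)).isPrime.ne_top (hhζ ⟨y1, hy1N⟩)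
  let H : X.functionField := ratOf f h
  have hH0 : H ≠ 0 := by
    intro h1
    have h2 : IsVan (ratOf f h) (genericPoint X) := by
      rw [show ratOf f h = 0 from h1]
      exact isVan_zero _
    rw [isVan_ratOf_iff, (asIdeal_eq_bot_iff f U hU _).mpr rfl] at h2
    exact hh0 h2
  have hHE : ∀ x, f x = closedPoint A → IsVan H x := by
    intro x hx
    rw [isVan_ratOf_iff, hx]
    exact hhm
  have hHl : ∀ x, H ∈ loc x := fun x => ratOf_mem_loc f h x
  have hHord : ∀ y : N, 0 < Scheme.ord H y.1 := by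
    rintro ⟨y, hy, hdvr⟩
    exact (isVan_iff_ord y hH0).mp (hHE y hy)
  -- the pole orders
  have hpole : ∀ y : N, ∃ n : ℕ, (∀ j, y.1 ∈ V j → s j = 0 ∨ -(n : ℤ) ≤ Scheme.ord (s j) y.1) ∧
      (∀ j, y.1 ∈ V j → 0 < n → s j ≠ 0 ∧ Scheme.ord (s j) y.1 = -(n : ℤ)) ∧
      (∀ j, y.1 ∈ V j → s j ∉ loc y.1 → 0 < n) := by
    rintro ⟨y, hy, hdvr⟩
    exact exists_pole V s hss y
  choose n hn1 hn2 hn3 using hpole
  obtain ⟨y0, -, hmax⟩ := Finset.exists_max_image (Finset.univ : Finset N)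
    (fun y => (n y : ℚ) / (Scheme.ord H y.1 : ℚ)) ⟨⟨y1, hy1N⟩, Finset.mem_univ _⟩
  have hmax : ∀ y : N, (n y : ℤ) * Scheme.ord H y0.1 ≤ n y0 * Scheme.ord H y.1 := by
    intro y
    have h1 := hmax y (Finset.mem_univ _)
    have h2 : (0 : ℚ) < (Scheme.ord H y.1 : ℚ) := by exact_mod_cast hHord y
    have h3 : (0 : ℚ) < (Scheme.ord H y0.1 : ℚ) := by exact_mod_cast hHord y0
    rw [div_le_div_iff₀ h2 h3] at h1
    exact_mod_cast h1
  have ha : 0 < n y0 := by
    have h1 := hmax ⟨y1, hy1N⟩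
    have h2 := hn3 ⟨y1, hy1N⟩ i0 hy1V hy1s
    have h3 := hHord y0
    have h4 := hHord ⟨y1, hy1N⟩
    by_contra h5
    have h6 : n y0 = 0 := by omega
    rw [h6] at h1
    have h7 : (0 : ℤ) < n ⟨y1, hy1N⟩ := by exact_mod_cast h2
    have h8 := mul_pos h7 h3
    push_cast at h1
    rw [zero_mul] at h1
    omega
  obtain ⟨b, hb⟩ : ∃ b : ℕ, (b : ℤ) = Scheme.ord H y0.1 := ⟨(Scheme.ord H y0.1).toNat,
    Int.toNat_of_nonneg (hHord y0).le⟩
  have hb0 : 0 < b := by
    have := hHord y0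
    omega
  set a := n y0 with ha_def
  let F : ι → X.functionField := fun i => s i ^ b * H ^ a
  have hFl : ∀ i, ∀ x ∈ V i, F i ∈ loc x := by
    intro i x hx
    by_contra h1
    have h0 : F i ≠ 0 := by
      intro h0
      rw [h0] at h1
      exact h1 (loc x).zero_mem
    have hs0 : s i ≠ 0 := by
      intro h2
      apply h0
      change s i ^ b * H ^ a = 0
      rw [h2, zero_pow hb0.ne', zero_mul]
    obtain ⟨y, hyx, hdvr, -, hord⟩ := exists_ord_neg hX x (F i) h0 h1
    have hyV : y ∈ V i := gen hx hyx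
    by_cases hy : f y = closedPoint A
    · have h2 := (hn1 ⟨y, hy, hdvr⟩ i hyV).resolve_left hs0
      have h3 := hmax ⟨y, hy, hdvr⟩
      rw [show F i = s i ^ b * H ^ a from rfl,
        Scheme.ord_mul (pow_ne_zero _ hs0) (pow_ne_zero _ hH0), ord_pow hs0, ord_pow hH0] at hord
      rw [← hb] at h3
      nlinarith
    · have h2 : F i ∈ loc y := (loc y).mul_mem ((loc y).pow_mem (hs i y hyV hy) _) ((loc y).pow_mem (hHl y) _)
      rw [mem_loc_iff_ord y h0] at h2
      omega
  have hFF : ∀ i j x, x ∈ V i → x ∈ V j → f x = closedPoint A → IsVan (F i - F j) x := by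
    intro i j x hxi hxj hx
    by_cases hsi : s i ∈ loc x
    · have hsj : s j ∈ loc x := by
        have : s j = s i - (s i - s j) := by ring
        rw [this]
        exact (loc x).sub_mem hsi (hss i j x hxi hxj)
      have hHa : IsVan (H ^ a) x := (hHE x hx).pow ha.ne'
      exact (hHa.mul_left ((loc x).pow_mem hsi _)).sub (hHa.mul_left ((loc x).pow_mem hsj _))
    · obtain ⟨y, hyN, hyx, hyV, hy⟩ := pole i x hxi hsi
      have hyVj : y ∈ V j := gen hxj hyx
      have := hyN.2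
      refine IsVan.of_specializes hyx ((loc x).sub_mem (hFl i x hxi) (hFl j x hxj)) ?_
      refine isVan_sub_of_pole y (hss i j y hyV hyVj) hH0 (hn1 ⟨y, hyN⟩ i hyV) (hn1 ⟨y, hyN⟩ j hyVj)
        (hn3 ⟨y, hyN⟩ i hyV hy) ?_
      have h3 := hmax ⟨y, hyN⟩
      rw [← hb] at h3
      exact h3
  -- the reduced closed fibre
  have hcl : IsClosed (f ⁻¹' {closedPoint A} : Set X) :=
    ((PrimeSpectrum.isClosed_singleton_iff_isMaximal (closedPoint A)).mpr
      (maximalIdeal.isMaximal A)).preimage f.continuous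
  let Z : Closeds X := ⟨f ⁻¹' {closedPoint A}, hcl⟩
  let E := (Scheme.IdealSheafData.vanishingIdeal Z).subscheme
  let j : E ⟶ X := (Scheme.IdealSheafData.vanishingIdeal Z).subschemeι
  have hE : IsReduced E := Groth.Agent.Ega1.ReducedSub.isReduced_subscheme_vanishingIdeal Z
  have hrange : Set.range j = f ⁻¹' {closedPoint A} := by
    have h1 := Scheme.IdealSheafData.range_subschemeι (Scheme.IdealSheafData.vanishingIdeal Z)
    rw [Scheme.IdealSheafData.coe_support_vanishingIdeal] at h1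
    exact h1
  have hjE : ∀ e, f (j e) = closedPoint A := by
    intro e
    have : j e ∈ Set.range j := ⟨e, rfl⟩
    rw [hrange] at this
    exact this
  have hlift : ∀ x, f x = closedPoint A → ∃ e, j e = x := by
    intro x hx
    have : x ∈ Set.range j := by
      rw [hrange]
      exact hx
    exact this
  have hVe : ∀ e, ∃ i, j e ∈ V i := fun e => hV _ (hjE e)
  choose ie hie using hVe
  obtain ⟨t, ht⟩ := exists_glue j (fun e => V (ie e)) hie (fun e => F (ie e)) (fun e => hFl (ie e))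
    (fun e e' z hz hz' => hFF _ _ _ hz hz' (hjE z))
  have hclo : IsClosed (E.basicOpen t : Set E) :=
    Groth.Agent.Lipman.ClopenSec.isClosed_basicOpen (j ≫ f) hjE t
  obtain ⟨e0, he0⟩ := hlift y0.1 y0.2.1
  obtain ⟨e1, he1⟩ := hlift (px y0) (hpxm y0)
  have hspec : e0 ⤳ e1 := by
    rw [← j.isEmbedding.isInducing.specializes_iff, he0, he1]
    exact hpx y0
  have h0 : e0 ∈ E.basicOpen t := by
    rw [ht e0 e0 (hie e0), he0]
    have hV0 : y0.1 ∈ V (ie e0) := he0 ▸ hie e0
    have := y0.2.2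
    obtain ⟨h1, h2⟩ := hn2 y0 (ie e0) hV0 ha
    rw [isVan_iff_ord y0.1 (mul_ne_zero (pow_ne_zero _ h1) (pow_ne_zero _ hH0)),
      Scheme.ord_mul (pow_ne_zero _ h1) (pow_ne_zero _ hH0), ord_pow h1, ord_pow hH0, h2, ← hb]
    intro h3
    rw [← ha_def] at h3
    have h4 : (b : ℤ) * (-(a : ℤ)) + a * b = 0 := by ring
    omega
  have h1 : e1 ∈ E.basicOpen t := hspec.mem_closed hclo h0
  rw [ht e1 e1 (hie e1), he1] at h1
  apply h1
  have hV1 : px y0 ∈ V (ie e1) := he1 ▸ hie e1
  refine IsVan.of_specializes (hpζ y0) (hFl _ _ hV1) ?_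
  have hζV : pζ y0 ∈ V (ie e1) := gen hV1 (hpζ y0)
  have hHζ : IsVan H (pζ y0) := (isVan_ratOf_iff f h _).mpr (hhζ y0)
  exact (hHζ.pow ha.ne').mul_left ((loc _).pow_mem (hs _ _ hζV (hpζm y0)) _)

end Main

end Groth.Agent.Lipman.GR
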