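import Groth.Agent.Lipman.Defs
import Mathlib.RingTheory.FiniteType
import Mathlib.RingTheory.Localization.AtPrime.Basic

/-!
# Gluing local resolutions (block B7)

`RES R`: some blow-up of `R` in an ideal primary to the maximal ideal has regular local rings.
`glue`: if a blow-up of `R` has only finitely many bad points, closed, each with `RES`, and all other points
are regular, then `RES R`.
-/

set_option autoImplicit false
universe u

open IsLocalRing
open scoped Pointwise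

namespace Groth.Agent.Lipman.Glue

open Groth.Agent.Lipman.Defs

variable {K : Type u} [Field K]

/-! ### spans -/

/-- The `B`-submodule of `K` generated by `d`. -/
abbrev Sp (B : Subring K) (d : Set K) : Submodule B K := Submodule.span B d

lemma Sp_mul_mem {B : Subring K} {d : Set K} {b z : K} (hb : b ∈ B) (hz : z ∈ Sp B d) :
    b * z ∈ Sp B d := (Sp B d).smul_mem ⟨b, hb⟩ hz

lemma Sp_mul_mem' {B : Subring K} {d : Set K} {b z : K} (hb : b ∈ B) (hz : z ∈ Sp B d) :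
    z * b ∈ Sp B d := mul_comm b z ▸ Sp_mul_mem hb hz

lemma subset_Sp {B : Subring K} {d : Set K} {z : K} (hz : z ∈ d) : z ∈ Sp B d :=
  Submodule.subset_span hz

/-- Induction for spans. -/
lemma Sp_induction {B : Subring K} {d : Set K} {p : K → Prop} (h : ∀ z ∈ d, p z) (h0 : p 0)
    (hadd : ∀ z w, p z → p w → p (z + w)) (hmul : ∀ b ∈ B, ∀ z, p z → p (b * z)) {z : K}
    (hz : z ∈ Sp B d) : p z := by
  induction hz using Submodule.span_induction with
  | mem z hz => exact h z hz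
  | zero => exact h0
  | add z w _ _ hz hw => exact hadd z w hz hw
  | smul b z _ hz => exact hmul b b.2 z hz

lemma Sp_mono {B B' : Subring K} (h : B ≤ B') {d d' : Set K} (hd : ∀ z ∈ d, z ∈ Sp B' d') {z : K}
    (hz : z ∈ Sp B d) : z ∈ Sp B' d' :=
  Sp_induction hd (Submodule.zero_mem _) (fun _ _ ↦ Submodule.add_mem _)
    (fun _ hb _ hz ↦ Sp_mul_mem (h hb) hz) hz

lemma Sp_le {B B' : Subring K} (h : B ≤ B') {d : Set K} (hd : ∀ z ∈ d, z ∈ B') {z : K}
    (hz : z ∈ Sp B d) : z ∈ B' :=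
  Sp_induction hd B'.zero_mem (fun _ _ ↦ B'.add_mem) (fun _ hb _ hz ↦ B'.mul_mem (h hb) hz) hz

lemma Sp_mul {B : Subring K} {d d' : Set K} {z w : K} (hz : z ∈ Sp B d) (hw : w ∈ Sp B d') :
    z * w ∈ Sp B (d * d') := by
  refine Sp_induction (p := fun z ↦ z * w ∈ Sp B (d * d')) (fun z hz ↦ ?_) (by simp)
    (fun z z' h h' ↦ by rw [add_mul]; exact Submodule.add_mem _ h h')
    (fun b hb z h ↦ by rw [mul_assoc]; exact Sp_mul_mem hb h) hz
  refine Sp_induction (p := fun w ↦ z * w ∈ Sp B (d * d'))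
    (fun w hw ↦ subset_Sp (Set.mul_mem_mul hz hw)) (by simp)
    (fun z z' h h' ↦ by rw [mul_add]; exact Submodule.add_mem _ h h')
    (fun b hb z' h ↦ by rw [mul_left_comm]; exact Sp_mul_mem hb h) hw

/-! ### local subrings -/

lemma isUnit_iff {A : Subring K} {z : K} (hz : z ∈ A) : IsUnit (⟨z, hz⟩ : A) ↔ z ≠ 0 ∧ z⁻¹ ∈ A := by
  constructor
  · rintro ⟨w, hw⟩
    have h1 : (w : A).1 * (w⁻¹ : Aˣ).1.1 = 1 := congrArg Subtype.val w.mul_inv
    have h2 : (w : A).1 = z := congrArg Subtype.val hw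
    rw [h2] at h1
    have hz0 : z ≠ 0 := left_ne_zero_of_mul_eq_one h1
    refine ⟨hz0, ?_⟩
    rw [← eq_inv_of_mul_eq_one_right h1]
    exact (w⁻¹ : Aˣ).1.2
  · rintro ⟨h0, h1⟩
    exact IsUnit.of_mul_eq_one ⟨z⁻¹, h1⟩ (Subtype.ext (mul_inv_cancel₀ h0))

lemma mem_mSet_iff {A : Subring K} {z : K} : z ∈ mSet A ↔ ∃ hz : z ∈ A, ¬ IsUnit (⟨z, hz⟩ : A) := by
  constructor
  · rintro ⟨hz, h⟩
    refine ⟨hz, fun hu ↦ ?_⟩
    rw [isUnit_iff hz] at hu
    exact h.elim hu.1 fun h ↦ h hu.2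
  · rintro ⟨hz, h⟩
    rw [isUnit_iff hz] at h
    refine ⟨hz, ?_⟩
    by_contra hc
    push Not at hc
    exact h hc

lemma mem_mSet_iff_mem_maximalIdeal {A : Subring K} [IsLocalRing A] {z : K} :
    z ∈ mSet A ↔ ∃ hz : z ∈ A, (⟨z, hz⟩ : A) ∈ maximalIdeal A := mem_mSet_iff

lemma mSet_add {A : Subring K} (hA : IsLocalRing A) {z w : K} (hz : z ∈ mSet A) (hw : w ∈ mSet A) :
    z + w ∈ mSet A := by
  rw [mem_mSet_iff_mem_maximalIdeal] at *
  obtain ⟨hz, hz'⟩ := hz
  obtain ⟨hw, hw'⟩ := hw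
  exact ⟨A.add_mem hz hw, Ideal.add_mem _ hz' hw'⟩

lemma mSet_mul {A : Subring K} (hA : IsLocalRing A) {z w : K} (hz : z ∈ A) (hw : w ∈ mSet A) :
    z * w ∈ mSet A := by
  rw [mem_mSet_iff_mem_maximalIdeal] at *
  obtain ⟨hw, hw'⟩ := hw
  exact ⟨A.mul_mem hz hw, Ideal.mul_mem_left _ (⟨z, hz⟩ : A) hw'⟩

lemma zero_mem_mSet (A : Subring K) : (0 : K) ∈ mSet A := ⟨A.zero_mem, Or.inl rfl⟩

lemma one_notMem_mSet (A : Subring K) : (1 : K) ∉ mSet A := by
  rintro ⟨-, h | h⟩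
  · exact one_ne_zero h
  · exact h (by simp)

/-- A unit of `A` (in the set-theoretic sense). -/
def IsU (A : Subring K) (t : K) : Prop := t ∈ A ∧ t ≠ 0 ∧ t⁻¹ ∈ A

lemma IsU.mem {A : Subring K} {t : K} (h : IsU A t) : t ∈ A := h.1
lemma IsU.ne_zero {A : Subring K} {t : K} (h : IsU A t) : t ≠ 0 := h.2.1
lemma IsU.inv_mem {A : Subring K} {t : K} (h : IsU A t) : t⁻¹ ∈ A := h.2.2
lemma IsU.mul {A : Subring K} {t u : K} (h : IsU A t) (h' : IsU A u) : IsU A (t * u) :=
  ⟨A.mul_mem h.1 h'.1, mul_ne_zero h.2.1 h'.2.1, by rw [mul_inv]; exact A.mul_mem h.2.2 h'.2.2⟩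
lemma IsU.pow {A : Subring K} {t : K} (h : IsU A t) (n : ℕ) : IsU A (t ^ n) :=
  ⟨A.pow_mem h.1 n, pow_ne_zero n h.2.1, by rw [← inv_pow]; exact A.pow_mem h.2.2 n⟩
lemma IsU.inv {A : Subring K} {t : K} (h : IsU A t) : IsU A t⁻¹ :=
  ⟨h.2.2, inv_ne_zero h.2.1, by rw [inv_inv]; exact h.1⟩
lemma IsU.one (A : Subring K) : IsU A 1 := ⟨A.one_mem, one_ne_zero, by rw [inv_one]; exact A.one_mem⟩

lemma isU_or_mem_mSet {A : Subring K} {t : K} (h : t ∈ A) : IsU A t ∨ t ∈ mSet A := by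
  by_cases h1 : t ∈ mSet A
  · exact Or.inr h1
  · refine Or.inl ⟨h, ?_⟩
    by_contra hc
    exact h1 ⟨h, by tauto⟩

lemma IsU.notMem {A : Subring K} {t : K} (h : IsU A t) : t ∉ mSet A := fun h' ↦
  h'.2.elim h.2.1 fun h2 ↦ h2 h.2.2

/-- In a local ring, if a sum is a unit then one of the summands is. -/
lemma exists_isU_of_sum {A : Subring K} (hA : IsLocalRing A) {d : Set K} (hd : ∀ z ∈ d, z ∈ A)
    {B : Subring K} (hB : B ≤ A) {z : K} (hz : z ∈ Sp B d) (hu : IsU A z) : ∃ w ∈ d, IsU A w := by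
  by_contra hc
  push Not at hc
  have h1 : ∀ w ∈ d, w ∈ mSet A := fun w hw ↦ (isU_or_mem_mSet (hd w hw)).resolve_left (hc w hw)
  have h2 : z ∈ mSet A := Sp_induction h1 (zero_mem_mSet A) (fun _ _ ↦ mSet_add hA)
    (fun b hb _ h ↦ mSet_mul hA (hB hb) h) hz
  exact hu.notMem h2

/-! ### localizations -/

lemma LocOf.frac' {B A : Subring K} (h : LocOf B A) {z : K} (hz : z ∈ A) :
    ∃ t ∈ B, IsU A t ∧ z * t ∈ B := by
  obtain ⟨t, ht, h0, h1, h2⟩ := h.frac z hz
  exact ⟨t, ht, ⟨h.le ht, h0, h1⟩, h2⟩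

lemma LocOf.trans {B A A' : Subring K} (h : LocOf B A) (h' : LocOf A A') : LocOf B A' where
  le := h.le.trans h'.le
  isLocalRing := h'.isLocalRing
  frac z hz := by
    obtain ⟨t, ht, ht', h1⟩ := LocOf.frac' h' hz
    obtain ⟨v, hv, hv', h2⟩ := LocOf.frac' h ht
    obtain ⟨w, hw, hw', h3⟩ := LocOf.frac' h h1
    refine ⟨t * v * w, B.mul_mem h2 hw, ?_, ?_, ?_⟩
    · exact mul_ne_zero (mul_ne_zero ht'.ne_zero hv'.ne_zero) hw'.ne_zero
    · rw [mul_inv, mul_inv]
      exact A'.mul_mem (A'.mul_mem ht'.inv_mem (h'.le hv'.inv_mem)) (h'.le hw'.inv_mem)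
    · have : z * (t * v * w) = z * t * w * v := by ring
      rw [this]
      exact B.mul_mem h3 hv

/-- The localization of `C` at the centre of `A`. -/
def locSub (C A : Subring K) (h : C ≤ A) : Subring K where
  carrier := {z | ∃ t ∈ C, IsU A t ∧ z * t ∈ C}
  mul_mem' := by
    rintro z w ⟨t, ht, ht', h1⟩ ⟨v, hv, hv', h2⟩
    refine ⟨t * v, C.mul_mem ht hv, ht'.mul hv', ?_⟩
    have : z * w * (t * v) = z * t * (w * v) := by ring
    rw [this]
    exact C.mul_mem h1 h2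
  one_mem' := ⟨1, C.one_mem, IsU.one A, by simp⟩
  add_mem' := by
    rintro z w ⟨t, ht, ht', h1⟩ ⟨v, hv, hv', h2⟩
    refine ⟨t * v, C.mul_mem ht hv, ht'.mul hv', ?_⟩
    have : (z + w) * (t * v) = z * t * v + w * v * t := by ring
    rw [this]
    exact C.add_mem (C.mul_mem h1 hv) (C.mul_mem h2 ht)
  zero_mem' := ⟨1, C.one_mem, IsU.one A, by simp⟩
  neg_mem' := by
    rintro z ⟨t, ht, ht', h1⟩
    exact ⟨t, ht, ht', by rw [neg_mul]; exact C.neg_mem h1⟩

lemma mem_locSub {C A : Subring K} (h : C ≤ A) {z : K} :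
    z ∈ locSub C A h ↔ ∃ t ∈ C, IsU A t ∧ z * t ∈ C := Iff.rfl

lemma le_locSub {C A : Subring K} (h : C ≤ A) : C ≤ locSub C A h := fun z hz ↦
  ⟨1, C.one_mem, IsU.one A, by simpa using hz⟩

lemma locSub_le {C A : Subring K} (h : C ≤ A) : locSub C A h ≤ A := by
  rintro z ⟨t, ht, ht', h1⟩
  have : z = z * t * t⁻¹ := by rw [mul_assoc, mul_inv_cancel₀ ht'.ne_zero, mul_one]
  rw [this]
  exact A.mul_mem (h h1) ht'.inv_mem

/-- Elements of the localization which are units of `A` are units. -/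
lemma isU_locSub {C A : Subring K} (h : C ≤ A) {z : K} (hz : z ∈ locSub C A h) (hu : IsU A z) :
    IsU (locSub C A h) z := by
  refine ⟨hz, hu.ne_zero, ?_⟩
  obtain ⟨t, ht, ht', h1⟩ := hz
  refine ⟨z * t, h1, hu.mul ht', ?_⟩
  rw [← mul_assoc, inv_mul_cancel₀ hu.ne_zero, one_mul]
  exact ht

lemma isLocalRing_locSub {C A : Subring K} (h : C ≤ A) (hA : IsLocalRing A) :
    IsLocalRing (locSub C A h) := by
  refine IsLocalRing.of_nonunits_add ?_
  rintro ⟨a, ha⟩ ⟨b, hb⟩ ha' hb' hab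
  have h1 : a ∈ mSet A := (isU_or_mem_mSet (locSub_le h ha)).resolve_left fun hu ↦
    ha' ((isUnit_iff ha).2 (isU_locSub h ha hu).2)
  have h2 : b ∈ mSet A := (isU_or_mem_mSet (locSub_le h hb)).resolve_left fun hu ↦
    hb' ((isUnit_iff hb).2 (isU_locSub h hb hu).2)
  have h3 := mSet_add hA h1 h2
  have h4 := (isUnit_iff ((locSub C A h).add_mem ha hb)).1 hab
  exact IsU.notMem ⟨h3.1, h4.1, locSub_le h h4.2⟩ h3

lemma locOf_locSub {C A : Subring K} (h : C ≤ A) (hA : IsLocalRing A) : LocOf C (locSub C A h) where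
  le := le_locSub h
  isLocalRing := isLocalRing_locSub h hA
  frac := by
    rintro z ⟨t, ht, ht', h1⟩
    exact ⟨t, ht, ht'.ne_zero, (isU_locSub h (le_locSub h ht) ht').inv_mem, h1⟩

lemma locSub_eq {C A : Subring K} (h : LocOf C A) : locSub C A h.le = A := by
  refine le_antisymm (locSub_le h.le) fun z hz ↦ ?_
  exact LocOf.frac' h hz

/-- Two localizations of `C` with the same centre agree. -/
lemma LocOf.eq_of_forall {C A A' : Subring K} (h : LocOf C A) (h' : LocOf C A')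
    (hc : ∀ t ∈ C, IsU A t ↔ IsU A' t) : A = A' := by
  rw [← locSub_eq h, ← locSub_eq h']
  ext z
  rw [mem_locSub, mem_locSub]
  constructor
  · rintro ⟨t, ht, h1, h2⟩
    exact ⟨t, ht, (hc t ht).1 h1, h2⟩
  · rintro ⟨t, ht, h1, h2⟩
    exact ⟨t, ht, (hc t ht).2 h1, h2⟩

/-! ### points of blow-ups -/

/-- Closure induction for chart rings. -/
lemma chartRing_induction {R : Subring K} {s : Set K} {x : K} {p : K → Prop} (hR : ∀ z ∈ R, p z)
    (hs : ∀ y ∈ s, p (y / x)) (hadd : ∀ z w, p z → p w → p (z + w)) (hneg : ∀ z, p z → p (-z))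
    (hmul : ∀ z w, p z → p w → p (z * w)) {z : K} (hz : z ∈ chartRing R s x) : p z := by
  rw [chartRing] at hz
  induction hz using Subring.closure_induction with
  | mem z hz =>
    rcases hz with hz | ⟨y, hy, rfl⟩
    · exact hR z hz
    · exact hs y hy
  | zero => exact hR 0 R.zero_mem
  | one => exact hR 1 R.one_mem
  | add z w _ _ h1 h2 => exact hadd z w h1 h2
  | neg z _ h => exact hneg z h
  | mul z w _ _ h1 h2 => exact hmul z w h1 h2

/-- Change of generators: elements of the chart `x` of `d` become elements of the chart `x'` of `d'`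
after multiplication by high powers of `x / x'`, if `d` is contained in the span of `d'`. -/
lemma exists_pow_mul_mem {B : Subring K} {d d' : Set K} {x x' : K} (hx : x ≠ 0) (hx' : x' ≠ 0)
    (hd : ∀ z ∈ d, z ∈ Sp B d') (hxd : x ∈ Sp B d') {z : K} (hz : z ∈ chartRing B d x) :
    ∃ N, ∀ n, N ≤ n → z * (x / x') ^ n ∈ chartRing B d' x' := by
  have hB : ∀ z ∈ Sp B d', z / x' ∈ chartRing B d' x' := by
    intro z hz
    refine Sp_induction (p := fun z ↦ z / x' ∈ chartRing B d' x') (fun z hz ↦ div_mem_chartRing B x' hz)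
      (by simp) (fun z w h1 h2 ↦ by rw [add_div]; exact Subring.add_mem _ h1 h2)
      (fun b hb z h ↦ by rw [mul_div_assoc]; exact Subring.mul_mem _ (le_chartRing _ _ _ hb) h) hz
  have hu := hB x hxd
  refine chartRing_induction (p := fun z ↦ ∃ N, ∀ n, N ≤ n → z * (x / x') ^ n ∈ chartRing B d' x')
    (fun z hz ↦ ⟨0, fun n _ ↦ Subring.mul_mem _ (le_chartRing _ _ _ hz) (Subring.pow_mem _ hu n)⟩)
    (fun y hy ↦ ⟨1, fun n hn ↦ ?_⟩) ?_ ?_ ?_ hz
  · obtain ⟨m, rfl⟩ := Nat.exists_eq_add_of_le hn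
    have : y / x * (x / x') ^ (1 + m) = y / x' * (x / x') ^ m := by
      rw [pow_add, pow_one, ← mul_assoc, div_mul_div_cancel₀ hx]
    rw [this]
    exact Subring.mul_mem _ (hB y (hd y hy)) (Subring.pow_mem _ hu m)
  · rintro z w ⟨N, hN⟩ ⟨M, hM⟩
    refine ⟨max N M, fun n hn ↦ ?_⟩
    rw [add_mul]
    exact Subring.add_mem _ (hN n (le_of_max_le_left hn)) (hM n (le_of_max_le_right hn))
  · rintro z ⟨N, hN⟩
    exact ⟨N, fun n hn ↦ by rw [neg_mul]; exact Subring.neg_mem _ (hN n hn)⟩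
  · rintro z w ⟨N, hN⟩ ⟨M, hM⟩
    refine ⟨N + M, fun n hn ↦ ?_⟩
    obtain ⟨m, rfl⟩ := Nat.exists_eq_add_of_le hn
    have : z * w * (x / x') ^ (N + M + m) = z * (x / x') ^ N * (w * (x / x') ^ (M + m)) := by ring
    rw [this]
    exact Subring.mul_mem _ (hN N le_rfl) (hM _ (Nat.le_add_right _ _))

/-- The points of the blow-up depend only on the module generated. -/
lemma IsPt.of_span {B : Subring K} {d d' : Set K} (h : ∀ z ∈ d, z ∈ Sp B d')
    (h' : ∀ z ∈ d', z ∈ Sp B d) {A : Subring K} (hA : IsPt B d A) : IsPt B d' A := by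
  obtain ⟨x, hx, hx0, hloc⟩ := hA
  have hAl := hloc.isLocalRing
  have hdA : ∀ z ∈ d, z / x ∈ A := fun z hz ↦ hloc.le (div_mem_chartRing B x hz)
  have hBA : B ≤ A := (le_chartRing B d x).trans hloc.le
  have hd'A : ∀ z ∈ Sp B d, z / x ∈ A := by
    intro z hz
    exact Sp_induction (p := fun z ↦ z / x ∈ A) hdA (by simp)
      (fun z w h1 h2 ↦ by rw [add_div]; exact A.add_mem h1 h2)
      (fun b hb z h ↦ by rw [mul_div_assoc]; exact A.mul_mem (hBA hb) h) hz
  -- some element of `d'` divides all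
  have h1 : (1 : K) ∈ Sp B ((fun z ↦ z / x) '' d') := by
    have h2 := h x hx
    have h3 : x / x ∈ Sp B ((fun z ↦ z / x) '' d') :=
      Sp_induction (p := fun z ↦ z / x ∈ Sp B ((fun z ↦ z / x) '' d'))
        (fun z hz ↦ subset_Sp ⟨z, hz, rfl⟩) (by simp)
        (fun z w h1 h2 ↦ by rw [add_div]; exact Submodule.add_mem _ h1 h2)
        (fun b hb z h ↦ by rw [mul_div_assoc]; exact Sp_mul_mem hb h) h2
    rwa [div_self hx0] at h3
  obtain ⟨_, ⟨x', hx', rfl⟩, hu⟩ := exists_isU_of_sum hAl (d := (fun z ↦ z / x) '' d')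
    (by rintro _ ⟨z, hz, rfl⟩; exact hd'A z (h' z hz)) hBA h1 (IsU.one A)
  have hx'0 : x' ≠ 0 := fun h0 ↦ hu.ne_zero (by simp [h0])
  have hu' : IsU A (x / x') := by
    have := hu.inv
    rwa [inv_div] at this
  refine ⟨x', hx', hx'0, ?_, hAl, ?_⟩
  · rw [chartRing_le_iff]
    refine ⟨hBA, fun y hy ↦ ?_⟩
    have : y / x' = y / x * (x / x') := (div_mul_div_cancel₀ hx0).symm
    rw [this]
    exact A.mul_mem (hd'A y (h' y hy)) hu'.mem
  · intro z hz
    obtain ⟨t, ht, ht', hzt⟩ := LocOf.frac' hloc hz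
    obtain ⟨N, hN⟩ := exists_pow_mul_mem hx0 hx'0 h (h x hx) ht
    obtain ⟨M, hM⟩ := exists_pow_mul_mem hx0 hx'0 h (h x hx) hzt
    have ht2 : IsU A (t * (x / x') ^ (max N M)) := ht'.mul (hu'.pow _)
    refine ⟨t * (x / x') ^ (max N M), hN _ (le_max_left _ _), ht2.ne_zero, ht2.inv_mem, ?_⟩
    rw [← mul_assoc]
    exact hM _ (le_max_right _ _)

/-- Scaling does not change the points of the blow-up. -/
lemma IsPt.of_smul {B : Subring K} {d : Set K} {c : K} (hc : c ≠ 0) {A : Subring K}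
    (hA : IsPt B ((fun z ↦ c * z) '' d) A) : IsPt B d A := by
  obtain ⟨_, ⟨x, hx, rfl⟩, hx0, hloc⟩ := hA
  have hx0' : x ≠ 0 := right_ne_zero_of_mul hx0
  refine ⟨x, hx, hx0', ?_⟩
  have : chartRing B ((fun z ↦ c * z) '' d) (c * x) = chartRing B d x := by
    apply le_antisymm
    · rw [chartRing_le_iff]
      refine ⟨le_chartRing _ _ _, ?_⟩
      rintro _ ⟨z, hz, rfl⟩
      simp only
      rw [mul_div_mul_left _ _ hc]
      exact div_mem_chartRing B x hz
    · rw [chartRing_le_iff]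
      refine ⟨le_chartRing _ _ _, fun z hz ↦ ?_⟩
      have := div_mem_chartRing B (s := (fun z ↦ c * z) '' d) (c * x) ⟨z, hz, rfl⟩
      simp only at this
      rwa [mul_div_mul_left _ _ hc] at this
  rwa [← this]

/-- The blow-up of a principal module is trivial. -/
lemma locOf_of_isPt_singleton {B : Subring K} {g : K} {A : Subring K} (hA : IsPt B {g} A) :
    LocOf B A := by
  obtain ⟨x, hx, hx0, hloc⟩ := hA
  rw [Set.mem_singleton_iff] at hx
  subst hx
  have : chartRing B {x} x = B := by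
    apply le_antisymm
    · rw [chartRing_le_iff]
      refine ⟨le_rfl, fun z hz ↦ ?_⟩
      rw [Set.mem_singleton_iff] at hz
      rw [hz, div_self hx0]
      exact B.one_mem
    · exact le_chartRing _ _ _
  rwa [this] at hloc

/-- Points of the blow-up of a product. -/
lemma exists_isPt_of_mul {R : Subring K} {s d : Set K} {A : Subring K} (hA : IsPt R (s * d) A) :
    ∃ (x : K) (h : chartRing R s x ≤ A), x ∈ s ∧ x ≠ 0 ∧ IsPt (locSub (chartRing R s x) A h) d A := by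
  obtain ⟨_, ⟨x, hx, y, hy, rfl⟩, h0, hloc⟩ := hA
  simp only at h0 hloc
  have hx0 : x ≠ 0 := left_ne_zero_of_mul h0
  have hy0 : y ≠ 0 := right_ne_zero_of_mul h0
  have h1 : chartRing R s x ≤ chartRing R (s * d) (x * y) := by
    rw [chartRing_le_iff]
    refine ⟨le_chartRing _ _ _, fun z hz ↦ ?_⟩
    have := div_mem_chartRing R (x * y) (Set.mul_mem_mul hz hy)
    rwa [mul_div_mul_right _ _ hy0] at this
  have h2 : chartRing R s x ≤ A := h1.trans hloc.le
  have h3 : chartRing R (s * d) (x * y) ≤ chartRing (locSub (chartRing R s x) A h2) d y := by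
    rw [chartRing_le_iff]
    refine ⟨(le_chartRing R s x).trans ((le_locSub h2).trans (le_chartRing _ _ _)), ?_⟩
    rintro _ ⟨z, hz, w, hw, rfl⟩
    simp only
    rw [mul_div_mul_comm]
    exact Subring.mul_mem _ (le_chartRing _ _ _ (le_locSub h2 (div_mem_chartRing R x hz)))
      (div_mem_chartRing _ y hw)
  refine ⟨x, h2, hx, hx0, y, hy, hy0, ?_, hloc.isLocalRing, ?_⟩
  · rw [chartRing_le_iff]
    refine ⟨locSub_le h2, fun w hw ↦ ?_⟩
    have := hloc.le (div_mem_chartRing R (x * y) (Set.mul_mem_mul hx hw))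
    rwa [mul_div_mul_left _ _ hx0] at this
  · intro z hz
    obtain ⟨t, ht, ht', hzt⟩ := LocOf.frac' hloc hz
    exact ⟨t, h3 ht, ht'.ne_zero, ht'.inv_mem, h3 hzt⟩

lemma IsPt.isLocalRing {R : Subring K} {s : Set K} {A : Subring K} (h : IsPt R s A) :
    IsLocalRing A := by
  obtain ⟨x, -, -, h⟩ := h
  exact h.isLocalRing

lemma IsPt.trans {R : Subring K} {s : Set K} {A A' : Subring K} (h : IsPt R s A) (h' : LocOf A A') :
    IsPt R s A' := by
  obtain ⟨x, hx, hx0, h⟩ := h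
  exact ⟨x, hx, hx0, LocOf.trans h h'⟩

end Groth.Agent.Lipman.Glue
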