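import Groth.Agent.Ega4dB.CDivNormal

/-!
Local rings of an integral scheme as subrings of its function field.

* `loc x` : the local ring at `x` inside the function field, `IsVan s x` : `s` lies in its maximal ideal;
* `loc_mono`, `IsVan.of_specializes` : behaviour under generization;
* `exists_section` : a rational function regular at all points of an open is a section over it;
* `ord` facts at codimension-one points of normal schemes.
-/

set_option autoImplicit false

universe u

open CategoryTheory AlgebraicGeometry TopologicalSpace IsLocalRing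

namespace Groth.Agent.Lipman.Loc

variable {X : Scheme.{u}} [IsIntegral X]

/-- The local ring of `X` at `x`, as a subring of the function field. -/
noncomputable def loc (x : X) : Subring X.functionField :=
  (algebraMap (X.presheaf.stalk x) X.functionField).range

/-- The rational function `s` is regular at `x` and vanishes there. -/
def IsVan (s : X.functionField) (x : X) : Prop :=
  ∃ a ∈ maximalIdeal (X.presheaf.stalk x), algebraMap (X.presheaf.stalk x) X.functionField a = s

theorem mem_loc_iff (s : X.functionField) (x : X) :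
    s ∈ loc x ↔ ∃ a, algebraMap (X.presheaf.stalk x) X.functionField a = s := Iff.rfl

theorem inj (x : X) : Function.Injective (algebraMap (X.presheaf.stalk x) X.functionField) :=
  IsFractionRing.injective (X.presheaf.stalk x) X.functionField

theorem algebraMap_stalkSpecializes {x y : X} (h : y ⤳ x) (a : X.presheaf.stalk x) :
    algebraMap (X.presheaf.stalk y) X.functionField ((X.presheaf.stalkSpecializes h).hom a) =
      algebraMap (X.presheaf.stalk x) X.functionField a := by
  simp only [RingHom.algebraMap_toAlgebra]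
  rw [← ConcreteCategory.comp_apply]
  erw [TopCat.Presheaf.stalkSpecializes_comp]

theorem loc_mono {x y : X} (h : y ⤳ x) : (loc x : Subring X.functionField) ≤ loc y := by
  rintro s ⟨a, rfl⟩
  exact ⟨_, algebraMap_stalkSpecializes h a⟩

theorem IsVan.mem_loc {s : X.functionField} {x : X} (h : IsVan s x) : s ∈ loc x := by
  obtain ⟨a, -, ha⟩ := h
  exact ⟨a, ha⟩

theorem isVan_iff {s : X.functionField} {x : X} : IsVan s x ↔ s ∈ loc x ∧ (s ≠ 0 → s⁻¹ ∉ loc x) := by
  constructor
  · rintro ⟨a, ha, rfl⟩
    refine ⟨⟨a, rfl⟩, ?_⟩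
    rintro h0 ⟨b, hb⟩
    have hab : a * b = 1 := by
      apply inj x
      rw [map_mul, hb, map_one, mul_inv_cancel₀ h0]
    exact (mem_maximalIdeal a).mp ha (.of_mul_eq_one b hab)
  · rintro ⟨⟨a, rfl⟩, h⟩
    refine ⟨a, ?_, rfl⟩
    rw [mem_maximalIdeal]
    rintro ⟨u, rfl⟩
    have h0 : algebraMap (X.presheaf.stalk x) X.functionField u ≠ 0 :=
      (u.isUnit.map _).ne_zero
    refine h h0 ⟨(u⁻¹ : (X.presheaf.stalk x)ˣ), ?_⟩
    rw [eq_comm, inv_eq_iff_eq_inv, eq_comm]
    rw [inv_eq_of_mul_eq_one_left]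
    rw [← map_mul, Units.mul_inv, map_one]

theorem IsVan.of_specializes {s : X.functionField} {x y : X} (h : y ⤳ x) (hs : s ∈ loc x)
    (hy : IsVan s y) : IsVan s x := by
  rw [isVan_iff] at hy ⊢
  exact ⟨hs, fun h0 h1 => hy.2 h0 (loc_mono h h1)⟩

theorem IsVan.add {s t : X.functionField} {x : X} (hs : IsVan s x) (ht : IsVan t x) : IsVan (s + t) x := by
  obtain ⟨a, ha, rfl⟩ := hs
  obtain ⟨b, hb, rfl⟩ := ht
  exact ⟨a + b, Ideal.add_mem _ ha hb, map_add _ _ _⟩

theorem IsVan.sub {s t : X.functionField} {x : X} (hs : IsVan s x) (ht : IsVan t x) : IsVan (s - t) x := by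
  obtain ⟨a, ha, rfl⟩ := hs
  obtain ⟨b, hb, rfl⟩ := ht
  exact ⟨a - b, Ideal.sub_mem _ ha hb, map_sub _ _ _⟩

theorem IsVan.mul_left {s t : X.functionField} {x : X} (hs : s ∈ loc x) (ht : IsVan t x) :
    IsVan (s * t) x := by
  obtain ⟨a, rfl⟩ := hs
  obtain ⟨b, hb, rfl⟩ := ht
  exact ⟨a * b, Ideal.mul_mem_left _ _ hb, map_mul _ _ _⟩

theorem IsVan.pow {t : X.functionField} {x : X} (ht : IsVan t x) {n : ℕ} (hn : n ≠ 0) :
    IsVan (t ^ n) x := by
  obtain ⟨b, hb, rfl⟩ := ht
  exact ⟨b ^ n, Ideal.pow_mem_of_mem _ hb n (Nat.pos_of_ne_zero hn), map_pow _ _ _⟩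

theorem isVan_zero (x : X) : IsVan (0 : X.functionField) x := ⟨0, Ideal.zero_mem _, map_zero _⟩

/-- Sections are regular at all points. -/
theorem germToFunctionField_mem_loc {V : X.Opens} [Nonempty V] (t : Γ(X, V)) {x : X} (hx : x ∈ V) :
    X.germToFunctionField V t ∈ loc x :=
  ⟨X.presheaf.germ V x hx t, Scheme.algebraMap_germ_eq_germToFunctionField X hx t⟩

theorem isVan_germToFunctionField_iff {V : X.Opens} [Nonempty V] (t : Γ(X, V)) {x : X} (hx : x ∈ V) :
    IsVan (X.germToFunctionField V t) x ↔ x ∉ X.basicOpen t := by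
  rw [Scheme.mem_basicOpen X t x hx]
  constructor
  · rintro ⟨a, ha, h⟩ hu
    rw [← Scheme.algebraMap_germ_eq_germToFunctionField X hx] at h
    rw [inj x h] at ha
    exact (mem_maximalIdeal _).mp ha hu
  · intro h
    exact ⟨_, (mem_maximalIdeal _).mpr h, Scheme.algebraMap_germ_eq_germToFunctionField X hx t⟩

theorem mem_of_nonempty {V : X.Opens} [h : Nonempty V] : genericPoint X ∈ V :=
  ((genericPoint_spec X).mem_open_set_iff V.isOpen).mpr (by simpa using h)

/-- The germ in the function field does not change under restriction. -/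
theorem germToFunctionField_res {V W : X.Opens} [Nonempty V] [Nonempty W] (h : W ≤ V) (t : Γ(X, V)) :
    X.germToFunctionField W (X.presheaf.map (homOfLE h).op t) = X.germToFunctionField V t := by
  exact X.presheaf.germ_res_apply (homOfLE h) _ _ t

/-- A rational function regular at all points of `V` is a section over `V`. -/
theorem exists_section (V : X.Opens) [hV : Nonempty V] (s : X.functionField)
    (h : ∀ x ∈ V, s ∈ loc x) : ∃ t : Γ(X, V), X.germToFunctionField V t = s := by
  have key : ∀ x : V, ∃ (W : X.Opens) (_ : x.1 ∈ W) (hWV : W ≤ V) (_ : Nonempty W) (t : Γ(X, W)),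
      X.germToFunctionField W t = s := by
    intro x
    obtain ⟨a, ha⟩ := h x.1 x.2
    obtain ⟨W, hxW, t, rfl⟩ := X.presheaf.exists_germ_eq a
    have hne : Nonempty (W ⊓ V : X.Opens) := ⟨⟨x.1, hxW, x.2⟩⟩
    have hne' : Nonempty W := ⟨⟨x.1, hxW⟩⟩
    refine ⟨W ⊓ V, ⟨hxW, x.2⟩, inf_le_right, hne, X.presheaf.map (homOfLE inf_le_left).op t, ?_⟩
    rw [germToFunctionField_res, ← ha, Scheme.algebraMap_germ_eq_germToFunctionField X hxW]
  choose W hxW hWV hne t ht using key
  have hcov : V = ⨆ x : V, W x := by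
    apply le_antisymm
    · intro x hx
      exact Opens.mem_iSup.mpr ⟨⟨x, hx⟩, hxW ⟨x, hx⟩⟩
    · exact iSup_le hWV
  obtain ⟨g, hg, -⟩ := X.sheaf.existsUnique_gluing' (fun x : V => W x) V (fun x => homOfLE (hWV x))
    hcov.le t (by
      intro i j
      have hij : Nonempty (W i ⊓ W j : X.Opens) := ⟨⟨genericPoint X, mem_of_nonempty, mem_of_nonempty⟩⟩
      apply X.germToFunctionField_injective (W i ⊓ W j)
      exact (germToFunctionField_res (h := inf_le_left) (t i)).trans
        ((ht i).trans ((ht j).symm.trans (germToFunctionField_res (h := inf_le_right) (t j)).symm)))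
  refine ⟨g, ?_⟩
  let x : V := hV.some
  have := hg x
  rw [← ht x, ← this]
  exact (germToFunctionField_res (hWV x) g).symm

end Groth.Agent.Lipman.Loc
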