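import Groth.Agent.Lipman.ValBlow
import Groth.Agent.Lipman.GR
import Groth.Agent.Lipman.Defs
import Groth.Agent.Ega2.NormCurve

/-!
Normal proper birational models of `Spec A` on which a given tuple becomes principal.
-/

set_option autoImplicit false
set_option linter.style.haveILetI false
set_option linter.unusedSectionVars false

universe u

open CategoryTheory CategoryTheory.Limits AlgebraicGeometry TopologicalSpace

namespace Groth.Agent.Lipman.NormModel

open Groth.Agent.CurvesC.BlowUpCharts Groth.Agent.Ega2.NormChart Groth.Agent.Ega2.NormCurve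
  Groth.Agent.Lipman.Loc Groth.Agent.Lipman.OrdLoc Groth.Agent.Lipman.ValBlow

section

variable {A : Type u} [CommRing A] [IsDomain A] {K : Type u} [Field K] [Algebra A K] [IsFractionRing A K]
  {P : Scheme.{u}} (b : P ⟶ Spec (CommRingCat.of A)) (f : Spec (CommRingCat.of K) ⟶ P)
  (hf : f ≫ b = Spec.map (CommRingCat.ofHom (algebraMap A K))) (U : P.Opens) (hfU : f ⁻¹ᵁ U = ⊤)

include hf in
lemma toK_phi (r : A) : toK f U hfU (phi b U r) = algebraMap A K r := by
  have h1 : toK f U hfU (phi b U r) = (Scheme.ΓSpecIso (CommRingCat.of K)).hom.hom (psi (f ≫ b) r) := by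
    rw [psi_comp]
    change (((P.presheaf.map (homOfLE le_top).op) ≫ (f.appLE U ⊤ (by rw [hfU]))) ≫
      (Scheme.ΓSpecIso (CommRingCat.of K)).hom).hom (psi b r) = _
    rw [Scheme.Hom.map_appLE]
    rfl
  rw [h1, hf, psi_SpecMap]
  change ((Scheme.ΓSpecIso (CommRingCat.of K)).inv ≫ (Scheme.ΓSpecIso (CommRingCat.of K)).hom).hom _ = _
  rw [Iso.inv_hom_id]
  rfl

variable [QuasiCompact f] [QuasiSeparated f]

lemma toK_mem_range_normToK (t : Γ(P, U)) : toK f U hfU t ∈ (normToK f U hfU).range := by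
  rw [← normToK_comp]
  exact ⟨_, rfl⟩

include hf in
lemma isFractionRing_normToK (hU : IsAffineOpen U) :
    letI := (normToK f U hfU).toAlgebra
    IsFractionRing Γ(f.normalization, f.fromNormalization ⁻¹ᵁ U) K := by
  letI : Algebra Γ(f.normalization, f.fromNormalization ⁻¹ᵁ U) K := (normToK f U hfU).toAlgebra
  have hnormToK : ∀ x, algebraMap _ K x = normToK f U hfU x := fun x => rfl
  haveI : FaithfulSMul Γ(f.normalization, f.fromNormalization ⁻¹ᵁ U) K :=
    (faithfulSMul_iff_algebraMap_injective _ _).mpr (normToK_injective f U hfU hU)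
  have : IsDomain Γ(f.normalization, f.fromNormalization ⁻¹ᵁ U) :=
    (normToK_injective f U hfU hU).isDomain
  refine IsFractionRing.of_field _ _ fun z => ?_
  obtain ⟨x, y, hy, rfl⟩ := IsFractionRing.div_surjective (A := A) z
  obtain ⟨x', hx'⟩ := toK_mem_range_normToK f U hfU (phi b U x)
  obtain ⟨y', hy'⟩ := toK_mem_range_normToK f U hfU (phi b U y)
  refine ⟨x', y', ?_⟩
  rw [hnormToK, hnormToK, hx', hy', toK_phi b f hf, toK_phi b f hf]

include hf hfU in
lemma isIntegrallyClosed_norm (hU : IsAffineOpen U) :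
    IsIntegrallyClosed Γ(f.normalization, f.fromNormalization ⁻¹ᵁ U) := by
  letI : Algebra Γ(f.normalization, f.fromNormalization ⁻¹ᵁ U) K := (normToK f U hfU).toAlgebra
  have := isFractionRing_normToK b f hf U hfU hU
  rw [isIntegrallyClosed_iff K]
  intro x hx
  letI : Algebra Γ(P, U) Γ(f.normalization, f.fromNormalization ⁻¹ᵁ U) := (f.fromNormalization.app U).hom.toAlgebra
  letI : Algebra Γ(P, U) K := (toK f U hfU).toAlgebra
  haveI : IsScalarTower Γ(P, U) Γ(f.normalization, f.fromNormalization ⁻¹ᵁ U) K :=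
    IsScalarTower.of_algebraMap_eq' (normToK_comp f U hfU).symm
  haveI : Algebra.IsIntegral Γ(P, U) Γ(f.normalization, f.fromNormalization ⁻¹ᵁ U) := by
    refine ⟨fun y => ?_⟩
    have h1 := (mem_range_normToK f U hfU hU (normToK f U hfU y)).mp ⟨y, rfl⟩
    exact (isIntegral_algebraMap_iff (A := Γ(f.normalization, f.fromNormalization ⁻¹ᵁ U)) (B := K)
      (normToK_injective f U hfU hU)).mp h1
  have h2 : IsIntegral Γ(P, U) x := isIntegral_trans x hx
  exact (mem_range_normToK f U hfU hU x).mpr h2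

lemma finite_app (hU : IsAffineOpen U)
    (hfin : Module.Finite (toK f U hfU).range (integralClosure (toK f U hfU).range K)) :
    (f.fromNormalization.app U).hom.Finite := by
  let C := integralClosure (toK f U hfU).range K
  have hr : (algebraMap (toK f U hfU).range K).range = (toK f U hfU).range := by
    ext x
    constructor
    · rintro ⟨y, rfl⟩
      exact y.2
    · intro hx
      exact ⟨⟨x, hx⟩, rfl⟩
  have h1 : ∀ x, normToK f U hfU x ∈ C := by
    intro x
    have := (mem_range_normToK f U hfU hU (normToK f U hfU x)).mp ⟨x, rfl⟩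
    exact isIntegralElem_of_range_le (toK f U hfU) (algebraMap (toK f U hfU).range K) hr.ge this
  let e0 : Γ(f.normalization, f.fromNormalization ⁻¹ᵁ U) →+* C :=
    (normToK f U hfU).codRestrict C h1
  have he : Function.Bijective e0 := by
    constructor
    · intro a b hab
      exact normToK_injective f U hfU hU (congrArg Subtype.val hab)
    · rintro ⟨x, hx⟩
      have : (toK f U hfU).IsIntegralElem x :=
        isIntegralElem_of_range_le (algebraMap (toK f U hfU).range K) (toK f U hfU) hr.le hx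
      obtain ⟨y, hy⟩ := (mem_range_normToK f U hfU hU x).mpr this
      exact ⟨y, Subtype.ext hy⟩
  let e := RingEquiv.ofBijective e0 he
  have hev : ∀ x, (e x : K) = normToK f U hfU x := fun x => rfl
  refine finite_of_range_le (algebraMap (toK f U hfU).range K) (toK f U hfU) hr.le (normToK f U hfU)
      (normToK_injective f U hfU hU) (e.symm.toRingHom.comp (algebraMap (toK f U hfU).range C)) _ ?_
      (normToK_comp f U hfU) ?_
  · refine RingHom.ext fun x => ?_
    simp only [RingHom.comp_apply, RingEquiv.toRingHom_eq_coe, RingHom.coe_coe]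
    rw [← hev, e.apply_symm_apply]
    rfl
  · refine RingHom.Finite.comp ?_ ?_
    · exact RingHom.Finite.of_surjective _ e.symm.surjective
    · exact RingHom.finite_algebraMap.mpr hfin

lemma phi_fromNormalization (r : A) :
    phi (f.fromNormalization ≫ b) (f.fromNormalization ⁻¹ᵁ U) r = (f.fromNormalization.app U).hom (phi b U r) :=
  phi_comp f.fromNormalization U r

include hf in
lemma normToK_phi (r : A) :
    normToK f U hfU (phi (f.fromNormalization ≫ b) (f.fromNormalization ⁻¹ᵁ U) r) = algebraMap A K r := by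
  rw [phi_fromNormalization, ← toK_phi b f hf U hfU, ← normToK_comp]
  rfl

end

section main

variable {A : Type u} [CommRing A] [IsDomain A] [IsIntegrallyClosed A] {K : Type u} [Field K] [Algebra A K] [IsFractionRing A K]
  {P : Scheme.{u}} (b : P ⟶ Spec (CommRingCat.of A)) [IsProper b] (f : Spec (CommRingCat.of K) ⟶ P)
  (hf : f ≫ b = Spec.map (CommRingCat.ofHom (algebraMap A K)))

theorem ratOf_eq_germ {X : Scheme.{u}} [IsIntegral X] (g : X ⟶ Spec (CommRingCat.of A)) (V : X.Opens) [Nonempty V]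
    (r : A) : ratOf g r = X.germToFunctionField V (phi g V r) := by
  change (X.germToFunctionField ⊤).hom (Groth.Agent.CurvesC.ModDim.toSec g ⊤ r) = _
  have h1 : Groth.Agent.CurvesC.ModDim.toSec g ⊤ r = phi g ⊤ r := rfl
  rw [h1, ← map_phi g (le_top : V ≤ ⊤)]
  exact (germToFunctionField_res (V := ⊤) (W := V) le_top _).symm

lemma isLocalization_aux {R : CommRingCat.{u}} (a : R) {B : Type u} [CommRing B] [Algebra R B]
    (e : Γ(Spec R, PrimeSpectrum.basicOpen a) ≃+* B)
    (he : ∀ r, e (((Scheme.ΓSpecIso R).inv ≫ (Spec R).presheaf.map (homOfLE le_top).op).hom r) = algebraMap R B r) :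
    IsLocalization.Away a B := by
  let e' : Γ(Spec R, PrimeSpectrum.basicOpen a) ≃ₐ[R] B := { e with commutes' := he }
  exact IsLocalization.isLocalization_of_algEquiv _ e'

include hf in
lemma preimage_basicOpen_eq_top (a : A) (ha : a ≠ 0) : f ⁻¹ᵁ (b ⁻¹ᵁ PrimeSpectrum.basicOpen a) = ⊤ := by
  rw [← Scheme.Hom.comp_preimage, hf]
  ext x
  simp only [Opens.coe_top, Set.mem_univ, iff_true]
  change Spec.map (CommRingCat.ofHom (algebraMap A K)) x ∈ PrimeSpectrum.basicOpen a
  change algebraMap A K a ∉ x.asIdeal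
  intro h
  exact x.isPrime.ne_top (Ideal.eq_top_of_isUnit_mem _ h (Ne.isUnit (algebraMap_ne_zero ha)))

include hf in
lemma isIso_restrict [QuasiCompact f] [QuasiSeparated f] (a : A) (ha : a ≠ 0) [IsIso (b ∣_ PrimeSpectrum.basicOpen a)] :
    IsIso (f.fromNormalization ∣_ (b ⁻¹ᵁ PrimeSpectrum.basicOpen a)) := by
  let D : (Spec (CommRingCat.of A)).Opens := PrimeSpectrum.basicOpen a
  have hD : IsAffineOpen D := IsAffineOpen.Spec_basicOpen (R := CommRingCat.of A) a
  have hW : IsAffineOpen (b ⁻¹ᵁ D) := by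
    have h1 : IsAffine D.toScheme := hD
    have : IsIso (b ∣_ D) := ‹_›
    exact IsAffine.of_isIso (b ∣_ D)
  have hfW : f ⁻¹ᵁ (b ⁻¹ᵁ D) = ⊤ := preimage_basicOpen_eq_top b f hf a ha
  have happ : IsIso (b.app D) := Groth.Agent.CurvesC.ModDim.isIso_app_of_isIso_morphismRestrict b D
  let := (phi b (b ⁻¹ᵁ D)).toAlgebra
  have hloc : IsLocalization.Away a Γ(P, b ⁻¹ᵁ D) := by
    refine isLocalization_aux (R := CommRingCat.of A) a (asIso (b.app D)).commRingCatIsoToRingEquiv ?_
    intro r
    exact congr($(b.naturality (homOfLE (le_top : D ≤ ⊤)).op) ((Scheme.ΓSpecIso (CommRingCat.of A)).inv.hom r))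
  have hle : Submonoid.powers a ≤ nonZeroDivisors A := powers_le_nonZeroDivisors_of_noZeroDivisors ha
  have hdom : IsDomain Γ(P, b ⁻¹ᵁ D) := IsLocalization.isDomain_of_le_nonZeroDivisors _ hle
  have hic : IsIntegrallyClosed Γ(P, b ⁻¹ᵁ D) := isIntegrallyClosed_of_isLocalization _ (Submonoid.powers a) hle
  letI : Algebra Γ(P, b ⁻¹ᵁ D) K := (toK f (b ⁻¹ᵁ D) hfW).toAlgebra
  have htower : IsScalarTower A Γ(P, b ⁻¹ᵁ D) K := IsScalarTower.of_algebraMap_eq fun r =>
    (toK_phi b f hf (b ⁻¹ᵁ D) hfW r).symm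
  have hfrac : IsFractionRing Γ(P, b ⁻¹ᵁ D) K :=
    IsFractionRing.isFractionRing_of_isDomain_of_isLocalization (Submonoid.powers a) _ K
  rw [isIso_morphismRestrict_iff_isIso_app _ hW, ConcreteCategory.isIso_iff_bijective]
  constructor
  · intro x y hxy
    have h1 : toK f (b ⁻¹ᵁ D) hfW x = toK f (b ⁻¹ᵁ D) hfW y := by
      rw [← normToK_comp]
      exact congrArg (normToK f (b ⁻¹ᵁ D) hfW) hxy
    exact IsFractionRing.injective Γ(P, b ⁻¹ᵁ D) K h1
  · intro y
    have h1 : IsIntegral Γ(P, b ⁻¹ᵁ D) (normToK f (b ⁻¹ᵁ D) hfW y) :=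
      (mem_range_normToK f (b ⁻¹ᵁ D) hfW hW _).mp ⟨y, rfl⟩
    obtain ⟨x, hx⟩ := (isIntegrallyClosed_iff K).mp hic h1
    refine ⟨x, normToK_injective f (b ⁻¹ᵁ D) hfW hW ?_⟩
    rw [← hx]
    change ((normToK f (b ⁻¹ᵁ D) hfW).comp (f.fromNormalization.app (b ⁻¹ᵁ D)).hom) x = _
    rw [normToK_comp]
    rfl

include hf in
theorem exists_normal_model {ι : Type*} [Nonempty ι] (U : ι → P.Opens)
    (hU : ∀ i, IsAffineOpen (U i)) (hcov : ⨆ i, U i = ⊤) (hfU : ∀ i, f ⁻¹ᵁ U i = ⊤)
    (hfin : ∀ i, Module.Finite (toK f (U i) (hfU i)).range (integralClosure (toK f (U i) (hfU i)).range K))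
    (a : A) (ha : a ≠ 0) [IsIso (b ∣_ PrimeSpectrum.basicOpen a)] :
    ∃ (X : Scheme.{u}) (_ : IsIntegral X) (g : X ⟶ Spec (CommRingCat.of A)) (_ : IsProper g)
      (_ : IsIso (g ∣_ PrimeSpectrum.basicOpen a)) (e : K ≃+* X.functionField),
      (∀ x : X, IsIntegrallyClosed (X.presheaf.stalk x)) ∧ (∀ r, e (algebraMap A K r) = ratOf g r) ∧
      ∀ x : X, ∃ i, ∀ y ∈ (toK f (U i) (hfU i)).range, e y ∈ loc x := by
  haveI : QuasiCompact (f ≫ b) := by rw [hf]; infer_instance
  haveI : QuasiSeparated (f ≫ b) := by rw [hf]; infer_instance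
  haveI : QuasiCompact f := .of_comp f b
  haveI : QuasiSeparated f := .of_comp f b
  haveI hfinite : IsFinite f.fromNormalization := isFinite_of_cover _ U hU hcov fun i =>
    finite_app f (U i) (hfU i) (hU i) (hfin i)
  have hcov' : ∀ x : f.normalization, ∃ i, x ∈ f.fromNormalization ⁻¹ᵁ (U i) := by
    intro x
    have : f.fromNormalization x ∈ ⨆ i, U i := by rw [hcov]; trivial
    simpa using this
  have hW : ∀ i, IsAffineOpen (f.fromNormalization ⁻¹ᵁ (U i)) := fun i => (hU i).preimage _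
  have hpt : ∀ i, Nonempty (f.fromNormalization ⁻¹ᵁ U i : f.normalization.Opens) := by
    intro i
    have h1 : f.toNormalization (IsLocalRing.closedPoint K) ∈ f.fromNormalization ⁻¹ᵁ U i := by
      change f.fromNormalization (f.toNormalization (IsLocalRing.closedPoint K)) ∈ U i
      rw [← Scheme.Hom.comp_apply, Scheme.Hom.toNormalization_fromNormalization]
      change IsLocalRing.closedPoint K ∈ f ⁻¹ᵁ U i
      rw [hfU i]
      trivial
    exact ⟨⟨_, h1⟩⟩
  let i0 : ι := Classical.arbitrary ι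
  obtain ⟨e0, he0⟩ : ∃ e0 : f.normalization.functionField ≃+* K,
      ∀ r : A, e0 (ratOf (f.fromNormalization ≫ b) r) = algebraMap A K r := by
    letI : Algebra Γ(f.normalization, f.fromNormalization ⁻¹ᵁ U i0) K := (normToK f (U i0) (hfU i0)).toAlgebra
    haveI : IsFractionRing Γ(f.normalization, f.fromNormalization ⁻¹ᵁ U i0) K :=
      isFractionRing_normToK b f hf (U i0) (hfU i0) (hU i0)
    haveI := functionField_isFractionRing_of_isAffineOpen f.normalization (f.fromNormalization ⁻¹ᵁ U i0) (hW i0)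
    refine ⟨IsFractionRing.ringEquivOfRingEquiv (K := f.normalization.functionField) (L := K)
      (RingEquiv.refl Γ(f.normalization, f.fromNormalization ⁻¹ᵁ U i0)), fun r => ?_⟩
    rw [ratOf_eq_germ (f.fromNormalization ≫ b) (f.fromNormalization ⁻¹ᵁ U i0)]
    have h1 := IsFractionRing.ringEquivOfRingEquiv_algebraMap (K := f.normalization.functionField) (L := K)
      (RingEquiv.refl Γ(f.normalization, f.fromNormalization ⁻¹ᵁ U i0))
      (phi (f.fromNormalization ≫ b) (f.fromNormalization ⁻¹ᵁ U i0) r)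
    refine Eq.trans h1 ?_
    exact normToK_phi b f hf (U i0) (hfU i0) r
  have hgerm : ∀ i (t : Γ(f.normalization, f.fromNormalization ⁻¹ᵁ U i)),
      e0 (f.normalization.germToFunctionField (f.fromNormalization ⁻¹ᵁ U i) t) = normToK f (U i) (hfU i) t := by
    intro i t
    obtain ⟨α, β, hβ, h1⟩ := IsFractionRing.div_surjective (A := A) (normToK f (U i) (hfU i) t)
    have hβ0 : algebraMap A K β ≠ 0 := algebraMap_ne_zero (nonZeroDivisors.ne_zero hβ)
    have h2 : t * phi (f.fromNormalization ≫ b) (f.fromNormalization ⁻¹ᵁ U i) β =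
        phi (f.fromNormalization ≫ b) (f.fromNormalization ⁻¹ᵁ U i) α := by
      apply normToK_injective f (U i) (hfU i) (hU i)
      rw [map_mul, normToK_phi b f hf, normToK_phi b f hf, ← h1, div_mul_cancel₀ _ hβ0]
    have h3 := congrArg (fun s => e0 (f.normalization.germToFunctionField (f.fromNormalization ⁻¹ᵁ U i) s)) h2
    simp only [map_mul] at h3
    have h4 : ∀ r : A, e0 (f.normalization.germToFunctionField (f.fromNormalization ⁻¹ᵁ U i)
        (phi (f.fromNormalization ≫ b) (f.fromNormalization ⁻¹ᵁ U i) r)) = algebraMap A K r := by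
      intro r
      rw [← he0 r, ratOf_eq_germ (f.fromNormalization ≫ b) (f.fromNormalization ⁻¹ᵁ U i)]
    rw [h4, h4] at h3
    rw [← h1, eq_div_iff hβ0, h3]
  refine ⟨f.normalization, inferInstance, f.fromNormalization ≫ b, inferInstance, ?_, e0.symm, ?_, ?_, ?_⟩
  · have h1 := isIso_restrict b f hf a ha
    rw [morphismRestrict_comp]
    exact IsIso.comp_isIso' h1 ‹_›
  · intro x
    obtain ⟨i, hi⟩ := hcov' x
    have h1 := isIntegrallyClosed_norm b f hf (U i) (hfU i) (hU i)
    letI : Algebra Γ(f.normalization, f.fromNormalization ⁻¹ᵁ U i) (f.normalization.presheaf.stalk x) :=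
      TopCat.Presheaf.algebra_section_stalk f.normalization.presheaf ⟨x, hi⟩
    haveI hloc : IsLocalization.AtPrime (f.normalization.presheaf.stalk x) ((hW i).primeIdealOf ⟨x, hi⟩).asIdeal :=
      (hW i).isLocalization_stalk ⟨x, hi⟩
    exact isIntegrallyClosed_of_isLocalization (f.normalization.presheaf.stalk x) _
      (Ideal.primeCompl_le_nonZeroDivisors ((hW i).primeIdealOf ⟨x, hi⟩).asIdeal)
  · intro r
    rw [← he0 r, e0.symm_apply_apply]
  · intro x
    obtain ⟨i, hi⟩ := hcov' x
    refine ⟨i, ?_⟩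
    rintro y ⟨t, rfl⟩
    obtain ⟨s, hs⟩ := toK_mem_range_normToK f (U i) (hfU i) t
    rw [← hs, ← hgerm, e0.symm_apply_apply]
    exact germToFunctionField_mem_loc _ hi

end main

section final

open Groth.Agent.Lipman.Defs

variable {K : Type u} [Field K]

/-- **Normal models.** -/
theorem exists_model (R : Subring K) [IsNoetherianRing R] [IsIntegrallyClosed R] [IsFractionRing R K]
    (hN : FinNorm R) {s : Set K} (hs : IsTuple s) :
    ∃ (X : Scheme.{u}) (_ : IsIntegral X) (f : X ⟶ Spec (CommRingCat.of R)) (_ : IsProper f)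
      (U : (Spec (CommRingCat.of R)).Opens) (_ : IsIso (f ∣_ U)) (e : K ≃+* X.functionField),
      (U : Set (Spec (CommRingCat.of R))).Nonempty ∧ (∀ x : X, IsIntegrallyClosed (X.presheaf.stalk x)) ∧
      (∀ r : R, e r = ratOf f r) ∧ ∀ x : X, ∃ a ∈ s, a ≠ 0 ∧ ∀ b ∈ s, e (b / a) ∈ loc x := by
  classical
  obtain ⟨d, hd⟩ := IsLocalization.exist_integer_multiples_of_finset (nonZeroDivisors R) hs.finite.toFinset
  have hd0 : ((d : R) : K) ≠ 0 := by
    intro h
    exact nonZeroDivisors.coe_ne_zero d (Subtype.ext h)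
  have hd' : ∀ x ∈ s, ∃ r : R, (r : K) = d * x := by
    intro x hx
    obtain ⟨r, hr⟩ := hd x (hs.finite.mem_toFinset.mpr hx)
    exact ⟨r, hr⟩
  let S : Set R := {r | ∃ x ∈ s, (r : K) = (d : R) * x}
  have hSfin : S.Finite := by
    have h1 : ((fun r : R => (r : K)) '' S).Finite := by
      refine (hs.finite.image (fun x => ((d : R) : K) * x)).subset ?_
      rintro _ ⟨r, ⟨x, hx, hr⟩, rfl⟩
      exact ⟨x, hx, hr.symm⟩
    exact h1.of_finite_image Subtype.val_injective.injOn
  have hS0 : ∃ r ∈ S, r ≠ 0 := by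
    obtain ⟨x, hx, hx0⟩ := hs.exists_ne_zero
    obtain ⟨r, hr⟩ := hd' x hx
    refine ⟨r, ⟨x, hx, hr⟩, ?_⟩
    rintro rfl
    exact mul_ne_zero hd0 hx0 hr.symm
  obtain ⟨P, b, hb, f, hf, U, hfU, hU, hcov, hrange, hiso⟩ := exists_blow K S hS0
  have hne : Nonempty {a : R // a ∈ S ∧ a ≠ 0} := by
    obtain ⟨r, hr, hr0⟩ := hS0
    exact ⟨⟨r, hr, hr0⟩⟩
  obtain ⟨r0, hr0S, hr0⟩ := hS0
  have := hiso r0 hr0S
  have hch : ∀ i : {a : R // a ∈ S ∧ a ≠ 0}, chRing K S i.1 =
      Subring.closure ((R : Set K) ∪ (fun y => algebraMap R K y / algebraMap R K i.1) '' S) := by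
    intro i
    have h1 : Set.range (algebraMap R K) = (R : Set K) := by
      ext x
      constructor
      · rintro ⟨y, rfl⟩
        exact y.2
      · intro hx
        exact ⟨⟨x, hx⟩, rfl⟩
    rw [chRing, h1]
  obtain ⟨X, hX, g, hg, hgiso, e, hic, he, hloc⟩ := exists_normal_model b f hf U hU hcov hfU (by
    intro i
    rw [hrange i, hch i]
    exact hN _ (hSfin.image _)) r0 hr0
  refine ⟨X, hX, g, hg, PrimeSpectrum.basicOpen r0, hgiso, e, ?_, hic, he, ?_⟩
  · refine ⟨(⊥ : PrimeSpectrum R), ?_⟩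
    change r0 ∉ (⊥ : Ideal R)
    exact hr0
  · intro x
    obtain ⟨⟨a, ⟨y, hy, hay⟩, ha0⟩, hi⟩ := hloc x
    have hy0 : y ≠ 0 := by
      rintro rfl
      rw [mul_zero] at hay
      exact ha0 (Subtype.ext hay)
    refine ⟨y, hy, hy0, fun z hz => ?_⟩
    apply hi
    rw [hrange]
    obtain ⟨c, hc⟩ := hd' z hz
    have h1 : z / y = algebraMap R K c / algebraMap R K a := by
      change z / y = (c : K) / (a : K)
      rw [hc, hay, mul_div_mul_left _ _ hd0]
    rw [h1]
    exact Subring.subset_closure (Or.inr ⟨c, ⟨z, hz, hc⟩, rfl⟩)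

end final

end Groth.Agent.Lipman.NormModel
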