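import Groth.Agent.Lipman.Loc
import Groth.Agent.CurvesC.ModDim

/-!
Orders of rational functions at codimension-one points with discrete valuation local rings, in terms of the
subrings `loc x`.
-/

set_option autoImplicit false

universe u

open CategoryTheory AlgebraicGeometry TopologicalSpace IsLocalRing

namespace Groth.Agent.Lipman.OrdLoc

open Groth.Agent.Lipman.Loc Groth.Agent.CurvesC.ModDim Groth.Agent.Ega4dB.CDivNormal

section Rat

variable {A : Type u} [CommRing A] {X : Scheme.{u}} [IsIntegral X] (f : X ⟶ Spec (CommRingCat.of A))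

instance nonemptyTop {X : Scheme.{u}} [IsIntegral X] : Nonempty (⊤ : X.Opens) := ⟨⟨genericPoint X, trivial⟩⟩

/-- Elements of `A` as rational functions on `X`. -/
noncomputable def ratOf : A →+* X.functionField :=
  (X.germToFunctionField ⊤).hom.comp (toSec f ⊤)

theorem ratOf_mem_loc (a : A) (x : X) : ratOf f a ∈ loc x :=
  germToFunctionField_mem_loc (V := ⊤) _ (Opens.mem_top x)

theorem isVan_ratOf_iff (a : A) (x : X) : IsVan (ratOf f a) x ↔ a ∈ (f x).asIdeal := by
  rw [← comap_pr f x (V := ⊤) trivial, Ideal.mem_comap, mem_pr]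
  exact isVan_germToFunctionField_iff (V := ⊤) _ (Opens.mem_top x)

end Rat

section Ord

variable {X : Scheme.{u}} [IsIntegral X] [IsLocallyNoetherian X]

theorem ord_inv {s : X.functionField} (hs : s ≠ 0) (y : X) : Scheme.ord s⁻¹ y = - Scheme.ord s y := by
  have h := Scheme.ord_mul (x := y) hs (inv_ne_zero hs)
  have h1 := Scheme.ord_mul (x := y) (f := (1 : X.functionField)) (g := 1) one_ne_zero one_ne_zero
  rw [mul_inv_cancel₀ hs] at h
  rw [mul_one] at h1
  omega

theorem ord_one (y : X) : Scheme.ord (1 : X.functionField) y = 0 := by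
  have h1 := Scheme.ord_mul (x := y) (f := (1 : X.functionField)) (g := 1) one_ne_zero one_ne_zero
  rw [mul_one] at h1
  omega

theorem ord_pow {s : X.functionField} (hs : s ≠ 0) (y : X) (n : ℕ) :
    Scheme.ord (s ^ n) y = n * Scheme.ord s y := by
  induction n with
  | zero => simp [ord_one]
  | succ n ih =>
    rw [pow_succ, Scheme.ord_mul (pow_ne_zero n hs) hs, ih]
    push_cast
    ring

variable (y : X) [hy : IsDiscreteValuationRing (X.presheaf.stalk y)]

theorem mem_loc_iff_ord {s : X.functionField} (hs : s ≠ 0) : s ∈ loc y ↔ 0 ≤ Scheme.ord s y := by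
  constructor
  · intro h
    exact ord_nonneg_of_mem_range y s hs h
  · intro h
    by_contra h'
    have := ord_neg_of_not_mem_range y s hs h'
    omega

theorem isVan_iff_ord {s : X.functionField} (hs : s ≠ 0) : IsVan s y ↔ 0 < Scheme.ord s y := by
  rw [isVan_iff, mem_loc_iff_ord y hs, mem_loc_iff_ord y (inv_ne_zero hs), ord_inv hs]
  constructor
  · rintro ⟨h1, h2⟩
    have := h2 hs
    omega
  · intro h
    exact ⟨h.le, fun _ => by omega⟩

/-- The elementary estimate behind the maximal pole ratio argument. -/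
theorem isVan_sub_of_pole {s t h : X.functionField} (hst : s - t ∈ loc y) (hh : h ≠ 0) {n a b : ℕ}
    (hs : s = 0 ∨ - (n : ℤ) ≤ Scheme.ord s y) (ht : t = 0 ∨ - (n : ℤ) ≤ Scheme.ord t y)
    (hn : 0 < n) (hb : (n : ℤ) * b ≤ a * Scheme.ord h y) :
    IsVan (s ^ b * h ^ a - t ^ b * h ^ a) y := by
  have h1 : s ^ b * h ^ a - t ^ b * h ^ a =
      (s - t) * ∑ i ∈ Finset.range b, s ^ i * t ^ (b - 1 - i) * h ^ a := by
    rw [← Finset.sum_mul, ← mul_assoc, (Commute.all s t).mul_geom_sum₂]
    ring
  rw [h1]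
  refine IsVan.mul_left hst ?_
  refine Finset.sum_induction _ (fun z => IsVan z y) (fun _ _ h h' => h.add h') (isVan_zero y) ?_
  intro i hi
  rw [Finset.mem_range] at hi
  by_cases hz : s ^ i * t ^ (b - 1 - i) * h ^ a = 0
  · rw [hz]
    exact isVan_zero y
  rw [isVan_iff_ord y hz]
  have hz1 : s ^ i * t ^ (b - 1 - i) ≠ 0 := left_ne_zero_of_mul hz
  have hz2 : s ^ i ≠ 0 := left_ne_zero_of_mul hz1
  have hz3 : t ^ (b - 1 - i) ≠ 0 := right_ne_zero_of_mul hz1
  rw [Scheme.ord_mul hz1 (pow_ne_zero a hh), Scheme.ord_mul hz2 hz3, ord_pow hh]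
  have e1 : -(n : ℤ) * i ≤ Scheme.ord (s ^ i) y := by
    rcases eq_or_ne s 0 with rfl | hs0
    · rcases Nat.eq_zero_or_pos i with rfl | hi'
      · simp [ord_one]
      · exact absurd (zero_pow hi'.ne') hz2
    · rw [ord_pow hs0]
      have := hs.resolve_left hs0
      nlinarith
  have e2 : -(n : ℤ) * ((b - 1 - i : ℕ) : ℤ) ≤ Scheme.ord (t ^ (b - 1 - i)) y := by
    rcases eq_or_ne t 0 with rfl | ht0
    · rcases Nat.eq_zero_or_pos (b - 1 - i) with hi' | hi'
      · rw [hi']
        simp [ord_one]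
      · exact absurd (zero_pow hi'.ne') hz3
    · rw [ord_pow ht0]
      have := ht.resolve_left ht0
      nlinarith
  have e3 : ((b - 1 - i : ℕ) : ℤ) = b - 1 - i := by omega
  rw [e3] at e2
  nlinarith

end Ord

end Groth.Agent.Lipman.OrdLoc
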