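import Groth.Agent.Lipman.OrdLoc
import Groth.Agent.Lipman.ClopenSec
import Groth.Agent.S1655
import Groth.Agent.Grpsch.QFin

/-!
Points of modifications `f : X ⟶ Spec A` of a local domain.
-/

set_option autoImplicit false

universe u

open CategoryTheory AlgebraicGeometry TopologicalSpace IsLocalRing

namespace Groth.Agent.Lipman.Pts

open Groth.Agent.Lipman.Loc Groth.Agent.Lipman.OrdLoc Groth.Agent.CurvesC.ModDim

theorem exists_prime_not_ge {R : Type*} [CommRing R] [IsDomain R] [IsLocalRing R] [IsNoetherianRing R]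
    (I P : Ideal R) [hPp : P.IsPrime] (hI : I ≠ ⊥) (hIP : I ≤ P) (hP : P ≠ maximalIdeal R) :
    ∃ q : Ideal R, q.IsPrime ∧ q ≠ ⊥ ∧ ¬ I ≤ q := by
  have hfin := I.finite_minimalPrimes_of_isNoetherianRing R
  have h1 : ¬ (maximalIdeal R : Set R) ⊆ ⋃ Q ∈ I.minimalPrimes, (Q : Set R) := by
    intro h
    obtain ⟨Q, hQ, hle⟩ := (Ideal.subset_union_prime_finite hfin (f := id) ⊥ ⊥ (fun Q hQ _ _ => hQ.1.1)).mp h
    have h2 : maximalIdeal R ≤ Q := hle
    have h3 : P ≤ Q := (le_maximalIdeal hPp.ne_top).trans h2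
    have h4 : Q ≤ P := hQ.2 ⟨hPp, hIP⟩ h3
    exact hP (le_antisymm (le_maximalIdeal hPp.ne_top) (h2.trans h4))
  rw [Set.not_subset] at h1
  obtain ⟨g, hgm, hg⟩ := h1
  simp only [Set.mem_iUnion, not_exists] at hg
  obtain ⟨Q0, hQ0, hQ0P⟩ := Ideal.exists_minimalPrimes_le hIP
  have hg0 : g ≠ 0 := by
    rintro rfl
    exact hg Q0 hQ0 (Q0.zero_mem)
  obtain ⟨q, hq, hqle⟩ := Ideal.exists_minimalPrimes_le
    (I := Ideal.span {g}) (J := maximalIdeal R) ((Ideal.span_singleton_le_iff_mem _).mpr hgm)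
  have hgq : g ∈ q := hq.1.2 (Ideal.mem_span_singleton_self g)
  have hqp : q.IsPrime := hq.1.1
  refine ⟨q, hq.1.1, ?_, ?_⟩
  · rintro rfl
    exact hg0 hgq
  · intro hIq
    obtain ⟨Q, hQ, hQq⟩ := Ideal.exists_minimalPrimes_le hIq
    have hlt : Q < q := lt_of_le_of_ne hQq (by rintro rfl; exact hg Q hQ hgq)
    have hQp : Q.IsPrime := hQ.1.1
    have h5 : q.height ≤ 1 := Ideal.height_le_one_of_isPrincipal_of_mem_minimalPrimes (Ideal.span {g}) q hq
    have h6 : Q.height < q.height := Ideal.height_strict_mono_of_isPrime_of_isPrime hlt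
    have h7 : Q.height = 0 := by
      have : Q.height < 1 := lt_of_lt_of_le h6 h5
      exact Order.lt_one_iff.mp this
    have h8 : Q ∈ minimalPrimes R := Ideal.height_eq_zero_iff.mp h7
    rw [IsDomain.minimalPrimes_eq_singleton_bot] at h8
    exact hI (le_bot_iff.mp (hQ.1.2.trans (le_of_eq h8)))


section Geom

variable {A : Type u} [CommRing A] [IsDomain A] {X : Scheme.{u}} [IsIntegral X]
  (f : X ⟶ Spec (CommRingCat.of A)) (U : (Spec (CommRingCat.of A)).Opens)

omit [IsDomain A] [IsIntegral X] in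
theorem eq_of_map_eq [IsIso (f ∣_ U)] {z z' : X} (hz : f z ∈ U) (h : f z = f z') : z = z' := by
  have hz' : f z' ∈ U := h ▸ hz
  have hoi : IsOpenImmersion ((f ⁻¹ᵁ U).ι ≫ f) := by
    rw [← morphismRestrict_ι]
    infer_instance
  exact congrArg Subtype.val (hoi.base_open.injective (a₁ := ⟨z, hz⟩) (a₂ := ⟨z', hz'⟩) h)

theorem map_genericPoint [IsIso (f ∣_ U)] (hU : (U : Set (Spec (CommRingCat.of A))).Nonempty) :
    f (genericPoint X) = genericPoint (Spec (CommRingCat.of A)) := by
  have hg : genericPoint (Spec (CommRingCat.of A)) ∈ U :=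
    ((genericPoint_spec (Spec (CommRingCat.of A))).mem_open_set_iff U.isOpen).mpr (by simpa using hU)
  have h1 : f ((inv (f ∣_ U)) ⟨_, hg⟩).1 = genericPoint (Spec (CommRingCat.of A)) := by
    have h2 : inv (f ∣_ U) ≫ (f ⁻¹ᵁ U).ι ≫ f = U.ι := by
      rw [← morphismRestrict_ι, IsIso.inv_hom_id_assoc]
    exact congrArg (fun g => g.base ⟨_, hg⟩) h2
  have h2 : f (genericPoint X) ⤳ f ((inv (f ∣_ U)) ⟨_, hg⟩).1 :=
    (genericPoint_specializes _).map f.continuous
  rw [h1] at h2
  exact (h2.antisymm (genericPoint_specializes _)).eq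

theorem asIdeal_eq_bot_iff [IsIso (f ∣_ U)] (hU : (U : Set (Spec (CommRingCat.of A))).Nonempty) (z : X) :
    (f z).asIdeal = ⊥ ↔ z = genericPoint X := by
  have h0 : f (genericPoint X) = (⊥ : PrimeSpectrum A) := by
    rw [map_genericPoint f U hU]
    exact genericPoint_eq_bot_of_affine _
  have hg : genericPoint (Spec (CommRingCat.of A)) ∈ U :=
    ((genericPoint_spec (Spec (CommRingCat.of A))).mem_open_set_iff U.isOpen).mpr (by simpa using hU)
  rw [← map_genericPoint f U hU] at hg
  constructor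
  · intro h
    have h1 : f z = f (genericPoint X) := by
      rw [h0]
      exact PrimeSpectrum.ext h
    exact eq_of_map_eq f U (h1 ▸ hg) h1
  · rintro rfl
    rw [h0]
    rfl

/-- A point of codimension one of the closed fibre has no proper generization in the closed fibre. -/
theorem eq_of_specializes [IsLocalRing A] [IsIso (f ∣_ U)] (hU : (U : Set (Spec (CommRingCat.of A))).Nonempty)
    (hA : maximalIdeal A ≠ ⊥) {y z : X} (hy : Order.coheight y = 1) (hz : f z = closedPoint A)
    (h : z ⤳ y) : z = y := by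
  by_contra hne
  have h1 : ¬ y ⤳ z := fun h' => hne (h.antisymm h').eq
  have hlt : y < z := lt_of_le_not_ge h h1
  have h2 : Order.coheight z < Order.coheight y := by
    refine Order.coheight_strictAnti hlt (lt_of_le_of_lt (Order.coheight_anti hlt.le) ?_)
    rw [hy]
    exact ENat.one_lt_top
  rw [hy, Order.lt_one_iff] at h2
  have h3 : IsMax z := Order.coheight_eq_zero.mp h2
  have h4 : z ⤳ genericPoint X := h3 (genericPoint_specializes z)
  have h5 : z = genericPoint X := (h4.antisymm (genericPoint_specializes z)).eq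
  rw [← asIdeal_eq_bot_iff f U hU, hz] at h5
  exact hA h5

section Noeth

variable [IsLocalRing A] [IsNoetherianRing A] [IsIso (f ∣_ U)]

/-- The closed fibre is a finite union of closures of points, and each codimension one point of the fibre is one
of them. -/
theorem exists_finite [LocallyOfFiniteType f] [QuasiCompact f]
    (hU : (U : Set (Spec (CommRingCat.of A))).Nonempty) (hA : maximalIdeal A ≠ ⊥) :
    ∃ S : Set (Set X), S.Finite ∧ (∀ t ∈ S, IsClosed t) ∧ (f ⁻¹' {closedPoint A} : Set X) = ⋃₀ S ∧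
      ∀ t ∈ S, ∀ y ∈ t, Order.coheight y = 1 → t = closure {y} := by
  have hN : IsLocallyNoetherian X := LocallyOfFiniteType.isLocallyNoetherian f
  have hc : CompactSpace X := QuasiCompact.compactSpace_of_compactSpace f
  have hNo : IsNoetherian X := {}
  have hcl : IsClosed (f ⁻¹' {closedPoint A} : Set X) :=
    ((PrimeSpectrum.isClosed_singleton_iff_isMaximal (closedPoint A)).mpr
      (maximalIdeal.isMaximal A)).preimage f.continuous
  obtain ⟨S, hS, hS1, hS2, hS3⟩ := NoetherianSpace.exists_finite_set_isClosed_irreducible hcl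
  refine ⟨S, hS, hS1, hS3, ?_⟩
  intro t ht y hy hy1
  obtain ⟨z, hz⟩ := QuasiSober.sober (hS2 t ht) (hS1 t ht)
  have hzt : z ∈ t := hz.mem
  have hz0 : z ∈ (f ⁻¹' {closedPoint A} : Set X) := by
    rw [hS3]
    exact ⟨t, ht, hzt⟩
  have h1 : z ⤳ y := hz.specializes hy
  have := eq_of_specializes f U hU hA hy1 hz0 h1
  subst this
  exact hz.symm

theorem finite_codimOne [LocallyOfFiniteType f] [QuasiCompact f]
    (hU : (U : Set (Spec (CommRingCat.of A))).Nonempty) (hA : maximalIdeal A ≠ ⊥) :
    {y : X | f y = closedPoint A ∧ Order.coheight y = 1}.Finite := by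
  obtain ⟨S, hS, hS1, hS3, hS4⟩ := exists_finite f U hU hA
  have hinj : Set.InjOn (fun y : X => closure {y}) {y : X | f y = closedPoint A ∧ Order.coheight y = 1} := by
    intro y _ z _ h
    exact (inseparable_iff_closure_eq.mpr h).eq
  refine Set.Finite.of_finite_image (f := fun y : X => closure {y}) (hS.subset ?_) hinj
  rintro _ ⟨y, ⟨hy, hy1⟩, rfl⟩
  have h1 : y ∈ ⋃₀ S := by
    rw [← hS3]
    exact hy
  obtain ⟨t, ht, hyt⟩ := h1
  change closure {y} ∈ S
  rw [← hS4 t ht y hyt hy1]
  exact ht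

/-- A codimension one point of the closed fibre is not closed. -/
theorem exists_specializes [IsProper f] (hd : 1 < ringKrullDim A) [IsIntegrallyClosed A]
    (hU : (U : Set (Spec (CommRingCat.of A))).Nonempty) {y : X} (hy : f y = closedPoint A)
    (hy1 : Order.coheight y = 1) : ∃ x : X, y ⤳ x ∧ x ≠ y := by
  have hA : maximalIdeal A ≠ ⊥ := by
    intro h
    have h1 : IsField A := by
      by_contra h2
      exact (Ring.ne_bot_of_isMaximal_of_not_isField (maximalIdeal.isMaximal A) h2) h
    rw [ringKrullDim_eq_zero_of_isField h1] at hd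
    exact absurd hd (by decide)
  by_contra! hcon
  have hcl : closure {y} = {y} := by
    apply Set.eq_singleton_iff_unique_mem.mpr
    exact ⟨subset_closure rfl, fun x hx => hcon x (specializes_iff_mem_closure.mpr hx)⟩
  obtain ⟨S, hS, hS1, hS3, hS4⟩ := exists_finite f U hU hA
  have hq : f.QuasiFiniteAt y := by
    rw [Groth.Agent.Grpsch.QFin.quasiFiniteAt_iff_exists_opens]
    refine ⟨⟨(⋃₀ {t ∈ S | y ∉ t})ᶜ, ?_⟩, ?_, ?_⟩
    · rw [isOpen_compl_iff]
      rw [Set.sUnion_eq_biUnion]
      exact Set.Finite.isClosed_biUnion (hS.subset fun _ h => h.1) fun t ht => hS1 t ht.1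
    · rintro ⟨t, ht, hyt⟩
      exact ht.2 hyt
    · intro x hx hx'
      have h1 : x ∈ ⋃₀ S := by
        rw [← hS3]
        exact hx'.trans hy
      obtain ⟨t, ht, hxt⟩ := h1
      have hyt : y ∈ t := by
        by_contra h2
        exact hx ⟨t, ⟨ht, h2⟩, hxt⟩
      have h3 := hS4 t ht y hyt hy1
      rw [h3, hcl] at hxt
      exact hxt
  have hN : IsNoetherian (Spec (CommRingCat.of A)) := inferInstance
  have hic : IsIntegrallyClosed ((Spec (CommRingCat.of A)).presheaf.stalk (closedPoint A)) :=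
    IsIntegrallyClosed.of_equiv (stalkClosedPointIso (CommRingCat.of A)).symm.commRingCatIsoToRingEquiv
  obtain ⟨V, hV, hVi⟩ := Groth.Agent.S1655.result f U hU inferInstance (closedPoint A) hic y hy hq
  have hyV : y ∈ f ⁻¹ᵁ V := by
    change f y ∈ V
    rw [hy]
    exact hV
  have hst : IsIso (f.stalkMap y) := by
    have h1 : IsIso ((f ∣_ V).stalkMap ⟨y, hyV⟩) := inferInstance
    exact ((MorphismProperty.isomorphisms CommRingCat).arrow_mk_iso_iff
      (morphismRestrictStalkMap f V ⟨y, hyV⟩)).mp h1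
  have e1 := (asIso (f.stalkMap y)).commRingCatIsoToRingEquiv
  have e2 : ringKrullDim (X.presheaf.stalk y) = ringKrullDim A := by
    rw [← ringKrullDim_eq_of_ringEquiv e1, hy]
    exact ringKrullDim_eq_of_ringEquiv (stalkClosedPointIso (CommRingCat.of A)).commRingCatIsoToRingEquiv
  rw [ringKrullDim_stalk_eq_coheight, hy1] at e2
  rw [← e2] at hd
  exact lt_irrefl _ hd

/-- Near a codimension one point `y` of the closed fibre there is a point `x` of the closed fibre and a point `ζ`
outside the closed fibre and different from the generic point, both specializing suitably. -/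
theorem exists_curve_point [IsProper f] (hd : 1 < ringKrullDim A) [IsIntegrallyClosed A]
    (hU : (U : Set (Spec (CommRingCat.of A))).Nonempty) {y : X} (hy : f y = closedPoint A)
    (hy1 : Order.coheight y = 1) : ∃ (x ζ : X) (h : A), y ⤳ x ∧ f x = closedPoint A ∧ ζ ⤳ x ∧
      f ζ ≠ closedPoint A ∧ h ≠ 0 ∧ h ∈ (f ζ).asIdeal := by
  have hA : maximalIdeal A ≠ ⊥ := by
    intro h
    have h1 : IsField A := by
      by_contra h2
      exact (Ring.ne_bot_of_isMaximal_of_not_isField (maximalIdeal.isMaximal A) h2) h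
    rw [ringKrullDim_eq_zero_of_isField h1] at hd
    exact absurd hd (by decide)
  have hN : IsLocallyNoetherian X := LocallyOfFiniteType.isLocallyNoetherian f
  obtain ⟨x, hyx, hxy⟩ := exists_specializes f U hd hU hy hy1
  have hx : f x = closedPoint A := by
    have h1 : f y ⤳ f x := hyx.map f.continuous
    rw [hy] at h1
    have h2 : IsClosed ({closedPoint A} : Set (PrimeSpectrum A)) :=
      (PrimeSpectrum.isClosed_singleton_iff_isMaximal (closedPoint A)).mpr (maximalIdeal.isMaximal A)
    exact h1.mem_closed h2 rfl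
  let φ : CommRingCat.of A ⟶ X.presheaf.stalk x := Spec.preimage (X.fromSpecStalk x ≫ f)
  have hφ : Spec.map φ = X.fromSpecStalk x ≫ f := Spec.map_preimage _
  have hφ' : ∀ q : PrimeSpectrum (X.presheaf.stalk x), (f (X.fromSpecStalk x q)).asIdeal =
      q.asIdeal.comap φ.hom := by
    intro q
    have : f (X.fromSpecStalk x q) = (Spec.map φ) q := by
      rw [hφ]
      rfl
    rw [this]
    rfl
  -- the generic point
  have hinj : Function.Injective (X.fromSpecStalk x) := (X.fromSpecStalk x).isEmbedding.injective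
  have hbot : X.fromSpecStalk x (⊥ : PrimeSpectrum (X.presheaf.stalk x)) = genericPoint X := by
    have h1 : genericPoint X ∈ Set.range (X.fromSpecStalk x) := by
      rw [Scheme.range_fromSpecStalk]
      exact genericPoint_specializes x
    obtain ⟨q0, hq0⟩ := h1
    have h2 : (⊥ : PrimeSpectrum (X.presheaf.stalk x)) ⤳ q0 :=
      (PrimeSpectrum.le_iff_specializes _ _).mp bot_le
    have h3 := h2.map (X.fromSpecStalk x).continuous
    rw [hq0] at h3
    exact (h3.antisymm (genericPoint_specializes _)).eq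
  have hφinj : ∀ a, φ.hom a = 0 → a = 0 := by
    intro a ha
    have h1 : (f (genericPoint X)).asIdeal = ⊥ := (asIdeal_eq_bot_iff f U hU _).mpr rfl
    rw [← hbot, hφ'] at h1
    rw [← Ideal.mem_bot, ← h1]
    exact ha
  have hloc : (maximalIdeal (X.presheaf.stalk x)).comap φ.hom = maximalIdeal A := by
    have h1 := hφ' (closedPoint _)
    rw [Scheme.fromSpecStalk_closedPoint, hx] at h1
    exact h1.symm
  obtain ⟨P, hP⟩ : y ∈ Set.range (X.fromSpecStalk x) := by
    rw [Scheme.range_fromSpecStalk]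
    exact hyx
  let I : Ideal (X.presheaf.stalk x) := (maximalIdeal A).map φ.hom
  have hI : I ≠ ⊥ := by
    intro h
    apply hA
    rw [eq_bot_iff]
    intro a ha
    apply hφinj
    rw [← Ideal.mem_bot, ← h]
    exact Ideal.mem_map_of_mem _ ha
  have hIP : I ≤ P.asIdeal := by
    rw [Ideal.map_le_iff_le_comap, ← hφ', hP, hy]
    exact le_rfl
  have hPm : P.asIdeal ≠ maximalIdeal (X.presheaf.stalk x) := by
    intro h
    have : P = closedPoint _ := PrimeSpectrum.ext h
    rw [this, Scheme.fromSpecStalk_closedPoint] at hP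
    exact hxy hP
  have hPp := P.isPrime
  obtain ⟨q, hq, hq0, hIq⟩ := exists_prime_not_ge I P.asIdeal hI hIP hPm
  let ζ : X := X.fromSpecStalk x ⟨q, hq⟩
  have hζ : ζ ⤳ x := by
    have : ζ ∈ Set.range (X.fromSpecStalk x) := ⟨_, rfl⟩
    rw [Scheme.range_fromSpecStalk] at this
    exact this
  have hζ1 : f ζ ≠ closedPoint A := by
    intro h
    apply hIq
    rw [Ideal.map_le_iff_le_comap]
    have h1 := hφ' ⟨q, hq⟩
    rw [show f (X.fromSpecStalk x ⟨q, hq⟩) = closedPoint A from h] at h1
    exact h1.le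
  have hζ2 : (f ζ).asIdeal ≠ ⊥ := by
    intro h
    rw [asIdeal_eq_bot_iff f U hU, ← hbot] at h
    have h1 := hinj h
    apply hq0
    exact congrArg PrimeSpectrum.asIdeal h1
  obtain ⟨h, hh, hh0⟩ := Submodule.exists_mem_ne_zero_of_ne_bot hζ2
  exact ⟨x, ζ, h, hyx, hx, hζ, hζ1, hh0, hh⟩

end Noeth

end Geom

end Groth.Agent.Lipman.Pts
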