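import Groth.Agent.Lipman.Cpt661

/-!
# Affine Cousin vanishing and quasi-compactness: a locally constant Cousin datum on the
Zariski-Riemann space is constant on the charts of some tuple.
-/

set_option autoImplicit false

universe u

namespace Groth.Agent.Lipman.QC

open Groth.Agent.Lipman.Cpt

variable {K : Type u} [Field K]

/-- the localisation of a valuation subring at the powers of `h` -/
def locPow (V : ValuationSubring K) (h : K) (hh : h ∈ V) : ValuationSubring K :=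
  V.ofLE
    { carrier := {y | ∃ n : ℕ, h ^ n * y ∈ V}
      mul_mem' := by
        rintro x y ⟨n, hn⟩ ⟨m, hm⟩
        refine ⟨n + m, ?_⟩
        have : h ^ (n + m) * (x * y) = (h ^ n * x) * (h ^ m * y) := by ring
        rw [this]
        exact V.mul_mem _ _ hn hm
      one_mem' := ⟨0, by simpa using V.one_mem⟩
      add_mem' := by
        rintro x y ⟨n, hn⟩ ⟨m, hm⟩
        refine ⟨n + m, ?_⟩
        have : h ^ (n + m) * (x + y) = h ^ m * (h ^ n * x) + h ^ n * (h ^ m * y) := by ring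
        rw [this]
        exact V.add_mem _ _ (V.mul_mem _ _ (pow_mem hh _) hn) (V.mul_mem _ _ (pow_mem hh _) hm)
      zero_mem' := ⟨0, by simpa using V.zero_mem⟩
      neg_mem' := by
        rintro x ⟨n, hn⟩
        refine ⟨n, ?_⟩
        rw [mul_neg]
        exact V.neg_mem _ hn }
    (fun x hx ↦ ⟨0, by simpa using hx⟩)

lemma mem_locPow {V : ValuationSubring K} {h : K} {hh : h ∈ V} {x : K} :
    x ∈ locPow V h hh ↔ ∃ n : ℕ, h ^ n * x ∈ V := Iff.rfl

lemma le_locPow (V : ValuationSubring K) (h : K) (hh : h ∈ V) : V ≤ locPow V h hh :=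
  fun x hx ↦ ⟨0, by simpa using hx⟩

/-- uniform powers -/
theorem exists_pow (R : Subring K) (h x : K)
    (hh : ∀ V : ValuationSubring K, R ≤ V.toSubring → h ∈ V) (h0 : h ≠ 0)
    (hx : ∀ V : ValuationSubring K, R ≤ V.toSubring → h⁻¹ ∈ V → x ∈ V) :
    ∃ N : ℕ, ∀ V : ValuationSubring K, R ≤ V.toSubring → h ^ N * x ∈ V := by
  classical
  obtain ⟨t, ht⟩ := exists_finite_cover R (fun n : ℕ ↦ ({h ^ n * x} : Finset K)) (fun _ ↦ ∅) (by
    intro V hV
    have hmem : x ∈ locPow V h (hh V hV) :=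
      hx _ (fun y hy ↦ le_locPow V h (hh V hV) (hV hy))
        (mem_locPow.mpr ⟨1, by rw [pow_one, mul_inv_cancel₀ h0]; exact V.one_mem⟩)
    obtain ⟨n, hn⟩ := mem_locPow.mp hmem
    exact ⟨n, by simpa using hn, by simp⟩)
  refine ⟨t.sup id, fun V hV ↦ ?_⟩
  obtain ⟨n, hn, h1, -⟩ := ht V hV
  have h1' : h ^ n * x ∈ V := by simpa using h1
  have hle : n ≤ t.sup id := Finset.le_sup (f := id) hn
  obtain ⟨k, hk⟩ := Nat.exists_eq_add_of_le hle
  rw [hk, pow_add, mul_comm (h ^ n), mul_assoc]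
  exact V.mul_mem _ _ (pow_mem (hh V hV) _) h1'

/-- partition of unity -/
theorem exists_partition (R : Subring K) {L : Type*} [Fintype L] (h : L → K)
    (hh : ∀ l, ∀ V : ValuationSubring K, R ≤ V.toSubring → h l ∈ V) (h0 : ∀ l, h l ≠ 0)
    (hu : ∀ V : ValuationSubring K, R ≤ V.toSubring → ∃ l, (h l)⁻¹ ∈ V) (N : ℕ) :
    ∃ e : L → K, (∀ l, ∀ V : ValuationSubring K, R ≤ V.toSubring → e l ∈ V) ∧
      ∑ l, e l * h l ^ N = 1 := by
  classical
  let B : Subring K := ⨅ V : {V : ValuationSubring K // R ≤ V.toSubring}, V.1.toSubring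
  have hB : ∀ {x : K}, x ∈ B ↔ ∀ V : ValuationSubring K, R ≤ V.toSubring → x ∈ V := by
    intro x
    simp only [B, Subring.mem_iInf, Subtype.forall]
    rfl
  let hb : L → B := fun l ↦ ⟨h l ^ N, hB.mpr fun V hV ↦ pow_mem (hh l V hV) N⟩
  have htop : Ideal.span (Set.range hb) = ⊤ := by
    by_contra hne
    obtain ⟨V, hBV, hV⟩ := Ideal.image_subset_nonunits_valuationSubring _ hne
    have hRV : R ≤ V.toSubring := fun x hx ↦ hBV (hB.mpr fun W hW ↦ hW hx)
    obtain ⟨l, hl⟩ := hu V hRV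
    have h1 : (h l ^ N) ∈ V.nonunits := hV ⟨hb l, Ideal.subset_span ⟨l, rfl⟩, rfl⟩
    rw [ValuationSubring.mem_nonunits_iff_or] at h1
    rcases h1 with h1 | h1
    · exact pow_ne_zero N (h0 l) h1
    · exact h1 (by rw [← inv_pow]; exact pow_mem hl N)
  have h1 : (1 : B) ∈ Ideal.span (Set.range hb) := htop ▸ Submodule.mem_top
  rw [Ideal.mem_span_range_iff_exists_fun] at h1
  obtain ⟨c, hc⟩ := h1
  refine ⟨fun l ↦ (c l : K), fun l V hV ↦ hB.mp (c l).2 V hV, ?_⟩
  have := congrArg (Subtype.val : B → K) hc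
  simpa [hb] using this

/-- affine Cousin vanishing -/
theorem affine_cousin (R : Subring K) {L : Type*} [Fintype L] (h f : L → K)
    (hh : ∀ l, ∀ V : ValuationSubring K, R ≤ V.toSubring → h l ∈ V) (h0 : ∀ l, h l ≠ 0)
    (hu : ∀ V : ValuationSubring K, R ≤ V.toSubring → ∃ l, (h l)⁻¹ ∈ V)
    (hf : ∀ l l', ∀ V : ValuationSubring K, R ≤ V.toSubring → (h l)⁻¹ ∈ V → (h l')⁻¹ ∈ V →
      f l - f l' ∈ V) :
    ∃ g : K, ∀ V : ValuationSubring K, R ≤ V.toSubring → ∀ l, (h l)⁻¹ ∈ V → g - f l ∈ V := by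
  classical
  have hN : ∀ l l', ∃ N : ℕ, ∀ V : ValuationSubring K, R ≤ V.toSubring →
      (h l * h l') ^ N * (f l - f l') ∈ V := by
    intro l l'
    refine exists_pow R (h l * h l') (f l - f l')
      (fun V hV ↦ V.mul_mem _ _ (hh l V hV) (hh l' V hV)) (mul_ne_zero (h0 l) (h0 l'))
      (fun V hV hinv ↦ hf l l' V hV ?_ ?_)
    · have : (h l)⁻¹ = h l' * (h l * h l')⁻¹ := by
        rw [mul_inv]; field_simp [h0 l, h0 l']
      rw [this]
      exact V.mul_mem _ _ (hh l' V hV) hinv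
    · have : (h l')⁻¹ = h l * (h l * h l')⁻¹ := by
        rw [mul_inv]; field_simp [h0 l, h0 l']
      rw [this]
      exact V.mul_mem _ _ (hh l V hV) hinv
  choose N hN using hN
  obtain ⟨M, hM⟩ : ∃ M : ℕ, ∀ l l', N l l' ≤ M :=
    ⟨Finset.univ.sup fun l ↦ Finset.univ.sup fun l' ↦ N l l', fun l l' ↦
      (Finset.le_sup (f := fun l' ↦ N l l') (Finset.mem_univ l')).trans
        (Finset.le_sup (f := fun l ↦ Finset.univ.sup fun l' ↦ N l l') (Finset.mem_univ l))⟩
  have hM' : ∀ l l', ∀ V : ValuationSubring K, R ≤ V.toSubring →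
      (h l * h l') ^ M * (f l - f l') ∈ V := by
    intro l l' V hV
    obtain ⟨k, hk⟩ := Nat.exists_eq_add_of_le (hM l l')
    rw [hk, pow_add, mul_comm ((h l * h l') ^ N l l'), mul_assoc]
    exact V.mul_mem _ _ (pow_mem (V.mul_mem _ _ (hh l V hV) (hh l' V hV)) _) (hN l l' V hV)
  obtain ⟨e, he, he1⟩ := exists_partition R h hh h0 hu M
  refine ⟨∑ l, e l * h l ^ M * f l, fun V hV l' hl' ↦ ?_⟩
  have h1 : ∑ l, e l * h l ^ M * f l - f l' =
      ∑ l, e l * (((h l')⁻¹) ^ M * ((h l * h l') ^ M * (f l - f l'))) := by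
    have h2 : f l' = ∑ l, e l * h l ^ M * f l' := by
      rw [← Finset.sum_mul, he1, one_mul]
    conv_lhs => rw [h2]
    rw [← Finset.sum_sub_distrib]
    refine Finset.sum_congr rfl fun l _ ↦ ?_
    have h3 : ((h l')⁻¹) ^ M * (h l * h l') ^ M = h l ^ M := by
      rw [mul_pow, inv_pow, mul_comm (h l ^ M), ← mul_assoc, inv_mul_cancel₀ (pow_ne_zero M (h0 l')),
        one_mul]
    rw [← mul_assoc (((h l')⁻¹) ^ M), h3]
    ring
  rw [h1]
  exact sum_mem fun l _ ↦ V.mul_mem _ _ (he l V hV)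
    (V.mul_mem _ _ (pow_mem hl' M) (hM' l l' V hV))

/-- A Cousin datum which is constant on the members of a finite cover of the Zariski-Riemann space
by basic opens is constant on the charts of a tuple. -/
theorem exists_tuple (R : Subring K) {L : Type*} [Fintype L] (S : L → Finset K) (f : L → K)
    (φ : ValuationSubring K → K)
    (hcov : ∀ V : ValuationSubring K, R ≤ V.toSubring → ∃ l, ∀ s ∈ S l, s ∈ V)
    (hφ : ∀ l, ∀ V : ValuationSubring K, R ≤ V.toSubring → (∀ s ∈ S l, s ∈ V) → φ V - f l ∈ V) :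
    ∃ (n : ℕ) (c : Fin n → K), (∃ i, c i ≠ 0) ∧ ∀ i, c i ≠ 0 → ∃ g : K,
      ∀ V : ValuationSubring K, R ≤ V.toSubring → (∀ j, c j / c i ∈ V) → φ V - g ∈ V := by
  classical
  let I : Type _ := (l : L) → Option (S l)
  let d : (l : L) → Option (S l) → K := fun l o ↦ o.elim 1 Subtype.val
  let c : I → K := fun i ↦ ∏ l, d l (i l)
  -- the statement with index type `I`
  suffices H : (∃ i, c i ≠ 0) ∧ ∀ i, c i ≠ 0 → ∃ g : K,
      ∀ V : ValuationSubring K, R ≤ V.toSubring → (∀ j, c j / c i ∈ V) → φ V - g ∈ V by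
    let e := Fintype.equivFin I
    refine ⟨Fintype.card I, c ∘ e.symm, ?_, fun i hi ↦ ?_⟩
    · obtain ⟨i, hi⟩ := H.1
      exact ⟨e i, by simpa using hi⟩
    · obtain ⟨g, hg⟩ := H.2 (e.symm i) hi
      exact ⟨g, fun V hV hj ↦ hg V hV fun j ↦ by simpa using hj (e j)⟩
  refine ⟨⟨fun _ ↦ none, by simp [c, d]⟩, fun i hi ↦ ?_⟩
  have hdi : ∀ l, d l (i l) ≠ 0 := fun l ↦ (Finset.prod_ne_zero_iff.mp hi) l (Finset.mem_univ l)
  -- ratios
  have hrat : ∀ V : ValuationSubring K, (∀ j, c j / c i ∈ V) → ∀ l (o : Option (S l)),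
      d l o / d l (i l) ∈ V := by
    intro V hV l o
    have h1 := hV (Function.update i l o)
    have h2 : c (Function.update i l o) / c i = d l o / d l (i l) := by
      simp only [c]
      rw [← Finset.prod_div_distrib]
      rw [Finset.prod_eq_single l]
      · simp
      · intro l' _ hne
        rw [Function.update_of_ne hne]
        exact div_self (hdi l')
      · intro h; exact absurd (Finset.mem_univ l) h
    rwa [h2] at h1
  let h : L → K := fun l ↦ (d l (i l))⁻¹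
  let R' : Subring K := Subring.closure ((R : Set K) ∪ Set.range fun j ↦ c j / c i)
  have hR' : ∀ V : ValuationSubring K, R' ≤ V.toSubring ↔
      R ≤ V.toSubring ∧ ∀ j, c j / c i ∈ V := by
    intro V
    rw [Subring.closure_le, Set.union_subset_iff]
    refine and_congr Iff.rfl ?_
    rw [Set.range_subset_iff]
    rfl
  have hS : ∀ V : ValuationSubring K, R' ≤ V.toSubring → ∀ l, (h l)⁻¹ ∈ V → ∀ s ∈ S l, s ∈ V := by
    intro V hV l hl s hs
    have h1 := hrat V ((hR' V).mp hV).2 l (some ⟨s, hs⟩)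
    have h2 : s = d l (some ⟨s, hs⟩) / d l (i l) * (h l)⁻¹ := by
      simp only [h, inv_inv]
      rw [div_mul_cancel₀ _ (hdi l)]
      rfl
    rw [h2]
    exact V.mul_mem _ _ h1 hl
  obtain ⟨g, hg⟩ := affine_cousin R' h f
    (fun l V hV ↦ by
      have := hrat V ((hR' V).mp hV).2 l none
      simpa [h, d] using this)
    (fun l ↦ inv_ne_zero (hdi l))
    (fun V hV ↦ by
      obtain ⟨l, hl⟩ := hcov V ((hR' V).mp hV).1
      refine ⟨l, ?_⟩
      simp only [h, inv_inv]
      rcases hil : i l with _ | s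
      · simpa [d] using V.one_mem
      · exact hl _ s.2)
    (fun l l' V hV h1 h2 ↦ by
      have e1 := hφ l V ((hR' V).mp hV).1 (hS V hV l h1)
      have e2 := hφ l' V ((hR' V).mp hV).1 (hS V hV l' h2)
      have : f l - f l' = (φ V - f l') - (φ V - f l) := by ring
      rw [this]
      exact sub_mem e2 e1)
  refine ⟨g, fun V hV hj ↦ ?_⟩
  have hV' : R' ≤ V.toSubring := (hR' V).mpr ⟨hV, hj⟩
  obtain ⟨l, hl⟩ := hcov V hV
  have hlu : (h l)⁻¹ ∈ V := by
    simp only [h, inv_inv]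
    rcases hil : i l with _ | s
    · simpa [d] using V.one_mem
    · exact hl _ s.2
  have e1 := hφ l V hV hl
  have e2 := hg V hV' l hlu
  have : φ V - g = (φ V - f l) - (g - f l) := by ring
  rw [this]
  exact sub_mem e1 e2

end Groth.Agent.Lipman.QC
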