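import Groth.Agent.Lipman.Defs
import Groth.Agent.Lipman.QC679

/-!
# Dictionary between `Lipman.Defs` (tuples as finite sets) and `Lipman.QC679` (tuples as families)

* `mem_D_of_locally_const`: a function which is locally constant modulo `V` belongs to `D R`.
* `locally_const_of_mem_D`: the converse.
* `mem_D_of_finite_cover`: finite form.
* `isTriv_of_basic_cover`: affine Cousin vanishing, `isConst_of_chartwise`.
-/

set_option autoImplicit false
universe u v w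

open IsLocalRing

namespace Groth.Agent.Lipman.QC

open Groth.Agent.Lipman.Defs

variable {K : Type u} [Field K]

theorem chart_range_iff {ι : Type v} (c : ι → K) (i : ι) (V : ValuationSubring K) :
    Chart (Set.range c) (c i) V ↔ InChart c i V := by
  unfold Chart InChart
  rw [Set.forall_mem_range]

theorem isTuple_range {ι : Type v} [Finite ι] (c : ι → K) (hc : ∃ i, c i ≠ 0) :
    IsTuple (Set.range c) :=
  ⟨Set.finite_range c, by obtain ⟨i, hi⟩ := hc; exact ⟨c i, ⟨i, rfl⟩, hi⟩⟩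

theorem isConst_range_iff (R : Subring K) {ι : Type v} (c : ι → K) (φ : ValuationSubring K → K) :
    IsConst R (Set.range c) φ ↔ IsConstOn R c φ := by
  classical
  constructor
  · rintro ⟨f, hf⟩ i _
    exact ⟨f (c i), fun V hV hi ↦ hf V hV (c i) ⟨i, rfl⟩ ((chart_range_iff c i V).2 hi)⟩
  · intro h
    choose! F hF using h
    have hex : ∀ x : K, ∃ f : K, ∀ V ∈ ZR R, x ∈ Set.range c → Chart (Set.range c) x V →
        φ V - f ∈ V := by
      intro x
      by_cases hx : x ∈ Set.range c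
      · obtain ⟨i, rfl⟩ := hx
        by_cases h0 : c i = 0
        · exact ⟨0, fun V _ _ hc ↦ absurd h0 hc.1⟩
        · exact ⟨F i, fun V hV _ hc ↦ hF i h0 V hV ((chart_range_iff c i V).1 hc)⟩
      · exact ⟨0, fun V _ h ↦ absurd h hx⟩
    choose f hf using hex
    exact ⟨f, fun V hV x hx hc ↦ hf x V hV hx hc⟩

/-- Chartwise form of `IsConst`. -/
theorem isConst_iff (R : Subring K) (s : Set K) (φ : ValuationSubring K → K) :
    IsConst R s φ ↔ ∀ x ∈ s, x ≠ 0 → ∃ f : K, ∀ V ∈ ZR R, Chart s x V → φ V - f ∈ V := by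
  classical
  constructor
  · rintro ⟨f, hf⟩ x hx _
    exact ⟨f x, fun V hV hc ↦ hf V hV x hx hc⟩
  · intro h
    choose! f hf using h
    exact ⟨f, fun V hV x hx hc ↦ hf x hx hc.1 V hV hc⟩

/-- **QC lemma, finite form.** -/
theorem mem_D_of_finite_cover (R : Subring K) {L : Type w} [Finite L] (S : L → Set K)
    (hS : ∀ l, (S l).Finite) (f : L → K) (φ : ValuationSubring K → K)
    (hcov : ∀ V ∈ ZR R, ∃ l, ∀ s ∈ S l, s ∈ V)
    (hφ : ∀ l, ∀ V ∈ ZR R, (∀ s ∈ S l, s ∈ V) → φ V - f l ∈ V) : φ ∈ D R := by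
  classical
  obtain ⟨n, c, hc0, hc⟩ := exists_tuple_of_finite_cover R (fun l ↦ (hS l).toFinset) f φ
    (fun V hV ↦ by
      obtain ⟨l, hl⟩ := hcov V hV
      exact ⟨l, fun s hs ↦ hl s ((hS l).mem_toFinset.1 hs)⟩)
    (fun l V hV h ↦ hφ l V hV fun s hs ↦ h s ((hS l).mem_toFinset.2 hs))
  exact ⟨Set.range c, isTuple_range c hc0, (isConst_range_iff R c φ).2 hc⟩

/-- **QC lemma.** A function which is locally constant modulo `V` belongs to `D R`. -/
theorem mem_D_of_locally_const (R : Subring K) (φ : ValuationSubring K → K)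
    (hφ : ∀ V ∈ ZR R, ∃ (S : Set K) (f : K), S.Finite ∧ (∀ s ∈ S, s ∈ V) ∧
      ∀ W ∈ ZR R, (∀ s ∈ S, s ∈ W) → φ W - f ∈ W) : φ ∈ D R := by
  classical
  obtain ⟨n, c, hc0, hc⟩ := exists_tuple_of_locally_const R φ (fun V hV ↦ by
    obtain ⟨S, f, hS, h1, h2⟩ := hφ V hV
    exact ⟨hS.toFinset, f, fun s hs ↦ h1 s (hS.mem_toFinset.1 hs),
      fun W hW h ↦ h2 W hW fun s hs ↦ h s (hS.mem_toFinset.2 hs)⟩)
  exact ⟨Set.range c, isTuple_range c hc0, (isConst_range_iff R c φ).2 hc⟩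

/-- Elements of `D R` are locally constant modulo `V`. -/
theorem locally_const_of_mem_D {R : Subring K} {φ : ValuationSubring K → K} (h : φ ∈ D R)
    (V : ValuationSubring K) : ∃ (S : Set K) (f : K), S.Finite ∧ (∀ s ∈ S, s ∈ V) ∧
      ∀ W ∈ ZR R, (∀ s ∈ S, s ∈ W) → φ W - f ∈ W := by
  obtain ⟨s, hs, f, hf⟩ := h
  obtain ⟨x, hx, hc⟩ := exists_chart hs V
  refine ⟨(fun y ↦ y / x) '' s, f x, hs.finite.image _, ?_, fun W hW h ↦
    hf W hW x hx ⟨hc.1, fun y hy ↦ h _ ⟨y, hy, rfl⟩⟩⟩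
  rintro _ ⟨y, hy, rfl⟩
  exact hc.2 y hy

/-- **Affine Cousin vanishing** for a subring `A`. -/
theorem isTriv_of_basic_cover (A : Subring K) {ι : Type w} [Finite ι] (g : ι → K)
    (hg : ∀ i, g i ∈ A) (hcov : ∀ V ∈ ZR A, ∃ i, g i ≠ 0 ∧ (g i)⁻¹ ∈ V)
    (φ : ValuationSubring K → K) (f : ι → K)
    (hφ : ∀ i, g i ≠ 0 → ∀ V ∈ ZR A, (g i)⁻¹ ∈ V → φ V - f i ∈ V) : IsTriv A φ :=
  exists_global_of_basic_cover A g hg hcov φ f hφ

/-- `φ` is constant on the charts of `s` iff it is trivial over each chart ring. -/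
theorem isConst_iff_isTriv (R : Subring K) (s : Set K) (φ : ValuationSubring K → K) :
    IsConst R s φ ↔ ∀ x ∈ s, x ≠ 0 → IsTriv (Defs.chartRing R s x) φ := by
  rw [isConst_iff]
  refine forall_congr' fun x ↦ forall_congr' fun _ ↦ forall_congr' fun h0 ↦
    exists_congr fun f ↦ ?_
  constructor
  · intro h V hV
    obtain ⟨h1, h2⟩ := (mem_ZR_chartRing h0).1 hV
    exact h V h1 h2
  · intro h V hV hc
    exact h V ((mem_ZR_chartRing h0).2 ⟨hV, hc⟩)

/-- Being constant can be tested on basic open covers of the chart rings. -/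
theorem isTriv_of_cover_of_isTriv (A : Subring K) {ι : Type w} [Finite ι] (g : ι → K)
    (hg : ∀ i, g i ∈ A) (hcov : ∀ V ∈ ZR A, ∃ i, g i ≠ 0 ∧ (g i)⁻¹ ∈ V)
    (φ : ValuationSubring K → K)
    (hφ : ∀ i, g i ≠ 0 → IsTriv (Subring.closure ((A : Set K) ∪ {(g i)⁻¹})) φ) : IsTriv A φ := by
  choose! f hf using hφ
  refine isTriv_of_basic_cover A g hg hcov φ f fun i hi V hV hinv ↦ hf i hi V ?_
  rw [mem_ZR, Subring.closure_le, Set.union_subset_iff, Set.singleton_subset_iff]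
  exact ⟨hV, hinv⟩

/-- Being constant is local: if every `V` above `A` has a neighbourhood `{W ∋ g⁻¹}`, `g ∈ A`, on which
`φ` is constant, then `φ` is constant on `ZR A`. -/
theorem isTriv_of_locally_basic (A : Subring K) (φ : ValuationSubring K → K)
    (hφ : ∀ V ∈ ZR A, ∃ g ∈ A, g ≠ 0 ∧ g⁻¹ ∈ V ∧ ∃ f : K, ∀ W ∈ ZR A, g⁻¹ ∈ W → φ W - f ∈ W) :
    IsTriv A φ := by
  classical
  choose! g hgA hg0 hgV f hf using hφ
  obtain ⟨T, hT⟩ := exists_finite_subcover A (L := {V : ValuationSubring K // A ≤ V.toSubring})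
    (fun V ↦ {(g V.1)⁻¹}) (fun V hV ↦ ⟨⟨V, hV⟩, by simpa using hgV V hV⟩)
  refine isTriv_of_basic_cover A (ι := T) (fun V ↦ g V.1.1) (fun V ↦ hgA V.1.1 V.1.2)
    (fun V hV ↦ ?_) φ (fun V ↦ f V.1.1) (fun V _ W hW h ↦ hf V.1.1 V.1.2 W hW h)
  obtain ⟨W, hW, h⟩ := hT V hV
  exact ⟨⟨W, hW⟩, hg0 W.1 W.2, by simpa using h⟩

/-- Being constant is local for the local rings of `A`: it suffices that for each prime `P` of `A`
there is `g ∉ P` such that `φ` is constant on `{W | g⁻¹ ∈ W}`. -/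
theorem isTriv_of_locally_prime (A : Subring K) (φ : ValuationSubring K → K)
    (hφ : ∀ P : Ideal A, P.IsPrime → ∃ g : A, g ∉ P ∧
      ∃ f : K, ∀ W ∈ ZR A, (g : K)⁻¹ ∈ W → φ W - f ∈ W) : IsTriv A φ := by
  refine isTriv_of_locally_basic A φ fun V hV ↦ ?_
  let P : Ideal A := (maximalIdeal V).comap (Subring.inclusion hV)
  have hP : P.IsPrime := Ideal.IsPrime.comap _
  obtain ⟨g, hg, f, hf⟩ := hφ P hP
  have hgP : (⟨(g : K), hV g.2⟩ : V) ∉ maximalIdeal V := hg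
  have hu : IsUnit (⟨(g : K), hV g.2⟩ : V) := by
    by_contra h
    exact hgP ((mem_maximalIdeal _).2 h)
  refine ⟨g, g.2, ?_, ?_, f, hf⟩
  · intro h0
    apply hg
    have : g = 0 := Subtype.ext h0
    rw [this]
    exact P.zero_mem
  · obtain ⟨u, hu⟩ := hu
    have h1 : (((u⁻¹ : Vˣ) : V) : K) = (g : K)⁻¹ := by
      have h2 : ((u⁻¹ : Vˣ) : V) * (u : V) = 1 := Units.inv_mul u
      have h3 := congrArg (Subtype.val) h2
      rw [hu] at h3
      exact eq_inv_of_mul_eq_one_left h3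
    rw [← h1]
    exact ((u⁻¹ : Vˣ) : V).2

end Groth.Agent.Lipman.QC
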