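import Groth.Agent.Lipman.QTCore

/-!
# Quadratic transforms: generators of the maximal ideal, embedding dimension, second order conditions

`A → B` local homomorphism of Noetherian local rings, `t, z_i` generators of `m_A`, `z_i = t b_i` in `B`,
`B` a localization of `A[b]`.
-/

set_option autoImplicit false
set_option linter.unusedSectionVars false
universe u v w

open IsLocalRing MvPolynomial

namespace Groth.Agent.Lipman.QTApi

variable {A : Type u} {B : Type v} [CommRing A] [CommRing B] [IsLocalRing A] [IsLocalRing B]
  [IsNoetherianRing B] [Algebra A B] [IsLocalHom (algebraMap A B)]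
  {t : A} {σ : Type w} [Finite σ] {z : σ → A} {b : σ → B}

/-- The ideal of the point in affine space over the residue field. -/
noncomputable def ptI (A : Type u) {B : Type v} [CommRing A] [CommRing B] [IsLocalRing A]
    [IsLocalRing B] [Algebra A B] [IsLocalHom (algebraMap A B)] {σ : Type w} (b : σ → B) :
    Ideal (MvPolynomial σ (ResidueField A)) :=
  RingHom.ker (aeval (fun i => residue B (b i)) :
    MvPolynomial σ (ResidueField A) →ₐ[ResidueField A] ResidueField B)

lemma aeval_residue (F : MvPolynomial σ A) :
    aeval (fun i => residue B (b i)) (map (residue A) F) = residue B (aeval b F) := by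
  have h : ((aeval (fun i => residue B (b i)) :
      MvPolynomial σ (ResidueField A) →ₐ[ResidueField A] ResidueField B) :
        MvPolynomial σ (ResidueField A) →+* ResidueField B).comp (map (residue A)) =
      (residue B).comp ((aeval b : MvPolynomial σ A →ₐ[A] B) : MvPolynomial σ A →+* B) := by
    ext i
    · simp
    · simp
  exact DFunLike.congr_fun h F

lemma mem_ptI {F : MvPolynomial σ A} : map (residue A) F ∈ ptI A b ↔ aeval b F ∈ maximalIdeal B := by
  rw [ptI, RingHom.mem_ker, aeval_residue, residue_eq_zero_iff]

lemma algebraMap_mem {a : A} (ha : a ∈ maximalIdeal A) : algebraMap A B a ∈ maximalIdeal B :=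
  _root_.map_nonunit (algebraMap A B) a ha

lemma dvd_of_mem (hz : Ideal.span (insert t (Set.range z)) = maximalIdeal A)
    (hb : ∀ i, algebraMap A B (z i) = algebraMap A B t * b i) {a : A} (ha : a ∈ maximalIdeal A) :
    algebraMap A B a ∈ Ideal.span {algebraMap A B t} := by
  rw [← hz] at ha
  have h1 : algebraMap A B a ∈ (Ideal.span (insert t (Set.range z))).map (algebraMap A B) :=
    Ideal.mem_map_of_mem _ ha
  refine (Ideal.map_le_iff_le_comap.2 ?_) h1
  rw [Ideal.span_le]
  rintro _ (rfl | ⟨i, rfl⟩)
  · exact Ideal.mem_span_singleton_self _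
  · change algebraMap A B (z i) ∈ Ideal.span {algebraMap A B t}
    rw [hb, Ideal.mem_span_singleton]
    exact dvd_mul_right _ _

lemma span_ne_top (ht : t ∈ maximalIdeal A) : Ideal.span {algebraMap A B t} ≠ ⊤ := by
  intro h
  have h1 : (1 : B) ∈ Ideal.span {algebraMap A B t} := by rw [h]; exact Submodule.mem_top
  have h2 : Ideal.span {algebraMap A B t} ≤ maximalIdeal B := by
    rw [Ideal.span_singleton_le_iff_mem]
    exact algebraMap_mem ht
  exact (Ideal.ne_top_iff_one _).1 (maximalIdeal.isMaximal B).ne_top (h2 h1)

/-- The structure of an algebra over the residue field of `A` on `B / tB`. -/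
noncomputable def toCx (hmt : ∀ a ∈ maximalIdeal A, algebraMap A B a ∈ Ideal.span {algebraMap A B t}) :
    ResidueField A →+* B ⧸ Ideal.span {algebraMap A B t} :=
  Ideal.Quotient.lift (maximalIdeal A) ((Ideal.Quotient.mk _).comp (algebraMap A B)) (by
    intro a ha
    rw [RingHom.comp_apply, Ideal.Quotient.eq_zero_iff_mem]
    exact hmt a ha)

lemma toCx_residue (hmt : ∀ a ∈ maximalIdeal A, algebraMap A B a ∈ Ideal.span {algebraMap A B t})
    (a : A) : toCx hmt (residue A a) = Ideal.Quotient.mk _ (algebraMap A B a) := rfl

section main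

variable (ht : t ∈ maximalIdeal A) (hz : Ideal.span (insert t (Set.range z)) = maximalIdeal A)
  (hb : ∀ i, algebraMap A B (z i) = algebraMap A B t * b i)
  (hfrac : ∀ y : B, ∃ F G : MvPolynomial σ A, IsUnit (aeval b G) ∧ aeval b G * y = aeval b F)

include ht hz hb hfrac in
theorem main_aux :
    (maximalIdeal B).spanFinrank ≤ Nat.card σ + 1 ∧
    (Nat.card σ + 1 ≤ (maximalIdeal B).spanFinrank →
      Module.Finite (ResidueField A) (ResidueField B) ∧
      ∀ F : MvPolynomial σ A,
        aeval b F ∈ Ideal.span {algebraMap A B t} ⊔ maximalIdeal B ^ 2 →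
        map (residue A) F ∈ ptI A b ^ 2) := by
  classical
  set J : Ideal B := Ideal.span {algebraMap A B t} with hJ
  have hmt : ∀ a ∈ maximalIdeal A, algebraMap A B a ∈ J := fun a ha => dvd_of_mem hz hb ha
  have hJtop : J ≠ ⊤ := span_ne_top ht
  let C := B ⧸ J
  have hnt : Nontrivial C := Ideal.Quotient.nontrivial_iff.2 hJtop
  have hloc : IsLocalRing C := IsLocalRing.of_surjective' (Ideal.Quotient.mk J) Ideal.Quotient.mk_surjective
  letI algC : Algebra (ResidueField A) C := (toCx hmt).toAlgebra
  let q : B →+* C := Ideal.Quotient.mk J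
  have hqsurj : Function.Surjective q := Ideal.Quotient.mk_surjective
  let c : σ → C := fun i => q (b i)
  -- evaluation
  have hev : ∀ F : MvPolynomial σ A, aeval c (map (residue A) F) = q (aeval b F) := by
    intro F
    have h : ((aeval c : MvPolynomial σ (ResidueField A) →ₐ[ResidueField A] C) :
          MvPolynomial σ (ResidueField A) →+* C).comp (map (residue A)) =
        q.comp ((aeval b : MvPolynomial σ A →ₐ[A] B) : MvPolynomial σ A →+* B) := by
      ext i
      · simp
        rfl
      · simp [c]
    exact DFunLike.congr_fun h F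
  have hmapsurj : Function.Surjective (map (residue A) : MvPolynomial σ A →+* _) :=
    map_surjective _ residue_surjective
  have hmC : (maximalIdeal B).map q = maximalIdeal C :=
    CalgA.RegBasic.map_maximalIdeal_quotient J
  have hJle : J ≤ maximalIdeal B := le_maximalIdeal hJtop
  have hmemC : ∀ y : B, q y ∈ maximalIdeal C ↔ y ∈ maximalIdeal B := by
    intro y
    constructor
    · intro h
      by_contra h'
      have h1 : IsUnit y := by
        by_contra h2
        exact h' ((mem_maximalIdeal _).2 h2)
      exact (mem_maximalIdeal _).1 h (h1.map q)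
    · intro h
      rw [← hmC]
      exact Ideal.mem_map_of_mem _ h
  have hfrC : ∀ y : C, ∃ f g : MvPolynomial σ (ResidueField A),
      IsUnit (aeval c g) ∧ aeval c g * y = aeval c f := by
    intro y
    obtain ⟨y, rfl⟩ := hqsurj y
    obtain ⟨F, G, hG, hGy⟩ := hfrac y
    refine ⟨map (residue A) F, map (residue A) G, ?_, ?_⟩
    · rw [hev]
      exact hG.map q
    · rw [hev, hev, ← map_mul, hGy]
  have h1 : (maximalIdeal C).spanFinrank ≤ Nat.card σ :=
    QTCore.spanFinrank_le (k := ResidueField A) c hfrC
  have h2 : (maximalIdeal B).spanFinrank ≤ (maximalIdeal C).spanFinrank + 1 :=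
    CalgA.RegBasic.spanFinrank_le_quotient_add_one (algebraMap A B t) (algebraMap_mem ht)
  refine ⟨h2.trans (Nat.add_le_add_right h1 1), fun hemb => ?_⟩
  have hembC : Nat.card σ ≤ (maximalIdeal C).spanFinrank := by omega
  have hpt : QTCore.pt (k := ResidueField A) c = ptI A b := by
    ext f
    obtain ⟨F, rfl⟩ := hmapsurj f
    rw [QTCore.mem_pt, hev, hmemC, mem_ptI]
  refine ⟨?_, ?_⟩
  · have h3 := QTCore.finite_residueField (k := ResidueField A) c hfrC hembC
    have hqloc : IsLocalHom q := by
      refine ⟨fun a ha => ?_⟩
      by_contra h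
      exact (mem_maximalIdeal _).1 ((hmemC a).2 ((mem_maximalIdeal _).2 h)) ha
    let e : ResidueField B →+* ResidueField C := ResidueField.map q
    let e' : ResidueField B →ₗ[ResidueField A] ResidueField C :=
      { toFun := e
        map_add' := map_add e
        map_smul' := by
          intro r y
          obtain ⟨a, rfl⟩ := residue_surjective r
          rw [Algebra.smul_def, Algebra.smul_def, map_mul]
          rfl }
    exact Module.Finite.of_injective e' e.injective
  · intro F hF
    rw [← hpt]
    refine QTCore.mem_sq (k := ResidueField A) c hfrC hembC ?_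
    rw [hev, ← hmC, ← Ideal.map_pow]
    have h4 : (J ⊔ maximalIdeal B ^ 2).map q = (maximalIdeal B ^ 2).map q := by
      rw [Ideal.map_sup, Ideal.map_quotient_self, bot_sup_eq]
    rw [← h4]
    exact Ideal.mem_map_of_mem _ hF

end main

end Groth.Agent.Lipman.QTApi
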