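import Groth.Agent.CalgA.RegBasic
import Mathlib.RingTheory.RegularLocalRing.Polynomial
import Mathlib.RingTheory.KrullDimension.Polynomial
import Mathlib.RingTheory.Ideal.Height
import Mathlib.RingTheory.LocalRing.ResidueField.Basic

/-!
# Local rings essentially of finite type over a field with maximal embedding dimension

`C` a Noetherian local `k`-algebra, a localization of `k[c_i : i ∈ σ]`. Then `m_C` has at most
`card σ` generators, and if it needs exactly `card σ` generators, every polynomial `F` with
`F(c) ∈ m_C ^ 2` is in `I ^ 2` up to an element outside `I` (`I` the kernel of `k[T] → C / m_C`).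
-/

set_option autoImplicit false
set_option linter.unusedSectionVars false
universe u v w

open IsLocalRing MvPolynomial

namespace Groth.Agent.Lipman.QTCore

variable {k : Type u} [Field k] {C : Type v} [CommRing C] [IsLocalRing C] [IsNoetherianRing C]
  [Algebra k C] {σ : Type w} [Finite σ] (c : σ → C)

/-- The prime ideal of `k[T]` of the point given by the local ring `C`. -/
noncomputable def pt : Ideal (MvPolynomial σ k) :=
  (maximalIdeal C).comap (aeval c : MvPolynomial σ k →ₐ[k] C)

instance : (pt (k := k) c).IsPrime := by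
  unfold pt
  infer_instance

lemma mem_pt {F : MvPolynomial σ k} : F ∈ pt (k := k) c ↔ aeval c F ∈ maximalIdeal C := Iff.rfl

/-- The local ring of affine space at the point. -/
abbrev O : Type _ := Localization.AtPrime (pt (k := k) c)

noncomputable def toC : O (k := k) c →+* C :=
  IsLocalization.lift (M := (pt (k := k) c).primeCompl) (S := O (k := k) c)
    (g := (aeval c : MvPolynomial σ k →ₐ[k] C).toRingHom) (by
      rintro ⟨y, hy⟩
      by_contra h
      exact hy ((mem_maximalIdeal _).2 h))

@[simp] lemma toC_algebraMap (F : MvPolynomial σ k) :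
    toC (k := k) c (algebraMap _ _ F) = aeval c F := by
  unfold toC
  simp

instance : IsLocalHom (toC (k := k) c) := by
  refine ⟨fun a ha => ?_⟩
  obtain ⟨⟨F, s⟩, hF⟩ := IsLocalization.surj (pt (k := k) c).primeCompl a
  simp only at hF
  have h1 : toC (k := k) c a * aeval c s.1 = aeval c F := by
    rw [← toC_algebraMap (k := k) c s.1, ← map_mul, hF, toC_algebraMap]
  have h2 : IsUnit (aeval c s.1) := by
    by_contra h
    exact s.2 ((mem_maximalIdeal _).2 h)
  have h3 : IsUnit (aeval c F) := h1 ▸ ha.mul h2
  have h4 : F ∉ pt (k := k) c := fun h => (mem_maximalIdeal _).1 h h3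
  have h5 : IsUnit (algebraMap _ (O (k := k) c) F) :=
    IsLocalization.map_units (M := (pt (k := k) c).primeCompl) _ ⟨F, h4⟩
  rw [← hF] at h5
  exact isUnit_of_mul_isUnit_left h5

variable (hfrac : ∀ y : C, ∃ f g : MvPolynomial σ k, IsUnit (aeval c g) ∧ aeval c g * y = aeval c f)

include hfrac in
lemma map_pt : (pt (k := k) c).map (aeval c : MvPolynomial σ k →ₐ[k] C) = maximalIdeal C := by
  apply le_antisymm
  · exact Ideal.map_comap_le
  · intro y hy
    obtain ⟨f, g, hg, hgy⟩ := hfrac y
    have h1 : f ∈ pt (k := k) c := by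
      rw [mem_pt, ← hgy]
      exact Ideal.mul_mem_left _ _ hy
    obtain ⟨u, hu⟩ := hg
    have h2 : y = (↑u⁻¹ : C) * aeval c f := by
      rw [← hgy, ← hu, Units.inv_mul_cancel_left]
    rw [h2]
    exact Ideal.mul_mem_left _ _ (Ideal.mem_map_of_mem _ h1)

include hfrac in
lemma map_toC : (maximalIdeal (O (k := k) c)).map (toC (k := k) c) = maximalIdeal C := by
  rw [← Localization.AtPrime.map_eq_maximalIdeal, Ideal.map_map]
  have : (toC (k := k) c).comp (algebraMap (MvPolynomial σ k) (O (k := k) c)) =
      ((aeval c : MvPolynomial σ k →ₐ[k] C) : MvPolynomial σ k →+* C) := by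
    ext F
    · simp
    · simp
  rw [this]
  exact map_pt c hfrac

instance isRegular_O : IsRegularLocalRing (O (k := k) c) := by
  have : IsRegularRing (MvPolynomial σ k) := inferInstance
  infer_instance

lemma spanFinrank_O_le : (maximalIdeal (O (k := k) c)).spanFinrank ≤ Nat.card σ := by
  have h1 : ((maximalIdeal (O (k := k) c)).spanFinrank : WithBot ℕ∞) = ringKrullDim (O (k := k) c) :=
    IsRegularLocalRing.spanFinrank_maximalIdeal
  have h2 : ringKrullDim (O (k := k) c) ≤ ringKrullDim (MvPolynomial σ k) := by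
    rw [IsLocalization.AtPrime.ringKrullDim_eq_height (pt (k := k) c)]
    exact Ideal.height_le_ringKrullDim_of_ne_top Ideal.IsPrime.ne_top'
  rw [MvPolynomial.ringKrullDim_of_isNoetherianRing, ringKrullDim_eq_zero_of_field, zero_add, ← h1] at h2
  exact_mod_cast h2

include hfrac in
/-- `m_C` has at most `card σ` generators. -/
theorem spanFinrank_le : (maximalIdeal C).spanFinrank ≤ Nat.card σ := by
  rw [← map_toC c hfrac]
  exact (Ideal.spanFinrank_map_le_of_fg _ (maximalIdeal (O (k := k) c)).fg_of_isNoetherianRing).trans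
    (spanFinrank_O_le c)

include hfrac in
/-- If `m_C` needs `card σ` generators, polynomials vanishing to second order on `C` are in the square of
the ideal of the point, up to a factor outside. -/
theorem exists_mul_mem_sq (hemb : Nat.card σ ≤ (maximalIdeal C).spanFinrank)
    {F : MvPolynomial σ k} (hF : aeval c F ∈ maximalIdeal C ^ 2) :
    ∃ s, s ∉ pt (k := k) c ∧ s * F ∈ pt (k := k) c ^ 2 := by
  classical
  set I := pt (k := k) c with hI
  have hFI : F ∈ I := by
    rw [hI, mem_pt]
    exact Ideal.pow_le_self two_ne_zero hF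
  by_cases hO : algebraMap _ (O (k := k) c) F ∈ maximalIdeal (O (k := k) c) ^ 2
  · rw [← Localization.AtPrime.map_eq_maximalIdeal, ← Ideal.map_pow] at hO
    obtain ⟨⟨a, s⟩, h⟩ := (IsLocalization.mem_map_algebraMap_iff I.primeCompl _).1 hO
    simp only at h
    rw [← map_mul] at h
    obtain ⟨t, ht⟩ := (IsLocalization.eq_iff_exists I.primeCompl _).1 h
    refine ⟨t.1 * s.1, (t * s).2, ?_⟩
    have : t.1 * s.1 * F = t.1 * (F * s.1) := by ring
    rw [this, ht]
    exact Ideal.mul_mem_left _ _ a.2
  · exfalso
    have hFm : algebraMap _ (O (k := k) c) F ∈ maximalIdeal (O (k := k) c) := by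
      rw [← Localization.AtPrime.map_eq_maximalIdeal]
      exact Ideal.mem_map_of_mem _ hFI
    obtain ⟨t, ht1, ht2⟩ := CalgA.RegBasic.exists_generators_of_notMem_sq _ hFm hO
    have h1 : maximalIdeal C ≤ Ideal.span ((toC (k := k) c) '' (t : Set (O (k := k) c))) ⊔
        maximalIdeal C * maximalIdeal C := by
      conv_lhs => rw [← map_toC (k := k) c hfrac, ← ht2, Ideal.map_span, Set.image_insert_eq,
        toC_algebraMap, Ideal.span_insert]
      refine sup_le ?_ le_sup_left
      rw [Ideal.span_singleton_le_iff_mem]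
      apply Ideal.mem_sup_right
      rwa [← pow_two]
    have h2 : maximalIdeal C ≤ Ideal.span ((toC (k := k) c) '' (t : Set (O (k := k) c))) :=
      Submodule.le_of_le_smul_of_le_jacobson_bot (maximalIdeal C).fg_of_isNoetherianRing
        (IsLocalRing.maximalIdeal_le_jacobson _) h1
    have h3 : Ideal.span ((toC (k := k) c) '' (t : Set (O (k := k) c))) = maximalIdeal C := by
      refine le_antisymm ?_ h2
      rw [← map_toC (k := k) c hfrac, ← ht2, Ideal.map_span]
      exact Ideal.span_mono (Set.image_mono (Set.subset_insert _ _))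
    have h4 := Submodule.spanFinrank_span_le_ncard_of_finite (R := C)
      (s := (toC (k := k) c) '' (t : Set (O (k := k) c))) (t.finite_toSet.image _)
    have h5 : ((toC (k := k) c) '' (t : Set (O (k := k) c))).ncard ≤ t.card := by
      have := Set.ncard_image_le (f := toC (k := k) c) t.finite_toSet
      rwa [Set.ncard_coe_finset] at this
    have h6 : (Submodule.span C ((toC (k := k) c) '' (t : Set (O (k := k) c)))).spanFinrank =
      (maximalIdeal C).spanFinrank := congrArg Submodule.spanFinrank h3
    have h7 := spanFinrank_O_le (k := k) c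
    omega

include hfrac in
lemma spanFinrank_O_eq (hemb : Nat.card σ ≤ (maximalIdeal C).spanFinrank) :
    (maximalIdeal (O (k := k) c)).spanFinrank = Nat.card σ := by
  apply le_antisymm (spanFinrank_O_le c)
  refine hemb.trans ?_
  conv_lhs => rw [← map_toC (k := k) c hfrac]
  exact Ideal.spanFinrank_map_le_of_fg _ (maximalIdeal (O (k := k) c)).fg_of_isNoetherianRing

include hfrac in
/-- Maximal embedding dimension: the point is closed. -/
theorem pt_isMaximal (hemb : Nat.card σ ≤ (maximalIdeal C).spanFinrank) :
    (pt (k := k) c).IsMaximal := by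
  obtain ⟨M, hM, hle⟩ := Ideal.exists_le_maximal (pt (k := k) c) Ideal.IsPrime.ne_top'
  by_contra hne
  have hlt : pt (k := k) c < M := lt_of_le_of_ne hle (fun h => hne (h ▸ hM))
  have h1 : (pt (k := k) c).height + 1 ≤ M.height := Ideal.height_add_one_le_of_lt_of_isPrime hlt
  have h2 : (M.height : WithBot ℕ∞) ≤ ringKrullDim (MvPolynomial σ k) :=
    Ideal.height_le_ringKrullDim_of_ne_top Ideal.IsPrime.ne_top'
  rw [MvPolynomial.ringKrullDim_of_isNoetherianRing, ringKrullDim_eq_zero_of_field, zero_add] at h2
  have h3 : ((maximalIdeal (O (k := k) c)).spanFinrank : WithBot ℕ∞) = ringKrullDim (O (k := k) c) :=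
    IsRegularLocalRing.spanFinrank_maximalIdeal
  rw [spanFinrank_O_eq c hfrac hemb,
    IsLocalization.AtPrime.ringKrullDim_eq_height (pt (k := k) c)] at h3
  have h4 : (Nat.card σ : ℕ∞) = (pt (k := k) c).height := by exact_mod_cast h3
  have h5 : M.height ≤ (Nat.card σ : ℕ∞) := by exact_mod_cast h2
  rw [← h4] at h1
  have h6 := h1.trans h5
  exact absurd h6 (by
    have : ((Nat.card σ : ℕ∞) + 1) = ((Nat.card σ + 1 : ℕ) : ℕ∞) := by push_cast; rfl
    rw [this, not_le]
    exact_mod_cast Nat.lt_succ_self _)

include hfrac in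
/-- Polynomials vanishing to second order on `C` lie in the square of the ideal of the point. -/
theorem mem_sq (hemb : Nat.card σ ≤ (maximalIdeal C).spanFinrank)
    {F : MvPolynomial σ k} (hF : aeval c F ∈ maximalIdeal C ^ 2) : F ∈ pt (k := k) c ^ 2 := by
  obtain ⟨s, hs, hsF⟩ := exists_mul_mem_sq c hfrac hemb hF
  have hmax := pt_isMaximal c hfrac hemb
  obtain ⟨u, hu⟩ := hmax.exists_inv hs
  obtain ⟨v, hv, huv⟩ := hu
  have hFI : F ∈ pt (k := k) c := by
    rw [mem_pt]
    exact Ideal.pow_le_self two_ne_zero hF
  have : F = u * (s * F) + v * F := by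
    rw [← mul_assoc, ← add_mul, huv, one_mul]
  rw [this]
  refine Ideal.add_mem _ (Ideal.mul_mem_left _ _ hsF) ?_
  rw [pow_two]
  exact Ideal.mul_mem_mul hv hFI

include hfrac in
/-- Maximal embedding dimension: the residue field extension is finite. -/
theorem finite_residueField (hemb : Nat.card σ ≤ (maximalIdeal C).spanFinrank) :
    Module.Finite k (ResidueField C) := by
  have hmax := pt_isMaximal c hfrac hemb
  letI : Field (MvPolynomial σ k ⧸ pt (k := k) c) := Ideal.Quotient.field _
  have h1 : Module.Finite k (MvPolynomial σ k ⧸ pt (k := k) c) :=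
    finite_of_finite_type_of_isJacobsonRing k _
  let g : MvPolynomial σ k →ₐ[k] ResidueField C :=
    (IsScalarTower.toAlgHom k C (ResidueField C)).comp (aeval c)
  let h : (MvPolynomial σ k ⧸ pt (k := k) c) →ₐ[k] ResidueField C :=
    Ideal.Quotient.liftₐ (pt (k := k) c) g (by
      intro a ha
      change residue C (aeval c a) = 0
      rw [residue_eq_zero_iff]
      exact ha)
  have hg : ∀ F, h (Ideal.Quotient.mk _ F) = residue C (aeval c F) := fun F => rfl
  refine Module.Finite.of_surjective h.toLinearMap ?_
  intro y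
  obtain ⟨y, rfl⟩ := residue_surjective y
  obtain ⟨f, s, hs, hsy⟩ := hfrac y
  have hs' : residue C (aeval c s) ≠ 0 := by
    rw [Ne, residue_eq_zero_iff]
    exact fun h' => (mem_maximalIdeal _).1 h' hs
  refine ⟨Ideal.Quotient.mk _ f * (Ideal.Quotient.mk _ s)⁻¹, ?_⟩
  change h _ = _
  rw [map_mul, map_inv₀, hg, hg, ← hsy, map_mul]
  field_simp

end Groth.Agent.Lipman.QTCore
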