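import Groth.Agent.Lipman.GR
import Groth.Agent.CurvesC.ValData
import Groth.Agent.Ega1.LocalSubringField

/-!
Translation between points of a proper modification and valuation rings of the function field; the
Grauert-Riemenschneider vanishing in the language of valuation rings.
-/

set_option autoImplicit false

universe u

open CategoryTheory AlgebraicGeometry TopologicalSpace IsLocalRing

namespace Groth.Agent.Lipman.Trans

open Groth.Agent.Lipman.Loc Groth.Agent.Lipman.OrdLoc Groth.Agent.Lipman.Pts Groth.Agent.CurvesC

section Basic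

variable {A : Type u} [CommRing A] {X : Scheme.{u}} [IsIntegral X] (f : X ⟶ Spec (CommRingCat.of A))

theorem ratOf_eq_toK : ratOf f = ValData.toK f := rfl

/-- A rational function in all valuation rings containing a normal local ring is regular. -/
theorem mem_loc_of_forall (x : X) [IsIntegrallyClosed (X.presheaf.stalk x)] (s : X.functionField)
    (h : ∀ V : ValuationSubring X.functionField, loc x ≤ V.toSubring → s ∈ V) : s ∈ loc x := by
  have h1 : IsIntegral (X.presheaf.stalk x) s := ValCousin.isIntegral_of_forall_mem fun V hV => h V (by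
    rintro _ ⟨a, rfl⟩
    exact hV a)
  exact IsIntegrallyClosed.isIntegral_iff.mp h1

/-- Over the complement of the closed point some element of the maximal ideal is invertible. -/
theorem exists_inv_mem [IsLocalRing A] (x : X) (hx : f x ≠ closedPoint A) :
    ∃ a ∈ maximalIdeal A, ratOf f a ≠ 0 ∧ (ratOf f a)⁻¹ ∈ loc x := by
  have h1 : ¬ maximalIdeal A ≤ (f x).asIdeal := by
    intro h
    apply hx
    have := (maximalIdeal.isMaximal A).eq_of_le (f x).isPrime.ne_top h
    exact PrimeSpectrum.ext this.symm
  obtain ⟨a, ha, hax⟩ := SetLike.not_le_iff_exists.mp h1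
  rw [← isVan_ratOf_iff, isVan_iff, not_and_or, Classical.not_imp] at hax
  rcases hax with h | ⟨h0, h⟩
  · exact absurd (ratOf_mem_loc f a x) h
  · exact ⟨a, ha, h0, not_not.mp h⟩

/-- Existence of centres of valuation rings containing `A`. -/
theorem exists_center [UniversallyClosed f] (V : ValuationSubring X.functionField) (hV : ∀ a, ratOf f a ∈ V) :
    ∃ x : X, loc x ≤ V.toSubring ∧ ∀ s, IsVan s x → V.valuation s < 1 := by
  obtain ⟨l, hl₁, -⟩ := ValData.exists_lift f hV
  refine ⟨l (closedPoint V), ?_⟩
  let ψ : X.presheaf.stalk (l (closedPoint V)) ⟶ CommRingCat.of V := Scheme.stalkClosedPointTo l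
  have hψ : IsLocalHom ψ.hom := Scheme.isLocalHom_stalkClosedPointTo' l
  have hcomp : (algebraMap V X.functionField).comp ψ.hom =
      algebraMap (X.presheaf.stalk (l (closedPoint V))) X.functionField := by
    have h1 : Spec.map (ψ ≫ CommRingCat.ofHom (algebraMap V X.functionField)) =
        Spec.map (CommRingCat.ofHom (algebraMap (X.presheaf.stalk (l (closedPoint V))) X.functionField)) := by
      rw [← cancel_mono (X.fromSpecStalk (l (closedPoint V)))]
      refine Eq.trans ?_ (Scheme.SpecMap_stalkSpecializes_fromSpecStalk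
        (genericPoint_specializes (l (closedPoint V)))).symm
      rw [← hl₁, Spec.map_comp, Category.assoc]
      congr 1
      exact Scheme.Spec_stalkClosedPointTo_fromSpecStalk l
    exact congrArg CommRingCat.Hom.hom (Spec.map_injective h1)
  constructor
  · rintro _ ⟨a, rfl⟩
    rw [← hcomp]
    exact (ψ.hom a).2
  · rintro _ ⟨a, ha, rfl⟩
    rw [← hcomp]
    refine (V.valuation_lt_one_iff _).mp ?_
    rw [mem_maximalIdeal, mem_nonunits_iff] at ha ⊢
    exact fun hu => ha (hψ.map_nonunit _ hu)

end Basic

section Frac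

variable {A : Type u} [CommRing A] [IsDomain A] {X : Scheme.{u}} [IsIntegral X]
  (f : X ⟶ Spec (CommRingCat.of A)) (U : (Spec (CommRingCat.of A)).Opens) [IsIso (f ∣_ U)]

/-- The function field of a modification is the fraction field. -/
theorem isFractionRing (hU : (U : Set (Spec (CommRingCat.of A))).Nonempty) :
    @IsFractionRing A _ X.functionField _ (ratOf f).toAlgebra :=
  ValData.isFractionRing_toK f ⟨U, hU, inferInstance⟩

theorem exists_ringEquiv (hU : (U : Set (Spec (CommRingCat.of A))).Nonempty) (K : Type*) [Field K] [Algebra A K]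
    [IsFractionRing A K] : ∃ e : K ≃+* X.functionField, ∀ a, e (algebraMap A K a) = ratOf f a := by
  letI := (ratOf f).toAlgebra
  have := isFractionRing f U hU
  refine ⟨(IsLocalization.algEquiv (nonZeroDivisors A) K X.functionField).toRingEquiv, fun a => ?_⟩
  exact (IsLocalization.algEquiv (nonZeroDivisors A) K X.functionField).commutes a

end Frac

section Main

variable {A : Type u} [CommRing A] [IsDomain A] [IsLocalRing A] [IsNoetherianRing A] [IsIntegrallyClosed A]
  {X : Scheme.{u}} [IsIntegral X] (f : X ⟶ Spec (CommRingCat.of A)) [IsProper f]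
  (U : (Spec (CommRingCat.of A)).Opens) [IsIso (f ∣_ U)]

/-- Grauert-Riemenschneider vanishing in terms of valuation rings, given a normal proper model on which the family
`c` becomes principal. -/
theorem gr_of_model (hd : 1 < ringKrullDim A) (hX : ∀ x : X, IsIntegrallyClosed (X.presheaf.stalk x))
    (hU : (U : Set (Spec (CommRingCat.of A))).Nonempty)
    {K : Type*} [Field K] [Algebra A K] (e : K ≃+* X.functionField) (he : ∀ a, e (algebraMap A K a) = ratOf f a)
    {ι : Type*} [Finite ι] (c : ι → K) (hc : ∀ x : X, ∃ i, c i ≠ 0 ∧ ∀ j, e (c j / c i) ∈ loc x)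
    (g : ι → K)
    (hg : ∀ (i : ι) (V : ValuationSubring K), (∀ a, algebraMap A K a ∈ V) → c i ≠ 0 → (∀ j, c j / c i ∈ V) →
      (∃ a ∈ maximalIdeal A, algebraMap A K a ≠ 0 ∧ (algebraMap A K a)⁻¹ ∈ V) → g i ∈ V)
    (hgg : ∀ (i j : ι) (V : ValuationSubring K), (∀ a, algebraMap A K a ∈ V) → c i ≠ 0 → (∀ k, c k / c i ∈ V) →
      c j ≠ 0 → (∀ k, c k / c j ∈ V) → g i - g j ∈ V)
    (i : ι) (V : ValuationSubring K) (hV : ∀ a, algebraMap A K a ∈ V) (hci : c i ≠ 0)
    (hVi : ∀ j, c j / c i ∈ V) : g i ∈ V := by
  let W : {i : ι // c i ≠ 0} → X.Opens := fun i => ⟨⋂ j, {x : X | e (c j / c i) ∈ loc x},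
    isOpen_iInter_of_finite fun j => Groth.Agent.Ega1.LocalSubringField.isOpen_domain X _⟩
  have hW : ∀ i x, x ∈ W i ↔ ∀ j, e (c j / c i.1) ∈ loc x := fun i x => Set.mem_iInter
  -- pulling back valuation rings
  have pull : ∀ (x : X) (T : ValuationSubring X.functionField), loc x ≤ T.toSubring →
      ∀ a, algebraMap A K a ∈ T.comap e.toRingHom := by
    intro x T hT a
    rw [ValuationSubring.mem_comap]
    change e (algebraMap A K a) ∈ T
    rw [he]
    exact hT (ratOf_mem_loc f a x)
  have key := GR.gr f U hd hX hU W (fun x _ => by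
      obtain ⟨i, hi, h⟩ := hc x
      exact ⟨⟨i, hi⟩, (hW _ _).mpr h⟩)
    (fun i => e (g i.1))
    (by
      intro i x hx hfx
      have := hX x
      refine mem_loc_of_forall x _ fun T hT => ?_
      have h1 : g i.1 ∈ T.comap e.toRingHom := by
        refine hg i.1 _ (pull x T hT) i.2 (fun j => ?_) ?_
        · rw [ValuationSubring.mem_comap]
          exact hT ((hW i x).mp hx j)
        · obtain ⟨a, ha, ha0, hai⟩ := exists_inv_mem f x hfx
          refine ⟨a, ha, ?_, ?_⟩
          · intro h
            apply ha0
            rw [← he, h, map_zero]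
          · rw [ValuationSubring.mem_comap]
            change e (algebraMap A K a)⁻¹ ∈ T
            rw [map_inv₀, he]
            exact hT hai
      exact h1)
    (by
      intro i j x hxi hxj
      have := hX x
      change e (g i.1) - e (g j.1) ∈ loc x
      rw [← map_sub]
      refine mem_loc_of_forall x _ fun T hT => ?_
      have h1 : g i.1 - g j.1 ∈ T.comap e.toRingHom := by
        refine hgg i.1 j.1 _ (pull x T hT) i.2 (fun k => ?_) j.2 (fun k => ?_)
        · rw [ValuationSubring.mem_comap]
          exact hT ((hW i x).mp hxi k)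
        · rw [ValuationSubring.mem_comap]
          exact hT ((hW j x).mp hxj k)
      exact h1)
  -- the centre of `V`
  let T : ValuationSubring X.functionField := V.comap e.symm.toRingHom
  have hT : ∀ s, s ∈ T ↔ e.symm s ∈ V := fun s => ValuationSubring.mem_comap
  obtain ⟨x, hxT, hxm⟩ := exists_center f T (fun a => by
    rw [hT, ← he, e.symm_apply_apply]
    exact hV a)
  have hxW : x ∈ W ⟨i, hci⟩ := by
    rw [hW]
    obtain ⟨k, hk, hkx⟩ := hc x
    have h1 : e (c i / c k) ∈ loc x := hkx i
    have h2 : e (c k / c i) ∈ T := by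
      rw [hT, e.symm_apply_apply]
      exact hVi k
    have h3 : c i / c k ≠ 0 := div_ne_zero hci hk
    have h4 : ¬ IsVan (e (c i / c k)) x := by
      intro h
      have h5 := hxm _ h
      have h6 : T.valuation (e (c k / c i)) ≤ 1 := (T.valuation_le_one_iff _).mpr h2
      have h7 : T.valuation (e (c i / c k)) * T.valuation (e (c k / c i)) = 1 := by
        rw [← map_mul, ← map_mul, div_mul_div_cancel₀ hk, div_self hci, map_one, map_one]
      have h8 : T.valuation (e (c i / c k)) * T.valuation (e (c k / c i)) < 1 :=
        mul_lt_one_of_lt_of_le h5 h6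
      exact h8.ne h7
    rw [isVan_iff, not_and_or, Classical.not_imp, not_not] at h4
    have h5 : e (c k / c i) ∈ loc x := by
      rcases h4 with h4 | ⟨-, h4⟩
      · exact absurd h1 h4
      · rwa [← map_inv₀, inv_div] at h4
    intro j
    have h6 : c j / c i = (c j / c k) * (c k / c i) := by
      field_simp
    rw [h6, map_mul]
    exact (loc x).mul_mem (hkx j) h5
  have h1 : e (g i) ∈ T := hxT (key ⟨i, hci⟩ x hxW)
  rw [hT, e.symm_apply_apply] at h1
  exact h1

end Main

end Groth.Agent.Lipman.Trans
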