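import Groth.Agent.Lipman.NormModel
import Groth.Agent.Lipman.Trans
import Groth.Agent.CurvesC.MVSec
import Groth.Prelude.Def_Curv2

/-!
A rational singularity has vanishing Čech cohomology for the two charts of a pair `(a, b)`.
-/

set_option autoImplicit false

universe u

open CategoryTheory AlgebraicGeometry TopologicalSpace IsLocalRing

namespace Groth.Agent.Lipman.RatSing767

open Groth.Agent.Lipman.Defs Groth.Agent.Lipman.Loc Groth.Agent.Lipman.OrdLoc Groth.Agent.Lipman.Trans

variable {K : Type u} [Field K]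

theorem rat2_of_model (R : Subring K) {a b : K} (ha : a ≠ 0) (hb : b ≠ 0)
    {X : Scheme.{u}} [AlgebraicGeometry.IsIntegral X] (f : X ⟶ Spec (CommRingCat.of R)) [IsProper f]
    (hX : ∀ x : X, IsIntegrallyClosed (X.presheaf.stalk x)) (e : K ≃+* X.functionField)
    (he : ∀ r : R, e r = ratOf f r) (hc : ∀ x : X, e (b / a) ∈ loc x ∨ e (a / b) ∈ loc x)
    (hH : Subsingleton (Coh.HH X (Coh.structureModule X) 1)) : Rat2 R a b := by
  intro g hg
  let U : X.Opens := ⟨{x | e (b / a) ∈ loc x}, Groth.Agent.Ega1.LocalSubringField.isOpen_domain X _⟩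
  let V : X.Opens := ⟨{x | e (a / b) ∈ loc x}, Groth.Agent.Ega1.LocalSubringField.isOpen_domain X _⟩
  have hUV : U ⊔ V = ⊤ := by
    rw [eq_top_iff]
    intro x _
    rcases hc x with h | h
    · exact Or.inl h
    · exact Or.inr h
  have hgen : ∀ s : X.functionField, s ∈ loc (genericPoint X) := by
    intro s
    refine ⟨s, ?_⟩
    rw [RingHom.algebraMap_toAlgebra]
    exact congrArg (fun φ => φ.hom s) (TopCat.Presheaf.stalkSpecializes_refl X.presheaf (genericPoint X))
  have hUne : Nonempty U := ⟨⟨genericPoint X, hgen _⟩⟩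
  have hVne : Nonempty V := ⟨⟨genericPoint X, hgen _⟩⟩
  have hUVne : Nonempty (U ⊓ V : X.Opens) := ⟨⟨genericPoint X, hgen _, hgen _⟩⟩
  have hreg : ∀ x ∈ U ⊓ V, e g ∈ loc x := by
    rintro x ⟨hxU, hxV⟩
    have := hX x
    refine mem_loc_of_forall x _ fun T hT => ?_
    have h1 : g ∈ T.comap e.toRingHom := by
      refine hg _ ?_ ?_ ?_
      · intro r hr
        change e r ∈ T
        have h2 : e r = ratOf f ⟨r, hr⟩ := he ⟨r, hr⟩
        rw [h2]
        exact hT (ratOf_mem_loc f _ x)
      · exact hT hxU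
      · exact hT hxV
    exact h1
  obtain ⟨z, hz⟩ := exists_section (U ⊓ V) (e g) hreg
  obtain ⟨s, t, hst⟩ := Groth.Agent.CurvesC.MVSec.exists_sub_function hH hUV z
  have hg12 : X.germToFunctionField U s - X.germToFunctionField V t = e g := by
    rw [← hz, ← hst, map_sub]
    congr 1
    · exact (germToFunctionField_res (V := U) (W := U ⊓ V) inf_le_left s).symm
    · exact (germToFunctionField_res (V := V) (W := U ⊓ V) inf_le_right t).symm
  -- centres
  have hcen : ∀ W ∈ ZR R, ∃ x : X, (∀ y, e y ∈ loc x → y ∈ W) ∧ (∀ y, y ≠ 0 → y⁻¹ ∈ W → e y ∈ loc x → e y⁻¹ ∈ loc x) := by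
    intro W hW
    let T : ValuationSubring X.functionField := W.comap e.symm.toRingHom
    have hT : ∀ s, s ∈ T ↔ e.symm s ∈ W := fun s => ValuationSubring.mem_comap
    obtain ⟨x, hxT, hxm⟩ := exists_center f T (fun r => by
      rw [hT, ← he, e.symm_apply_apply]
      exact hW r.2)
    refine ⟨x, ?_, ?_⟩
    · intro y hy
      have := hxT hy
      change e y ∈ T at this
      rwa [hT, e.symm_apply_apply] at this
    · intro y hy0 hyi hy
      by_contra hcon
      have h1 : IsVan (e y) x := by
        rw [isVan_iff]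
        refine ⟨hy, fun _ h => hcon ?_⟩
        rwa [map_inv₀]
      have h5 := hxm _ h1
      have h6 : T.valuation (e y⁻¹) ≤ 1 := (T.valuation_le_one_iff _).mpr (by rwa [hT, e.symm_apply_apply])
      have h7 : T.valuation (e y) * T.valuation (e y⁻¹) = 1 := by
        rw [← map_mul, ← map_mul, mul_inv_cancel₀ hy0, map_one, map_one]
      have h8 : T.valuation (e y) * T.valuation (e y⁻¹) < 1 :=
        lt_of_le_of_lt (mul_le_of_le_one_right' h6) h5
      exact absurd h7 h8.ne
  refine ⟨e.symm (X.germToFunctionField U s), -e.symm (X.germToFunctionField V t), ?_, ?_, ?_⟩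
  · rw [← sub_eq_add_neg, ← map_sub, hg12, e.symm_apply_apply]
  · intro W hW hab
    obtain ⟨x, hx1, hx2⟩ := hcen W hW
    have hxU : x ∈ U := by
      rcases hc x with h | h
      · exact h
      · have := hx2 (a / b) (div_ne_zero ha hb) (by rwa [inv_div]) h
        rwa [inv_div] at this
    apply hx1
    rw [e.apply_symm_apply]
    exact germToFunctionField_mem_loc s hxU
  · intro W hW hab
    obtain ⟨x, hx1, hx2⟩ := hcen W hW
    have hxV : x ∈ V := by
      rcases hc x with h | h
      · have := hx2 (b / a) (div_ne_zero hb ha) (by rwa [inv_div]) h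
        rwa [inv_div] at this
      · exact h
    apply W.neg_mem
    apply hx1
    rw [e.apply_symm_apply]
    exact germToFunctionField_mem_loc t hxV

/-- **Rational singularities have `Rat2`.** -/
theorem rat2_of_isRationalSing (R : Subring K) [IsNoetherianRing R] [IsIntegrallyClosed R] [IsFractionRing R K]
    (hN : FinNorm R) (hR : Curv2.IsRationalSing R) {a b : K} (ha : a ≠ 0) (hb : b ≠ 0) : Rat2 R a b := by
  obtain ⟨X, hX, f, hf, U, hU, e, hUne, hic, he, hc⟩ := NormModel.exists_model R hN (s := {a, b})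
    ⟨by simp, a, by simp, ha⟩
  refine rat2_of_model R ha hb f hic e he ?_ (hR X f hf hX ?_ ⟨U, hUne, hU⟩)
  · intro x
    obtain ⟨c, hcs, hc0, h⟩ := hc x
    rcases hcs with rfl | rfl
    · exact Or.inl (h b (by simp))
    · exact Or.inr (h a (by simp))
  · intro x
    exact ⟨inferInstance, hic x⟩

end Groth.Agent.Lipman.RatSing767
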