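import Groth.Agent.Ega4A.LengthGrowth
import Mathlib.RingTheory.ReesAlgebra
import Mathlib.RingTheory.Nakayama

/-!
# Existence of two-generated reductions of powers of the maximal ideal

Let `A` be a Noetherian local ring with `dim A ≤ 2` (any residue field).  Some power `𝔪 ^ k` has a
reduction generated by two elements `a, b`, and `b` can be chosen outside finitely many given
non-maximal primes.
-/

set_option autoImplicit false

universe u

namespace Groth.Agent.Lipman.Reduction

open IsLocalRing Polynomial Groth.Agent.Ega4A.LengthGrowth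

section Growth

variable {A : Type u} [CommRing A]

theorem ql_add_one_le {I J : Ideal A} (h : I < J) : ql J + 1 ≤ ql I := by
  unfold ql
  rw [Module.length_quotient, Module.length_quotient]
  exact Order.coheight_add_one_le h

/-- the filtration used in the growth estimate -/
def F (I : Ideal A) (k : ℕ) (y z : A) (r l i j : ℕ) : Ideal A :=
  (Ideal.span {z ^ l * y ^ j} * I ^ (k * i) ⊔ Ideal.span {z ^ (l + 1)} * I ^ (k * r)) ⊔
    I ^ (k * (r + l + 1) + 1)

def G (I : Ideal A) (k : ℕ) (z : A) (s l : ℕ) : Ideal A :=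
  Ideal.span {z ^ l} * I ^ (k * s) ⊔ I ^ (k * (s + l) + 1)

theorem ql_F {I : Ideal A} {k : ℕ} {x y z : A} (hx : x ∈ I ^ k) (hy : y ∈ I ^ k)
    (H : ∀ i j l, x ^ (i + 1) * y ^ j * z ^ l ∉
      F I k y z (i + j) l i (j + 1))
    (r l : ℕ) : ∀ s j : ℕ, s + j = r + 1 → ql (F I k y z r l s j) + s ≤ ql (F I k y z r l 0 (r + 1))
  | 0, j, h => by
    obtain rfl : j = r + 1 := by omega
    simp
  | s + 1, j, h => by
    obtain rfl : r = s + j := by omega
    have h1 := ql_F hx hy H (s + j) l s (j + 1) (by omega)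
    have h2 : F I k y z (s + j) l s (j + 1) < F I k y z (s + j) l (s + 1) j := by
      refine lt_of_le_of_ne ?_ ?_
      · refine sup_le_sup_right (sup_le_sup_right ?_ _) _
        rw [show z ^ l * y ^ (j + 1) = (z ^ l * y ^ j) * y by ring,
          ← Ideal.span_singleton_mul_span_singleton, mul_assoc]
        refine Ideal.mul_mono_right ?_
        rw [mul_add, mul_one, pow_add, mul_comm (I ^ (k * s))]
        exact Ideal.mul_mono_left ((Ideal.span_singleton_le_iff_mem _).mpr hy)
      · intro he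
        apply H s j l
        rw [he]
        refine Ideal.mem_sup_left (Ideal.mem_sup_left ?_)
        rw [show x ^ (s + 1) * y ^ j * z ^ l = (z ^ l * y ^ j) * x ^ (s + 1) by ring]
        refine Ideal.mul_mem_mul (Ideal.mem_span_singleton_self _) ?_
        rw [pow_mul]
        exact Ideal.pow_mem_pow hx _
    have h3 := ql_add_one_le h2
    calc ql (F I k y z (s + j) l (s + 1) j) + ((s + 1 : ℕ) : ℕ∞)
        = (ql (F I k y z (s + j) l (s + 1) j) + 1) + s := by push_cast; ring
      _ ≤ ql (F I k y z (s + j) l s (j + 1)) + s := by gcongr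
      _ ≤ _ := h1

theorem ql_G_succ {I : Ideal A} {k : ℕ} {x y z : A} (hx : x ∈ I ^ k) (hy : y ∈ I ^ k)
    (hz : z ∈ I ^ k)
    (H : ∀ i j l, x ^ (i + 1) * y ^ j * z ^ l ∉
      F I k y z (i + j) l i (j + 1)) (r l : ℕ) :
    ql (G I k z (r + 1) l) + ((r + 1 : ℕ) : ℕ∞) ≤ ql (G I k z r (l + 1)) := by
  have h1 := ql_F hx hy H r l (r + 1) 0 (by omega)
  have h2 : F I k y z r l (r + 1) 0 ≤ G I k z (r + 1) l := by
    unfold F G
    refine sup_le (sup_le ?_ ?_) ?_
    · rw [pow_zero, mul_one]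
      exact le_sup_left
    · refine le_sup_of_le_left ?_
      rw [pow_succ, ← Ideal.span_singleton_mul_span_singleton, mul_assoc]
      refine Ideal.mul_mono_right ?_
      rw [mul_add, mul_one, pow_add, mul_comm (I ^ (k * r))]
      exact Ideal.mul_mono_left ((Ideal.span_singleton_le_iff_mem _).mpr hz)
    · rw [show r + 1 + l = r + l + 1 by ring]
      exact le_sup_right
  have h3 : G I k z r (l + 1) ≤ F I k y z r l 0 (r + 1) := by
    unfold F G
    refine sup_le ?_ ?_
    · exact le_sup_of_le_left le_sup_right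
    · rw [show r + (l + 1) = r + l + 1 by ring]
      exact le_sup_right
  calc ql (G I k z (r + 1) l) + ((r + 1 : ℕ) : ℕ∞)
      ≤ ql (F I k y z r l (r + 1) 0) + ((r + 1 : ℕ) : ℕ∞) := by
        gcongr
        exact ql_anti h2
    _ ≤ _ := h1
    _ ≤ _ := ql_anti h3

theorem ql_G {I : Ideal A} {k : ℕ} {x y z : A} (hx : x ∈ I ^ k) (hy : y ∈ I ^ k)
    (hz : z ∈ I ^ k)
    (H : ∀ i j l, x ^ (i + 1) * y ^ j * z ^ l ∉
      F I k y z (i + j) l i (j + 1)) (r : ℕ) : ∀ t l : ℕ,
    ql (G I k z (r + t) l) + ((t * r : ℕ) : ℕ∞) ≤ ql (G I k z r (l + t))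
  | 0, l => by simp
  | t + 1, l => by
    have h1 := ql_G_succ hx hy hz H (r + t) l
    have h2 := ql_G hx hy hz H r t (l + 1)
    calc ql (G I k z (r + (t + 1)) l) + (((t + 1) * r : ℕ) : ℕ∞)
        = ql (G I k z (r + t + 1) l) + (r : ℕ∞) + ((t * r : ℕ) : ℕ∞) := by
          rw [add_mul, one_mul, add_assoc, ← add_assoc r t 1]
          push_cast
          ring
      _ ≤ ql (G I k z (r + t + 1) l) + ((r + t + 1 : ℕ) : ℕ∞) + ((t * r : ℕ) : ℕ∞) := by
          gcongr
          omega
      _ ≤ ql (G I k z (r + t) (l + 1)) + ((t * r : ℕ) : ℕ∞) := by gcongr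
      _ ≤ ql (G I k z r (l + 1 + t)) := h2
      _ = _ := by rw [show l + 1 + t = l + (t + 1) by ring]

theorem lowerGrowth_three {I : Ideal A} {k : ℕ} (hk : 0 < k) {x y z : A} (hx : x ∈ I ^ k)
    (hy : y ∈ I ^ k) (hz : z ∈ I ^ k)
    (H : ∀ i j l, x ^ (i + 1) * y ^ j * z ^ l ∉
      F I k y z (i + j) l i (j + 1)) :
    LowerGrowth (fun n => ql (I ^ n)) 3 := by
  have h1 : ∀ r t : ℕ, ql (I ^ (k * (r + t))) + ((t * r : ℕ) : ℕ∞) ≤ ql (I ^ (k * (r + t + 1))) := by
    intro r t
    have h := ql_G hx hy hz H r t 0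
    have h2 : G I k z (r + t) 0 ≤ I ^ (k * (r + t)) := by
      unfold G
      refine sup_le ?_ (Ideal.pow_le_pow_right (by rw [add_zero]; omega))
      exact Ideal.mul_le_right (I := Ideal.span {z ^ 0}) (J := I ^ (k * (r + t)))
    have h3 : I ^ (k * (r + t + 1)) ≤ G I k z r (0 + t) := by
      unfold G
      refine le_sup_of_le_right (Ideal.pow_le_pow_right ?_)
      rw [zero_add, mul_add, mul_add, mul_one, mul_add]
      omega
    calc ql (I ^ (k * (r + t))) + ((t * r : ℕ) : ℕ∞)
        ≤ ql (G I k z (r + t) 0) + ((t * r : ℕ) : ℕ∞) := by gcongr; exact ql_anti h2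
      _ ≤ _ := h
      _ ≤ _ := ql_anti h3
  have h2 : ∀ s t : ℕ, ql (I ^ (k * (2 * s))) + ((t * (s * s) : ℕ) : ℕ∞)
      ≤ ql (I ^ (k * (2 * s + t))) := by
    intro s t
    induction t with
    | zero => simp
    | succ t ih =>
      have h := h1 (s + t) s
      calc ql (I ^ (k * (2 * s))) + (((t + 1) * (s * s) : ℕ) : ℕ∞)
          = ql (I ^ (k * (2 * s))) + ((t * (s * s) : ℕ) : ℕ∞) + ((s * s : ℕ) : ℕ∞) := by
            push_cast; ring
        _ ≤ ql (I ^ (k * (2 * s + t))) + ((s * (s + t) : ℕ) : ℕ∞) := by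
            gcongr
            omega
        _ = ql (I ^ (k * (s + t + s))) + ((s * (s + t) : ℕ) : ℕ∞) := by
            rw [show 2 * s + t = s + t + s by ring]
        _ ≤ ql (I ^ (k * (s + t + s + 1))) := h
        _ = _ := by rw [show s + t + s + 1 = 2 * s + (t + 1) by ring]
  refine ⟨1, 3 * k, by omega, fun n => ?_⟩
  have h3 := h2 n n
  calc ((n ^ 3 : ℕ) : ℕ∞) = ((n * (n * n) : ℕ) : ℕ∞) := by congr 1; ring
    _ ≤ ql (I ^ (k * (2 * n))) + ((n * (n * n) : ℕ) : ℕ∞) := le_add_self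
    _ ≤ ql (I ^ (k * (2 * n + n))) := h3
    _ ≤ ql (I ^ (3 * k * (n + 1))) := by
        refine ql_anti (Ideal.pow_le_pow_right ?_)
        nlinarith
    _ = _ := by simp

/-- Three elements of `𝔪 ^ k` satisfy a relation in degree-leading form, if `dim A ≤ 2`. -/
theorem exists_relation [IsLocalRing A] [IsNoetherianRing A] (hdim : ringKrullDim A ≤ 2)
    {k : ℕ} (hk : 0 < k) {x y z : A} (hx : x ∈ maximalIdeal A ^ k)
    (hy : y ∈ maximalIdeal A ^ k) (hz : z ∈ maximalIdeal A ^ k) :
    ∃ i j l, ∃ h₂ ∈ maximalIdeal A ^ (k * i), ∃ h₁ ∈ maximalIdeal A ^ (k * (i + j)),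
      z ^ l * (y ^ j * (x ^ (i + 1) - y * h₂) - z * h₁) ∈
        maximalIdeal A ^ (k * (i + j + l + 1) + 1) := by
  by_contra hcon
  have hU : UpperGrowth (fun n => ql (maximalIdeal A ^ n)) 2 := by
    have h := upperGrowth (M := A) (maximalIdeal A) (b := 1) (by simp) 2
      (by rw [Module.supportDim_self_eq_ringKrullDim]; exact_mod_cast hdim)
    simpa using h
  have hL := lowerGrowth_three (I := maximalIdeal A) hk hx hy hz (by
    intro i j l hmem
    apply hcon
    unfold F at hmem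
    obtain ⟨w, hw, u, hu, huw⟩ := Submodule.mem_sup.mp hmem
    obtain ⟨p, hp, q, hq, hpq⟩ := Submodule.mem_sup.mp hw
    obtain ⟨h₂, hh₂, rfl⟩ := Ideal.mem_span_singleton_mul.mp hp
    obtain ⟨h₁, hh₁, rfl⟩ := Ideal.mem_span_singleton_mul.mp hq
    refine ⟨i, j, l, h₂, hh₂, h₁, hh₁, ?_⟩
    have : z ^ l * (y ^ j * (x ^ (i + 1) - y * h₂) - z * h₁) = u := by
      have : u = x ^ (i + 1) * y ^ j * z ^ l - (z ^ l * y ^ (j + 1) * h₂ + z ^ (l + 1) * h₁) := by
        rw [hpq]; exact (sub_eq_of_eq_add' huw.symm).symm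
      rw [this]; ring
    rw [this]
    exact hu)
  have := le_of_growth hL hU
  omega

end Growth

section Rees

variable {A : Type u} [CommRing A]

/-- the ideal of the Rees algebra defining the associated graded ring -/
def J (I : Ideal A) : Ideal (reesAlgebra I) where
  carrier := {f | ∀ n, (f : A[X]).coeff n ∈ I ^ (n + 1)}
  add_mem' := fun {f g} hf hg n => by
    have : ((f + g : reesAlgebra I) : A[X]).coeff n = (f : A[X]).coeff n + (g : A[X]).coeff n := by
      simp
    rw [this]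
    exact add_mem (hf n) (hg n)
  zero_mem' := fun n => by simp
  smul_mem' := fun r f hf n => by
    have : ((r • f : reesAlgebra I) : A[X]).coeff n = ((r : A[X]) * (f : A[X])).coeff n := by
      simp
    rw [this, Polynomial.coeff_mul]
    refine Ideal.sum_mem _ fun p hp => ?_
    rw [Finset.mem_antidiagonal] at hp
    rw [← hp, add_assoc, pow_add]
    exact Ideal.mul_mem_mul ((mem_reesAlgebra_iff I _).mp r.2 _) (hf _)

theorem mem_J {I : Ideal A} {f : reesAlgebra I} :
    f ∈ J I ↔ ∀ n, (f : A[X]).coeff n ∈ I ^ (n + 1) := Iff.rfl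

/-- the homogeneous element of degree `n` given by `x ∈ I ^ n` -/
noncomputable def el (I : Ideal A) (n : ℕ) (x : A) (hx : x ∈ I ^ n) : reesAlgebra I :=
  ⟨monomial n x, reesAlgebra.monomial_mem.mpr hx⟩

@[simp] theorem coe_el {I : Ideal A} {n : ℕ} {x : A} (hx : x ∈ I ^ n) :
    (el I n x hx : A[X]) = monomial n x := rfl

theorem el_mul {I : Ideal A} {n m : ℕ} {x y : A} (hx : x ∈ I ^ n) (hy : y ∈ I ^ m) :
    el I n x hx * el I m y hy = el I (n + m) (x * y) (by rw [pow_add]; exact Ideal.mul_mem_mul hx hy) := by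
  apply Subtype.ext
  simp [monomial_mul_monomial]

theorem el_pow {I : Ideal A} {n : ℕ} {x : A} (hx : x ∈ I ^ n) (e : ℕ) :
    el I n x hx ^ e = el I (n * e) (x ^ e) (by rw [pow_mul]; exact Ideal.pow_mem_pow hx _) := by
  apply Subtype.ext
  simp [monomial_pow]

theorem el_add {I : Ideal A} {n : ℕ} {x y : A} (hx : x ∈ I ^ n) (hy : y ∈ I ^ n) :
    el I n (x + y) (add_mem hx hy) = el I n x hx + el I n y hy := by
  apply Subtype.ext
  simp

theorem el_sub {I : Ideal A} {n : ℕ} {x y : A} (hx : x ∈ I ^ n) (hy : y ∈ I ^ n) :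
    el I n (x - y) (sub_mem hx hy) = el I n x hx - el I n y hy := by
  apply Subtype.ext
  simp

theorem el_congr {I : Ideal A} {n m : ℕ} {x y : A} (hx : x ∈ I ^ n) (hnm : n = m) (hxy : x = y) :
    el I n x hx = el I m y (by rw [← hnm, ← hxy]; exact hx) := by
  subst hnm hxy
  rfl

theorem el_mem_J {I : Ideal A} {n : ℕ} {x : A} (hx : x ∈ I ^ n) (h : x ∈ I ^ (n + 1)) :
    el I n x hx ∈ J I := by
  intro m
  rw [coe_el, Polynomial.coeff_monomial]
  split_ifs with hm
  · rw [← hm]; exact h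
  · exact Ideal.zero_mem _

/-- `W` consists of elements of `I ^ k` and the initial forms generate an ideal of the associated
graded ring whose radical contains all elements of positive degree. -/
def Good (I : Ideal A) (k : ℕ) (W : List A) : Prop :=
  (∀ w ∈ W, w ∈ I ^ k) ∧ ∀ P : Ideal (reesAlgebra I), P.IsPrime → J I ≤ P →
    (∀ w ∈ W, ∀ hw : w ∈ I ^ k, el I k w hw ∈ P) → ∀ x : A, ∀ hx : x ∈ I ^ 1, el I 1 x hx ∈ P

theorem Good.step {I : Ideal A} {k : ℕ} {x y z : A} {T : List A}
    (h : Good I k (x :: y :: z :: T))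
    {i j l : ℕ} {h₂ h₁ : A} (hh₂ : h₂ ∈ I ^ (k * i)) (hh₁ : h₁ ∈ I ^ (k * (i + j)))
    (hrel : z ^ l * (y ^ j * (x ^ (i + 1) - y * h₂) - z * h₁) ∈ I ^ (k * (i + j + l + 1) + 1)) :
    Good I (k * ((i + 1) * (i + j + 1)))
      (((x ^ (i + 1) - y * h₂) + y ^ (i + 1)) ^ (i + j + 1) ::
       ((y ^ j * (x ^ (i + 1) - y * h₂) - z * h₁) + z ^ (i + j + 1)) ^ (i + 1) ::
       T.map (· ^ ((i + 1) * (i + j + 1)))) := by
  obtain ⟨hmem, hP⟩ := h
  have hx : x ∈ I ^ k := hmem x (by simp)
  have hy : y ∈ I ^ k := hmem y (by simp)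
  have hz : z ∈ I ^ k := hmem z (by simp)
  have hT : ∀ t ∈ T, t ∈ I ^ k := fun t ht => hmem t (by simp [ht])
  have hpow : ∀ {w : A} (e : ℕ), w ∈ I ^ k → w ^ e ∈ I ^ (k * e) := fun e hw => by
    rw [pow_mul]; exact Ideal.pow_mem_pow hw _
  -- the two forms
  set G₂ := x ^ (i + 1) - y * h₂ with hG₂def
  have hyh₂ : y * h₂ ∈ I ^ (k * (i + 1)) := by
    rw [mul_add, mul_one, add_comm, pow_add]; exact Ideal.mul_mem_mul hy hh₂
  have hG₂ : G₂ ∈ I ^ (k * (i + 1)) := sub_mem (hpow _ hx) hyh₂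
  set G₁ := y ^ j * G₂ - z * h₁ with hG₁def
  have hyG₂ : y ^ j * G₂ ∈ I ^ (k * (i + j + 1)) := by
    rw [show k * (i + j + 1) = k * j + k * (i + 1) by ring, pow_add]
    exact Ideal.mul_mem_mul (hpow _ hy) hG₂
  have hzh₁ : z * h₁ ∈ I ^ (k * (i + j + 1)) := by
    rw [mul_add, mul_one, add_comm, pow_add]; exact Ideal.mul_mem_mul hz hh₁
  have hG₁ : G₁ ∈ I ^ (k * (i + j + 1)) := sub_mem hyG₂ hzh₁
  have hU : G₂ + y ^ (i + 1) ∈ I ^ (k * (i + 1)) := add_mem hG₂ (hpow _ hy)
  have hV : G₁ + z ^ (i + j + 1) ∈ I ^ (k * (i + j + 1)) := add_mem hG₁ (hpow _ hz)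
  have hUp : (G₂ + y ^ (i + 1)) ^ (i + j + 1) ∈ I ^ (k * ((i + 1) * (i + j + 1))) := by
    rw [← mul_assoc, pow_mul]; exact Ideal.pow_mem_pow hU _
  have hVp : (G₁ + z ^ (i + j + 1)) ^ (i + 1) ∈ I ^ (k * ((i + 1) * (i + j + 1))) := by
    rw [mul_comm (i + 1), ← mul_assoc, pow_mul]; exact Ideal.pow_mem_pow hV _
  refine ⟨?_, ?_⟩
  · intro w hw
    rw [List.mem_cons, List.mem_cons, List.mem_map] at hw
    rcases hw with rfl | rfl | ⟨t, ht, rfl⟩
    · exact hUp
    · exact hVp
    · exact hpow _ (hT t ht)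
  intro P hPp hJ hW
  -- the generators in `P`
  have eU : el I (k * (i + 1)) _ hU ∈ P := by
    refine hPp.mem_of_pow_mem (i + j + 1) ?_
    rw [el_pow, el_congr _ (mul_assoc k (i + 1) (i + j + 1)) rfl]
    exact hW _ (by simp) hUp
  have eV : el I (k * (i + j + 1)) _ hV ∈ P := by
    refine hPp.mem_of_pow_mem (i + 1) ?_
    rw [el_pow, el_congr _ (show k * (i + j + 1) * (i + 1) = k * ((i + 1) * (i + j + 1)) by ring) rfl]
    exact hW _ (by simp) hVp
  have eU' : el I (k * (i + 1)) _ hU = el I (k * (i + 1)) _ hG₂ + el I k y hy ^ (i + 1) := by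
    rw [el_add hG₂ (hpow _ hy), el_pow]
  have eV' : el I (k * (i + j + 1)) _ hV =
      el I (k * (i + j + 1)) _ hG₁ + el I k z hz ^ (i + j + 1) := by
    rw [el_add hG₁ (hpow _ hz), el_pow]
  rw [eU'] at eU
  rw [eV'] at eV
  have hyG : el I (k * (i + 1)) _ hG₂ ∈ P ↔ el I k y hy ∈ P := by
    constructor
    · intro h
      exact hPp.mem_of_pow_mem _ ((Ideal.add_mem_iff_right P h).mp eU)
    · intro h
      exact (Ideal.add_mem_iff_left P (Ideal.pow_mem_of_mem P h _ (by omega))).mp eU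
  have hzG : el I (k * (i + j + 1)) _ hG₁ ∈ P ↔ el I k z hz ∈ P := by
    constructor
    · intro h
      exact hPp.mem_of_pow_mem _ ((Ideal.add_mem_iff_right P h).mp eV)
    · intro h
      exact (Ideal.add_mem_iff_left P (Ideal.pow_mem_of_mem P h _ (by omega))).mp eV
  have e0 : el I k z hz ^ l * el I (k * (i + j + 1)) _ hG₁ ∈ P := by
    apply hJ
    rw [el_pow, el_mul, el_congr _ (show k * l + k * (i + j + 1) = k * (i + j + l + 1) by ring) rfl]
    exact el_mem_J _ hrel
  have ez : el I k z hz ∈ P := by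
    rcases hPp.mem_or_mem e0 with h | h
    · exact hPp.mem_of_pow_mem _ h
    · exact hzG.mp h
  have eG₁ : el I (k * (i + j + 1)) _ hG₁ ∈ P := hzG.mpr ez
  have eG₁' : el I (k * (i + j + 1)) _ hG₁ =
      el I k y hy ^ j * el I (k * (i + 1)) _ hG₂ - el I k z hz * el I (k * (i + j)) _ hh₁ := by
    rw [el_sub hyG₂ hzh₁, el_pow, el_mul, el_mul,
      el_congr _ (show k * j + k * (i + 1) = k * (i + j + 1) by ring) rfl,
      el_congr _ (show k + k * (i + j) = k * (i + j + 1) by ring) rfl]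
  have e1 : el I k y hy ^ j * el I (k * (i + 1)) _ hG₂ ∈ P := by
    rw [eG₁'] at eG₁
    have := P.add_mem eG₁ (P.mul_mem_right (el I (k * (i + j)) _ hh₁) ez)
    rwa [sub_add_cancel] at this
  have ey : el I k y hy ∈ P := by
    rcases hPp.mem_or_mem e1 with h | h
    · exact hPp.mem_of_pow_mem _ h
    · exact hyG.mp h
  have eG₂ : el I (k * (i + 1)) _ hG₂ ∈ P := hyG.mpr ey
  have eG₂' : el I (k * (i + 1)) _ hG₂ =
      el I k x hx ^ (i + 1) - el I k y hy * el I (k * i) _ hh₂ := by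
    rw [el_sub (hpow _ hx) hyh₂, el_pow, el_mul,
      el_congr _ (show k + k * i = k * (i + 1) by ring) rfl]
  have ex : el I k x hx ∈ P := by
    rw [eG₂'] at eG₂
    have := P.add_mem eG₂ (P.mul_mem_right (el I (k * i) _ hh₂) ey)
    rw [sub_add_cancel] at this
    exact hPp.mem_of_pow_mem _ this
  refine hP P hPp hJ ?_
  intro w hw hwk
  rw [List.mem_cons, List.mem_cons, List.mem_cons] at hw
  rcases hw with rfl | rfl | rfl | ht
  · exact ex
  · exact ey
  · exact ez
  · refine hPp.mem_of_pow_mem ((i + 1) * (i + j + 1)) ?_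
    rw [el_pow]
    exact hW _ (by simp only [List.mem_cons, List.mem_map]; exact Or.inr (Or.inr ⟨w, ht, rfl⟩)) _

theorem Good.exists_pair [IsLocalRing A] [IsNoetherianRing A] (hdim : ringKrullDim A ≤ 2) :
    ∀ (n k : ℕ) (W : List A), 0 < k → W.length ≤ n → Good (maximalIdeal A) k W →
      ∃ (k' : ℕ) (a b : A), 0 < k' ∧ Good (maximalIdeal A) k' [a, b]
  | _, k, [], hk, _, h => ⟨k, 0, 0, hk, by simp, fun P hP hJ _ =>
      h.2 P hP hJ (by simp)⟩
  | _, k, [a], hk, _, h => ⟨k, a, 0, hk, by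
      intro w hw
      rcases List.mem_pair.mp hw with rfl | rfl
      · exact h.1 _ (by simp)
      · exact Ideal.zero_mem _, fun P hP hJ hW =>
      h.2 P hP hJ (fun w hw => hW w (by
        rw [List.mem_singleton] at hw
        simp [hw]))⟩
  | _, k, [a, b], hk, _, h => ⟨k, a, b, hk, h⟩
  | 0, k, x :: y :: z :: T, hk, hn, h => by simp at hn
  | n + 1, k, x :: y :: z :: T, hk, hn, h => by
    obtain ⟨i, j, l, h₂, hh₂, h₁, hh₁, hrel⟩ := exists_relation hdim hk (h.1 x (by simp))
      (h.1 y (by simp)) (h.1 z (by simp))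
    refine Good.exists_pair hdim n _ _ ?_ ?_ (h.step hh₂ hh₁ hrel)
    · positivity
    · simp only [List.length_cons, List.length_map] at hn ⊢
      omega

/-- the set of generators of the maximal ideal is good in degree one -/
theorem good_one {I : Ideal A} (W : List A) (hW : Ideal.span {w | w ∈ W} = I) : Good I 1 W := by
  refine ⟨fun w hw => ?_, ?_⟩
  · rw [pow_one, ← hW]
    exact Ideal.subset_span hw
  · intro P hP hJ h x hx
    have hx' : x ∈ Ideal.span {w | w ∈ W} := by
      rw [hW]; simpa using hx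
    have : ∃ hx : x ∈ I ^ 1, el I 1 x hx ∈ P := by
      clear hx
      induction hx' using Submodule.span_induction with
      | mem w hw => exact ⟨by rw [pow_one, ← hW]; exact Ideal.subset_span hw, h w hw _⟩
      | zero => exact ⟨Ideal.zero_mem _, by
          have : el I 1 0 (Ideal.zero_mem _) = 0 := by apply Subtype.ext; simp
          rw [this]; exact P.zero_mem⟩
      | add u v _ _ hu hv =>
        obtain ⟨hu, hu'⟩ := hu
        obtain ⟨hv, hv'⟩ := hv
        exact ⟨add_mem hu hv, by rw [el_add hu hv]; exact P.add_mem hu' hv'⟩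
      | smul r u _ hu =>
        obtain ⟨hu, hu'⟩ := hu
        refine ⟨Ideal.mul_mem_left _ r hu, ?_⟩
        have : el I 1 (r • u) (Ideal.mul_mem_left _ r hu) = r • el I 1 u hu := by
          apply Subtype.ext
          simp [Polynomial.smul_monomial]
        rw [this]
        exact Submodule.smul_of_tower_mem P r hu'
    exact this.2

/-- From the graded statement to the reduction statement. -/
theorem Good.exists_mul_eq [IsLocalRing A] [IsNoetherianRing A] {k : ℕ} {a b : A}
    (h : Good (maximalIdeal A) k [a, b]) :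
    ∃ N : ℕ, Ideal.span {a, b} * maximalIdeal A ^ N = maximalIdeal A ^ (N + k) := by
  obtain ⟨hmem, hP⟩ := h
  have ha : a ∈ maximalIdeal A ^ k := hmem a (by simp)
  have hb : b ∈ maximalIdeal A ^ k := hmem b (by simp)
  set I := maximalIdeal A with hI
  set K : Ideal (reesAlgebra I) := J I ⊔ Ideal.span {el I k a ha, el I k b hb} with hK
  set 𝔞 : Ideal (reesAlgebra I) := Ideal.span {f | ∃ x, ∃ hx : x ∈ I ^ 1, f = el I 1 x hx} with h𝔞
  have h1 : 𝔞 ≤ K.radical := by
    rw [h𝔞, Ideal.span_le]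
    rintro f ⟨x, hx, rfl⟩
    rw [SetLike.mem_coe, Ideal.radical_eq_sInf, Ideal.mem_sInf]
    rintro P ⟨hKP, hPp⟩
    refine hP P hPp (le_sup_left.trans hKP) ?_ x hx
    intro w hw hwk
    rcases List.mem_pair.mp hw with rfl | rfl
    · exact hKP (Ideal.mem_sup_right (Ideal.subset_span (by simp)))
    · exact hKP (Ideal.mem_sup_right (Ideal.subset_span (by simp)))
  obtain ⟨M, hM⟩ := Ideal.exists_pow_le_of_le_radical_of_fg h1 (IsNoetherian.noetherian _)
  have h2 : ∀ n : ℕ, ∀ x ∈ I ^ n, ∃ hx : x ∈ I ^ n, el I n x hx ∈ 𝔞 ^ n := by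
    intro n
    induction n with
    | zero => intro x hx; exact ⟨hx, by simp⟩
    | succ n ih =>
      intro x hx
      rw [pow_succ] at hx
      induction hx using Submodule.mul_induction_on' with
      | mem_mul_mem u hu v hv =>
        obtain ⟨hu, hu'⟩ := ih u hu
        have hv1 : v ∈ I ^ 1 := by simpa using hv
        refine ⟨by rw [pow_succ]; exact Ideal.mul_mem_mul hu hv, ?_⟩
        rw [← el_mul hu hv1, pow_succ]
        exact Ideal.mul_mem_mul hu' (Ideal.subset_span ⟨v, hv1, rfl⟩)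
      | add u _ v _ hu hv =>
        obtain ⟨hu, hu'⟩ := hu
        obtain ⟨hv, hv'⟩ := hv
        exact ⟨add_mem hu hv, by rw [el_add hu hv]; exact add_mem hu' hv'⟩
  have h3 : ∀ f ∈ K, (f : A[X]).coeff (M + k) ∈ Ideal.span {a, b} * I ^ M ⊔ I ^ (M + k + 1) := by
    intro f hf
    obtain ⟨g, hg, g', hg', rfl⟩ := Submodule.mem_sup.mp hf
    obtain ⟨r, s, rfl⟩ := Ideal.mem_span_pair.mp hg'
    have hcoe : ((g + (r * el I k a ha + s * el I k b hb) : reesAlgebra I) : A[X]) =
        (g : A[X]) + ((r : A[X]) * monomial k a + (s : A[X]) * monomial k b) := by simp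
    rw [hcoe, coeff_add, coeff_add, coeff_mul_monomial, coeff_mul_monomial]
    refine add_mem (Ideal.mem_sup_right (hg _)) (Ideal.mem_sup_left (add_mem ?_ ?_))
    · rw [mul_comm _ a]
      exact Ideal.mul_mem_mul (Ideal.subset_span (by simp)) ((mem_reesAlgebra_iff I _).mp r.2 _)
    · rw [mul_comm _ b]
      exact Ideal.mul_mem_mul (Ideal.subset_span (by simp)) ((mem_reesAlgebra_iff I _).mp s.2 _)
  refine ⟨M, le_antisymm ?_ ?_⟩
  · rw [add_comm M k, pow_add]
    refine Ideal.mul_mono_left (Ideal.span_le.mpr ?_)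
    rintro w (rfl | rfl)
    · exact ha
    · exact hb
  · refine Submodule.le_of_le_smul_of_le_jacobson_bot (I := I) (IsNoetherian.noetherian _)
      (maximalIdeal_le_jacobson _) ?_
    intro x hx
    obtain ⟨hx', hx''⟩ := h2 (M + k) x hx
    have h4 := h3 _ (hM (Ideal.pow_le_pow_right (Nat.le_add_right M k) hx''))
    rw [coe_el, coeff_monomial, if_pos rfl] at h4
    rw [smul_eq_mul, ← pow_succ']
    exact h4

end Rees

/-- Coset prime avoidance. -/
theorem exists_add_mul_notMem {A : Type u} [CommRing A] (a b : A) (S : Finset (Ideal A))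
    (hS : ∀ P ∈ S, P.IsPrime ∧ ¬ (a ∈ P ∧ b ∈ P)) : ∃ p : A, ∀ P ∈ S, b + p * a ∉ P := by
  classical
  -- induction on the cardinality, always removing a minimal element last
  induction S using Finset.strongInduction with
  | H S ih =>
    by_cases hne : S.Nonempty
    swap
    · rw [Finset.not_nonempty_iff_eq_empty] at hne
      subst hne
      exact ⟨0, by simp⟩
    obtain ⟨Q, hQ, hmin⟩ := S.exists_minimal hne
    obtain ⟨p, hp⟩ := ih (S.erase Q) (Finset.erase_ssubset hQ)
      (fun P hP => hS P (Finset.mem_of_mem_erase hP))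
    by_cases hbQ : b + p * a ∈ Q
    swap
    · refine ⟨p, fun P hP => ?_⟩
      by_cases hPQ : P = Q
      · rw [hPQ]; exact hbQ
      · exact hp P (Finset.mem_erase.mpr ⟨hPQ, hP⟩)
    have haQ : a ∉ Q := by
      intro ha
      apply (hS Q hQ).2
      refine ⟨ha, ?_⟩
      have := Q.sub_mem hbQ (Q.mul_mem_left p ha)
      rwa [add_sub_cancel_right] at this
    -- an element in all the other primes but not in `Q`
    have : ∃ c : A, (∀ P ∈ S.erase Q, c ∈ P) ∧ c ∉ Q := by
      have hall : ∀ P ∈ S.erase Q, ∃ c ∈ P, c ∉ Q := by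
        intro P hP
        obtain ⟨hPQ, hPS⟩ := Finset.mem_erase.mp hP
        by_contra hcon
        push Not at hcon
        have hle : P ≤ Q := hcon
        exact hPQ (le_antisymm hle (hmin hPS hle))
      choose! c hc hcQ using hall
      refine ⟨∏ P ∈ S.erase Q, c P, fun P hP => ?_, ?_⟩
      · exact Ideal.mem_of_dvd P (Finset.dvd_prod_of_mem c hP) (hc P hP)
      · intro hmem
        obtain ⟨P, hP, hcP⟩ := ((hS Q hQ).1.prod_mem_iff).mp hmem
        exact hcQ P hP hcP
    obtain ⟨c, hc, hcQ⟩ := this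
    refine ⟨p + c, fun P hP => ?_⟩
    rw [add_mul, ← add_assoc]
    by_cases hPQ : P = Q
    · subst hPQ
      intro hmem
      have h1 := (Ideal.add_mem_iff_right P hbQ).mp hmem
      rcases (hS P hP).1.mem_or_mem h1 with h | h
      · exact hcQ h
      · exact haQ h
    · have hP' := Finset.mem_erase.mpr ⟨hPQ, hP⟩
      intro hmem
      exact hp P hP' ((Ideal.add_mem_iff_left P (P.mul_mem_right a (hc P hP'))).mp hmem)

/-- **Reductions.**  In a Noetherian local ring of dimension at most two, some power of the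
maximal ideal has a reduction generated by two elements, the second of which avoids finitely many
given nonmaximal primes. -/
theorem exists_reduction {A : Type u} [CommRing A] [IsLocalRing A] [IsNoetherianRing A]
    (hdim : ringKrullDim A ≤ 2) (S : Finset (Ideal A))
    (hS : ∀ P ∈ S, P.IsPrime ∧ P ≠ maximalIdeal A) :
    ∃ k N : ℕ, 0 < k ∧ ∃ a b : A, a ∈ maximalIdeal A ^ k ∧ b ∈ maximalIdeal A ^ k ∧
      Ideal.span {a, b} * maximalIdeal A ^ N = maximalIdeal A ^ (N + k) ∧ ∀ P ∈ S, b ∉ P := by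
  obtain ⟨s, hs⟩ := IsNoetherian.noetherian (maximalIdeal A)
  obtain ⟨k, a, b, hk, hgood⟩ := Good.exists_pair hdim s.toList.length 1 s.toList one_pos le_rfl
    (good_one s.toList (by simpa using hs))
  obtain ⟨N, hN⟩ := hgood.exists_mul_eq
  have ha : a ∈ maximalIdeal A ^ k := hgood.1 a (by simp)
  have hb : b ∈ maximalIdeal A ^ k := hgood.1 b (by simp)
  obtain ⟨p, hp⟩ := exists_add_mul_notMem a b S (fun P hP => ⟨(hS P hP).1, by
    rintro ⟨haP, hbP⟩
    apply (hS P hP).2
    have hPp := (hS P hP).1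
    have h1 : maximalIdeal A ^ (N + k) ≤ P := by
      rw [← hN]
      refine Ideal.mul_le_left.trans (Ideal.span_le.mpr ?_)
      rintro w (rfl | rfl)
      · exact haP
      · exact hbP
    exact le_antisymm (le_maximalIdeal hPp.ne_top) (hPp.le_of_pow_le h1)⟩)
  refine ⟨k, N, hk, a, b + p * a, ha, add_mem hb (Ideal.mul_mem_left _ p ha), ?_, hp⟩
  rw [← hN]
  congr 1
  exact Ideal.span_pair_add_mul_left a b p

end Groth.Agent.Lipman.Reduction
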