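import Groth.Agent.Lipman.Reduction

/-!
# Reductions with nonzero generators
-/

set_option autoImplicit false

universe u

namespace Groth.Agent.Lipman.Reduction

open IsLocalRing

/-- `exists_reduction` for a domain which is not a field, with both generators nonzero. -/
theorem exists_reduction_ne_zero {A : Type u} [CommRing A] [IsDomain A] [IsLocalRing A]
    [IsNoetherianRing A] (hdim : ringKrullDim A ≤ 2) (hA : maximalIdeal A ≠ ⊥)
    (S : Finset (Ideal A)) (hS : ∀ P ∈ S, P.IsPrime ∧ P ≠ maximalIdeal A) :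
    ∃ k N : ℕ, 0 < k ∧ ∃ a b : A, a ≠ 0 ∧ b ≠ 0 ∧ a ∈ maximalIdeal A ^ k ∧
      b ∈ maximalIdeal A ^ k ∧
      Ideal.span {a, b} * maximalIdeal A ^ N = maximalIdeal A ^ (N + k) ∧ ∀ P ∈ S, b ∉ P := by
  classical
  obtain ⟨k, N, hk, a, b, ha, hb, h, hbS⟩ := exists_reduction hdim (insert ⊥ S) (by
    intro P hP
    rcases Finset.mem_insert.mp hP with rfl | hP
    · exact ⟨Ideal.isPrime_bot, hA.symm⟩
    · exact hS P hP)
  have hb0 : b ≠ 0 := by
    have := hbS ⊥ (Finset.mem_insert_self _ _)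
    simpa using this
  have hbS' : ∀ P ∈ S, b ∉ P := fun P hP => hbS P (Finset.mem_insert_of_mem hP)
  by_cases ha0 : a = 0
  · refine ⟨k, N, hk, b, b, hb0, hb0, hb, hb, ?_, hbS'⟩
    rw [← h, ha0]
    congr 1
    simp
  · exact ⟨k, N, hk, a, b, ha0, hb0, ha, hb, h, hbS'⟩

/-- Version for two-dimensional domains; `m ^ N' ≤ span {a, b}` is recorded too. -/
theorem exists_reduction_two {A : Type u} [CommRing A] [IsDomain A] [IsLocalRing A]
    [IsNoetherianRing A] (hdim : ringKrullDim A = 2)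
    (S : Finset (Ideal A)) (hS : ∀ P ∈ S, P.IsPrime ∧ P ≠ maximalIdeal A) :
    ∃ k N : ℕ, 0 < k ∧ ∃ a b : A, a ≠ 0 ∧ b ≠ 0 ∧ a ∈ maximalIdeal A ^ k ∧
      b ∈ maximalIdeal A ^ k ∧
      maximalIdeal A ^ (N + k) ≤ Ideal.span {a, b} * maximalIdeal A ^ N ∧
      maximalIdeal A ^ (N + k) ≤ Ideal.span {a, b} ∧ ∀ P ∈ S, b ∉ P := by
  obtain ⟨k, N, hk, a, b, h1, h2, h3, h4, h5, h6⟩ := exists_reduction_ne_zero hdim.le (by
    intro h0
    have hf : IsField A := IsLocalRing.isField_iff_maximalIdeal_eq.mpr h0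
    have := ringKrullDim_eq_zero_of_isField hf
    rw [hdim] at this
    exact two_ne_zero this) S hS
  exact ⟨k, N, hk, a, b, h1, h2, h3, h4, h5.ge, h5.ge.trans Ideal.mul_le_left, h6⟩

end Groth.Agent.Lipman.Reduction
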