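import Groth.Agent.Lipman.TermDefs

/-!
# Block B5 (termination), T3: the cone case

`A → B → C` quadratic transforms with trivial residue field extensions and constant embedding dimension:
if the exceptional parameter changes then `A` is of type `Fat`.
-/

set_option autoImplicit false
set_option linter.unusedSectionVars false

namespace Groth.Agent.Lipman.Term

open IsLocalRing

section basics

variable {A B : Type*} [CommRing A] [IsLocalRing A] [CommRing B] [IsLocalRing B] [Algebra A B]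

theorem QT.cancel {t : A} (h : QT A B t) {x y : B} (hxy : algebraMap A B t * x = algebraMap A B t * y) :
    x = y := by
  have := h.reg (x - y) (by rw [mul_sub, hxy, sub_self])
  exact sub_eq_zero.1 this

theorem QT.cancel_pow {t : A} (h : QT A B t) (k : ℕ) {x y : B}
    (hxy : algebraMap A B t ^ k * x = algebraMap A B t ^ k * y) : x = y := by
  induction k with
  | zero => simpa using hxy
  | succ k ih =>
    apply ih
    apply h.cancel
    rw [← mul_assoc, ← mul_assoc, ← pow_succ', hxy]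

theorem QT.mem_iff {t : A} (h : QT A B t) {a : A} :
    algebraMap A B a ∈ maximalIdeal B ↔ a ∈ maximalIdeal A := by
  refine ⟨fun ha => ?_, h.loc a⟩
  rw [IsLocalRing.mem_maximalIdeal, mem_nonunits_iff]
  intro hu
  exact (IsLocalRing.mem_maximalIdeal _).1 ha (hu.map (algebraMap A B))

theorem QT.mem' {t : A} (h : QT A B t) : algebraMap A B t ∈ maximalIdeal B := h.loc t h.mem

theorem QT.map_le {t : A} (h : QT A B t) :
    (maximalIdeal A).map (algebraMap A B) ≤ Ideal.span {algebraMap A B t} := by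
  rw [Ideal.map_le_iff_le_comap]
  intro a ha
  rw [Ideal.mem_comap, Ideal.mem_span_singleton]
  exact h.dvd a ha

theorem QT.exists_of_mem_pow {t : A} (h : QT A B t) (k : ℕ) {a : A} (ha : a ∈ maximalIdeal A ^ k) :
    ∃ b : B, algebraMap A B a = algebraMap A B t ^ k * b := by
  have h1 : algebraMap A B a ∈ (maximalIdeal A ^ k).map (algebraMap A B) := Ideal.mem_map_of_mem _ ha
  rw [Ideal.map_pow] at h1
  have h2 := Ideal.pow_right_mono h.map_le k h1
  rw [Ideal.span_singleton_pow, Ideal.mem_span_singleton] at h2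
  exact h2

theorem QT.not_mem_sq {t : A} (h : QT A B t) : t ∉ maximalIdeal A ^ 2 := by
  intro ht
  obtain ⟨b, hb⟩ := h.exists_of_mem_pow 2 ht
  have h1 : (1 : B) = algebraMap A B t * b := by
    apply h.cancel
    calc algebraMap A B t * 1 = algebraMap A B t := mul_one _
      _ = algebraMap A B t ^ 2 * b := hb
      _ = algebraMap A B t * (algebraMap A B t * b) := by ring
  have h2 : (1 : B) ∈ maximalIdeal B := by
    rw [h1]; exact Ideal.mul_mem_right _ _ h.mem'
  exact (Ideal.ne_top_iff_one _).1 (IsLocalRing.maximalIdeal.isMaximal B).ne_top h2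

theorem mem_of_mem_sq {a : A} (ha : a ∈ maximalIdeal A ^ 2) : a ∈ maximalIdeal A :=
  Ideal.pow_le_self two_ne_zero ha

/-- image of an ideal generated by multiples of `t` -/
theorem exists_div_of_mem_span {n : ℕ} {t : A} (h : Fin n → A) (hs : Fin n → B)
    (hhs : ∀ j, algebraMap A B t * hs j = algebraMap A B (h j)) {q : A}
    (hq : q ∈ Ideal.span (Set.range h)) :
    ∃ q' ∈ Ideal.span (Set.range hs), algebraMap A B q = algebraMap A B t * q' := by
  obtain ⟨c, rfl⟩ := (Ideal.mem_span_range_iff_exists_fun).1 hq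
  refine ⟨∑ j, algebraMap A B (c j) * hs j,
    Ideal.sum_mem _ fun j _ => Ideal.mul_mem_left _ _ (Ideal.subset_span ⟨j, rfl⟩), ?_⟩
  rw [map_sum, Finset.mul_sum]
  refine Finset.sum_congr rfl fun j _ => ?_
  rw [map_mul, ← hhs j]; ring

theorem exists_div_of_mem_span_sq {n : ℕ} {t : A} (h : Fin n → A) (hs : Fin n → B)
    (hhs : ∀ j, algebraMap A B t * hs j = algebraMap A B (h j)) {q : A}
    (hq : q ∈ Ideal.span (Set.range h) ^ 2) :
    ∃ q' ∈ Ideal.span (Set.range hs) ^ 2, algebraMap A B q = algebraMap A B t ^ 2 * q' := by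
  have h1 : (Ideal.span (Set.range h)).map (algebraMap A B) ≤
      Ideal.span {algebraMap A B t} * Ideal.span (Set.range hs) := by
    rw [Ideal.map_le_iff_le_comap]
    intro a ha
    obtain ⟨q', hq', e⟩ := exists_div_of_mem_span h hs hhs ha
    rw [Ideal.mem_comap, e]
    exact Ideal.mul_mem_mul (Ideal.mem_span_singleton_self _) hq'
  have h2 : algebraMap A B q ∈ (Ideal.span (Set.range h) ^ 2).map (algebraMap A B) :=
    Ideal.mem_map_of_mem _ hq
  rw [Ideal.map_pow] at h2
  have h3 := Ideal.pow_right_mono h1 2 h2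
  rw [mul_pow, Ideal.span_singleton_pow, Ideal.mem_span_singleton_mul] at h3
  obtain ⟨z, hz, e⟩ := h3
  exact ⟨z, hz, e.symm⟩

end basics

section family

variable {A B : Type*} [CommRing A] [IsLocalRing A] [IsNoetherianRing A]
  [CommRing B] [IsLocalRing B] [IsNoetherianRing B] [Algebra A B]

/-- an adapted family: `m_A = (t, h)` minimally, `hs = h / t ∈ m_B`, `m_B = (t, hs)` minimally. -/
structure Adapted {n : ℕ} (t : A) (h : Fin n → A) (hs : Fin n → B) : Prop where
  minA : MinGen (maximalIdeal A) (Fin.cons t h : Fin (n + 1) → A)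
  div : ∀ j, algebraMap A B t * hs j = algebraMap A B (h j)
  minB : MinGen (maximalIdeal B) (Fin.cons (algebraMap A B t) hs : Fin (n + 1) → B)

theorem sum_cons {R : Type*} [CommRing R] {n : ℕ} (t : R) (h : Fin n → R) (c : Fin (n + 1) → R) :
    ∑ i, c i * (Fin.cons t h : Fin (n + 1) → R) i = c 0 * t + ∑ j, c (Fin.succ j) * h j := by
  rw [Fin.sum_univ_succ]; simp

/-- with `hs = h/t ∈ m_B` and `m_A = (t,h)`, also `m_B = (t, hs)` -/
theorem span_cons_eq {n : ℕ} {t : A} (hQ : QT A B t) (h : Fin n → A) (hs : Fin n → B)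
    (hA : Ideal.span (Set.range (Fin.cons t h : Fin (n + 1) → A)) = maximalIdeal A)
    (hhs : ∀ j, algebraMap A B t * hs j = algebraMap A B (h j)) (hm : ∀ j, hs j ∈ maximalIdeal B) :
    Ideal.span (Set.range (Fin.cons (algebraMap A B t) hs : Fin (n + 1) → B)) = maximalIdeal B := by
  set J := Ideal.span (Set.range (Fin.cons (algebraMap A B t) hs : Fin (n + 1) → B)) with hJ
  have ht : algebraMap A B t ∈ J := Ideal.subset_span ⟨0, by simp⟩
  have hh : ∀ j, hs j ∈ J := fun j => Ideal.subset_span ⟨j.succ, by simp⟩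
  have hJm : J ≤ maximalIdeal B := by
    rw [hJ, Ideal.span_le]
    rintro _ ⟨i, rfl⟩
    refine Fin.cases ?_ (fun j => ?_) i
    · simpa using hQ.mem'
    · simpa using hm j
  apply le_antisymm hJm
  have key : ∀ u ∈ Algebra.adjoin A {y : B | ∃ a ∈ maximalIdeal A, algebraMap A B t * y = algebraMap A B a},
      ∃ a : A, u - algebraMap A B a ∈ J := by
    intro u hu
    induction hu using Algebra.adjoin_induction with
    | mem y hy =>
      obtain ⟨a, ha, hya⟩ := hy
      rw [← hA] at ha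
      obtain ⟨c, hc⟩ := (Ideal.mem_span_range_iff_exists_fun).1 ha
      rw [sum_cons] at hc
      refine ⟨c 0, ?_⟩
      have : y = algebraMap A B (c 0) + ∑ j, algebraMap A B (c (Fin.succ j)) * hs j := by
        apply hQ.cancel
        rw [hya, ← hc, map_add, map_mul, map_sum, mul_add, Finset.mul_sum]
        congr 1
        · ring
        · refine Finset.sum_congr rfl fun j _ => ?_
          rw [map_mul, ← hhs j]; ring
      rw [this, add_sub_cancel_left]
      exact Ideal.sum_mem _ fun j _ => Ideal.mul_mem_left _ _ (hh j)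
    | algebraMap a => exact ⟨a, by simp⟩
    | add x y _ _ hx hy =>
      obtain ⟨a, ha⟩ := hx
      obtain ⟨b, hb⟩ := hy
      refine ⟨a + b, ?_⟩
      rw [map_add]
      have : x + y - (algebraMap A B a + algebraMap A B b) = (x - algebraMap A B a) + (y - algebraMap A B b) := by
        ring
      rw [this]; exact Ideal.add_mem _ ha hb
    | mul x y _ _ hx hy =>
      obtain ⟨a, ha⟩ := hx
      obtain ⟨b, hb⟩ := hy
      refine ⟨a * b, ?_⟩
      rw [map_mul]
      have : x * y - (algebraMap A B a * algebraMap A B b) =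
          y * (x - algebraMap A B a) + algebraMap A B a * (y - algebraMap A B b) := by
        ring
      rw [this]; exact Ideal.add_mem _ (Ideal.mul_mem_left _ _ ha) (Ideal.mul_mem_left _ _ hb)
  intro b hb
  obtain ⟨u, hu, v, _, huv, e⟩ := hQ.frac b
  obtain ⟨a, ha⟩ := key u hu
  have hum : u ∈ maximalIdeal B := by rw [← e]; exact Ideal.mul_mem_right _ _ hb
  have ham : algebraMap A B a ∈ maximalIdeal B := by
    have := Ideal.sub_mem _ hum (hJm ha)
    simpa using this
  have haJ : algebraMap A B a ∈ J := by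
    obtain ⟨c, hc⟩ := hQ.dvd a (hQ.mem_iff.1 ham)
    rw [hc]; exact Ideal.mul_mem_right _ _ ht
  have huJ : u ∈ J := by
    have := Ideal.add_mem _ ha haJ
    simpa using this
  obtain ⟨w, hw⟩ := huv.exists_right_inv
  have : b = u * w := by rw [← e, mul_assoc, hw, mul_one]
  rw [this]; exact Ideal.mul_mem_right _ _ huJ

theorem Adapted.of_span {n : ℕ} {t : A} (hQ : QT A B t) (h : Fin n → A) (hs : Fin n → B)
    (hA : Ideal.span (Set.range (Fin.cons t h : Fin (n + 1) → A)) = maximalIdeal A)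
    (hμA : (maximalIdeal A).spanFinrank = n + 1) (hμB : (maximalIdeal B).spanFinrank = n + 1)
    (hhs : ∀ j, algebraMap A B t * hs j = algebraMap A B (h j)) (hm : ∀ j, hs j ∈ maximalIdeal B) :
    Adapted t h hs where
  minA := MinGen.of_span hA (by simp [hμA])
  div := hhs
  minB := MinGen.of_span (span_cons_eq hQ h hs hA hhs hm) (by simp [hμB])

/-- existence of adapted families in the rational case -/
theorem exists_adapted {n : ℕ} {t : A} (hQ : QT A B t) (hR : Rational A B)
    (hμA : (maximalIdeal A).spanFinrank = n + 1) (hμB : (maximalIdeal B).spanFinrank = n + 1) :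
    ∃ (h : Fin n → A) (hs : Fin n → B), Adapted t h hs := by
  classical
  have hi : ∀ c : Unit → A, ∑ i, c i * (fun _ : Unit => t) i ∈ maximalIdeal A * maximalIdeal A →
      ∀ i, c i ∈ maximalIdeal A := by
    intro c hc i
    simp only [Finset.univ_unique, Finset.sum_singleton] at hc
    by_contra hcu
    have hu : IsUnit (c i) := by simpa [IsLocalRing.mem_maximalIdeal] using hcu
    apply hQ.not_mem_sq
    obtain ⟨v, hv⟩ := hu.exists_left_inv
    have : t = v * (c i * t) := by rw [← mul_assoc, hv, one_mul]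
    rw [this, sq]; exact Ideal.mul_mem_left _ _ hc
  obtain ⟨β, _, s, hs, hmin⟩ := exists_extend (maximalIdeal A) (fun _ : Unit => t) (fun _ => hQ.mem) hi
    (maximalIdeal A : Set A) (by
      apply le_antisymm
      · rw [Ideal.span_le]
        rintro x (⟨_, rfl⟩ | hx)
        · exact hQ.mem
        · exact hx
      · intro x hx; exact Ideal.subset_span (Or.inr hx))
  have hcard : Fintype.card β = n := by
    have := hmin.card_eq
    simp only [Fintype.card_sum, Fintype.card_unit, hμA] at this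
    omega
  let σ : Fin n ≃ β := (finCongr hcard.symm).trans (Fintype.equivFin β).symm
  have hdv : ∀ j : Fin n, ∃ y : B, algebraMap A B (s (σ j)) = algebraMap A B t * y := fun j =>
    hQ.dvd _ (hs _)
  choose y hy using hdv
  choose a ha using fun j : Fin n => hR (y j)
  refine ⟨fun j => s (σ j) - a j * t, fun j => y j - algebraMap A B (a j),
    Adapted.of_span hQ _ _ ?_ hμA hμB ?_ ha⟩
  · apply le_antisymm
    · rw [Ideal.span_le]
      rintro _ ⟨i, rfl⟩
      refine Fin.cases ?_ (fun j => ?_) i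
      · simpa using hQ.mem
      · simp only [Fin.cons_succ, SetLike.mem_coe]
        exact Ideal.sub_mem _ (hs _) (Ideal.mul_mem_left _ _ hQ.mem)
    · rw [← hmin.span_eq, Ideal.span_le]
      rintro _ ⟨i | i, rfl⟩
      · exact Ideal.subset_span ⟨0, by simp⟩
      · simp only [Sum.elim_inr, SetLike.mem_coe]
        have h1 : s i = (s (σ (σ.symm i)) - a (σ.symm i) * t) + a (σ.symm i) * t := by simp
        rw [h1]
        refine Ideal.add_mem _ (Ideal.subset_span ⟨(σ.symm i).succ, by simp⟩)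
          (Ideal.mul_mem_left _ _ (Ideal.subset_span ⟨0, by simp⟩))
  · intro j
    rw [mul_sub, ← hy j, map_sub, map_mul]; ring

end family

section cone

variable {A B : Type*} [CommRing A] [IsLocalRing A] [IsNoetherianRing A]
  [CommRing B] [IsLocalRing B] [IsNoetherianRing B] [Algebra A B]

theorem mul_self_eq_sq {R : Type*} [CommRing R] [IsLocalRing R] :
    maximalIdeal R * maximalIdeal R = maximalIdeal R ^ 2 := (sq _).symm

theorem mul_sq_eq_cube {R : Type*} [CommRing R] [IsLocalRing R] :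
    maximalIdeal R * maximalIdeal R ^ 2 = maximalIdeal R ^ 3 := (pow_succ' _ 2).symm

theorem span_le_max {R : Type*} [CommRing R] [IsLocalRing R] {n : ℕ} {h : Fin n → R}
    (hm : ∀ j, h j ∈ maximalIdeal R) : Ideal.span (Set.range h) ≤ maximalIdeal R := by
  rw [Ideal.span_le]; rintro _ ⟨j, rfl⟩; exact hm j

theorem Adapted.hmem {n : ℕ} {t : A} {h : Fin n → A} {hs : Fin n → B} (H : Adapted t h hs) (j : Fin n) :
    h j ∈ maximalIdeal A := by
  simpa using H.minA.mem j.succ

theorem Adapted.hsmem {n : ℕ} {t : A} {h : Fin n → A} {hs : Fin n → B} (H : Adapted t h hs) (j : Fin n) :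
    hs j ∈ maximalIdeal B := by
  simpa using H.minB.mem j.succ

theorem Adapted.indepB {n : ℕ} {t : A} {h : Fin n → A} {hs : Fin n → B} (H : Adapted t h hs)
    (c₀ : B) (c : Fin n → B) (hc : c₀ * algebraMap A B t + ∑ j, c j * hs j ∈ maximalIdeal B ^ 2) :
    c₀ ∈ maximalIdeal B ∧ ∀ j, c j ∈ maximalIdeal B := by
  have := H.minB.indep (Fin.cons c₀ c) (by
    rw [sum_cons, mul_self_eq_sq]; simpa using hc)
  exact ⟨by simpa using this 0, fun j => by simpa using this j.succ⟩

theorem Adapted.indepA {n : ℕ} {t : A} {h : Fin n → A} {hs : Fin n → B} (H : Adapted t h hs)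
    (c₀ : A) (c : Fin n → A) (hc : c₀ * t + ∑ j, c j * h j ∈ maximalIdeal A ^ 2) :
    c₀ ∈ maximalIdeal A ∧ ∀ j, c j ∈ maximalIdeal A := by
  have := H.minA.indep (Fin.cons c₀ c) (by
    rw [sum_cons, mul_self_eq_sq]; simpa using hc)
  exact ⟨by simpa using this 0, fun j => by simpa using this j.succ⟩

theorem Adapted.exA {n : ℕ} {t : A} {h : Fin n → A} {hs : Fin n → B} (H : Adapted t h hs)
    {a : A} (ha : a ∈ maximalIdeal A) : ∃ (c₀ : A) (c : Fin n → A), a = c₀ * t + ∑ j, c j * h j := by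
  obtain ⟨c, hc⟩ := H.minA.exists_eq ha
  rw [sum_cons] at hc
  exact ⟨_, _, hc⟩

theorem Adapted.exB {n : ℕ} {t : A} {h : Fin n → A} {hs : Fin n → B} (H : Adapted t h hs)
    {b : B} (hb : b ∈ maximalIdeal B) :
    ∃ (c₀ : B) (c : Fin n → B), b = c₀ * algebraMap A B t + ∑ j, c j * hs j := by
  obtain ⟨c, hc⟩ := H.minB.exists_eq hb
  rw [sum_cons] at hc
  exact ⟨_, _, hc⟩

/-- C1 -/
theorem Adapted.cone {n : ℕ} {t : A} {h : Fin n → A} {hs : Fin n → B} (hQ : QT A B t)
    (H : Adapted t h hs) {a q : A} (ha : a ∈ maximalIdeal A) (hq : q ∈ Ideal.span (Set.range h) ^ 2)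
    (haq : t * a + q ∈ maximalIdeal A ^ 3) : a ∈ maximalIdeal A ^ 2 := by
  obtain ⟨c₀, c, rfl⟩ := H.exA ha
  obtain ⟨q', hq', eq'⟩ := exists_div_of_mem_span_sq h hs H.div hq
  obtain ⟨b, hb⟩ := hQ.exists_of_mem_pow 3 haq
  have hq'm : q' ∈ maximalIdeal B ^ 2 := Ideal.pow_right_mono (span_le_max H.hsmem) 2 hq'
  have e1 : algebraMap A B c₀ + ∑ j, algebraMap A B (c j) * hs j + q' = algebraMap A B t * b := by
    apply hQ.cancel_pow 2
    have : algebraMap A B (t * (c₀ * t + ∑ j, c j * h j) + q) =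
        algebraMap A B t ^ 2 * (algebraMap A B c₀ + ∑ j, algebraMap A B (c j) * hs j + q') := by
      rw [map_add, map_mul, map_add, map_mul, map_sum, eq']
      have : ∑ j, algebraMap A B (c j * h j) = algebraMap A B t * ∑ j, algebraMap A B (c j) * hs j := by
        rw [Finset.mul_sum]
        refine Finset.sum_congr rfl fun j _ => ?_
        rw [map_mul, ← H.div j]; ring
      rw [this]; ring
    rw [← this, hb]; ring
  have hc₀B : algebraMap A B c₀ ∈ maximalIdeal B := by
    have : algebraMap A B c₀ = algebraMap A B t * b - ∑ j, algebraMap A B (c j) * hs j - q' := by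
      rw [← e1]; ring
    rw [this]
    refine Ideal.sub_mem _ (Ideal.sub_mem _ (Ideal.mul_mem_right _ _ hQ.mem') ?_) (mem_of_mem_sq hq'm)
    exact Ideal.sum_mem _ fun j _ => Ideal.mul_mem_left _ _ (H.hsmem j)
  have hc₀ : c₀ ∈ maximalIdeal A := hQ.mem_iff.1 hc₀B
  obtain ⟨d, hd⟩ := hQ.dvd c₀ hc₀
  have hind := H.indepB (d - b) (fun j => algebraMap A B (c j)) (by
    have : (d - b) * algebraMap A B t + ∑ j, algebraMap A B (c j) * hs j = - q' := by
      rw [hd] at e1
      linear_combination e1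
    rw [this]; exact (Ideal.neg_mem_iff _).2 hq'm)
  have hcj : ∀ j, c j ∈ maximalIdeal A := fun j => hQ.mem_iff.1 (hind.2 j)
  rw [sq]
  refine Ideal.add_mem _ (Ideal.mul_mem_mul hc₀ hQ.mem) (Ideal.sum_mem _ fun j _ =>
    Ideal.mul_mem_mul (hcj j) (H.hmem j))

theorem mem_sq_of_sum {n : ℕ} {t : A} {h : Fin n → A} {hs : Fin n → B} (H : Adapted t h hs)
    {c₀ : A} {c : Fin n → A} (h0 : c₀ ∈ maximalIdeal A) (hc : ∀ j, c j ∈ maximalIdeal A) (ht : t ∈ maximalIdeal A) :
    c₀ * t + ∑ j, c j * h j ∈ maximalIdeal A ^ 2 := by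
  rw [sq]
  exact Ideal.add_mem _ (Ideal.mul_mem_mul h0 ht) (Ideal.sum_mem _ fun j _ =>
    Ideal.mul_mem_mul (hc j) (H.hmem j))

/-- the products `t * (t, h)` -/
def tfam {R : Type*} [CommRing R] {n : ℕ} (t : R) (h : Fin n → R) : Fin (n + 1) → R :=
  fun i => t * (Fin.cons t h : Fin (n + 1) → R) i

theorem sum_tfam {R : Type*} [CommRing R] {n : ℕ} (t : R) (h : Fin n → R) (c : Fin (n + 1) → R) :
    ∑ i, c i * tfam t h i = t * (c 0 * t + ∑ j, c (Fin.succ j) * h j) := by
  rw [← sum_cons, Finset.mul_sum]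
  refine Finset.sum_congr rfl fun j _ => ?_
  simp only [tfam]; ring

/-- C2: a minimal generating family of `m²` of the form `t (t, h)`, `q` with `q ∈ (h)²` -/
theorem Adapted.exists_min_sq {n : ℕ} {t : A} {h : Fin n → A} {hs : Fin n → B} (hQ : QT A B t)
    (H : Adapted t h hs) (hA2 : (maximalIdeal A ^ 2).spanFinrank = 2 * n + 1) :
    ∃ q : Fin n → A, (∀ k, q k ∈ Ideal.span (Set.range h) ^ 2) ∧
      MinGen (maximalIdeal A ^ 2) (Sum.elim (tfam t h) q) := by
  classical
  have he : ∀ i, tfam t h i ∈ maximalIdeal A ^ 2 := fun i => by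
    rw [sq]; exact Ideal.mul_mem_mul hQ.mem (H.minA.mem i)
  have hi : ∀ c : Fin (n + 1) → A, ∑ i, c i * tfam t h i ∈ maximalIdeal A * maximalIdeal A ^ 2 →
      ∀ i, c i ∈ maximalIdeal A := by
    intro c hc
    rw [sum_tfam, mul_sq_eq_cube] at hc
    have hm : c 0 * t + ∑ j, c (Fin.succ j) * h j ∈ maximalIdeal A :=
      Ideal.add_mem _ (Ideal.mul_mem_left _ _ hQ.mem) (Ideal.sum_mem _ fun j _ =>
        Ideal.mul_mem_left _ _ (H.hmem j))
    have := H.cone hQ hm (Ideal.zero_mem (Ideal.span (Set.range h) ^ 2)) (by simpa using hc)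
    obtain ⟨h0, h1⟩ := H.indepA _ _ this
    intro i
    exact Fin.cases h0 h1 i
  obtain ⟨β, _, s, hs', hmin⟩ := exists_extend (maximalIdeal A ^ 2) (tfam t h) he hi
    {x | ∃ i j, x = h i * h j} (by
      apply le_antisymm
      · rw [Ideal.span_le]
        rintro x (⟨i, rfl⟩ | ⟨i, j, rfl⟩)
        · exact he i
        · rw [sq]; exact Ideal.mul_mem_mul (H.hmem i) (H.hmem j)
      · rw [sq]
        conv_lhs => rw [← H.minA.span_eq, Ideal.span_mul_span']
        rw [Ideal.span_le]
        rintro x ⟨_, ⟨i, rfl⟩, _, ⟨j, rfl⟩, rfl⟩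
        simp only [SetLike.mem_coe]
        refine Fin.cases ?_ (fun i => ?_) i
        · exact Ideal.subset_span (Or.inl ⟨j, by simp [tfam]⟩)
        · refine Fin.cases ?_ (fun j => ?_) j
          · exact Ideal.subset_span (Or.inl ⟨i.succ, by simp [tfam, mul_comm]⟩)
          · exact Ideal.subset_span (Or.inr ⟨i, j, by simp⟩))
  have hcard : Fintype.card β = n := by
    have := hmin.card_eq
    simp only [Fintype.card_sum, Fintype.card_fin, hA2] at this
    omega
  let σ : Fin n ≃ β := (finCongr hcard.symm).trans (Fintype.equivFin β).symm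
  refine ⟨s ∘ σ, fun k => ?_, ?_⟩
  · obtain ⟨i, j, e⟩ := hs' (σ k)
    rw [Function.comp_apply, e, sq]
    exact Ideal.mul_mem_mul (Ideal.subset_span ⟨i, rfl⟩) (Ideal.subset_span ⟨j, rfl⟩)
  · have := hmin.reindex ((Equiv.refl (Fin (n + 1))).sumCongr σ)
    convert this using 1
    funext i
    rcases i with i | i <;> rfl

/-- C3 -/
theorem Adapted.div_mem {n : ℕ} {t : A} {h : Fin n → A} {hs : Fin n → B} (hQ : QT A B t)
    (H : Adapted t h hs) {u : A} (hu : u ∈ Ideal.span (Set.range h) ^ 2) (hu3 : u ∈ maximalIdeal A ^ 3)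
    {u' : B} (e : algebraMap A B u = algebraMap A B t ^ 2 * u') :
    ∃ b ∈ maximalIdeal B, u' = algebraMap A B t * b := by
  obtain ⟨b, hb⟩ := hQ.exists_of_mem_pow 3 hu3
  have e1 : u' = algebraMap A B t * b := by
    apply hQ.cancel_pow 2
    rw [← e, hb]; ring
  obtain ⟨q', hq', eq'⟩ := exists_div_of_mem_span_sq h hs H.div hu
  have e2 : u' = q' := hQ.cancel_pow 2 (by rw [← e, eq'])
  have hu'm : u' ∈ maximalIdeal B ^ 2 := by
    rw [e2]; exact Ideal.pow_right_mono (span_le_max H.hsmem) 2 hq'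
  refine ⟨b, ?_, e1⟩
  have := H.indepB b (fun _ => 0) (by
    have : b * algebraMap A B t + ∑ j : Fin n, (0 : B) * hs j = u' := by rw [e1]; simp [mul_comm]
    rw [this]; exact hu'm)
  exact this.1

/-- if `u ∈ (h)²` then `u = Σ d_k q_k` modulo `m³`; and after division by `t²` -/
theorem Adapted.expand {n : ℕ} {t : A} {h : Fin n → A} {hs : Fin n → B} (hQ : QT A B t)
    (H : Adapted t h hs) {q : Fin n → A} (hq : ∀ k, q k ∈ Ideal.span (Set.range h) ^ 2)
    (hmin : MinGen (maximalIdeal A ^ 2) (Sum.elim (tfam t h) q)) {q' : Fin n → B}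
    (hq' : ∀ k, algebraMap A B (q k) = algebraMap A B t ^ 2 * q' k)
    {u : A} (hu : u ∈ Ideal.span (Set.range h) ^ 2) {u' : B}
    (e : algebraMap A B u = algebraMap A B t ^ 2 * u') :
    ∃ d : Fin n → A, u - ∑ k, d k * q k ∈ maximalIdeal A ^ 3 ∧
      ∃ b ∈ maximalIdeal B, u' = ∑ k, algebraMap A B (d k) * q' k + algebraMap A B t * b := by
  have hu2 : u ∈ maximalIdeal A ^ 2 := Ideal.pow_right_mono (span_le_max H.hmem) 2 hu
  obtain ⟨c, hc⟩ := hmin.exists_eq hu2
  rw [Fintype.sum_sum_type] at hc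
  simp only [Sum.elim_inl, Sum.elim_inr] at hc
  rw [sum_tfam t h (fun i => c (Sum.inl i))] at hc
  set a := c (Sum.inl 0) * t + ∑ j, c (Sum.inl (Fin.succ j)) * h j with ha
  have ham : a ∈ maximalIdeal A :=
    Ideal.add_mem _ (Ideal.mul_mem_left _ _ hQ.mem) (Ideal.sum_mem _ fun j _ =>
      Ideal.mul_mem_left _ _ (H.hmem j))
  have hqs : ∑ k, c (Sum.inr k) * q k - u ∈ Ideal.span (Set.range h) ^ 2 :=
    Ideal.sub_mem _ (Ideal.sum_mem _ fun k _ => Ideal.mul_mem_left _ _ (hq k)) hu
  have ha2 : a ∈ maximalIdeal A ^ 2 := H.cone hQ ham hqs (by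
    have : t * a + (∑ k, c (Sum.inr k) * q k - u) = 0 := by rw [hc]; ring
    rw [this]; exact Ideal.zero_mem _)
  have hta : u - ∑ k, c (Sum.inr k) * q k = t * a := by rw [hc]; ring
  have hta3 : u - ∑ k, c (Sum.inr k) * q k ∈ maximalIdeal A ^ 3 := by
    rw [hta, ← mul_sq_eq_cube]; exact Ideal.mul_mem_mul hQ.mem ha2
  refine ⟨fun k => c (Sum.inr k), hta3, ?_⟩
  have hus : u - ∑ k, c (Sum.inr k) * q k ∈ Ideal.span (Set.range h) ^ 2 :=
    Ideal.sub_mem _ hu (Ideal.sum_mem _ fun k _ => Ideal.mul_mem_left _ _ (hq k))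
  obtain ⟨b, hb, e'⟩ := H.div_mem hQ hus hta3
    (u' := u' - ∑ k, algebraMap A B (c (Sum.inr k)) * q' k) (by
      rw [map_sub, map_sum, e, mul_sub, Finset.mul_sum]
      congr 1
      refine Finset.sum_congr rfl fun k _ => ?_
      rw [map_mul, hq' k]; ring)
  exact ⟨b, hb, by rw [← e']; ring⟩

/-- C2': the corresponding family of `m_B²` -/
theorem Adapted.exists_min_sq_B {n : ℕ} {t : A} {h : Fin n → A} {hs : Fin n → B} (hQ : QT A B t)
    (H : Adapted t h hs) (hB2 : (maximalIdeal B ^ 2).spanFinrank = 2 * n + 1)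
    {q : Fin n → A} (hq : ∀ k, q k ∈ Ideal.span (Set.range h) ^ 2)
    (hmin : MinGen (maximalIdeal A ^ 2) (Sum.elim (tfam t h) q)) {q' : Fin n → B}
    (hq'm : ∀ k, q' k ∈ Ideal.span (Set.range hs) ^ 2)
    (hq' : ∀ k, algebraMap A B (q k) = algebraMap A B t ^ 2 * q' k) :
    MinGen (maximalIdeal B ^ 2) (Sum.elim (tfam (algebraMap A B t) hs) q') := by
  set J := Ideal.span (Set.range (Sum.elim (tfam (algebraMap A B t) hs) q')) with hJ
  have htb : ∀ b ∈ maximalIdeal B, algebraMap A B t * b ∈ J := by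
    intro b hb
    obtain ⟨c, hc⟩ := H.minB.exists_eq hb
    rw [hc, sum_cons, ← sum_tfam]
    exact Ideal.sum_mem _ fun i _ => Ideal.mul_mem_left _ _ (Ideal.subset_span ⟨Sum.inl i, rfl⟩)
  refine MinGen.of_span ?_ (by simp only [Fintype.card_sum, Fintype.card_fin, hB2]; omega)
  apply le_antisymm
  · rw [Ideal.span_le]
    rintro _ ⟨i | i, rfl⟩
    · simp only [Sum.elim_inl, SetLike.mem_coe, sq, tfam]
      exact Ideal.mul_mem_mul hQ.mem' (H.minB.mem i)
    · exact Ideal.pow_right_mono (span_le_max H.hsmem) 2 (hq'm i)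
  · rw [sq]
    conv_lhs => rw [← H.minB.span_eq, Ideal.span_mul_span']
    rw [Ideal.span_le]
    rintro x ⟨_, ⟨i, rfl⟩, _, ⟨j, rfl⟩, rfl⟩
    simp only [SetLike.mem_coe]
    refine Fin.cases ?_ (fun i => ?_) i
    · exact htb _ (H.minB.mem j)
    · refine Fin.cases ?_ (fun j => ?_) j
      · simp only [Fin.cons_succ, Fin.cons_zero]
        rw [mul_comm]; exact htb _ (H.hsmem i)
      · simp only [Fin.cons_succ]
        have hu : h i * h j ∈ Ideal.span (Set.range h) ^ 2 := by
          rw [sq]; exact Ideal.mul_mem_mul (Ideal.subset_span ⟨i, rfl⟩) (Ideal.subset_span ⟨j, rfl⟩)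
        obtain ⟨d, -, b, hb, e⟩ := H.expand hQ hq hmin hq' hu (u' := hs i * hs j) (by
          rw [map_mul, ← H.div i, ← H.div j]; ring)
        rw [e]
        refine Ideal.add_mem _ (Ideal.sum_mem _ fun k _ => Ideal.mul_mem_left _ _
          (Ideal.subset_span ⟨Sum.inr k, rfl⟩)) (htb b hb)

/-- C4 and C5 together -/
theorem Adapted.main {n : ℕ} {t : A} {h : Fin n → A} {hs : Fin n → B} (hQ : QT A B t)
    (H : Adapted t h hs) (hA2 : (maximalIdeal A ^ 2).spanFinrank = 2 * n + 1)
    (hB2 : (maximalIdeal B ^ 2).spanFinrank = 2 * n + 1) :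
    (∀ b ∈ maximalIdeal B, algebraMap A B t * b ∈ maximalIdeal B ^ 3 → b ∈ maximalIdeal B ^ 2) ∧
    (∀ (u : A) (u' : B), u ∈ Ideal.span (Set.range h) ^ 2 → algebraMap A B u = algebraMap A B t ^ 2 * u' →
      (∃ b ∈ maximalIdeal B, u' - algebraMap A B t * b ∈ maximalIdeal B ^ 3) → u ∈ maximalIdeal A ^ 3) := by
  obtain ⟨q, hq, hmin⟩ := H.exists_min_sq hQ hA2
  choose q' hq'm hq' using fun k => exists_div_of_mem_span_sq h hs H.div (hq k)
  have hminB := H.exists_min_sq_B hQ hB2 hq hmin hq'm hq'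
  constructor
  · intro b hb htb
    obtain ⟨c, hc⟩ := H.minB.exists_eq hb
    have h1 := hminB.indep (Sum.elim c 0) (by
      rw [Fintype.sum_sum_type]
      simp only [Sum.elim_inl, Sum.elim_inr, Pi.zero_apply, zero_mul, Finset.sum_const_zero, add_zero]
      rw [sum_tfam, ← sum_cons, ← hc, mul_sq_eq_cube]
      exact htb)
    rw [hc, sq]
    exact Ideal.sum_mem _ fun i _ => Ideal.mul_mem_mul (by simpa using h1 (Sum.inl i)) (H.minB.mem i)
  · rintro u u' hu e ⟨b', hb', hu'⟩
    obtain ⟨d, hd, b, hb, e'⟩ := H.expand hQ hq hmin hq' hu e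
    obtain ⟨c, hc⟩ := H.minB.exists_eq (Ideal.sub_mem _ hb hb')
    have h1 := hminB.indep (Sum.elim c (fun k => algebraMap A B (d k))) (by
      rw [Fintype.sum_sum_type]
      simp only [Sum.elim_inl, Sum.elim_inr]
      rw [sum_tfam, ← sum_cons, ← hc, mul_sq_eq_cube]
      have : algebraMap A B t * (b - b') + ∑ k, algebraMap A B (d k) * q' k =
          u' - algebraMap A B t * b' := by rw [e']; ring
      rw [this]; exact hu')
    have hdk : ∀ k, d k ∈ maximalIdeal A := fun k => hQ.mem_iff.1 (by simpa using h1 (Sum.inr k))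
    have : u = (u - ∑ k, d k * q k) + ∑ k, d k * q k := by ring
    rw [this]
    refine Ideal.add_mem _ hd (Ideal.sum_mem _ fun k _ => ?_)
    rw [← mul_sq_eq_cube]
    exact Ideal.mul_mem_mul (hdk k) (Ideal.pow_right_mono (span_le_max H.hmem) 2 (hq k))

end cone

section step

variable {A B C : Type*} [CommRing A] [IsLocalRing A] [IsNoetherianRing A]
  [CommRing B] [IsLocalRing B] [IsNoetherianRing B] [Algebra A B]
  [CommRing C] [IsLocalRing C] [IsNoetherianRing C] [Algebra B C]

theorem isUnit_of_not_mem {R : Type*} [CommRing R] [IsLocalRing R] {a : R} (ha : a ∉ maximalIdeal R) :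
    IsUnit a := by
  simpa [IsLocalRing.mem_maximalIdeal] using ha

/-- new generating family after replacing one generator by a combination -/
theorem span_change {r : ℕ} {R : Type*} [CommRing R] [IsLocalRing R] (t : R) (h : Fin (r + 1) → R)
    (hm : Ideal.span (Set.range (Fin.cons t h : Fin (r + 2) → R)) = maximalIdeal R)
    (γ lam : Fin (r + 1) → R) (j₀ : Fin (r + 1)) (hγ : IsUnit (γ j₀)) (v : R) (hv : v = ∑ j, γ j * h j) :
    Ideal.span (Set.range (Fin.cons t (Fin.cons v (fun i => h (j₀.succAbove i) -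
      lam (j₀.succAbove i) * v) : Fin (r + 1) → R) : Fin (r + 2) → R)) = maximalIdeal R := by
  have ht : t ∈ maximalIdeal R := by rw [← hm]; exact Ideal.subset_span ⟨0, by simp⟩
  have hh : ∀ j, h j ∈ maximalIdeal R := fun j => by
    rw [← hm]; exact Ideal.subset_span ⟨j.succ, by simp⟩
  have hvm : v ∈ maximalIdeal R := by
    rw [hv]; exact Ideal.sum_mem _ fun j _ => Ideal.mul_mem_left _ _ (hh j)
  apply le_antisymm
  · rw [Ideal.span_le]
    rintro _ ⟨i, rfl⟩
    refine Fin.cases ?_ (fun i => ?_) i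
    · simpa using ht
    · refine Fin.cases ?_ (fun i => ?_) i
      · simpa using hvm
      · simp only [Fin.cons_succ, SetLike.mem_coe]
        exact Ideal.sub_mem _ (hh _) (Ideal.mul_mem_left _ _ hvm)
  · set J := Ideal.span (Set.range (Fin.cons t (Fin.cons v (fun i => h (j₀.succAbove i) -
      lam (j₀.succAbove i) * v) : Fin (r + 1) → R) : Fin (r + 2) → R)) with hJ
    have htJ : t ∈ J := Ideal.subset_span ⟨0, by simp⟩
    have hvJ : v ∈ J := Ideal.subset_span ⟨1, by
      rw [show (1 : Fin (r + 2)) = Fin.succ 0 from rfl]; simp⟩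
    have hwJ : ∀ i, h (j₀.succAbove i) ∈ J := fun i => by
      have h1 : h (j₀.succAbove i) - lam (j₀.succAbove i) * v ∈ J :=
        Ideal.subset_span ⟨(Fin.succ i).succ, by simp⟩
      have := Ideal.add_mem _ h1 (Ideal.mul_mem_left _ (lam (j₀.succAbove i)) hvJ)
      simpa using this
    have hj₀ : h j₀ ∈ J := by
      obtain ⟨x, hx⟩ := hγ.exists_left_inv
      have : h j₀ = x * (v - ∑ i, γ (j₀.succAbove i) * h (j₀.succAbove i)) := by
        rw [hv, Fin.sum_univ_succAbove _ j₀, add_sub_cancel_right, ← mul_assoc, hx, one_mul]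
      rw [this]
      exact Ideal.mul_mem_left _ _ (Ideal.sub_mem _ hvJ (Ideal.sum_mem _ fun i _ =>
        Ideal.mul_mem_left _ _ (hwJ i)))
    rw [← hm, Ideal.span_le]
    rintro _ ⟨i, rfl⟩
    refine Fin.cases ?_ (fun i => ?_) i
    · simpa using htJ
    · simp only [Fin.cons_succ, SetLike.mem_coe]
      rcases Fin.eq_self_or_eq_succAbove j₀ i with e | ⟨k, e⟩
      · rw [e]; exact hj₀
      · rw [e]; exact hwJ k

theorem fat_of_span {r : ℕ} {R : Type*} [CommRing R] [IsLocalRing R] (x y : R) (w : Fin r → R)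
    (h : Ideal.span (Set.range (Fin.cons x (Fin.cons y w : Fin (r + 1) → R) : Fin (r + 2) → R)) =
      maximalIdeal R) (hw : ∀ i j, w i * w j ∈ maximalIdeal R ^ 3) : Fat R r := by
  refine ⟨x, y, w, ?_, hw⟩
  rw [← h]
  congr 1
  ext a
  constructor
  · rintro ⟨i | i, rfl⟩
    · fin_cases i
      · exact ⟨0, by simp⟩
      · exact ⟨1, by rw [show (1 : Fin (r + 2)) = Fin.succ 0 from rfl]; simp⟩
    · exact ⟨i.succ.succ, by simp⟩
  · rintro ⟨i, rfl⟩
    refine Fin.cases ?_ (fun i => ?_) i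
    · exact ⟨Sum.inl 0, by simp⟩
    · refine Fin.cases ?_ (fun i => ?_) i
      · exact ⟨Sum.inl 1, by simp⟩
      · exact ⟨Sum.inr i, by simp⟩

/-- C6: if the exceptional parameter changes, then `A` is of type `Fat`. -/
theorem fat_of_satellite {r : ℕ} {t : A} {s : B} (hQ : QT A B t) (hQ' : QT B C s)
    (hR : Rational A B) (hR' : Rational B C)
    (hA1 : (maximalIdeal A).spanFinrank = r + 2) (hB1 : (maximalIdeal B).spanFinrank = r + 2)
    (hC1 : (maximalIdeal C).spanFinrank = r + 2)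
    (hA2 : (maximalIdeal A ^ 2).spanFinrank = 2 * (r + 1) + 1)
    (hB2 : (maximalIdeal B ^ 2).spanFinrank = 2 * (r + 1) + 1)
    {c : C} (hc : c ∈ maximalIdeal C)
    (hts : algebraMap B C (algebraMap A B t) = algebraMap B C s * c) : Fat A r := by
  classical
  obtain ⟨h, hs, H⟩ := exists_adapted (n := r + 1) hQ hR hA1 hB1
  obtain ⟨c₀, cj, hsexp⟩ := H.exB hQ'.mem
  obtain ⟨γ₀, hγ₀⟩ := hR c₀
  choose γ hγ using fun j => hR (cj j)
  set τ := algebraMap A B t with hτ
  set σ := algebraMap B C s with hσ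
  set v : A := ∑ j, γ j * h j with hv
  set v' : B := ∑ j, algebraMap A B (γ j) * hs j with hv'
  have hv'm : v' ∈ maximalIdeal B := Ideal.sum_mem _ fun j _ => Ideal.mul_mem_left _ _ (H.hsmem j)
  have hvdiv : τ * v' = algebraMap A B v := by
    rw [hv, hv', Finset.mul_sum, map_sum]
    refine Finset.sum_congr rfl fun j _ => ?_
    rw [map_mul, ← H.div j]; ring
  have hμ : s - (algebraMap A B γ₀ * τ + v') ∈ maximalIdeal B ^ 2 := by
    have : s - (algebraMap A B γ₀ * τ + v') = (c₀ - algebraMap A B γ₀) * τ +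
        ∑ j, (cj j - algebraMap A B (γ j)) * hs j := by
      rw [hsexp, hv']
      simp only [sub_mul, Finset.sum_sub_distrib]; ring
    rw [this, sq]
    exact Ideal.add_mem _ (Ideal.mul_mem_mul hγ₀ hQ.mem') (Ideal.sum_mem _ fun j _ =>
      Ideal.mul_mem_mul (hγ j) (H.hsmem j))
  obtain ⟨x, hx⟩ := hQ'.exists_of_mem_pow 2 hμ
  have hσm : σ ∈ maximalIdeal C := hQ'.mem'
  -- `v' / s ≡ 1`
  have hyv : ∃ yv : C, algebraMap B C v' = σ * yv ∧ 1 - yv ∈ maximalIdeal C := by
    refine ⟨1 - algebraMap B C (algebraMap A B γ₀) * c - σ * x, ?_, ?_⟩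
    · have : algebraMap B C v' = σ - algebraMap B C (algebraMap A B γ₀) * (σ * c) - σ ^ 2 * x := by
        rw [← hts, ← hx, map_sub, map_add, map_mul]; ring
      rw [this]; ring
    · have : 1 - (1 - algebraMap B C (algebraMap A B γ₀) * c - σ * x) =
          algebraMap B C (algebraMap A B γ₀) * c + σ * x := by ring
      rw [this]
      exact Ideal.add_mem _ (Ideal.mul_mem_left _ _ hc) (Ideal.mul_mem_right _ _ hσm)
  obtain ⟨yv, hyv1, hyv2⟩ := hyv
  have hex : ∃ j₀, γ j₀ ∉ maximalIdeal A := by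
    by_contra hcon
    push Not at hcon
    have hv'2 : v' ∈ maximalIdeal B ^ 2 := by
      rw [hv', sq]
      exact Ideal.sum_mem _ fun j _ => Ideal.mul_mem_mul (hQ.loc _ (hcon j)) (H.hsmem j)
    obtain ⟨y, hy⟩ := hQ'.exists_of_mem_pow 2 hv'2
    have : yv = σ * y := by
      apply hQ'.cancel
      rw [← hyv1, hy]; ring
    have h1 : (1 : C) ∈ maximalIdeal C := by
      have h2 : yv ∈ maximalIdeal C := by rw [this]; exact Ideal.mul_mem_right _ _ hσm
      have := Ideal.add_mem _ hyv2 h2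
      simpa using this
    exact (Ideal.ne_top_iff_one _).1 (IsLocalRing.maximalIdeal.isMaximal C).ne_top h1
  obtain ⟨j₀, hj₀⟩ := hex
  have hdv : ∀ j, ∃ y : C, algebraMap B C (hs j) = σ * y := fun j => hQ'.dvd _ (H.hsmem j)
  choose y hy using hdv
  have hlam : ∀ j, ∃ a : A, y j - algebraMap B C (algebraMap A B a) ∈ maximalIdeal C := by
    intro j
    obtain ⟨b, hb⟩ := hR' (y j)
    obtain ⟨a, ha⟩ := hR b
    refine ⟨a, ?_⟩
    have := Ideal.add_mem _ hb (hQ'.loc _ ha)
    simpa using this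
  choose lam hlam using hlam
  -- the new families
  set w : Fin r → A := fun i => h (j₀.succAbove i) - lam (j₀.succAbove i) * v with hw
  set w' : Fin r → B := fun i => hs (j₀.succAbove i) - algebraMap A B (lam (j₀.succAbove i)) * v' with hw'
  have hwdiv : ∀ i, τ * w' i = algebraMap A B (w i) := by
    intro i
    rw [hw, hw', mul_sub, H.div, map_sub, map_mul, ← hvdiv]; ring
  have hw'm : ∀ i, w' i ∈ maximalIdeal B := fun i =>
    Ideal.sub_mem _ (H.hsmem _) (Ideal.mul_mem_left _ _ hv'm)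
  have hw's : ∀ i, ∃ z ∈ maximalIdeal C, algebraMap B C (w' i) = σ * z := by
    intro i
    refine ⟨y (j₀.succAbove i) - algebraMap B C (algebraMap A B (lam (j₀.succAbove i))) * yv, ?_, ?_⟩
    · have : y (j₀.succAbove i) - algebraMap B C (algebraMap A B (lam (j₀.succAbove i))) * yv =
          (y (j₀.succAbove i) - algebraMap B C (algebraMap A B (lam (j₀.succAbove i)))) +
          algebraMap B C (algebraMap A B (lam (j₀.succAbove i))) * (1 - yv) := by ring
      rw [this]
      exact Ideal.add_mem _ (hlam _) (Ideal.mul_mem_left _ _ hyv2)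
    · rw [hw', map_sub, map_mul, hy, hyv1]; ring
  choose z hzm hz using hw's
  have spanA := span_change t h H.minA.span_eq γ lam j₀ (isUnit_of_not_mem hj₀) v hv
  have Ht : Adapted t (Fin.cons v w : Fin (r + 1) → A) (Fin.cons v' w' : Fin (r + 1) → B) := by
    refine Adapted.of_span hQ _ _ spanA hA1 hB1 ?_ ?_
    · intro j
      refine Fin.cases ?_ (fun i => ?_) j
      · simpa using hvdiv
      · simpa using hwdiv i
    · intro j
      refine Fin.cases ?_ (fun i => ?_) j
      · simpa using hv'm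
      · simpa using hw'm i
  have spanB : Ideal.span (Set.range (Fin.cons s (Fin.cons τ w' : Fin (r + 1) → B) : Fin (r + 2) → B)) =
      maximalIdeal B := by
    apply span_eq_of_le_sup
    · intro i
      refine Fin.cases ?_ (fun i => ?_) i
      · simpa using hQ'.mem
      · refine Fin.cases ?_ (fun i => ?_) i
        · simpa using hQ.mem'
        · simpa using hw'm i
    · conv_lhs => rw [← Ht.minB.span_eq]
      rw [Ideal.span_le]
      have hsJ : s ∈ Ideal.span (Set.range (Fin.cons s (Fin.cons τ w' : Fin (r + 1) → B) :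
          Fin (r + 2) → B)) := Ideal.subset_span ⟨0, by simp⟩
      have hτJ : τ ∈ Ideal.span (Set.range (Fin.cons s (Fin.cons τ w' : Fin (r + 1) → B) :
          Fin (r + 2) → B)) := Ideal.subset_span ⟨1, by
            rw [show (1 : Fin (r + 2)) = Fin.succ 0 from rfl]; simp⟩
      rintro _ ⟨i, rfl⟩
      refine Fin.cases ?_ (fun i => ?_) i
      · exact Ideal.mem_sup_left hτJ
      · refine Fin.cases ?_ (fun i => ?_) i
        · simp only [Fin.cons_succ, Fin.cons_zero, SetLike.mem_coe]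
          have : v' = (s - algebraMap A B γ₀ * τ) - (s - (algebraMap A B γ₀ * τ + v')) := by ring
          rw [this]
          refine Ideal.sub_mem _ (Ideal.mem_sup_left (Ideal.sub_mem _ hsJ (Ideal.mul_mem_left _ _ hτJ)))
            (Ideal.mem_sup_right ?_)
          rw [mul_self_eq_sq]; exact hμ
        · exact Ideal.mem_sup_left (Ideal.subset_span ⟨i.succ.succ, by simp⟩)
  have K : Adapted s (Fin.cons τ w' : Fin (r + 1) → B) (Fin.cons c z : Fin (r + 1) → C) := by
    refine Adapted.of_span hQ' _ _ spanB hB1 hC1 ?_ ?_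
    · intro j
      refine Fin.cases ?_ (fun i => ?_) j
      · simpa using hts.symm
      · simpa using (hz i).symm
    · intro j
      refine Fin.cases ?_ (fun i => ?_) j
      · simpa using hc
      · simpa using hzm i
  set k : Fin (r + 1) → B := Fin.cons τ w' with hk
  have hτk : τ ∈ Ideal.span (Set.range k) := Ideal.subset_span ⟨0, by simp [hk]⟩
  obtain ⟨hC4, hC5⟩ := Ht.main hQ hA2 hB2
  have hmem2 : ∀ i, (Sum.elim (tfam s k) (fun l => τ * k l) : Fin (r + 2) ⊕ Fin (r + 1) → B) i ∈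
      maximalIdeal B ^ 2 := by
    rintro (i | i)
    · simp only [Sum.elim_inl, tfam, sq]; exact Ideal.mul_mem_mul hQ'.mem (K.minA.mem i)
    · simp only [Sum.elim_inr, sq]; exact Ideal.mul_mem_mul hQ.mem' (K.hmem i)
  have hE : MinGen (maximalIdeal B ^ 2) (Sum.elim (tfam s k) (fun l => τ * k l)) := by
    refine MinGen.of_indep hmem2 ?_ (by
      simp only [Fintype.card_sum, Fintype.card_fin, hB2]; omega)
    intro e he
    rw [Fintype.sum_sum_type] at he
    simp only [Sum.elim_inl, Sum.elim_inr] at he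
    rw [sum_tfam s k (fun i => e (Sum.inl i)), mul_sq_eq_cube] at he
    set a := e (Sum.inl 0) * s + ∑ j, e (Sum.inl (Fin.succ j)) * k j with ha
    have ham : a ∈ maximalIdeal B :=
      Ideal.add_mem _ (Ideal.mul_mem_left _ _ hQ'.mem) (Ideal.sum_mem _ fun j _ =>
        Ideal.mul_mem_left _ _ (K.hmem j))
    have hqe : ∑ l, e (Sum.inr l) * (τ * k l) = τ * ∑ l, e (Sum.inr l) * k l := by
      rw [Finset.mul_sum]; exact Finset.sum_congr rfl fun l _ => by ring
    have hqmem : ∑ l, e (Sum.inr l) * (τ * k l) ∈ Ideal.span (Set.range k) ^ 2 := by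
      rw [sq]
      refine Ideal.sum_mem _ fun l _ => Ideal.mul_mem_left _ _ (Ideal.mul_mem_mul hτk
        (Ideal.subset_span ⟨l, rfl⟩))
    have ha2 := K.cone hQ' ham hqmem he
    obtain ⟨e0, e1⟩ := K.indepA _ _ ha2
    have hsa : s * a ∈ maximalIdeal B ^ 3 := by
      rw [← mul_sq_eq_cube]; exact Ideal.mul_mem_mul hQ'.mem ha2
    have hτ3 : τ * ∑ l, e (Sum.inr l) * k l ∈ maximalIdeal B ^ 3 := by
      rw [← hqe]
      have h4 := Ideal.sub_mem _ he hsa
      rwa [add_sub_cancel_left] at h4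
    have h2 := hC4 _ (Ideal.sum_mem _ fun l _ => Ideal.mul_mem_left _ _ (K.hmem l)) hτ3
    have h3 := K.indepA 0 (fun l => e (Sum.inr l)) (by simpa using h2)
    rintro (i | i)
    · exact Fin.cases e0 e1 i
    · exact h3.2 i
  refine fat_of_span t v w spanA fun i j => ?_
  have hww : w' i * w' j ∈ maximalIdeal B ^ 2 := by
    rw [sq]; exact Ideal.mul_mem_mul (hw'm i) (hw'm j)
  obtain ⟨e, he⟩ := hE.exists_eq hww
  rw [Fintype.sum_sum_type] at he
  simp only [Sum.elim_inl, Sum.elim_inr] at he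
  rw [sum_tfam s k (fun i => e (Sum.inl i))] at he
  set a := e (Sum.inl 0) * s + ∑ j, e (Sum.inl (Fin.succ j)) * k j with ha
  have ham : a ∈ maximalIdeal B :=
    Ideal.add_mem _ (Ideal.mul_mem_left _ _ hQ'.mem) (Ideal.sum_mem _ fun j _ =>
      Ideal.mul_mem_left _ _ (K.hmem j))
  have hqe : ∑ l, e (Sum.inr l) * (τ * k l) = τ * ∑ l, e (Sum.inr l) * k l := by
    rw [Finset.mul_sum]; exact Finset.sum_congr rfl fun l _ => by ring
  have hwk : ∀ i, w' i ∈ Ideal.span (Set.range k) := fun i =>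
    Ideal.subset_span ⟨i.succ, by simp [hk]⟩
  have hqmem : ∑ l, e (Sum.inr l) * (τ * k l) - w' i * w' j ∈ Ideal.span (Set.range k) ^ 2 := by
    rw [sq]
    refine Ideal.sub_mem _ (Ideal.sum_mem _ fun l _ => Ideal.mul_mem_left _ _ (Ideal.mul_mem_mul hτk
      (Ideal.subset_span ⟨l, rfl⟩))) (Ideal.mul_mem_mul (hwk i) (hwk j))
  have ha2 := K.cone hQ' ham hqmem (by
    have : s * a + (∑ l, e (Sum.inr l) * (τ * k l) - w' i * w' j) = 0 := by rw [he]; ring
    rw [this]; exact Ideal.zero_mem _)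
  have hsa : s * a ∈ maximalIdeal B ^ 3 := by
    rw [← mul_sq_eq_cube]; exact Ideal.mul_mem_mul hQ'.mem ha2
  refine hC5 (w i * w j) (w' i * w' j) ?_ ?_ ⟨∑ l, e (Sum.inr l) * k l, ?_, ?_⟩
  · rw [sq]
    exact Ideal.mul_mem_mul (Ideal.subset_span ⟨i.succ, by simp⟩) (Ideal.subset_span ⟨j.succ, by simp⟩)
  · rw [map_mul, ← hwdiv, ← hwdiv]; ring
  · exact Ideal.sum_mem _ fun l _ => Ideal.mul_mem_left _ _ (K.hmem l)
  · have : w' i * w' j - algebraMap A B t * ∑ l, e (Sum.inr l) * k l = s * a := by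
      rw [he, hqe]; ring
    rw [this]; exact hsa

/-- the cone step: if `A` is not of type `Fat`, the exceptional parameter is kept. -/
theorem exists_unit_of_not_fat {r : ℕ} {t : A} {s : B} (hQ : QT A B t) (hQ' : QT B C s)
    (hR : Rational A B) (hR' : Rational B C) (hA : RatLike A (r + 1)) (hB : RatLike B (r + 1))
    (hC : RatLike C (r + 1)) (hf : ¬ Fat A r) :
    ∃ c : C, IsUnit c ∧ algebraMap B C (algebraMap A B t) = algebraMap B C s * c := by
  obtain ⟨c, hc⟩ := hQ'.dvd _ hQ.mem'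
  refine ⟨c, ?_, hc⟩
  by_contra hcu
  refine hf (fat_of_satellite hQ hQ' hR hR' ?_ ?_ ?_ ?_ ?_ ((IsLocalRing.mem_maximalIdeal _).2 hcu) hc)
  · have := hA.hilb 1; rw [pow_one] at this; rw [this]; ring
  · have := hB.hilb 1; rw [pow_one] at this; rw [this]; ring
  · have := hC.hilb 1; rw [pow_one] at this; rw [this]; ring
  · rw [hA.hilb 2]; ring
  · rw [hB.hilb 2]; ring

/-- C7: for double points, "not `Fat`" persists. -/
theorem not_fat_of_not_fat {t : A} (hQ : QT A B t) (hR : Rational A B) (hA : RatLike A 2)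
    (hB : RatLike B 2) (hf : ¬ Fat A 1) : ¬ Fat B 1 := by
  classical
  rintro ⟨x', y', w, hspan, hw⟩
  have hA1 : (maximalIdeal A).spanFinrank = 2 + 1 := by
    have := hA.hilb 1; rw [pow_one] at this; rw [this]
  have hB1 : (maximalIdeal B).spanFinrank = 2 + 1 := by
    have := hB.hilb 1; rw [pow_one] at this; rw [this]
  obtain ⟨h, hs, H⟩ := exists_adapted (n := 2) hQ hR hA1 hB1
  obtain ⟨hC4, hC5⟩ := H.main hQ (by rw [hA.hilb 2]) (by rw [hB.hilb 2])
  have hmin : MinGen (maximalIdeal B) (Sum.elim ![x', y'] w) := MinGen.of_span hspan (by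
    simp [hB1])
  set ω := w 0 with hω
  have hωm : ω ∈ maximalIdeal B := hmin.mem (Sum.inr 0)
  have hωsq : ω ∉ maximalIdeal B ^ 2 := by
    intro hcon
    have := hmin.indep (Sum.elim 0 (fun _ => 1)) (by
      rw [mul_self_eq_sq]; simpa using hcon) (Sum.inr 0)
    simp at this
  obtain ⟨c₀, cj, hexp⟩ := H.exB hωm
  obtain ⟨γ₀, hγ₀⟩ := hR c₀
  choose γ hγ using fun j => hR (cj j)
  set τ := algebraMap A B t with hτ
  set v : A := ∑ j, γ j * h j with hv
  set v' : B := ∑ j, algebraMap A B (γ j) * hs j with hv'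
  have hv'm : v' ∈ maximalIdeal B := Ideal.sum_mem _ fun j _ => Ideal.mul_mem_left _ _ (H.hsmem j)
  have hvdiv : algebraMap A B v = τ * v' := by
    rw [hv, hv', Finset.mul_sum, map_sum]
    refine Finset.sum_congr rfl fun j _ => ?_
    rw [map_mul, ← H.div j]; ring
  obtain ⟨μ, hμ, hωe⟩ : ∃ μ ∈ maximalIdeal B ^ 2, ω = algebraMap A B γ₀ * τ + v' + μ := by
    refine ⟨ω - (algebraMap A B γ₀ * τ + v'), ?_, by ring⟩
    have : ω - (algebraMap A B γ₀ * τ + v') = (c₀ - algebraMap A B γ₀) * τ +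
        ∑ j, (cj j - algebraMap A B (γ j)) * hs j := by
      rw [hexp, hv']
      simp only [sub_mul, Finset.sum_sub_distrib]; ring
    rw [this, sq]
    exact Ideal.add_mem _ (Ideal.mul_mem_mul hγ₀ hQ.mem') (Ideal.sum_mem _ fun j _ =>
      Ideal.mul_mem_mul (hγ j) (H.hsmem j))
  have hμm : μ ∈ maximalIdeal B := mem_of_mem_sq hμ
  have hsq3 : (algebraMap A B γ₀ * τ + v') ^ 2 ∈ maximalIdeal B ^ 3 := by
    have : (algebraMap A B γ₀ * τ + v') ^ 2 = ω * ω - (ω + (algebraMap A B γ₀ * τ + v')) * μ := by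
      rw [hωe]; ring
    rw [this]
    refine Ideal.sub_mem _ (hw 0 0) ?_
    rw [← mul_sq_eq_cube]
    exact Ideal.mul_mem_mul (Ideal.add_mem _ hωm (Ideal.add_mem _ (Ideal.mul_mem_left _ _ hQ.mem') hv'm)) hμ
  have hvsq : v * v ∈ maximalIdeal A ^ 3 := by
    refine hC5 (v * v) (v' * v') ?_ ?_ ⟨-(algebraMap A B γ₀ ^ 2 * τ + 2 * algebraMap A B γ₀ * v'), ?_, ?_⟩
    · rw [sq]
      have : v ∈ Ideal.span (Set.range h) :=
        Ideal.sum_mem _ fun j _ => Ideal.mul_mem_left _ _ (Ideal.subset_span ⟨j, rfl⟩)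
      exact Ideal.mul_mem_mul this this
    · rw [map_mul, hvdiv]; ring
    · exact (Ideal.neg_mem_iff _).2 (Ideal.add_mem _ (Ideal.mul_mem_left _ _ hQ.mem')
        (Ideal.mul_mem_left _ _ hv'm))
    · have : v' * v' - algebraMap A B t * -(algebraMap A B γ₀ ^ 2 * τ + 2 * algebraMap A B γ₀ * v') =
          (algebraMap A B γ₀ * τ + v') ^ 2 := by rw [← hτ]; ring
      rw [this]; exact hsq3
  by_cases hall : ∀ j, γ j ∈ maximalIdeal A
  · have hv'2 : v' ∈ maximalIdeal B ^ 2 := by
      rw [hv', sq]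
      exact Ideal.sum_mem _ fun j _ => Ideal.mul_mem_mul (hQ.loc _ (hall j)) (H.hsmem j)
    have hγ₀u : IsUnit (algebraMap A B γ₀) := by
      apply isUnit_of_not_mem
      intro hcon
      apply hωsq
      rw [hωe]
      refine Ideal.add_mem _ (Ideal.add_mem _ ?_ hv'2) hμ
      rw [sq]; exact Ideal.mul_mem_mul hcon hQ.mem'
    obtain ⟨u, hu⟩ := hγ₀u.exists_left_inv
    have h3 : τ * τ ∈ maximalIdeal B ^ 3 := by
      have : τ * τ = u ^ 2 * ((algebraMap A B γ₀ * τ + v') ^ 2 -
          v' * (2 * algebraMap A B γ₀ * τ + v')) := by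
        have h5 : u ^ 2 * ((algebraMap A B γ₀ * τ + v') ^ 2 -
          v' * (2 * algebraMap A B γ₀ * τ + v')) = (u * algebraMap A B γ₀) ^ 2 * (τ * τ) := by ring
        rw [h5, hu]; ring
      rw [this]
      refine Ideal.mul_mem_left _ _ (Ideal.sub_mem _ hsq3 ?_)
      rw [pow_succ]
      exact Ideal.mul_mem_mul hv'2 (Ideal.add_mem _ (Ideal.mul_mem_left _ _ hQ.mem') hv'm)
    have h4 := hC4 τ hQ.mem' h3
    have := (H.indepB 1 (fun _ => 0) (by simpa using h4)).1
    simp at this
  · push Not at hall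
    obtain ⟨j₀, hj₀⟩ := hall
    have spanA := span_change t h H.minA.span_eq γ 0 j₀ (isUnit_of_not_mem hj₀) v hv
    apply hf
    refine fat_of_span t (h (j₀.succAbove 0)) (fun _ => v) ?_ (fun _ _ => hvsq)
    rw [← spanA]
    congr 1
    ext a
    constructor
    · rintro ⟨i, rfl⟩
      fin_cases i
      · exact ⟨0, by simp⟩
      · refine ⟨2, ?_⟩
        change h (j₀.succAbove 0) - (0 : Fin 2 → A) (j₀.succAbove 0) * v = h (j₀.succAbove 0)
        simp
      · exact ⟨1, rfl⟩
    · rintro ⟨i, rfl⟩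
      fin_cases i
      · exact ⟨0, by simp⟩
      · exact ⟨2, rfl⟩
      · refine ⟨1, ?_⟩
        change h (j₀.succAbove 0) = h (j₀.succAbove 0) - (0 : Fin 2 → A) (j₀.succAbove 0) * v
        simp

end step

end Groth.Agent.Lipman.Term
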