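import Groth.Agent.Lipman.TermFat

/-!
# Termination: the fat line, in the form fixed for block B5 (T4a, T4b)
-/

set_option autoImplicit false

namespace Groth.Agent.Lipman.Term

open IsLocalRing

universe u

variable {A : Type u} [CommRing A] [IsLocalRing A] [IsNoetherianRing A]

/-- T4a -/
theorem Fat.le_one {r : ℕ} (hA : RatLike A (r + 1)) (h : Fat A r) : r ≤ 1 := by
  by_contra hr
  exact TermFat.false_of_ratLike_of_fat hA (by omega) h

/-- T4b -/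
theorem fat_cubic_ne (hA : RatLike A 2) (x y z : A) (hxyz : Ideal.span {x, y, z} = maximalIdeal A)
    (hz : z ^ 2 ∈ maximalIdeal A ^ 3) (c₀ c₁ c₂ c₃ Q ρ : A) (hQ : Q ∈ maximalIdeal A ^ 2)
    (hρ : ρ ∈ maximalIdeal A ^ 4)
    (h : z ^ 2 = c₀ * x ^ 3 + c₁ * x ^ 2 * y + c₂ * x * y ^ 2 + c₃ * y ^ 3 + z * Q + ρ) :
    ¬ (c₀ ∈ maximalIdeal A ∧ c₁ ∈ maximalIdeal A ∧ c₂ ∈ maximalIdeal A ∧ c₃ ∈ maximalIdeal A) :=
  TermFat.exists_notMem_of_two hxyz (by rwa [pow_two] at hz) (by simpa using hA.hilb 1)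
    (TermFat.ic_of_ratLike hA) hQ hρ h

end Groth.Agent.Lipman.Term
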