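import Mathlib.RingTheory.MvPolynomial.Basic
import Mathlib.Algebra.MvPolynomial.PDeriv
import Mathlib.Algebra.MvPolynomial.Equiv
import Mathlib.Algebra.Polynomial.Lifts
import Mathlib.FieldTheory.Minpoly.Field
import Mathlib.FieldTheory.IntermediateField.Adjoin.Basic
import Mathlib.RingTheory.Ideal.GoingUp
import Mathlib.RingTheory.IntegralClosure.IntegralRestrict
import Mathlib.LinearAlgebra.LinearIndependent.Lemmas

/-!
# Polynomials in the square of the ideal of a closed point (block B5/T1 of the resolution project)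

Let `k` be a field, `F / k` an algebraic field extension, `x : σ → F` a point, and
`I = ker (k[X_σ] → F)`.  We show that certain polynomials of degree two cannot lie in `I ^ 2` when
`x` is not rational.
-/

set_option autoImplicit false

namespace Groth.Agent.Lipman.TermPoly

open Polynomial

/-- A ring homomorphism compatible with evaluations preserves the squares of the kernels. -/
theorem map_mem_sq_ker {Q Q' F : Type*} [CommRing Q] [CommRing Q'] [CommRing F]
    (ev : Q →+* F) (ev' : Q' →+* F) (ψ : Q →+* Q') (h : ev'.comp ψ = ev) {p : Q}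
    (hp : p ∈ RingHom.ker ev ^ 2) : ψ p ∈ RingHom.ker ev' ^ 2 := by
  have h1 : (RingHom.ker ev).map ψ ≤ RingHom.ker ev' := by
    rw [Ideal.map_le_iff_le_comap]
    intro a ha
    rw [Ideal.mem_comap, RingHom.mem_ker, ← RingHom.comp_apply, h]
    exact ha
  have h2 : ψ p ∈ (RingHom.ker ev ^ 2).map ψ := Ideal.mem_map_of_mem _ hp
  rw [Ideal.map_pow] at h2
  exact Ideal.pow_right_mono h1 2 h2

section OneVar

variable {R F : Type*} [CommRing R] [Field F] (φ : R →+* F) (z : F)

theorem exists_monic (hφ : φ.IsIntegral) : ∃ g : R[X], g.Monic ∧ 0 < g.natDegree ∧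
    ∀ p : R[X], p.eval₂ φ z = 0 → ∀ i, (p %ₘ g).coeff i ∈ RingHom.ker φ := by
  have hmax : (RingHom.ker φ).IsMaximal :=
    Ideal.isMaximal_comap_of_isIntegral_of_isMaximal' φ hφ (⊥ : Ideal F)
  let _ : Field (R ⧸ RingHom.ker φ) := Ideal.Quotient.field _
  let _ : Algebra (R ⧸ RingHom.ker φ) F :=
    (Ideal.Quotient.lift (RingHom.ker φ) φ (fun a ha => ha)).toAlgebra
  have hcomp : (algebraMap (R ⧸ RingHom.ker φ) F).comp (Ideal.Quotient.mk (RingHom.ker φ)) = φ := by
    ext a
    rfl
  have hz : IsIntegral (R ⧸ RingHom.ker φ) z := by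
    obtain ⟨p, hp, hp0⟩ := hφ z
    refine ⟨p.map (Ideal.Quotient.mk _), hp.map _, ?_⟩
    rw [Polynomial.eval₂_map, hcomp]
    exact hp0
  obtain ⟨g, hg1, hg2, hg3⟩ := Polynomial.lifts_and_natDegree_eq_and_monic
    (f := Ideal.Quotient.mk (RingHom.ker φ)) (p := minpoly (R ⧸ RingHom.ker φ) z)
    (by
      rw [Polynomial.mem_lifts]
      exact Polynomial.map_surjective _ Ideal.Quotient.mk_surjective _)
    (minpoly.monic hz)
  refine ⟨g, hg3, ?_, ?_⟩
  · rw [hg2]
    exact minpoly.natDegree_pos hz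
  · intro p hp i
    have h1 : minpoly (R ⧸ RingHom.ker φ) z ∣ p.map (Ideal.Quotient.mk (RingHom.ker φ)) := by
      apply minpoly.dvd
      rw [Polynomial.aeval_def, Polynomial.eval₂_map, hcomp]
      exact hp
    have h2 : (p %ₘ g).map (Ideal.Quotient.mk (RingHom.ker φ)) = 0 := by
      rw [Polynomial.map_modByMonic _ hg3, hg1,
        (Polynomial.modByMonic_eq_zero_iff_dvd (minpoly.monic hz))]
      exact h1
    have h3 := congrArg (fun q => Polynomial.coeff q i) h2
    simp only [Polynomial.coeff_map, Polynomial.coeff_zero] at h3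
    exact Ideal.Quotient.eq_zero_iff_mem.mp h3

/-- **(b), one variable**. If `φ : R → F` is integral, `F` a field, then
`ker (R[X] → F) ^ 2 ∩ R = (ker φ) ^ 2`. -/
theorem mem_sq_of_C_mem_sq (hφ : φ.IsIntegral) {f : R}
    (hf : C f ∈ RingHom.ker (eval₂RingHom φ z) ^ 2) : f ∈ RingHom.ker φ ^ 2 := by
  obtain ⟨g, hg, hg0, hgI⟩ := exists_monic φ z hφ
  by_cases hnt : Nontrivial (R ⧸ (RingHom.ker φ ^ 2))
  swap
  · rw [not_nontrivial_iff_subsingleton, Ideal.Quotient.subsingleton_iff] at hnt
    rw [hnt]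
    trivial
  set π := Ideal.Quotient.mk (RingHom.ker φ ^ 2) with hπ
  have hle : RingHom.ker (eval₂RingHom φ z) ^ 2 ≤
      (Ideal.span {g.map π}).comap (mapRingHom π) := by
    rw [pow_two, Ideal.mul_le]
    intro p hp q hq
    rw [Ideal.mem_comap, Ideal.mem_span_singleton, map_mul]
    rw [RingHom.mem_ker, coe_eval₂RingHom] at hp hq
    have h1 : ∀ r : R[X], mapRingHom π r = (r %ₘ g).map π + g.map π * (r /ₘ g).map π := by
      intro r
      conv_lhs => rw [← Polynomial.modByMonic_add_div r g]
      simp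
    have h2 : (p %ₘ g).map π * (q %ₘ g).map π = 0 := by
      rw [← Polynomial.map_mul]
      ext i
      rw [Polynomial.coeff_map, Polynomial.coeff_mul, Polynomial.coeff_zero, map_sum]
      refine Finset.sum_eq_zero fun x _ => ?_
      rw [Ideal.Quotient.eq_zero_iff_mem, pow_two]
      exact Ideal.mul_mem_mul (hgI p hp _) (hgI q hq _)
    rw [h1 p, h1 q]
    have h3 : ((p %ₘ g).map π + g.map π * (p /ₘ g).map π) *
        ((q %ₘ g).map π + g.map π * (q /ₘ g).map π) =
        (p %ₘ g).map π * (q %ₘ g).map π + g.map π * ((p %ₘ g).map π * (q /ₘ g).map π +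
          (p /ₘ g).map π * (q %ₘ g).map π + g.map π * (p /ₘ g).map π * (q /ₘ g).map π) := by
      ring
    rw [h3, h2, zero_add]
    exact dvd_mul_right _ _
  have h1 := hle hf
  rw [Ideal.mem_comap, Ideal.mem_span_singleton, coe_mapRingHom, map_C] at h1
  have h2 : (C (π f) : (R ⧸ (RingHom.ker φ ^ 2))[X]) = 0 := by
    by_contra hne
    refine (hg.map π).not_dvd_of_natDegree_lt hne ?_ h1
    rw [natDegree_C, hg.natDegree_map]
    exact hg0
  rw [C_eq_zero] at h2
  exact Ideal.Quotient.eq_zero_iff_mem.mp h2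

end OneVar

section ManyVars

variable {R F : Type*} [CommRing R] [Field F] (φ : R →+* F)

theorem mem_sq_of_C_mem_sq_fin (hφ : φ.IsIntegral) : ∀ (n : ℕ) (z : Fin n → F) {f : R},
    MvPolynomial.C f ∈ RingHom.ker (MvPolynomial.eval₂Hom φ z) ^ 2 → f ∈ RingHom.ker φ ^ 2
  | 0, z, f, hf => by
    have h := map_mem_sq_ker (MvPolynomial.eval₂Hom φ z) φ
      (MvPolynomial.eval₂Hom (RingHom.id R) (fun i : Fin 0 => i.elim0)) (by
        apply MvPolynomial.ringHom_ext
        · intro r
          simp
        · intro i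
          exact i.elim0) hf
    simpa using h
  | n + 1, z, f, hf => by
    have hint : (MvPolynomial.eval₂Hom φ (fun i => z (Fin.succ i))).IsIntegral := by
      apply RingHom.IsIntegral.tower_top MvPolynomial.C
      have : (MvPolynomial.eval₂Hom φ (fun i => z (Fin.succ i))).comp MvPolynomial.C = φ := by
        ext r
        simp
      rw [this]
      exact hφ
    have h := map_mem_sq_ker (MvPolynomial.eval₂Hom φ z)
      (eval₂RingHom (MvPolynomial.eval₂Hom φ (fun i => z (Fin.succ i))) (z 0))
      (MvPolynomial.eval₂Hom ((C : MvPolynomial (Fin n) R →+* (MvPolynomial (Fin n) R)[X]).comp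
        MvPolynomial.C) (Fin.cons X (fun j : Fin n => C (MvPolynomial.X j)))) (by
        apply MvPolynomial.ringHom_ext
        · intro r
          simp
        · intro i
          refine Fin.cases ?_ (fun j => ?_) i
          · simp
          · simp) hf
    rw [MvPolynomial.coe_eval₂Hom, MvPolynomial.eval₂_C, RingHom.comp_apply] at h
    exact mem_sq_of_C_mem_sq_fin hφ n _ (mem_sq_of_C_mem_sq _ _ hint h)

/-- **(b)** If `φ : R → F` is integral, `F` a field, and `Q = R[X_σ] → F` extends `φ`, then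
`ker (Q → F) ^ 2 ∩ R = (ker φ) ^ 2`. -/
theorem mem_sq_of_C_mem_sq_mv (hφ : φ.IsIntegral) {σ : Type*} [Finite σ] (z : σ → F) {f : R}
    (hf : MvPolynomial.C f ∈ RingHom.ker (MvPolynomial.eval₂Hom φ z) ^ 2) :
    f ∈ RingHom.ker φ ^ 2 := by
  obtain ⟨n, ⟨e⟩⟩ := Finite.exists_equiv_fin σ
  have h := map_mem_sq_ker (MvPolynomial.eval₂Hom φ z)
    (MvPolynomial.eval₂Hom φ (fun i => z (e.symm i)))
    ((MvPolynomial.rename e : MvPolynomial σ R →ₐ[R] MvPolynomial (Fin n) R) :
      MvPolynomial σ R →+* MvPolynomial (Fin n) R) (by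
        apply MvPolynomial.ringHom_ext
        · intro r
          simp
        · intro i
          simp) hf
  have h2 : ((MvPolynomial.rename e : MvPolynomial σ R →ₐ[R] MvPolynomial (Fin n) R) :
      MvPolynomial σ R →+* MvPolynomial (Fin n) R) (MvPolynomial.C f) = MvPolynomial.C f := by
    simp
  rw [h2] at h
  exact mem_sq_of_C_mem_sq_fin φ hφ n _ h

/-- A derivation sends the square of an ideal into the ideal. -/
theorem derivation_mem_of_mem_sq {A Q : Type*} [CommRing A] [CommRing Q] [Algebra A Q]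
    (D : Derivation A Q Q) (I : Ideal Q) {p : Q} (hp : p ∈ I ^ 2) : D p ∈ I := by
  rw [pow_two] at hp
  refine Submodule.mul_induction_on hp ?_ ?_
  · intro a ha b hb
    rw [Derivation.leibniz]
    exact I.add_mem (I.mul_mem_right _ ha) (I.mul_mem_right _ hb)
  · intro a b ha hb
    rw [map_add]
    exact I.add_mem ha hb

end ManyVars

section Fields

variable {k F : Type*} [Field k] [Field F] [Algebra k F]

/-- The evaluation `k[X] → F` at `β`, as a ring homomorphism. -/
noncomputable abbrev ev (β : F) : k[X] →+* F := eval₂RingHom (algebraMap k F) β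

theorem ev_isIntegral [Algebra.IsAlgebraic k F] (β : F) : (ev (k := k) β).IsIntegral := by
  apply RingHom.IsIntegral.tower_top (C : k →+* k[X])
  have : (ev (k := k) β).comp C = algebraMap k F := by
    ext r
    simp
  rw [this]
  intro z
  exact Algebra.IsIntegral.isIntegral z

theorem ker_ev (β : F) : RingHom.ker (ev (k := k) β) = Ideal.span {minpoly k β} := by
  ext p
  rw [Ideal.mem_span_singleton, minpoly.dvd_iff, RingHom.mem_ker, aeval_def, coe_eval₂RingHom]

theorem eq_zero_of_mem_sq_ker_ev {β : F} {p : k[X]}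
    (hdeg : p.natDegree < 2 * (minpoly k β).natDegree) (hp : p ∈ RingHom.ker (ev (k := k) β) ^ 2) :
    p = 0 := by
  rw [ker_ev, Ideal.span_singleton_pow, Ideal.mem_span_singleton] at hp
  apply Polynomial.eq_zero_of_dvd_of_natDegree_lt hp
  rw [natDegree_pow]
  exact hdeg

theorem two_le_natDegree_minpoly [Algebra.IsAlgebraic k F] {β : F}
    (hβ : β ∉ (algebraMap k F).range) : 2 ≤ (minpoly k β).natDegree :=
  (minpoly.two_le_natDegree_iff (Algebra.IsIntegral.isIntegral β)).mpr hβ

theorem eq_zero_of_mem_ker_ev [Algebra.IsAlgebraic k F] {β : F}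
    (hβ : β ∉ (algebraMap k F).range) {p : k[X]} (hdeg : p.natDegree ≤ 1)
    (hp : p ∈ RingHom.ker (ev (k := k) β)) : p = 0 := by
  rw [ker_ev, Ideal.mem_span_singleton] at hp
  apply Polynomial.eq_zero_of_dvd_of_natDegree_lt hp
  have := two_le_natDegree_minpoly hβ
  omega

/-- **(P1)**, with coefficients in `k[X]`. -/
theorem eq_zero_of_mem_sq₁ [Algebra.IsAlgebraic k F] {σ : Type*} [Fintype σ] {β : F}
    (hβ : β ∉ (algebraMap k F).range) (z : σ → F) (f₀ : k[X]) (g : σ → k[X])
    (h₀ : f₀.natDegree ≤ 2) (hg : ∀ j, (g j).natDegree ≤ 1)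
    (hf : MvPolynomial.C f₀ + ∑ j, MvPolynomial.C (g j) * MvPolynomial.X j ∈
      RingHom.ker (MvPolynomial.eval₂Hom (ev (k := k) β) z) ^ 2) : f₀ = 0 ∧ g = 0 := by
  classical
  have hg0 : ∀ j, g j = 0 := by
    intro j
    have h1 := derivation_mem_of_mem_sq (MvPolynomial.pderiv j) _ hf
    have h2 : MvPolynomial.pderiv j (MvPolynomial.C f₀ +
        ∑ j, MvPolynomial.C (g j) * MvPolynomial.X j) = MvPolynomial.C (g j) := by
      rw [map_add, map_sum, MvPolynomial.pderiv_C, zero_add]
      rw [Finset.sum_eq_single j]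
      · simp [Derivation.leibniz]
      · intro i _ hij
        simp [Derivation.leibniz, MvPolynomial.pderiv_X_of_ne hij]
      · simp
    rw [h2, RingHom.mem_ker, MvPolynomial.coe_eval₂Hom, MvPolynomial.eval₂_C] at h1
    exact eq_zero_of_mem_ker_ev hβ (hg j) h1
  have hg' : g = 0 := funext hg0
  refine ⟨?_, hg'⟩
  subst hg'
  simp only [Pi.zero_apply, map_zero, zero_mul, Finset.sum_const_zero, add_zero] at hf
  have h1 := mem_sq_of_C_mem_sq_mv _ (ev_isIntegral β) z hf
  refine eq_zero_of_mem_sq_ker_ev ?_ h1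
  have := two_le_natDegree_minpoly hβ
  omega

/-- **(P1')** Let `F / k` be algebraic, `x : σ → F` a point with a non-rational coordinate `x i₀` and
`I = ker (k[X_σ] → F)`.  A quadratic polynomial in the span of `1, X_j, X_{i₀} X_j` lying in `I ^ 2`
is zero. -/
theorem eq_zero_of_mem_sq [Algebra.IsAlgebraic k F] {σ : Type*} [Fintype σ] (x : σ → F) (i₀ : σ)
    (hβ : x i₀ ∉ (algebraMap k F).range) (c : k) (a b : σ → k)
    (hf : MvPolynomial.C c + ∑ j, MvPolynomial.C (a j) * MvPolynomial.X j +
        MvPolynomial.X i₀ * ∑ j, MvPolynomial.C (b j) * MvPolynomial.X j ∈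
      RingHom.ker (MvPolynomial.aeval x : MvPolynomial σ k →ₐ[k] F) ^ 2) :
    c = 0 ∧ a = 0 ∧ b = 0 := by
  classical
  have hker : RingHom.ker (MvPolynomial.aeval x : MvPolynomial σ k →ₐ[k] F) =
      RingHom.ker (MvPolynomial.eval₂Hom (algebraMap k F) x) := by
    ext p
    rw [RingHom.mem_ker, RingHom.mem_ker, MvPolynomial.aeval_eq_eval₂Hom]
  rw [hker] at hf
  have h := map_mem_sq_ker _ (MvPolynomial.eval₂Hom (ev (k := k) (x i₀)) x)
    (MvPolynomial.eval₂Hom ((MvPolynomial.C : k[X] →+* MvPolynomial σ k[X]).comp C)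
      (fun j => if j = i₀ then MvPolynomial.C X else MvPolynomial.X j)) (by
      apply MvPolynomial.ringHom_ext
      · intro r
        simp
      · intro j
        by_cases hj : j = i₀
        · subst hj
          simp
        · simp [hj]) hf
  have h2 : (MvPolynomial.eval₂Hom ((MvPolynomial.C : k[X] →+* MvPolynomial σ k[X]).comp C)
      (fun j => if j = i₀ then MvPolynomial.C X else MvPolynomial.X j))
      (MvPolynomial.C c + ∑ j, MvPolynomial.C (a j) * MvPolynomial.X j +
        MvPolynomial.X i₀ * ∑ j, MvPolynomial.C (b j) * MvPolynomial.X j) =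
      MvPolynomial.C (C c + C (a i₀) * X + C (b i₀) * X ^ 2) +
        ∑ j, MvPolynomial.C (if j = i₀ then 0 else C (a j) + C (b j) * X) * MvPolynomial.X j := by
    simp only [map_add, map_sum, map_mul, MvPolynomial.coe_eval₂Hom, MvPolynomial.eval₂_C,
      MvPolynomial.eval₂_X, RingHom.comp_apply, if_true]
    have e1 : ∀ (d : σ → k), ∑ j, (MvPolynomial.C (C (d j)) : MvPolynomial σ k[X]) *
        (if j = i₀ then MvPolynomial.C X else MvPolynomial.X j) =
        MvPolynomial.C (C (d i₀)) * MvPolynomial.C X +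
        ∑ j, MvPolynomial.C (if j = i₀ then 0 else C (d j)) * MvPolynomial.X j := by
      intro d
      rw [← Finset.add_sum_erase _ _ (Finset.mem_univ i₀)]
      congr 1
      · simp
      · rw [← Finset.add_sum_erase _ (fun j => MvPolynomial.C (if j = i₀ then 0 else C (d j)) *
          (MvPolynomial.X j : MvPolynomial σ k[X])) (Finset.mem_univ i₀)]
        simp only [if_true, map_zero, zero_mul, zero_add]
        apply Finset.sum_congr rfl
        intro j hj
        rw [if_neg (Finset.ne_of_mem_erase hj), if_neg (Finset.ne_of_mem_erase hj)]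
    rw [e1, e1, mul_add, Finset.mul_sum]
    have e2 : ∀ j, (MvPolynomial.C (if j = i₀ then 0 else C (a j) + C (b j) * X) :
        MvPolynomial σ k[X]) * MvPolynomial.X j =
        MvPolynomial.C (if j = i₀ then 0 else C (a j)) * MvPolynomial.X j +
        MvPolynomial.C X * (MvPolynomial.C (if j = i₀ then 0 else C (b j)) * MvPolynomial.X j) := by
      intro j
      by_cases hj : j = i₀
      · simp [hj]
      · simp only [hj, if_false, map_add, map_mul]
        ring
    rw [Finset.sum_congr rfl (fun j _ => e2 j), Finset.sum_add_distrib]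
    simp only [map_add, map_mul, map_pow]
    ring
  rw [h2] at h
  obtain ⟨h3, h4⟩ := eq_zero_of_mem_sq₁ hβ _ _ _ (by compute_degree) (by
    intro j
    by_cases hj : j = i₀
    · simp [hj]
    · simp only [hj, if_false]
      compute_degree) h
  have c0 := congrArg (fun q => coeff q 0) h3
  have c1 := congrArg (fun q => coeff q 1) h3
  have c2 := congrArg (fun q => coeff q 2) h3
  simp [coeff_X, coeff_C] at c0 c1 c2
  refine ⟨c0, ?_, ?_⟩
  · funext j
    by_cases hj : j = i₀
    · rw [hj]
      exact c1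
    · have h5 := congrFun h4 j
      simp only [hj, if_false, Pi.zero_apply] at h5
      have := congrArg (fun q => coeff q 0) h5
      simpa using this
  · funext j
    by_cases hj : j = i₀
    · rw [hj]
      exact c2
    · have h5 := congrFun h4 j
      simp only [hj, if_false, Pi.zero_apply] at h5
      have := congrArg (fun q => coeff q 1) h5
      simpa [coeff_C] using this

/-- The evaluation `k[X][Y] → F` at `(β, γ)`, as a ring homomorphism. -/
noncomputable abbrev ev₂ (β γ : F) : k[X][X] →+* F := eval₂RingHom (ev (k := k) β) γ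

theorem ev₂_isIntegral [Algebra.IsAlgebraic k F] (β γ : F) : (ev₂ (k := k) β γ).IsIntegral := by
  apply RingHom.IsIntegral.tower_top (C : k[X] →+* k[X][X])
  have : (ev₂ (k := k) β γ).comp C = ev β := by
    ext r <;> simp
  rw [this]
  exact ev_isIntegral β

/-- If `Y ^ 2 - A₁(X) Y - A₀(X)`, `deg A₀ ≤ 2`, `deg A₁ ≤ 1`, is in the square of the ideal of the
point `(β, γ)` then `γ = u + v β` with `u, v ∈ k`. -/
theorem exists_eq_of_mem_sq₂ [Algebra.IsAlgebraic k F] {β γ : F}
    (hβ : β ∉ (algebraMap k F).range) (A₀ A₁ : k[X]) (h₀ : A₀.natDegree ≤ 2)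
    (h₁ : A₁.natDegree ≤ 1)
    (hf : (X ^ 2 - (C A₁ * X + C A₀) : k[X][X]) ∈ RingHom.ker (ev₂ (k := k) β γ) ^ 2) :
    ∃ u v : k, γ = algebraMap k F u + algebraMap k F v * β := by
  have hβi : IsIntegral k β := Algebra.IsIntegral.isIntegral β
  -- step 1 : `γ ∈ k(β)`
  set L := IntermediateField.adjoin k {β} with hL
  have hβL : β ∈ L := IntermediateField.mem_adjoin_simple_self k β
  set b : L := ⟨β, hβL⟩ with hb
  have hγL : γ ∈ L := by
    have hγi : IsIntegral L γ := by
      have : IsIntegral k γ := Algebra.IsIntegral.isIntegral γ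
      exact this.tower_top
    have h := map_mem_sq_ker (ev₂ (k := k) β γ) (ev (k := L) γ) (mapRingHom (ev (k := k) b)) (by
      ext r
      · simp only [RingHom.comp_apply, coe_mapRingHom, map_C, coe_eval₂RingHom, eval₂_C]
        rfl
      · simp only [RingHom.comp_apply, coe_mapRingHom, map_C, coe_eval₂RingHom, eval₂_C, eval₂_X]
        rfl
      · simp) hf
    rw [ker_ev, Ideal.span_singleton_pow, Ideal.mem_span_singleton] at h
    have hdeg : (mapRingHom (ev (k := k) b) (X ^ 2 - (C A₁ * X + C A₀))).natDegree = 2 := by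
      simp only [map_sub, map_add, map_mul, map_pow, coe_mapRingHom, map_X, map_C]
      compute_degree!
    have hne : mapRingHom (ev (k := k) b) (X ^ 2 - (C A₁ * X + C A₀)) ≠ 0 := by
      intro h0
      rw [h0] at hdeg
      simp at hdeg
    have h2 := Polynomial.natDegree_le_of_dvd h hne
    rw [hdeg, natDegree_pow] at h2
    have h3 := minpoly.natDegree_pos hγi
    have h4 : (minpoly L γ).natDegree = 1 := by omega
    rw [minpoly.natDegree_eq_one_iff] at h4
    obtain ⟨g, hg⟩ := h4
    rw [← hg]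
    exact g.2
  obtain ⟨h, hh⟩ : ∃ h : k[X], eval₂ (algebraMap k F) β h = γ := by
    have h1 : γ ∈ L.toSubalgebra := hγL
    rw [hL, IntermediateField.adjoin_simple_toSubalgebra_of_isAlgebraic hβi.isAlgebraic,
      Algebra.adjoin_singleton_eq_range_aeval] at h1
    obtain ⟨h, hh⟩ := h1
    exact ⟨h, hh⟩
  -- reduce modulo the minimal polynomial
  obtain ⟨h, hhd, hh⟩ : ∃ h : k[X], h.natDegree < (minpoly k β).natDegree ∧
      eval₂ (algebraMap k F) β h = γ := by
    refine ⟨h %ₘ minpoly k β, ?_, ?_⟩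
    · apply natDegree_modByMonic_lt _ (minpoly.monic hβi) (minpoly.ne_one k β)
    · have := Polynomial.modByMonic_add_div h (minpoly k β)
      conv_rhs => rw [← hh, ← this]
      rw [eval₂_add, eval₂_mul]
      have h0 : eval₂ (algebraMap k F) β (minpoly k β) = 0 := minpoly.aeval k β
      rw [h0, zero_mul, add_zero]
  have h2d := two_le_natDegree_minpoly hβ
  -- substitute `Y = h`
  have hs := map_mem_sq_ker (ev₂ (k := k) β γ) (ev (k := k) β) (evalRingHom h) (by
      ext r
      · simp
      · simp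
      · simpa using hh) hf
  have hs0 := eq_zero_of_mem_sq_ker_ev (by
    simp only [coe_evalRingHom, eval_sub, eval_add, eval_mul, eval_pow, eval_X, eval_C]
    refine lt_of_le_of_lt (natDegree_sub_le _ _) ?_
    refine max_lt ?_ ?_
    · rw [natDegree_pow]
      omega
    · refine lt_of_le_of_lt (natDegree_add_le _ _) ?_
      refine max_lt ?_ (by omega)
      refine lt_of_le_of_lt natDegree_mul_le ?_
      omega) hs
  simp only [coe_evalRingHom, eval_sub, eval_add, eval_mul, eval_pow, eval_X, eval_C] at hs0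
  have hd1 : h.natDegree ≤ 1 := by
    by_contra hcon
    have e1 : (h ^ 2).natDegree = 2 * h.natDegree := natDegree_pow h 2
    rw [sub_eq_zero.mp hs0] at e1
    have e2 : (A₁ * h + A₀).natDegree ≤ max (1 + h.natDegree) 2 := by
      refine (natDegree_add_le _ _).trans (max_le_max ?_ h₀)
      exact natDegree_mul_le.trans (by omega)
    have e3 : max (1 + h.natDegree) 2 < 2 * h.natDegree := by
      apply max_lt <;> omega
    omega
  refine ⟨h.coeff 0, h.coeff 1, ?_⟩
  rw [← hh]
  conv_lhs => rw [Polynomial.eq_X_add_C_of_natDegree_le_one hd1]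
  simp only [eval₂_add, eval₂_mul, eval₂_C, eval₂_X]
  ring

/-- **(P2)**, with coefficients in `k[X][Y]`. -/
theorem exists_eq_of_mem_sq₃ [Algebra.IsAlgebraic k F] {σ : Type*} [Fintype σ] {β γ : F}
    (hβ : β ∉ (algebraMap k F).range) (z : σ → F) (A₀ A₁ : k[X]) (h₀ : A₀.natDegree ≤ 2)
    (h₁ : A₁.natDegree ≤ 1) (g : σ → k[X]) (hg : ∀ j, (g j).natDegree ≤ 1)
    (hf : MvPolynomial.C (X ^ 2 - (C A₁ * X + C A₀) : k[X][X]) +
        ∑ j, MvPolynomial.C (C (g j)) * MvPolynomial.X j ∈
      RingHom.ker (MvPolynomial.eval₂Hom (ev₂ (k := k) β γ) z) ^ 2) :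
    ∃ u v : k, γ = algebraMap k F u + algebraMap k F v * β := by
  classical
  have hg0 : ∀ j, g j = 0 := by
    intro j
    have h1 := derivation_mem_of_mem_sq (MvPolynomial.pderiv j) _ hf
    have h2 : MvPolynomial.pderiv j (MvPolynomial.C (X ^ 2 - (C A₁ * X + C A₀) : k[X][X]) +
        ∑ j, MvPolynomial.C (C (g j)) * MvPolynomial.X j) = MvPolynomial.C (C (g j)) := by
      rw [map_add, map_sum, MvPolynomial.pderiv_C, zero_add]
      rw [Finset.sum_eq_single j]
      · simp [Derivation.leibniz]
      · intro i _ hij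
        simp [Derivation.leibniz, MvPolynomial.pderiv_X_of_ne hij]
      · simp
    rw [h2, RingHom.mem_ker, MvPolynomial.coe_eval₂Hom, MvPolynomial.eval₂_C, coe_eval₂RingHom,
      eval₂_C] at h1
    exact eq_zero_of_mem_ker_ev hβ (hg j) h1
  simp only [hg0, map_zero, zero_mul, Finset.sum_const_zero, add_zero] at hf
  exact exists_eq_of_mem_sq₂ hβ A₀ A₁ h₀ h₁ (mem_sq_of_C_mem_sq_mv _ (ev₂_isIntegral β γ) z hf)

theorem sum_split {R : Type*} [CommRing R] {σ : Type*} [Fintype σ] [DecidableEq σ] (i₀ i₁ : σ)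
    (h01 : i₁ ≠ i₀) (X₀ X₁ : R) (d : σ → R) :
    ∑ j, (MvPolynomial.C (d j) : MvPolynomial σ R) *
      (if j = i₀ then MvPolynomial.C X₀ else
        if j = i₁ then MvPolynomial.C X₁ else MvPolynomial.X j) =
      MvPolynomial.C (d i₀ * X₀ + d i₁ * X₁) +
      ∑ j, (MvPolynomial.C (if j = i₀ ∨ j = i₁ then 0 else d j) : MvPolynomial σ R) *
        MvPolynomial.X j := by
  have e0 : ∀ j, (MvPolynomial.C (d j) : MvPolynomial σ R) *
      (if j = i₀ then MvPolynomial.C X₀ else
        if j = i₁ then MvPolynomial.C X₁ else MvPolynomial.X j) =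
      (if j = i₀ then MvPolynomial.C (d i₀ * X₀) else 0) +
      (if j = i₁ then MvPolynomial.C (d i₁ * X₁) else 0) +
      (MvPolynomial.C (if j = i₀ ∨ j = i₁ then 0 else d j) : MvPolynomial σ R) *
        MvPolynomial.X j := by
    intro j
    by_cases hj : j = i₀
    · subst hj
      simp [Ne.symm h01]
    · by_cases hj1 : j = i₁
      · subst hj1
        simp [h01]
      · simp [hj, hj1]
  rw [Finset.sum_congr rfl (fun j _ => e0 j), Finset.sum_add_distrib, Finset.sum_add_distrib,
    Finset.sum_ite_eq' Finset.univ i₀, Finset.sum_ite_eq' Finset.univ i₁]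
  simp

/-- **(P2')** Let `F / k` be algebraic, `x : σ → F` a point with a non-rational coordinate `x i₀` and
`I = ker (k[X_σ] → F)`.  If `X_{i₁} ^ 2` is congruent modulo `I ^ 2` to a combination of
`1, X_j, X_{i₀} X_j` then `x i₁` is in the `k`-span of `1, x i₀`. -/
theorem exists_eq_of_mem_sq [Algebra.IsAlgebraic k F] {σ : Type*} [Fintype σ] (x : σ → F)
    (i₀ i₁ : σ) (hβ : x i₀ ∉ (algebraMap k F).range) (c : k) (a b : σ → k)
    (hf : MvPolynomial.X i₁ ^ 2 - (MvPolynomial.C c + ∑ j, MvPolynomial.C (a j) * MvPolynomial.X j +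
        MvPolynomial.X i₀ * ∑ j, MvPolynomial.C (b j) * MvPolynomial.X j) ∈
      RingHom.ker (MvPolynomial.aeval x : MvPolynomial σ k →ₐ[k] F) ^ 2) :
    ∃ u v : k, x i₁ = algebraMap k F u + algebraMap k F v * x i₀ := by
  classical
  by_cases h01 : i₁ = i₀
  · refine ⟨0, 1, ?_⟩
    rw [h01]
    simp
  have hker : RingHom.ker (MvPolynomial.aeval x : MvPolynomial σ k →ₐ[k] F) =
      RingHom.ker (MvPolynomial.eval₂Hom (algebraMap k F) x) := by
    ext p
    rw [RingHom.mem_ker, RingHom.mem_ker, MvPolynomial.aeval_eq_eval₂Hom]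
  rw [hker] at hf
  set ψ : MvPolynomial σ k →+* MvPolynomial σ (k[X][X]) :=
    MvPolynomial.eval₂Hom ((MvPolynomial.C : k[X][X] →+* MvPolynomial σ (k[X][X])).comp
        ((C : k[X] →+* k[X][X]).comp (C : k →+* k[X])))
      (fun j => if j = i₀ then MvPolynomial.C (C X) else
        if j = i₁ then MvPolynomial.C X else MvPolynomial.X j) with hψ
  have hψC : ∀ r : k, ψ (MvPolynomial.C r) = MvPolynomial.C (C (C r)) := by
    intro r
    simp [hψ]
  have hψX : ∀ j, ψ (MvPolynomial.X j) = (if j = i₀ then MvPolynomial.C (C X) else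
        if j = i₁ then MvPolynomial.C X else MvPolynomial.X j : MvPolynomial σ (k[X][X])) := by
    intro r
    simp [hψ]
  have hcomp : (MvPolynomial.eval₂Hom (ev₂ (k := k) (x i₀) (x i₁)) x).comp ψ =
      MvPolynomial.eval₂Hom (algebraMap k F) x := by
    apply MvPolynomial.ringHom_ext
    · intro r
      simp [hψC]
    · intro j
      rw [RingHom.comp_apply, hψX]
      by_cases hj : j = i₀
      · subst hj
        simp
      · by_cases hj1 : j = i₁
        · subst hj1
          simp [h01]
        · simp [hj, hj1]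
  have h := map_mem_sq_ker (Q' := MvPolynomial σ (k[X][X]))
    (MvPolynomial.eval₂Hom (algebraMap k F) x)
    (MvPolynomial.eval₂Hom (ev₂ (k := k) (x i₀) (x i₁)) x) ψ hcomp hf
  have h2 : ψ (MvPolynomial.X i₁ ^ 2 -
        (MvPolynomial.C c + ∑ j, MvPolynomial.C (a j) * MvPolynomial.X j +
        MvPolynomial.X i₀ * ∑ j, MvPolynomial.C (b j) * MvPolynomial.X j)) =
      MvPolynomial.C (X ^ 2 - (C (C (a i₁) + C (b i₁) * X) * X +
        C (C c + C (a i₀) * X + C (b i₀) * X ^ 2)) : k[X][X]) +
        ∑ j, (MvPolynomial.C (C (if j = i₀ ∨ j = i₁ then 0 else -(C (a j) + C (b j) * X))) :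
          MvPolynomial σ (k[X][X])) * MvPolynomial.X j := by
    have e2 : ∀ j, (MvPolynomial.C (C (if j = i₀ ∨ j = i₁ then 0 else
        -(C (a j) + C (b j) * X))) : MvPolynomial σ (k[X][X])) * MvPolynomial.X j =
        -((MvPolynomial.C (if j = i₀ ∨ j = i₁ then 0 else C (C (a j))) :
            MvPolynomial σ (k[X][X])) * MvPolynomial.X j +
        (MvPolynomial.C (C X) : MvPolynomial σ (k[X][X])) *
          ((MvPolynomial.C (if j = i₀ ∨ j = i₁ then 0 else C (C (b j))) :
            MvPolynomial σ (k[X][X])) * MvPolynomial.X j)) := by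
      intro j
      by_cases hj : j = i₀ ∨ j = i₁
      · simp only [hj, if_true, map_zero, zero_mul, mul_zero, add_zero]
        ring
      · simp only [hj, if_false, map_add, map_mul, map_neg]
        ring
    simp only [map_add, map_sub, map_pow, map_sum, map_mul, hψC, hψX, if_true]
    have e3 := sum_split i₀ i₁ h01 (C X : k[X][X]) X (fun j => C (C (a j)))
    have e4 := sum_split i₀ i₁ h01 (C X : k[X][X]) X (fun j => C (C (b j)))
    rw [e3, e4, if_neg h01, Finset.sum_congr rfl (fun j _ => e2 j), Finset.sum_neg_distrib,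
      Finset.sum_add_distrib, ← Finset.mul_sum]
    simp only [map_add, map_mul, map_pow]
    ring
  rw [h2] at h
  exact exists_eq_of_mem_sq₃ hβ _ _ _ (by compute_degree) (by compute_degree) _ (by
    intro j
    by_cases hj : j = i₀ ∨ j = i₁
    · simp [hj]
    · simp only [hj, if_false]
      compute_degree) h

theorem false_of_mem_sq [Algebra.IsAlgebraic k F] {σ : Type*} [Fintype σ] (x : σ → F)
    (i₀ i₁ : σ) (hx : LinearIndependent k ![1, x i₀, x i₁]) (c : k) (a b : σ → k)
    (hf : MvPolynomial.X i₁ ^ 2 - (MvPolynomial.C c + ∑ j, MvPolynomial.C (a j) * MvPolynomial.X j +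
        MvPolynomial.X i₀ * ∑ j, MvPolynomial.C (b j) * MvPolynomial.X j) ∈
      RingHom.ker (MvPolynomial.aeval x : MvPolynomial σ k →ₐ[k] F) ^ 2) : False := by
  rw [Fintype.linearIndependent_iff] at hx
  obtain ⟨u, v, huv⟩ := exists_eq_of_mem_sq x i₀ i₁ (by
    rintro ⟨w, hw⟩
    have := hx ![w, -1, 0] (by simp [Fin.sum_univ_three, Algebra.smul_def, hw]) 1
    simp at this) c a b hf
  have := hx ![u, v, -1] (by
    simp [Fin.sum_univ_three, Algebra.smul_def, huv]) 2
  simp at this

end Fields

end Groth.Agent.Lipman.TermPoly
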