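import Groth.Agent.Lipman.TermQT
import Groth.Agent.Lipman.TermPoly

/-!
# Block B5 (termination), T2b: non-rational points of maximal embedding dimension lie on fat lines
-/

set_option autoImplicit false
set_option linter.unusedSectionVars false
universe u

open IsLocalRing MvPolynomial

namespace Groth.Agent.Lipman.Term

section poly

variable {k F : Type u} [Field k] [Field F] [Algebra k F] {σ : Type} [Fintype σ]

theorem P1' (hF : Algebra.IsAlgebraic k F) (x : σ → F) (i₀ : σ) (h0 : x i₀ ∉ Set.range (algebraMap k F))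
    (c : k) (a b : σ → k)
    (h : C c + ∑ j, C (a j) * X j + X i₀ * ∑ j, C (b j) * X j ∈
      (RingHom.ker (aeval x : MvPolynomial σ k →ₐ[k] F)) ^ 2) : c = 0 ∧ a = 0 ∧ b = 0 :=
  TermPoly.eq_zero_of_mem_sq x i₀ (fun hx => h0 hx) c a b h

theorem P2' (hF : Algebra.IsAlgebraic k F) (x : σ → F) (i₀ i₁ : σ)
    (h0 : LinearIndependent k ![1, x i₀, x i₁])
    (c : k) (a b : σ → k)
    (h : X i₁ ^ 2 - (C c + ∑ j, C (a j) * X j + X i₀ * ∑ j, C (b j) * X j) ∈
      (RingHom.ker (aeval x : MvPolynomial σ k →ₐ[k] F)) ^ 2) : False :=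
  TermPoly.false_of_mem_sq x i₀ i₁ h0 c a b h

end poly

variable {A B : Type u} [CommRing A] [IsLocalRing A] [IsNoetherianRing A]
  [CommRing B] [IsLocalRing B] [IsNoetherianRing B] [Algebra A B]

section fam

variable {σ : Type} [Fintype σ]

/-- the products of `t` and `z i₀` with the generators `t, z j` -/
def fam (t : A) (z : σ → A) (i₀ : σ) : (Option σ) ⊕ σ → A
  | Sum.inl none => t * t
  | Sum.inl (some j) => t * z j
  | Sum.inr j => z i₀ * z j

/-- the polynomial of a combination of `fam` -/
noncomputable def famPoly (i₀ : σ) (c : (Option σ) ⊕ σ → A) : MvPolynomial σ A :=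
  C (c (Sum.inl none)) + ∑ j, C (c (Sum.inl (some j))) * X j + X i₀ * ∑ j, C (c (Sum.inr j)) * X j

lemma aeval_famPoly (t : A) (z : σ → A) (b : σ → B) (hb : ∀ i, algebraMap A B (z i) = algebraMap A B t * b i)
    (i₀ : σ) (c : (Option σ) ⊕ σ → A) :
    algebraMap A B (∑ s, c s * fam t z i₀ s) =
      algebraMap A B t ^ 2 * aeval b (famPoly i₀ c) := by
  simp only [Fintype.sum_sum_type, Fintype.sum_option, fam, famPoly, map_add, map_mul, map_sum,
    aeval_C, aeval_X, hb, mul_add, Finset.mul_sum]
  congr 1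
  · congr 1
    · ring
    · refine Finset.sum_congr rfl fun i _ => ?_
      ring
  · refine Finset.sum_congr rfl fun i _ => ?_
    ring

end fam

section main

variable {σ : Type} [Fintype σ] {t : A} {z : σ → A} {b : σ → B} {r : ℕ}

/-- Relations of order three in `A` give second order conditions at the point. -/
lemma QT.map_mem_ptI_sq (h : QT A B t) [IsLocalHom (algebraMap A B)]
    (hz : Ideal.span (insert t (Set.range z)) = maximalIdeal A)
    (hb : ∀ i, algebraMap A B (z i) = algebraMap A B t * b i)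
    (hemb : Fintype.card σ + 1 ≤ (maximalIdeal B).spanFinrank) (F : MvPolynomial σ A) (a : A)
    (ha : a ∈ maximalIdeal A ^ 3) (haF : algebraMap A B a = algebraMap A B t ^ 2 * aeval b F) :
    map (residue A) F ∈ QTApi.ptI A b ^ 2 := by
  refine ((QTApi.main_aux h.mem hz hb (h.frac_of_gens hz hb)).2 (by
    rwa [Nat.card_eq_fintype_card])).2 F (Ideal.mem_sup_left ?_)
  have h2 : (maximalIdeal A ^ 3).map (algebraMap A B) ≤ (Ideal.span {algebraMap A B t}) ^ 3 := by
    rw [Ideal.map_pow]
    refine Ideal.pow_right_mono ?_ 3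
    rw [Ideal.map_le_iff_le_comap]
    intro a ha
    rw [Ideal.mem_comap, Ideal.mem_span_singleton]
    exact h.dvd a ha
  have h3 := h2 (Ideal.mem_map_of_mem _ ha)
  rw [Ideal.span_singleton_pow, Ideal.mem_span_singleton] at h3
  obtain ⟨c, hc⟩ := h3
  rw [Ideal.mem_span_singleton]
  refine ⟨c, ?_⟩
  have h4 : algebraMap A B t * (algebraMap A B t * (aeval b F - algebraMap A B t * c)) = 0 := by
    linear_combination hc - haF
  have h5 := h.reg _ (h.reg _ h4)
  exact sub_eq_zero.1 h5

lemma map_famPoly (i₀ : σ) (c : (Option σ) ⊕ σ → A) :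
    map (residue A) (famPoly i₀ c) = C (residue A (c (Sum.inl none))) +
      ∑ j, C (residue A (c (Sum.inl (some j)))) * X j +
      X i₀ * ∑ j, C (residue A (c (Sum.inr j))) * X j := by
  simp [famPoly]

lemma fam_mem (ht : t ∈ maximalIdeal A) (hzm : ∀ i, z i ∈ maximalIdeal A) (i₀ : σ)
    (s : (Option σ) ⊕ σ) : fam t z i₀ s ∈ maximalIdeal A ^ 2 := by
  rw [pow_two]
  rcases s with (_ | j) | j
  · exact Ideal.mul_mem_mul ht ht
  · exact Ideal.mul_mem_mul ht (hzm j)
  · exact Ideal.mul_mem_mul (hzm i₀) (hzm j)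

lemma QT.fam_minGen (h : QT A B t) [IsLocalHom (algebraMap A B)]
    (hF : Algebra.IsAlgebraic (ResidueField A) (ResidueField B))
    (hz : Ideal.span (insert t (Set.range z)) = maximalIdeal A)
    (hb : ∀ i, algebraMap A B (z i) = algebraMap A B t * b i)
    (hA : RatLike A (r + 1)) (hcard : Fintype.card σ = r + 1)
    (hB : (maximalIdeal B).spanFinrank = r + 2)
    (i₀ : σ) (h0 : residue B (b i₀) ∉ Set.range (algebraMap (ResidueField A) (ResidueField B))) :
    MinGen (maximalIdeal A ^ 2) (fam t z i₀) := by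
  have hzm : ∀ i, z i ∈ maximalIdeal A := fun i => by
    rw [← hz]; exact Ideal.subset_span (Or.inr ⟨i, rfl⟩)
  refine MinGen.of_indep (fam_mem h.mem hzm i₀) ?_ ?_
  · intro c hc
    have h1 : ∑ i, c i * fam t z i₀ i ∈ maximalIdeal A ^ 3 := by
      rwa [pow_succ' _ 2]
    have h2 := h.map_mem_ptI_sq hz hb (by rw [hcard, hB]) (famPoly i₀ c) _ h1
      (aeval_famPoly t z b hb i₀ c)
    rw [map_famPoly] at h2
    obtain ⟨h3, h4, h5⟩ := P1' hF (fun i => residue B (b i)) i₀ h0 _ _ _ h2
    rintro ((_ | j) | j)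
    · exact (residue_eq_zero_iff _).1 h3
    · exact (residue_eq_zero_iff _).1 (congrFun h4 j)
    · exact (residue_eq_zero_iff _).1 (congrFun h5 j)
  · rw [hA.hilb, Fintype.card_sum, Fintype.card_option, hcard]
    omega

theorem QT.fat_of_not_rational (h : QT A B t) [IsLocalHom (algebraMap A B)]
    (hF : Algebra.IsAlgebraic (ResidueField A) (ResidueField B))
    (hz : Ideal.span (insert t (Set.range z)) = maximalIdeal A)
    (hb : ∀ i, algebraMap A B (z i) = algebraMap A B t * b i)
    (hA : RatLike A (r + 1)) (hcard : Fintype.card σ = r + 1)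
    (hB : (maximalIdeal B).spanFinrank = r + 2)
    (i₀ : σ) (h0 : residue B (b i₀) ∉ Set.range (algebraMap (ResidueField A) (ResidueField B))) :
    Fat A r := by
  classical
  have hzm : ∀ i, z i ∈ maximalIdeal A := fun i => by
    rw [← hz]; exact Ideal.subset_span (Or.inr ⟨i, rfl⟩)
  have hemb : Fintype.card σ + 1 ≤ (maximalIdeal B).spanFinrank := by rw [hcard, hB]
  -- all points are on the line
  have hline : ∀ j, ∃ α β : A, residue B (b j) =
      algebraMap (ResidueField A) (ResidueField B) (residue A α) +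
        algebraMap (ResidueField A) (ResidueField B) (residue A β) * residue B (b i₀) := by
    intro j
    by_contra hcon
    have hli : LinearIndependent (ResidueField A) ![1, residue B (b i₀), residue B (b j)] := by
      rw [Fintype.linearIndependent_iff]
      intro g hg
      simp only [Fin.sum_univ_three, Matrix.cons_val_zero, Matrix.cons_val_one, Matrix.cons_val,
        Algebra.smul_def, mul_one] at hg
      have g2 : g 2 = 0 := by
        by_contra h2
        have h2' : algebraMap (ResidueField A) (ResidueField B) (g 2) ≠ 0 := by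
          rwa [Ne, map_eq_zero]
        obtain ⟨α, hα⟩ := residue_surjective (-(g 0 / g 2))
        obtain ⟨β, hβ⟩ := residue_surjective (-(g 1 / g 2))
        refine hcon ⟨α, β, ?_⟩
        rw [hα, hβ, map_neg, map_neg, map_div₀, map_div₀]
        field_simp
        linear_combination hg
      rw [g2, map_zero, zero_mul, add_zero] at hg
      have g1 : g 1 = 0 := by
        by_contra h1
        have h1' : algebraMap (ResidueField A) (ResidueField B) (g 1) ≠ 0 := by
          rwa [Ne, map_eq_zero]
        refine h0 ⟨-(g 0 / g 1), ?_⟩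
        rw [map_neg, map_div₀]
        field_simp
        linear_combination -hg
      rw [g1, map_zero, zero_mul, add_zero, map_eq_zero] at hg
      intro i
      fin_cases i
      · exact hg
      · exact g1
      · exact g2
    obtain ⟨c, hc⟩ := (h.fam_minGen hF hz hb hA hcard hB i₀ h0).exists_eq
      (Ideal.pow_mem_pow (hzm j) 2)
    have h1 := h.map_mem_ptI_sq hz hb hemb (X j ^ 2 - famPoly i₀ c) 0 (Ideal.zero_mem _) (by
      rw [map_sub, mul_sub, ← aeval_famPoly t z b hb i₀ c, ← hc, map_zero, map_pow, map_pow, aeval_X, hb]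
      ring)
    rw [map_sub, map_pow, map_X, map_famPoly] at h1
    exact P2' hF (fun i => residue B (b i)) i₀ j hli _ _ _ h1
  choose α₀ β₀ hαβ using hline
  -- adapted generators
  let α : σ → A := fun j => if j = i₀ then 0 else α₀ j
  let β : σ → A := fun j => if j = i₀ then 0 else β₀ j
  let z' : σ → A := fun j => z j - α j * t - β j * z i₀
  let b' : σ → B := fun j => b j - algebraMap A B (α j) - algebraMap A B (β j) * b i₀
  have hα₀ : α i₀ = 0 := if_pos rfl
  have hβ₀ : β i₀ = 0 := if_pos rfl
  have hz₀ : z' i₀ = z i₀ := by simp [z', hα₀, hβ₀]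
  have hb₀ : b' i₀ = b i₀ := by simp [b', hα₀, hβ₀]
  have hb' : ∀ i, algebraMap A B (z' i) = algebraMap A B t * b' i := by
    intro i
    simp only [z', b', map_sub, map_mul, hb]
    ring
  have hz' : Ideal.span (insert t (Set.range z')) = maximalIdeal A := by
    apply le_antisymm
    · rw [Ideal.span_le]
      rintro _ (rfl | ⟨i, rfl⟩)
      · exact h.mem
      · exact Ideal.sub_mem _ (Ideal.sub_mem _ (hzm i) (Ideal.mul_mem_left _ _ h.mem))
          (Ideal.mul_mem_left _ _ (hzm i₀))
    · rw [← hz, Ideal.span_le]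
      have ht' : t ∈ Ideal.span (insert t (Set.range z')) := Ideal.subset_span (Or.inl rfl)
      have hzi : ∀ i, z' i ∈ Ideal.span (insert t (Set.range z')) := fun i =>
        Ideal.subset_span (Or.inr ⟨i, rfl⟩)
      rintro _ (rfl | ⟨i, rfl⟩)
      · exact ht'
      · have : z i = z' i + α i * t + β i * z' i₀ := by
          rw [hz₀]; simp only [z']; ring
        rw [SetLike.mem_coe, this]
        exact Ideal.add_mem _ (Ideal.add_mem _ (hzi i) (Ideal.mul_mem_left _ _ ht'))
          (Ideal.mul_mem_left _ _ (hzi i₀))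
  have hx' : ∀ i, i ≠ i₀ → residue B (b' i) = 0 := by
    intro i hi
    have h1 : α i = α₀ i := if_neg hi
    have h2 : β i = β₀ i := if_neg hi
    simp only [b', map_sub, map_mul, h1, h2]
    rw [hαβ i]
    have e1 : ∀ a : A, residue B (algebraMap A B a) =
      algebraMap (ResidueField A) (ResidueField B) (residue A a) := fun a => rfl
    rw [e1, e1]
    ring
  have h0' : residue B (b' i₀) ∉ Set.range (algebraMap (ResidueField A) (ResidueField B)) := by
    rwa [hb₀]
  have hzm' : ∀ i, z' i ∈ maximalIdeal A := fun i => by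
    rw [← hz']; exact Ideal.subset_span (Or.inr ⟨i, rfl⟩)
  have hmin := h.fam_minGen hF hz' hb' hA hcard hB i₀ h0'
  have hfat : ∀ i j, i ≠ i₀ → j ≠ i₀ → z' i * z' j ∈ maximalIdeal A ^ 3 := by
    intro i j hi hj
    have hij : z' i * z' j ∈ maximalIdeal A ^ 2 := by
      rw [pow_two]; exact Ideal.mul_mem_mul (hzm' i) (hzm' j)
    obtain ⟨c, hc⟩ := hmin.exists_eq hij
    have h1 := h.map_mem_ptI_sq hz' hb' hemb (X i * X j - famPoly i₀ c) 0 (Ideal.zero_mem _) (by
      rw [map_sub, mul_sub, ← aeval_famPoly t z' b' hb' i₀ c, ← hc, map_zero, map_mul, map_mul,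
        aeval_X, aeval_X, hb', hb']
      ring)
    have hXi : ∀ i, i ≠ i₀ → (X i : MvPolynomial σ (ResidueField A)) ∈ QTApi.ptI A b' := by
      intro i hi
      rw [QTApi.ptI, RingHom.mem_ker, aeval_X]
      exact hx' i hi
    have h2 : (X i * X j : MvPolynomial σ (ResidueField A)) ∈ QTApi.ptI A b' ^ 2 := by
      rw [pow_two]
      exact Ideal.mul_mem_mul (hXi i hi) (hXi j hj)
    rw [map_sub, map_mul, map_X, map_X] at h1
    have h3 := Ideal.sub_mem _ h2 h1
    rw [sub_sub_cancel, map_famPoly] at h3
    obtain ⟨h4, h5, h6⟩ := P1' hF (fun i => residue B (b' i)) i₀ h0' _ _ _ h3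
    have h7 : ∀ s, c s ∈ maximalIdeal A := by
      rintro ((_ | j) | j)
      · exact (residue_eq_zero_iff _).1 h4
      · exact (residue_eq_zero_iff _).1 (congrFun h5 j)
      · exact (residue_eq_zero_iff _).1 (congrFun h6 j)
    rw [hc, pow_succ']
    exact Ideal.sum_mem _ fun s _ => Ideal.mul_mem_mul (h7 s) (fam_mem h.mem hzm' i₀ s)
  have hcard' : Fintype.card {j // j ≠ i₀} = r := by
    rw [Fintype.card_subtype_compl, hcard]
    simp
  let e : Fin r ≃ {j // j ≠ i₀} := (Fintype.equivFinOfCardEq hcard').symm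
  refine ⟨t, z' i₀, fun i => z' (e i).1, ?_, fun i j => hfat _ _ (e i).2 (e j).2⟩
  rw [← hz']
  congr 1
  ext a
  simp only [Set.mem_range, Sum.exists, Sum.elim_inl, Sum.elim_inr, Set.mem_insert_iff]
  constructor
  · rintro (⟨i, rfl⟩ | ⟨i, rfl⟩)
    · fin_cases i
      · left; rfl
      · right; exact ⟨i₀, rfl⟩
    · right; exact ⟨_, rfl⟩
  · rintro (rfl | ⟨i, rfl⟩)
    · left; exact ⟨0, rfl⟩
    · by_cases hi : i = i₀
      · subst hi
        left; exact ⟨1, rfl⟩
      · right
        exact ⟨e.symm ⟨i, hi⟩, by simp⟩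

/-- T2b -/
theorem QT.rational_or_fat {t : A} {r : ℕ} (hA : RatLike A (r + 1)) (h : QT A B t)
    (hB : (maximalIdeal B).spanFinrank = r + 2) : Rational A B ∨ Fat A r := by
  have := h.isLocalHom
  by_cases hrat : Rational A B
  · exact Or.inl hrat
  right
  obtain ⟨d, z, hd, hz⟩ := h.exists_gens
  have hdr : d = r + 1 := by
    have h1 := hA.hilb 1
    rw [pow_one, hd] at h1
    omega
  subst hdr
  obtain ⟨b, hb⟩ := h.exists_div (z := z) (fun i => by
    rw [← hz]
    exact Ideal.subset_span (Or.inr ⟨i, rfl⟩))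
  have hfrac := h.frac_of_gens hz hb
  have hfin := ((QTApi.main_aux h.mem hz hb hfrac).2 (by rw [Nat.card_fin, hB])).1
  have hF : Algebra.IsAlgebraic (ResidueField A) (ResidueField B) :=
    Algebra.IsAlgebraic.of_finite _ _
  have hex : ∃ i₀, residue B (b i₀) ∉ Set.range (algebraMap (ResidueField A) (ResidueField B)) := by
    by_contra hcon
    push Not at hcon
    apply hrat
    choose a ha using hcon
    -- evaluations are in the residue field of A
    have hev : ∀ F : MvPolynomial (Fin (r + 1)) A, ∃ q : ResidueField A,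
        residue B (aeval b F) = algebraMap (ResidueField A) (ResidueField B) q := by
      intro F
      refine ⟨aeval a (map (residue A) F), ?_⟩
      rw [← QTApi.aeval_residue]
      have : (fun i => residue B (b i)) = fun i => algebraMap (ResidueField A) (ResidueField B) (a i) :=
        funext fun i => (ha i).symm
      rw [this]
      exact MvPolynomial.aeval_algebraMap_apply (ResidueField B) a _
    intro y
    obtain ⟨F, G, hG, hGy⟩ := hfrac y
    obtain ⟨p, hp⟩ := hev F
    obtain ⟨q, hq⟩ := hev G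
    have hq0 : algebraMap (ResidueField A) (ResidueField B) q ≠ 0 := by
      rw [← hq, Ne, residue_eq_zero_iff]
      exact fun h' => (mem_maximalIdeal _).1 h' hG
    obtain ⟨s, hs⟩ := residue_surjective (p / q)
    refine ⟨s, ?_⟩
    rw [← residue_eq_zero_iff, map_sub]
    have e1 : residue B (algebraMap A B s) =
      algebraMap (ResidueField A) (ResidueField B) (residue A s) := rfl
    rw [e1, hs, map_div₀, ← hp, ← hq, ← hGy, map_mul]
    rw [← hq] at hq0
    field_simp
    simp
  obtain ⟨i₀, h0⟩ := hex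
  exact h.fat_of_not_rational hF hz hb hA (Fintype.card_fin _) hB i₀ h0

end main

end Groth.Agent.Lipman.Term
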