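import Groth.Agent.Lipman.TermDefs
import Groth.Agent.Lipman.TermFat2

/-!
# Tracking double points with a double line as tangent cone
-/

set_option autoImplicit false
universe u

open IsLocalRing Groth.Agent.Lipman.Term

namespace Groth.Agent.Lipman.TermTrack

section tools

variable {R : Type*} [CommRing R] [IsLocalRing R]

lemma mem_of_sum_mem {k : ℕ} (I : Ideal R) (g : Fin k → R) (hg : Ideal.span (Set.range g) = I)
    (hk : k ≤ Submodule.spanFinrank I) (a : Fin k → R)
    (h : ∑ i, a i * g i ∈ maximalIdeal R * I) (i : Fin k) : a i ∈ maximalIdeal R := by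
  by_contra hi
  have hu : IsUnit (a i) := by
    by_contra hc
    exact hi ((mem_maximalIdeal _).2 hc)
  set J : Ideal R := Ideal.span (g '' {i}ᶜ) with hJ
  have hle : I ≤ J ⊔ maximalIdeal R • I := by
    rw [← hg, Ideal.span_le]
    rintro _ ⟨j, rfl⟩
    by_cases hj : j = i
    · subst hj
      obtain ⟨u, hu'⟩ := hu.exists_left_inv
      have h1 : g j = u * (∑ i, a i * g i) - ∑ l ∈ Finset.univ.erase j, (u * a l) * g l := by
        rw [← Finset.add_sum_erase _ _ (Finset.mem_univ j), mul_add, Finset.mul_sum]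
        have : ∀ l, u * (a l * g l) = (u * a l) * g l := fun l ↦ by ring
        simp only [this, hu', one_mul]
        ring
      rw [SetLike.mem_coe, h1, hg]
      refine Submodule.sub_mem _ (Submodule.mem_sup_right ?_) (Submodule.mem_sup_left ?_)
      · exact Ideal.mul_mem_left _ _ h
      · refine Submodule.sum_mem _ fun l hl ↦ Ideal.mul_mem_left _ _ (Ideal.subset_span ?_)
        exact ⟨l, by simpa using (Finset.mem_erase.1 hl).1, rfl⟩
    · exact Submodule.mem_sup_left (Ideal.subset_span ⟨j, by simpa using hj, rfl⟩)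
  have hIJ : I ≤ J := by
    refine Submodule.le_of_le_smul_of_le_jacobson_bot ?_ (maximalIdeal_le_jacobson _) hle
    rw [← hg]
    exact Submodule.fg_span (Set.finite_range g)
  have hJI : J ≤ I := by
    rw [← hg]
    exact Ideal.span_mono (Set.image_subset_range _ _)
  have hIJ' : I = J := le_antisymm hIJ hJI
  have h2 : Submodule.spanFinrank J ≤ (g '' {i}ᶜ).ncard :=
    Submodule.spanFinrank_span_le_ncard_of_finite (Set.toFinite _)
  have h3 : (g '' {i}ᶜ).ncard ≤ ({i}ᶜ : Set (Fin k)).ncard := Set.ncard_image_le (Set.toFinite _)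
  have h4 : ({i}ᶜ : Set (Fin k)).ncard = k - 1 := by
    rw [Set.ncard_compl, Set.ncard_singleton, Nat.card_fin]
  have hk0 : 0 < k := i.pos
  rw [hIJ'] at hk
  omega

lemma indep3 (h3 : 3 ≤ Submodule.spanFinrank (maximalIdeal R)) {x y z : R}
    (hg : Ideal.span {x, y, z} = maximalIdeal R) {a b c : R}
    (h : a * x + b * y + c * z ∈ maximalIdeal R ^ 2) :
    a ∈ maximalIdeal R ∧ b ∈ maximalIdeal R ∧ c ∈ maximalIdeal R := by
  have hr : Set.range ![x, y, z] = {x, y, z} := by
    rw [Matrix.range_cons, Matrix.range_cons, Matrix.range_cons, Matrix.range_empty, Set.union_empty]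
    rfl
  have := mem_of_sum_mem (maximalIdeal R) ![x, y, z] (by rw [hr, hg]) h3 ![a, b, c]
    (by rw [← pow_two]; simpa [Fin.sum_univ_succ, add_assoc] using h)
  exact ⟨this 0, this 1, this 2⟩

lemma span_sq {x y z : R} (hg : Ideal.span {x, y, z} = maximalIdeal R) {l : R}
    (hl : l ∈ maximalIdeal R) (hz : z ^ 2 = x * l) :
    Ideal.span (Set.range ![x ^ 2, x * y, y ^ 2, x * z, y * z]) = maximalIdeal R ^ 2 := by
  have hr : Set.range ![x ^ 2, x * y, y ^ 2, x * z, y * z] =
      {x ^ 2, x * y, y ^ 2, x * z, y * z} := by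
    rw [Matrix.range_cons, Matrix.range_cons, Matrix.range_cons, Matrix.range_cons,
      Matrix.range_cons, Matrix.range_empty, Set.union_empty]
    rfl
  rw [hr]
  have hx : x ∈ maximalIdeal R := by rw [← hg]; exact Ideal.subset_span (by simp)
  have hy : y ∈ maximalIdeal R := by rw [← hg]; exact Ideal.subset_span (by simp)
  have hz' : z ∈ maximalIdeal R := by rw [← hg]; exact Ideal.subset_span (by simp)
  apply le_antisymm
  · rw [Ideal.span_le]
    intro w hw
    simp only [Set.mem_insert_iff, Set.mem_singleton_iff] at hw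
    rcases hw with rfl | rfl | rfl | rfl | rfl
    · exact Ideal.pow_mem_pow hx 2
    · rw [pow_two]; exact Ideal.mul_mem_mul hx hy
    · exact Ideal.pow_mem_pow hy 2
    · rw [pow_two]; exact Ideal.mul_mem_mul hx hz'
    · rw [pow_two]; exact Ideal.mul_mem_mul hy hz'
  · rw [pow_two]
    nth_rw 1 [← hg]
    nth_rw 1 [← hg]
    rw [Ideal.span_mul_span', Ideal.span_le]
    have hzl : z ^ 2 ∈ Ideal.span {x ^ 2, x * y, y ^ 2, x * z, y * z} := by
      rw [← hg] at hl
      rw [hz]
      obtain ⟨a, b, c, habc⟩ : ∃ a b c, l = a * x + b * y + c * z := by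
        rw [Ideal.mem_span_insert] at hl
        obtain ⟨a, w, hw, rfl⟩ := hl
        rw [Ideal.mem_span_pair] at hw
        obtain ⟨b, c, rfl⟩ := hw
        exact ⟨a, b, c, by ring⟩
      have : x * l = a * x ^ 2 + b * (x * y) + c * (x * z) := by rw [habc]; ring
      rw [this]
      refine Ideal.add_mem _ (Ideal.add_mem _ ?_ ?_) ?_ <;>
      exact Ideal.mul_mem_left _ _ (Ideal.subset_span (by simp))
    rintro _ ⟨u, hu, v, hv, rfl⟩
    simp only [Set.mem_insert_iff, Set.mem_singleton_iff] at hu hv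
    rcases hu with rfl | rfl | rfl <;> rcases hv with rfl | rfl | rfl
    · exact Ideal.subset_span (by simp [pow_two])
    · exact Ideal.subset_span (by simp)
    · exact Ideal.subset_span (by simp)
    · exact Ideal.subset_span (by simp [mul_comm])
    · exact Ideal.subset_span (by simp [pow_two])
    · exact Ideal.subset_span (by simp)
    · exact Ideal.subset_span (by simp [mul_comm])
    · exact Ideal.subset_span (by simp [mul_comm])
    · simpa [pow_two] using hzl

lemma indep5 (h5 : 5 ≤ Submodule.spanFinrank (maximalIdeal R ^ 2)) {x y z : R}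
    (hg : Ideal.span {x, y, z} = maximalIdeal R) {l : R}
    (hl : l ∈ maximalIdeal R) (hz : z ^ 2 = x * l) {a b c d e : R}
    (h : a * x ^ 2 + b * (x * y) + c * y ^ 2 + d * (x * z) + e * (y * z) ∈ maximalIdeal R ^ 3) :
    a ∈ maximalIdeal R ∧ b ∈ maximalIdeal R ∧ c ∈ maximalIdeal R ∧ d ∈ maximalIdeal R ∧
      e ∈ maximalIdeal R := by
  have := mem_of_sum_mem (maximalIdeal R ^ 2) _ (span_sq hg hl hz) h5 ![a, b, c, d, e]
    (by rw [← pow_succ']; simpa [Fin.sum_univ_succ, add_assoc] using h)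
  exact ⟨this 0, this 1, this 2, this 3, this 4⟩

lemma exists_coeff {x y z : R} (hg : Ideal.span {x, y, z} = maximalIdeal R) {l : R}
    (hl : l ∈ maximalIdeal R) : ∃ a b c, l = a * x + b * y + c * z := by
  rw [← hg, Ideal.mem_span_insert] at hl
  obtain ⟨a, w, hw, rfl⟩ := hl
  rw [Ideal.mem_span_pair] at hw
  obtain ⟨b, c, rfl⟩ := hw
  exact ⟨a, b, c, by ring⟩

/-- multiplication by `x` is injective from `m / m ^ 2` to `m ^ 2 / m ^ 3`. -/
lemma mem_sq_of_mul_mem (h5 : 5 ≤ Submodule.spanFinrank (maximalIdeal R ^ 2)) {x y z : R}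
    (hg : Ideal.span {x, y, z} = maximalIdeal R) {l : R}
    (hl : l ∈ maximalIdeal R) (hz : z ^ 2 = x * l) {s : R} (hs : s ∈ maximalIdeal R)
    (h : x * s ∈ maximalIdeal R ^ 3) : s ∈ maximalIdeal R ^ 2 := by
  have hx : x ∈ maximalIdeal R := by rw [← hg]; exact Ideal.subset_span (by simp)
  have hy : y ∈ maximalIdeal R := by rw [← hg]; exact Ideal.subset_span (by simp)
  have hz' : z ∈ maximalIdeal R := by rw [← hg]; exact Ideal.subset_span (by simp)
  obtain ⟨a, b, c, rfl⟩ := exists_coeff hg hs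
  have h1 : a * x ^ 2 + b * (x * y) + 0 * y ^ 2 + c * (x * z) + 0 * (y * z) ∈
      maximalIdeal R ^ 3 := by
    convert h using 1; ring
  obtain ⟨ha, hb, -, hc, -⟩ := indep5 h5 hg hl hz h1
  rw [pow_two]
  exact Ideal.add_mem _ (Ideal.add_mem _ (Ideal.mul_mem_mul ha hx) (Ideal.mul_mem_mul hb hy))
    (Ideal.mul_mem_mul hc hz')

lemma exists_normal (hF : ∃ w ∈ maximalIdeal R, w ∉ maximalIdeal R ^ 2 ∧ w ^ 2 ∈ maximalIdeal R ^ 3) (h5 : 5 ≤ Submodule.spanFinrank (maximalIdeal R ^ 2))
    {x y z : R} (hg : Ideal.span {x, y, z} = maximalIdeal R) {l : R}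
    (hl : l ∈ maximalIdeal R) (hz : z ^ 2 = x * l) :
    ∃ α : R, (z + α * x) ^ 2 ∈ maximalIdeal R ^ 3 := by
  have hx : x ∈ maximalIdeal R := by rw [← hg]; exact Ideal.subset_span (by simp)
  have hy : y ∈ maximalIdeal R := by rw [← hg]; exact Ideal.subset_span (by simp)
  have hz' : z ∈ maximalIdeal R := by rw [← hg]; exact Ideal.subset_span (by simp)
  obtain ⟨w, hw, hw2, hw3⟩ := hF
  obtain ⟨a, b, c, rfl⟩ := exists_coeff hg hw
  obtain ⟨l1, l2, l3, rfl⟩ := exists_coeff hg hl
  have h1 : (a ^ 2 + c ^ 2 * l1) * x ^ 2 + (2 * a * b + c ^ 2 * l2) * (x * y) + b ^ 2 * y ^ 2 +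
      (2 * a * c + c ^ 2 * l3) * (x * z) + (2 * b * c) * (y * z) ∈ maximalIdeal R ^ 3 := by
    convert hw3 using 1
    linear_combination -(c ^ 2) * hz
  obtain ⟨ha, -, hb, -, -⟩ := indep5 h5 hg hl hz h1
  have hb' : b ∈ maximalIdeal R := Ideal.IsPrime.mem_of_pow_mem inferInstance 2 hb
  have hc : IsUnit c := by
    by_contra hc
    have hc' : c ∈ maximalIdeal R := (mem_maximalIdeal _).2 hc
    have ha' : a ^ 2 ∈ maximalIdeal R := by
      have := Ideal.sub_mem _ ha (Ideal.mul_mem_right l1 _ (Ideal.mul_mem_right c _ hc'))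
      convert this using 1; ring
    have ha'' : a ∈ maximalIdeal R := Ideal.IsPrime.mem_of_pow_mem inferInstance 2 ha'
    apply hw2
    rw [pow_two]
    exact Ideal.add_mem _ (Ideal.add_mem _ (Ideal.mul_mem_mul ha'' hx) (Ideal.mul_mem_mul hb' hy))
      (Ideal.mul_mem_mul hc' hz')
  obtain ⟨v, hv⟩ := hc.exists_left_inv
  refine ⟨v * a, ?_⟩
  have h2 : (z + v * a * x) ^ 2 = v ^ 2 * ((a * x + b * y + c * z) ^ 2) -
      2 * v ^ 2 * (b * (y * (a * x + b * y + c * z))) + v ^ 2 * (b ^ 2 * y ^ 2) := by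
    have : z + v * a * x = v * (a * x + b * y + c * z) - v * (b * y) := by
      linear_combination (-z) * hv
    rw [this]; ring
  rw [h2]
  have h3 : b * (y * (a * x + b * y + c * z)) ∈ maximalIdeal R ^ 3 := by
    rw [show (3 : ℕ) = 1 + (1 + 1) from rfl, pow_add, pow_add, pow_one]
    exact Ideal.mul_mem_mul hb' (Ideal.mul_mem_mul hy hw)
  have h4 : b ^ 2 * y ^ 2 ∈ maximalIdeal R ^ 3 := by
    refine Ideal.pow_le_pow_right (show 3 ≤ 4 by norm_num) ?_
    rw [show (4 : ℕ) = 2 + 2 from rfl, pow_add]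
    exact Ideal.mul_mem_mul (Ideal.pow_mem_pow hb' 2) (Ideal.pow_mem_pow hy 2)
  exact Ideal.add_mem _ (Ideal.sub_mem _ (Ideal.mul_mem_left _ _ hw3) (Ideal.mul_mem_left _ _ h3))
    (Ideal.mul_mem_left _ _ h4)

end tools


section step

variable {A B C : Type*} [CommRing A] [CommRing B] [CommRing C] [IsLocalRing A] [IsLocalRing B]
  [IsLocalRing C] [Algebra A B] [Algebra B C]

lemma QT.dvd_pow {t : A} (h : QT A B t) (k : ℕ) {a : A} (ha : a ∈ maximalIdeal A ^ k) :
    algebraMap A B t ^ k ∣ algebraMap A B a := by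
  have h1 : (maximalIdeal A).map (algebraMap A B) ≤ Ideal.span {algebraMap A B t} := by
    rw [Ideal.map_le_iff_le_comap]
    intro s hs
    exact Ideal.mem_span_singleton.2 (h.dvd s hs)
  have h2 : algebraMap A B a ∈ (Ideal.span {algebraMap A B t}) ^ k := by
    refine Ideal.pow_right_mono h1 k ?_
    rw [← Ideal.map_pow]
    exact Ideal.mem_map_of_mem _ ha
  rw [Ideal.span_singleton_pow] at h2
  exact Ideal.mem_span_singleton.1 h2

lemma QT.cancel {t : A} (h : QT A B t) {b c : B} (hbc : algebraMap A B t * b = algebraMap A B t * c) :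
    b = c := by
  have := h.reg (b - c) (by rw [mul_sub, hbc, sub_self])
  exact sub_eq_zero.1 this

lemma QT.isUnit_of_map {t : A} (h : QT A B t) {a : A} (ha : IsUnit (algebraMap A B a)) : IsUnit a := by
  by_contra hc
  exact (mem_maximalIdeal _).1 (h.loc a ((mem_maximalIdeal _).2 hc)) ha

lemma QT.mem_of_map {t : A} (_h : QT A B t) {a : A} (ha : algebraMap A B a ∈ maximalIdeal B) :
    a ∈ maximalIdeal A := by
  rw [mem_maximalIdeal, mem_nonunits_iff]
  intro hc
  exact (mem_maximalIdeal _).1 ha (hc.map _)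

lemma QT.t_mem {t : A} (h : QT A B t) : algebraMap A B t ∈ maximalIdeal B := h.loc t h.mem

lemma not_mem_sq_of_span {R : Type*} [CommRing R] [IsLocalRing R]
    (h3 : 3 ≤ Submodule.spanFinrank (maximalIdeal R)) {x y z : R}
    (hg : Ideal.span {x, y, z} = maximalIdeal R) :
    x ∉ maximalIdeal R ^ 2 ∧ y ∉ maximalIdeal R ^ 2 ∧ z ∉ maximalIdeal R ^ 2 := by
  have h1 : (1 : R) ∉ maximalIdeal R := (Ideal.ne_top_iff_one _).1 (maximalIdeal.isMaximal R).ne_top
  refine ⟨fun h ↦ h1 ?_, fun h ↦ h1 ?_, fun h ↦ h1 ?_⟩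
  · exact (indep3 h3 hg (a := 1) (b := 0) (c := 0) (by simpa using h)).1
  · exact (indep3 h3 hg (a := 0) (b := 1) (c := 0) (by simpa using h)).2.1
  · exact (indep3 h3 hg (a := 0) (b := 0) (c := 1) (by simpa using h)).2.2

lemma fat_iff {R : Type*} [CommRing R] [IsLocalRing R] (hF : Fat R 1) :
    ∃ x y z : R, Ideal.span {x, y, z} = maximalIdeal R ∧ z ^ 2 ∈ maximalIdeal R ^ 3 := by
  obtain ⟨x, y, w, h1, h2⟩ := hF
  refine ⟨x, y, w 0, ?_, by rw [pow_two]; exact h2 0 0⟩
  rw [← h1]
  congr 1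
  rw [Set.Sum.elim_range, Matrix.range_cons, Matrix.range_cons, Matrix.range_empty,
    Set.union_empty, Set.range_unique]
  ext v
  simp only [Set.mem_insert_iff, Set.mem_singleton_iff, Set.mem_union, Fin.default_eq_zero]
  tauto

lemma span_swap {R : Type*} [CommRing R] (x y z : R) :
    Ideal.span {x, y, z} = Ideal.span {y, x, z} := by
  rw [Set.insert_comm]

lemma mem3 {R : Type*} [CommRing R] [IsLocalRing R] {x y z : R}
    (hg : Ideal.span {x, y, z} = maximalIdeal R) :
    x ∈ maximalIdeal R ∧ y ∈ maximalIdeal R ∧ z ∈ maximalIdeal R := by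
  rw [← hg]
  exact ⟨Ideal.subset_span (by simp), Ideal.subset_span (by simp), Ideal.subset_span (by simp)⟩

/-- fat coordinates starting with the exceptional parameter -/
theorem exists_coords {t : A} (h : QT A B t) (fA : Fat A 1) :
    ∃ y z : A, Ideal.span {t, y, z} = maximalIdeal A ∧ z ^ 2 ∈ maximalIdeal A ^ 3 := by
  obtain ⟨x, y, z, hg, hz⟩ := fat_iff fA
  obtain ⟨hx, hy, hz'⟩ := mem3 hg
  obtain ⟨a, b, c, hT⟩ := exists_coeff hg h.mem
  have key : ∀ {x y a b c : A}, Ideal.span {x, y, z} = maximalIdeal A →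
      t = a * x + b * y + c * z → IsUnit a → Ideal.span {t, y, z} = maximalIdeal A := by
    intro x y a b c hg hT ha
    obtain ⟨hx, hy, hz'⟩ := mem3 hg
    obtain ⟨v, hv⟩ := ha.exists_left_inv
    apply le_antisymm
    · rw [Ideal.span_le]
      intro w hw
      simp only [Set.mem_insert_iff, Set.mem_singleton_iff] at hw
      rcases hw with rfl | rfl | rfl
      · exact h.mem
      · exact hy
      · exact hz'
    · rw [← hg, Ideal.span_le]
      intro w hw
      simp only [Set.mem_insert_iff, Set.mem_singleton_iff] at hw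
      rcases hw with rfl | rfl | rfl
      · have : w = v * t + (-(v * b)) * y + (-(v * c)) * z := by
          rw [hT]
          linear_combination (-w) * hv
        rw [this]
        refine Ideal.add_mem _ (Ideal.add_mem _ ?_ ?_) ?_ <;>
        exact Ideal.mul_mem_left _ _ (Ideal.subset_span (by simp))
      · exact Ideal.subset_span (by simp)
      · exact Ideal.subset_span (by simp)
  by_cases ha : IsUnit a
  · exact ⟨y, z, key hg hT ha, hz⟩
  by_cases hb : IsUnit b
  · exact ⟨x, z, key (a := b) (b := a) (c := c) (by rw [← hg]; exact span_swap _ _ _)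
      (by rw [hT]; ring) hb, hz⟩
  exfalso
  have ha' : a ∈ maximalIdeal A := (mem_maximalIdeal _).2 ha
  have hb' : b ∈ maximalIdeal A := (mem_maximalIdeal _).2 hb
  have h1 : t ^ 2 ∈ maximalIdeal A ^ 3 := by
    have h2 : t ^ 2 = (a * x + b * y) * (a * x + b * y + 2 * c * z) + c ^ 2 * z ^ 2 := by
      rw [hT]; ring
    rw [h2]
    refine Ideal.add_mem _ ?_ (Ideal.mul_mem_left _ _ hz)
    rw [show (3 : ℕ) = 2 + 1 from rfl, pow_succ]
    refine Ideal.mul_mem_mul ?_ ?_
    · rw [pow_two]
      exact Ideal.add_mem _ (Ideal.mul_mem_mul ha' hx) (Ideal.mul_mem_mul hb' hy)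
    · exact Ideal.add_mem _ (Ideal.add_mem _ (Ideal.mul_mem_left _ _ hx)
        (Ideal.mul_mem_left _ _ hy)) (Ideal.mul_mem_left _ _ hz')
  obtain ⟨d, hd⟩ := QT.dvd_pow h 3 h1
  have h2 : algebraMap A B t * (algebraMap A B t * 1) =
      algebraMap A B t * (algebraMap A B t * (algebraMap A B t * d)) := by
    rw [map_pow] at hd
    linear_combination hd
  have h3 := QT.cancel h (QT.cancel h h2)
  have h4 : (1 : B) ∈ maximalIdeal B := by
    rw [h3]; exact Ideal.mul_mem_right _ _ (QT.t_mem h)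
  exact (Ideal.ne_top_iff_one _).1 (maximalIdeal.isMaximal B).ne_top h4

theorem exists_cubic {R : Type*} [CommRing R] [IsLocalRing R] {x y z : R}
    (hg : Ideal.span {x, y, z} = maximalIdeal R) {w : R} (hw : w ∈ maximalIdeal R ^ 3) :
    ∃ c₀ c₁ c₂ c₃ : R, ∃ Q ∈ maximalIdeal R ^ 2,
      w = c₀ * x ^ 3 + c₁ * x ^ 2 * y + c₂ * x * y ^ 2 + c₃ * y ^ 3 + z * Q := by
  obtain ⟨hx, hy, hz'⟩ := mem3 hg
  have h2 : ∀ w ∈ maximalIdeal R ^ 2, ∃ a b c : R, ∃ q ∈ maximalIdeal R,
      w = a * x ^ 2 + b * x * y + c * y ^ 2 + z * q := by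
    intro w hw
    rw [pow_two] at hw
    induction hw using Submodule.mul_induction_on' with
    | mem_mul_mem m hm n hn =>
      obtain ⟨a, b, c, rfl⟩ := exists_coeff hg hm
      obtain ⟨a', b', c', rfl⟩ := exists_coeff hg hn
      refine ⟨a * a', a * b' + a' * b, b * b', c' * (a * x + b * y + c * z) +
        c * (a' * x + b' * y), ?_, by ring⟩
      exact Ideal.add_mem _ (Ideal.mul_mem_left _ _ hm) (Ideal.mul_mem_left _ _
        (Ideal.add_mem _ (Ideal.mul_mem_left _ _ hx) (Ideal.mul_mem_left _ _ hy)))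
    | add m _ n _ h1 h2 =>
      obtain ⟨a, b, c, q, hq, rfl⟩ := h1
      obtain ⟨a', b', c', q', hq', rfl⟩ := h2
      exact ⟨a + a', b + b', c + c', q + q', Ideal.add_mem _ hq hq', by ring⟩
  rw [pow_succ] at hw
  induction hw using Submodule.mul_induction_on' with
  | mem_mul_mem m hm n hn =>
    obtain ⟨a, b, c, q, hq, rfl⟩ := h2 m hm
    obtain ⟨a', b', c', rfl⟩ := exists_coeff hg hn
    refine ⟨a * a', a * b' + b * a', b * b' + c * a', c * b', c' * (a * x ^ 2 + b * x * y + c * y ^ 2 +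
      z * q) + q * (a' * x + b' * y), ?_, by ring⟩
    refine Ideal.add_mem _ (Ideal.mul_mem_left _ _ hm) ?_
    rw [pow_two]
    exact Ideal.mul_mem_mul hq (Ideal.add_mem _ (Ideal.mul_mem_left _ _ hx)
      (Ideal.mul_mem_left _ _ hy))
  | add m _ n _ h1 h2 =>
    obtain ⟨a, b, c, d, q, hq, rfl⟩ := h1
    obtain ⟨a', b', c', d', q', hq', rfl⟩ := h2
    exact ⟨a + a', b + b', c + c', d + d', q + q', Ideal.add_mem _ hq hq', by ring⟩

open Polynomial in
lemma QT.exists_poly {t : A} (h : QT A B t) {y z : A} (hg : Ideal.span {t, y, z} = maximalIdeal A)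
    {η ζ : B} (hη : algebraMap A B y = algebraMap A B t * η)
    (hζ : algebraMap A B z = algebraMap A B t * ζ) {u : B}
    (hu : u ∈ Algebra.adjoin A {y : B | ∃ a ∈ maximalIdeal A, algebraMap A B t * y = algebraMap A B a}) :
    ∃ (g : A[X]) (c : B), u = aeval η g + ζ * c := by
  induction hu using Algebra.adjoin_induction with
  | mem w hw =>
    obtain ⟨s, hs, hw⟩ := hw
    obtain ⟨a, b, c, rfl⟩ := exists_coeff hg hs
    refine ⟨C a + C b * X, algebraMap A B c, QT.cancel h ?_⟩
    rw [hw, map_add, map_add, map_mul, map_mul, map_mul, hη, hζ]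
    simp only [map_add, map_mul, aeval_C, aeval_X]
    ring
  | algebraMap a => exact ⟨C a, 0, by simp⟩
  | add u v _ _ h1 h2 =>
    obtain ⟨g, c, rfl⟩ := h1
    obtain ⟨g', c', rfl⟩ := h2
    exact ⟨g + g', c + c', by rw [map_add]; ring⟩
  | mul u v _ _ h1 h2 =>
    obtain ⟨g, c, rfl⟩ := h1
    obtain ⟨g', c', rfl⟩ := h2
    exact ⟨g * g', aeval η g * c' + aeval η g' * c + ζ * c * c', by rw [map_mul]; ring⟩

open Polynomial in
lemma QT.dvd_aeval {t : A} (h : QT A B t) (η : B) {g : A[X]} (hg : g.map (residue A) = 0) :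
    algebraMap A B t ∣ aeval η g := by
  rw [aeval_eq_sum_range]
  refine Finset.dvd_sum fun i _ ↦ ?_
  have : g.coeff i ∈ maximalIdeal A := by
    rw [← residue_eq_zero_iff, ← coeff_map, hg, coeff_zero]
  rw [Algebra.smul_def]
  exact (h.dvd _ this).mul_right _

open Polynomial in
/-- data of the centre of a quadratic transform of a double point with a double line -/
theorem exists_centre {t : A} (h : QT A B t) {y z : A} (hg : Ideal.span {t, y, z} = maximalIdeal A)
    {η ζ : B} (hη : algebraMap A B y = algebraMap A B t * η)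
    (hζ : algebraMap A B z = algebraMap A B t * ζ) (hζm : ζ ∈ maximalIdeal B) :
    ∃ p : A[X], (p.map (residue A)).Monic ∧ 1 ≤ (p.map (residue A)).natDegree ∧
      (∀ g : A[X], aeval η g ∈ maximalIdeal B ↔ p.map (residue A) ∣ g.map (residue A)) ∧
      Ideal.span {algebraMap A B t, aeval η p, ζ} = maximalIdeal B ∧
      ((p.map (residue A)).natDegree = 1 → Rational A B) := by
  have hloc : IsLocalHom (algebraMap A B) := ⟨fun a ha ↦ QT.isUnit_of_map h ha⟩
  let κ := ResidueField A
  let κ' := ResidueField B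
  let β : κ' := residue B η
  have hres : ∀ g : A[X], residue B (aeval η g) = aeval β (g.map (residue A)) := by
    intro g
    rw [aeval_def, aeval_def, eval₂_map, hom_eval₂]
    rfl
  have hmem : ∀ g : A[X], aeval η g ∈ maximalIdeal B ↔ aeval β (g.map (residue A)) = 0 := by
    intro g
    rw [← hres, residue_eq_zero_iff]
  have hint : IsIntegral κ β := by
    obtain ⟨p, hp, hp'⟩ := h.int η
    exact ⟨p.map (residue A), hp.map _, (hmem p).1 hp'⟩
  obtain ⟨p, hp⟩ := map_surjective (residue A) residue_surjective (minpoly κ β)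
  have hmon : (p.map (residue A)).Monic := by rw [hp]; exact minpoly.monic hint
  have hiff : ∀ g : A[X], aeval η g ∈ maximalIdeal B ↔ p.map (residue A) ∣ g.map (residue A) := by
    intro g
    rw [hmem, hp]
    exact (minpoly.dvd_iff).symm
  have hpm : aeval η p ∈ maximalIdeal B := (hiff p).2 dvd_rfl
  refine ⟨p, hmon, ?_, hiff, ?_, ?_⟩
  · rw [hp]; exact minpoly.natDegree_pos hint
  · apply le_antisymm
    · rw [Ideal.span_le]
      intro w hw
      simp only [Set.mem_insert_iff, Set.mem_singleton_iff] at hw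
      rcases hw with rfl | rfl | rfl
      · exact QT.t_mem h
      · exact hpm
      · exact hζm
    · intro b hb
      obtain ⟨u, hu, v, hv, hvu, hbv⟩ := h.frac b
      obtain ⟨g, c, rfl⟩ := QT.exists_poly h hg hη hζ hu
      have hgm : aeval η g ∈ maximalIdeal B := by
        have : aeval η g = b * v - ζ * c := by rw [hbv]; ring
        rw [this]
        exact Ideal.sub_mem _ (Ideal.mul_mem_right _ _ hb) (Ideal.mul_mem_right _ _ hζm)
      obtain ⟨k, hk⟩ := (hiff g).1 hgm
      obtain ⟨k, rfl⟩ := map_surjective (residue A) residue_surjective k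
      obtain ⟨e, he⟩ := QT.dvd_aeval h η (g := g - p * k) (by
        rw [Polynomial.map_sub, Polynomial.map_mul, hk, sub_self])
      obtain ⟨w, hw⟩ := hvu.exists_right_inv
      have : b = w * (e * algebraMap A B t + aeval η k * aeval η p + c * ζ) := by
        rw [map_sub, map_mul] at he
        have h1 : aeval η g = algebraMap A B t * e + aeval η p * aeval η k := by
          rw [← he]; ring
        have h2 : b = (b * v) * w := by rw [mul_assoc, hw, mul_one]
        rw [h2, hbv, h1]; ring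
      rw [this]
      refine Ideal.mul_mem_left _ _ (Ideal.add_mem _ (Ideal.add_mem _ ?_ ?_) ?_) <;>
      exact Ideal.mul_mem_left _ _ (Ideal.subset_span (by simp))
  · intro hdeg
    obtain ⟨a, ha⟩ : ∃ a : A, η - algebraMap A B a ∈ maximalIdeal B := by
      rw [hp] at hdeg
      obtain ⟨c, hc⟩ := (minpoly.natDegree_eq_one_iff).1 hdeg
      obtain ⟨a, rfl⟩ := residue_surjective c
      refine ⟨a, ?_⟩
      rw [← residue_eq_zero_iff, map_sub, sub_eq_zero]
      exact hc.symm
    have hg' : ∀ g : A[X], aeval η g - algebraMap A B (g.eval a) ∈ maximalIdeal B := by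
      intro g
      have h1 : (aeval η g - aeval (algebraMap A B a) g : B) ∈ Ideal.span {η - algebraMap A B a} :=
        Ideal.mem_span_singleton.2 (by
          rw [aeval_def, aeval_def, ← eval_map, ← eval_map]; exact sub_dvd_eval_sub _ _ _)
      have h2 := (Ideal.span_singleton_le_iff_mem _).2 ha h1
      rwa [aeval_algebraMap_apply] at h2
    intro b
    obtain ⟨u, hu, v, hv, hvu, hbv⟩ := h.frac b
    obtain ⟨g, c, rfl⟩ := QT.exists_poly h hg hη hζ hu
    obtain ⟨g', c', rfl⟩ := QT.exists_poly h hg hη hζ hv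
    have hv1 : aeval η g' + ζ * c' - algebraMap A B (g'.eval a) ∈ maximalIdeal B := by
      have := Ideal.add_mem _ (hg' g') (Ideal.mul_mem_right c' _ hζm)
      convert this using 1; ring
    have hu1 : aeval η g + ζ * c - algebraMap A B (g.eval a) ∈ maximalIdeal B := by
      have := Ideal.add_mem _ (hg' g) (Ideal.mul_mem_right c _ hζm)
      convert this using 1; ring
    have hunit : IsUnit (g'.eval a) := by
      by_contra hc
      have h1 := h.loc _ ((mem_maximalIdeal _).2 hc)
      exact (mem_maximalIdeal _).1 (by simpa using Ideal.add_mem _ hv1 h1) hvu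
    obtain ⟨w, hw⟩ := hunit.exists_right_inv
    refine ⟨g.eval a * w, ?_⟩
    have hw' : algebraMap A B (g'.eval a) * algebraMap A B w = 1 := by
      rw [← map_mul, hw, map_one]
    have h3 : b - algebraMap A B (g.eval a * w) =
        algebraMap A B w * ((aeval η g + ζ * c - algebraMap A B (g.eval a)) -
          b * (aeval η g' + ζ * c' - algebraMap A B (g'.eval a))) := by
      rw [map_mul]
      linear_combination (-b) * hw' + (algebraMap A B w) * hbv
    rw [h3]
    exact Ideal.mul_mem_left _ _ (Ideal.sub_mem _ hu1 (Ideal.mul_mem_left _ _ hv1))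

lemma one_notMem (R : Type*) [CommRing R] [IsLocalRing R] : (1 : R) ∉ maximalIdeal R :=
  (Ideal.ne_top_iff_one _).1 (maximalIdeal.isMaximal R).ne_top

lemma isUnit_of_notMem {R : Type*} [CommRing R] [IsLocalRing R] {a : R} (h : a ∉ maximalIdeal R) :
    IsUnit a := by
  by_contra hc
  exact h ((mem_maximalIdeal _).2 hc)

lemma fat_iff' {R : Type*} [CommRing R] [IsLocalRing R]
    (h3 : 3 ≤ Submodule.spanFinrank (maximalIdeal R)) (hF : Fat R 1) :
    ∃ w ∈ maximalIdeal R, w ∉ maximalIdeal R ^ 2 ∧ w ^ 2 ∈ maximalIdeal R ^ 3 := by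
  obtain ⟨x, y, z, hg, hz⟩ := fat_iff hF
  exact ⟨z, (mem3 hg).2.2, (not_mem_sq_of_span h3 hg).2.2, hz⟩

lemma ratLike_three {R : Type*} [CommRing R] [IsLocalRing R] (h : RatLike R 2) :
    3 ≤ Submodule.spanFinrank (maximalIdeal R) := by
  have := h.hilb 1
  rw [pow_one] at this
  exact this.ge

lemma ratLike_five {R : Type*} [CommRing R] [IsLocalRing R] (h : RatLike R 2) :
    5 ≤ Submodule.spanFinrank (maximalIdeal R ^ 2) := (h.hilb 2).ge

/-- Normal form of the equation of a double point with a double line. -/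
lemma normal_form {R : Type*} [CommRing R] [IsLocalRing R] (hR : RatLike R 2) (fR : Fat R 1)
    {x Y ζ : R} (hg : Ideal.span {x, Y, ζ} = maximalIdeal R) {P c₁ c₀ q : R}
    (hP : P ∈ maximalIdeal R ^ 2) (heq : ζ ^ 2 = x * (P + c₁ * Y + x * c₀ + ζ * q)) :
    c₁ ∈ maximalIdeal R ∧ ∃ ζ' e q' : R, Ideal.span {x, Y, ζ'} = maximalIdeal R ∧
      e ∈ maximalIdeal R ∧ q' ∈ maximalIdeal R ∧ ζ' ^ 2 = x * (P + c₁ * Y + x * e + ζ' * q') := by
  have h3 := ratLike_three hR
  have h5 := ratLike_five hR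
  obtain ⟨hx, hY, hζ⟩ := mem3 hg
  have hPm : P ∈ maximalIdeal R := Ideal.pow_le_self two_ne_zero hP
  have hl : P + c₁ * Y + x * c₀ + ζ * q ∈ maximalIdeal R :=
    Ideal.add_mem _ (Ideal.add_mem _ (Ideal.add_mem _ hPm (Ideal.mul_mem_left _ _ hY))
      (Ideal.mul_mem_right _ _ hx)) (Ideal.mul_mem_right _ _ hζ)
  obtain ⟨α, hα⟩ := exists_normal (fat_iff' h3 fR) h5 hg hl heq
  have hs : P + c₁ * Y + x * c₀ + ζ * q + 2 * α * ζ + α ^ 2 * x ∈ maximalIdeal R :=
    Ideal.add_mem _ (Ideal.add_mem _ hl (Ideal.mul_mem_left _ _ hζ)) (Ideal.mul_mem_left _ _ hx)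
  have hs3 : x * (P + c₁ * Y + x * c₀ + ζ * q + 2 * α * ζ + α ^ 2 * x) ∈ maximalIdeal R ^ 3 := by
    convert hα using 1
    linear_combination -heq
  have hs2 := mem_sq_of_mul_mem h5 hg hl heq hs hs3
  have hg' : Ideal.span {x, Y, ζ + α * x} = maximalIdeal R := by
    apply le_antisymm
    · rw [Ideal.span_le]
      intro w hw
      simp only [Set.mem_insert_iff, Set.mem_singleton_iff] at hw
      rcases hw with rfl | rfl | rfl
      · exact hx
      · exact hY
      · exact Ideal.add_mem _ hζ (Ideal.mul_mem_left _ _ hx)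
    · rw [← hg, Ideal.span_le]
      intro w hw
      simp only [Set.mem_insert_iff, Set.mem_singleton_iff] at hw
      rcases hw with rfl | rfl | rfl
      · exact Ideal.subset_span (by simp)
      · exact Ideal.subset_span (by simp)
      · have : w = (w + α * x) + (-α) * x := by ring
        rw [this]
        exact Ideal.add_mem _ (Ideal.subset_span (by simp))
          (Ideal.mul_mem_left _ _ (Ideal.subset_span (by simp)))
  have hs4 : (c₀ - α ^ 2 - α * q) * x + c₁ * Y + (q + 2 * α) * (ζ + α * x) ∈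
      maximalIdeal R ^ 2 := by
    have := Ideal.sub_mem _ hs2 hP
    convert this using 1
    ring
  obtain ⟨k1, k2, k3⟩ := indep3 h3 hg' hs4
  refine ⟨k2, ζ + α * x, c₀ - α ^ 2 - α * q, q + 2 * α, hg', k1, k3, ?_⟩
  linear_combination heq

/-- coordinates at a rational centre -/
lemma span_of_centre {t : A} (h : QT A B t) {y z : A} (hg : Ideal.span {t, y, z} = maximalIdeal A)
    {η ζ : B} (hη : algebraMap A B y = algebraMap A B t * η)
    (hζ : algebraMap A B z = algebraMap A B t * ζ) (hηm : η ∈ maximalIdeal B)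
    (hζm : ζ ∈ maximalIdeal B) : Ideal.span {algebraMap A B t, η, ζ} = maximalIdeal B := by
  obtain ⟨p, -, -, hiff, hsp, -⟩ := exists_centre h hg hη hζ hζm
  apply le_antisymm
  · rw [Ideal.span_le]
    intro w hw
    simp only [Set.mem_insert_iff, Set.mem_singleton_iff] at hw
    rcases hw with rfl | rfl | rfl
    · exact QT.t_mem h
    · exact hηm
    · exact hζm
  · have hp : Polynomial.aeval η p ∈ maximalIdeal B := (mem3 hsp).2.1
    have hp2 : Polynomial.aeval η p = algebraMap A B (p.coeff 0) +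
        η * Polynomial.aeval η p.divX := by
      conv_lhs => rw [← Polynomial.divX_mul_X_add p]
      rw [map_add, map_mul, Polynomial.aeval_X, Polynomial.aeval_C]
      ring
    have h0 : algebraMap A B (p.coeff 0) ∈ maximalIdeal B := by
      have := Ideal.sub_mem _ hp (Ideal.mul_mem_right (Polynomial.aeval η p.divX) _ hηm)
      rwa [hp2, add_sub_cancel_right] at this
    obtain ⟨d, hd⟩ := h.dvd _ (QT.mem_of_map h h0)
    rw [← hsp, Ideal.span_le]
    intro w hw
    simp only [Set.mem_insert_iff, Set.mem_singleton_iff] at hw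
    rcases hw with rfl | rfl | rfl
    · exact Ideal.subset_span (by simp)
    · rw [hp2, hd]
      exact Ideal.add_mem _ (Ideal.mul_mem_right _ _ (Ideal.subset_span (by simp)))
        (Ideal.mul_mem_right _ _ (Ideal.subset_span (by simp)))
    · exact Ideal.subset_span (by simp)

/-- The state in which the exceptional parameter `x` is kept forever. -/
structure St (R : Type*) [CommRing R] [IsLocalRing R] (x y z : R) : Prop where
  gen : Ideal.span {x, y, z} = maximalIdeal R
  eqn : ∃ u d q : R, IsUnit u ∧ d ∈ maximalIdeal R ∧ q ∈ maximalIdeal R ∧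
    z ^ 2 = x * (u * y ^ 2 + x * d + z * q)

/-- The state before a satellite step. -/
structure St3 (R : Type*) [CommRing R] [IsLocalRing R] (x y z : R) : Prop where
  gen : Ideal.span {x, y, z} = maximalIdeal R
  eqn : ∃ u d q : R, IsUnit u ∧ d ∈ maximalIdeal R ∧ q ∈ maximalIdeal R ∧
    z ^ 2 = x * (u * y ^ 3 + x * d + z * q)

open Polynomial in
theorem rational_of_fat [IsNoetherianRing A] {t : A} (hA : RatLike A 2) (hB : RatLike B 2)
    (fA : Fat A 1) (fB : Fat B 1) (h : QT A B t) : Rational A B := by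
  obtain ⟨y, z, hg, hz3⟩ := exists_coords h fA
  obtain ⟨ht, hy, hz⟩ := mem3 hg
  obtain ⟨η, hη⟩ := h.dvd y hy
  obtain ⟨ζ, hζ⟩ := h.dvd z hz
  have h3 := ratLike_three hB
  have h5 := ratLike_five hB
  obtain ⟨c₀, c₁, c₂, c₃, Q, hQ, hcub⟩ := exists_cubic hg hz3
  obtain ⟨Q', hQ'⟩ := QT.dvd_pow h 2 hQ
  let c : A[X] := C c₀ + C c₁ * X + C c₂ * X ^ 2 + C c₃ * X ^ 3
  have hceval : aeval η c = algebraMap A B c₀ + algebraMap A B c₁ * η + algebraMap A B c₂ * η ^ 2 +
      algebraMap A B c₃ * η ^ 3 := by simp [c]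
  have heq : ζ ^ 2 = algebraMap A B t * (aeval η c + ζ * Q') := by
    apply QT.cancel h
    apply QT.cancel h
    have h1 := congrArg (algebraMap A B) hcub
    simp only [map_add, map_mul, map_pow, hη, hζ, hQ'] at h1
    rw [hceval]
    linear_combination h1
  have hζm : ζ ∈ maximalIdeal B := by
    refine Ideal.IsPrime.mem_of_pow_mem (inferInstance : (maximalIdeal B).IsPrime) 2 ?_
    rw [heq]
    exact Ideal.mul_mem_right _ _ (QT.t_mem h)
  obtain ⟨p, hpmon, hpdeg, hiff, hsp, hrat⟩ := exists_centre h hg hη hζ hζm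
  have hl : aeval η c + ζ * Q' ∈ maximalIdeal B := by
    by_contra hc
    obtain ⟨v, hv⟩ := (isUnit_of_notMem hc).exists_right_inv
    apply (not_mem_sq_of_span h3 hsp).1
    have : algebraMap A B t = v * ζ ^ 2 := by
      rw [heq]
      linear_combination (-(algebraMap A B t)) * hv
    rw [this]
    exact Ideal.mul_mem_left _ _ (Ideal.pow_mem_pow hζm 2)
  have hcm : aeval η c ∈ maximalIdeal B := by
    have := Ideal.sub_mem _ hl (Ideal.mul_mem_right Q' _ hζm)
    rwa [add_sub_cancel_right] at this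
  obtain ⟨k, hk⟩ := (hiff c).1 hcm
  obtain ⟨k, rfl⟩ := map_surjective (residue A) residue_surjective k
  obtain ⟨e, he⟩ := QT.dvd_aeval h η (g := c - p * k) (by
    rw [Polynomial.map_sub, Polynomial.map_mul, hk, sub_self])
  rw [map_sub, map_mul] at he
  have heq' : ζ ^ 2 = algebraMap A B t * (0 + aeval η k * aeval η p + algebraMap A B t * e +
      ζ * Q') := by
    rw [heq]
    linear_combination (algebraMap A B t) * he
  obtain ⟨hkm, -⟩ := normal_form hB fB hsp (Ideal.zero_mem _) heq'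
  have hdvd : (p.map (residue A)) ^ 2 ∣ c.map (residue A) := by
    rw [hk, pow_two]
    exact mul_dvd_mul_left _ ((hiff k).1 hkm)
  have hc0 : c.map (residue A) ≠ 0 := by
    intro hc0
    apply fat_cubic_ne hA t y z hg hz3 c₀ c₁ c₂ c₃ Q 0 hQ (Ideal.zero_mem _) (by rw [add_zero, hcub])
    have hco : ∀ i, c.coeff i ∈ maximalIdeal A := by
      intro i
      rw [← residue_eq_zero_iff, ← coeff_map, hc0, coeff_zero]
    refine ⟨?_, ?_, ?_, ?_⟩
    · simpa [c, coeff_X, coeff_C] using hco 0
    · simpa [c, coeff_X, coeff_C] using hco 1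
    · simpa [c, coeff_X, coeff_C] using hco 2
    · simpa [c, coeff_X, coeff_C] using hco 3
  have hcdeg : (c.map (residue A)).natDegree ≤ 3 := by
    refine natDegree_map_le.trans ?_
    simp only [c]
    compute_degree
  have h2 := (natDegree_le_of_dvd hdvd hc0).trans hcdeg
  rw [hpmon.natDegree_pow] at h2
  exact hrat (by omega)

/-- T5 start -/
theorem start [IsNoetherianRing A] {t : A} (hA : RatLike A 2) (hB : RatLike B 2)
    (fA : Fat A 1) (fB : Fat B 1) (h : QT A B t) : Rational A B ∧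
      ((∃ w z : B, St B (algebraMap A B t) w z) ∨ ∃ w z : B, St3 B (algebraMap A B t) w z) := by
  have hrat := rational_of_fat hA hB fA fB h
  refine ⟨hrat, ?_⟩
  obtain ⟨y₀, z, hg₀, hz3⟩ := exists_coords h fA
  obtain ⟨ht, hy₀, hz⟩ := mem3 hg₀
  obtain ⟨η₀, hη₀⟩ := h.dvd y₀ hy₀
  obtain ⟨a, ha⟩ := hrat η₀
  -- change of coordinates
  have hg : Ideal.span {t, y₀ - a * t, z} = maximalIdeal A := by
    apply le_antisymm
    · rw [Ideal.span_le]
      intro w hw
      simp only [Set.mem_insert_iff, Set.mem_singleton_iff] at hw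
      rcases hw with rfl | rfl | rfl
      · exact ht
      · exact Ideal.sub_mem _ hy₀ (Ideal.mul_mem_left _ _ ht)
      · exact hz
    · rw [← hg₀, Ideal.span_le]
      intro w hw
      simp only [Set.mem_insert_iff, Set.mem_singleton_iff] at hw
      rcases hw with rfl | rfl | rfl
      · exact Ideal.subset_span (by simp)
      · have : w = (w - a * t) + a * t := by ring
        rw [this]
        exact Ideal.add_mem _ (Ideal.subset_span (by simp))
          (Ideal.mul_mem_left _ _ (Ideal.subset_span (by simp)))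
      · exact Ideal.subset_span (by simp)
  obtain ⟨ζ, hζ⟩ := h.dvd z hz
  set η : B := η₀ - algebraMap A B a with hηdef
  set y : A := y₀ - a * t with hydef
  have hη : algebraMap A B y = algebraMap A B t * η := by
    rw [hydef, hηdef, map_sub, map_mul, hη₀]; ring
  obtain ⟨c₀, c₁, c₂, c₃, Q, hQ, hcub⟩ := exists_cubic hg hz3
  obtain ⟨Q', hQ'⟩ := QT.dvd_pow h 2 hQ
  have heq : ζ ^ 2 = algebraMap A B t * (algebraMap A B c₀ + algebraMap A B c₁ * η +
      algebraMap A B c₂ * η ^ 2 + algebraMap A B c₃ * η ^ 3 + ζ * Q') := by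
    apply QT.cancel h
    apply QT.cancel h
    have h1 := congrArg (algebraMap A B) hcub
    simp only [map_add, map_mul, map_pow, hη, hζ, hQ'] at h1
    linear_combination h1
  have hζm : ζ ∈ maximalIdeal B := by
    refine Ideal.IsPrime.mem_of_pow_mem (inferInstance : (maximalIdeal B).IsPrime) 2 ?_
    rw [heq]
    exact Ideal.mul_mem_right _ _ (QT.t_mem h)
  have hsp := span_of_centre h hg hη hζ ha hζm
  have h3 := ratLike_three hB
  have hl : algebraMap A B c₀ + algebraMap A B c₁ * η +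
      algebraMap A B c₂ * η ^ 2 + algebraMap A B c₃ * η ^ 3 + ζ * Q' ∈ maximalIdeal B := by
    by_contra hc
    obtain ⟨v, hv⟩ := (isUnit_of_notMem hc).exists_right_inv
    apply (not_mem_sq_of_span h3 hsp).1
    have : algebraMap A B t = v * ζ ^ 2 := by
      rw [heq]
      linear_combination (-(algebraMap A B t)) * hv
    rw [this]
    exact Ideal.mul_mem_left _ _ (Ideal.pow_mem_pow hζm 2)
  have hc₀ : algebraMap A B c₀ ∈ maximalIdeal B := by
    have h1 : (algebraMap A B c₁ + algebraMap A B c₂ * η + algebraMap A B c₃ * η ^ 2) * η +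
        ζ * Q' ∈ maximalIdeal B :=
      Ideal.add_mem _ (Ideal.mul_mem_left _ _ ha) (Ideal.mul_mem_right _ _ hζm)
    have := Ideal.sub_mem _ hl h1
    convert this using 1
    ring
  have hc₀' := QT.mem_of_map h hc₀
  obtain ⟨c₀', hc₀''⟩ := h.dvd c₀ hc₀'
  have hP : algebraMap A B c₂ * η ^ 2 + algebraMap A B c₃ * η ^ 3 ∈ maximalIdeal B ^ 2 := by
    have : algebraMap A B c₂ * η ^ 2 + algebraMap A B c₃ * η ^ 3 =
        (algebraMap A B c₂ + algebraMap A B c₃ * η) * η ^ 2 := by ring
    rw [this]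
    exact Ideal.mul_mem_left _ _ (Ideal.pow_mem_pow ha 2)
  obtain ⟨hc₁, ζ', e, q', hg', he, hq', hfin⟩ := normal_form hB fB hsp hP (c₁ := algebraMap A B c₁)
    (c₀ := c₀') (q := Q') (by rw [heq, hc₀'']; ring)
  have hc₁' := QT.mem_of_map h hc₁
  obtain ⟨c₁', hc₁''⟩ := h.dvd c₁ hc₁'
  have hnot := fat_cubic_ne hA t y z hg hz3 c₀ c₁ c₂ c₃ Q 0 hQ (Ideal.zero_mem _)
    (by rw [add_zero, hcub])
  by_cases hc₂ : c₂ ∈ maximalIdeal A
  · have hc₃ : c₃ ∉ maximalIdeal A := fun hc ↦ hnot ⟨hc₀', hc₁', hc₂, hc⟩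
    obtain ⟨c₂', hc₂''⟩ := h.dvd c₂ hc₂
    right
    refine ⟨η, ζ', hg', algebraMap A B c₃, e + c₁' * η + c₂' * η ^ 2, q',
      (isUnit_of_notMem hc₃).map _, ?_, hq', ?_⟩
    · exact Ideal.add_mem _ (Ideal.add_mem _ he (Ideal.mul_mem_left _ _ ha))
        (Ideal.mul_mem_left _ _ (Ideal.pow_mem_of_mem _ ha 2 two_pos))
    · rw [hfin, hc₁'', hc₂'']; ring
  · left
    refine ⟨η, ζ', hg', algebraMap A B c₂ + algebraMap A B c₃ * η, e + c₁' * η, q', ?_, ?_, hq', ?_⟩
    · by_contra hc
      have h1 : algebraMap A B c₂ ∈ maximalIdeal B := by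
        have := Ideal.sub_mem _ ((mem_maximalIdeal _).2 hc)
          (Ideal.mul_mem_left _ (algebraMap A B c₃) ha)
        rwa [add_sub_cancel_right] at this
      exact hc₂ (QT.mem_of_map h h1)
    · exact Ideal.add_mem _ he (Ideal.mul_mem_left _ _ ha)
    · rw [hfin, hc₁'']; ring

/-- T5d: change of the exceptional parameter -/
theorem change {t x : A} (h : QT A B t) (hx : x ∈ maximalIdeal A) {v : B} (hv : IsUnit v)
    (hxt : algebraMap A B x = algebraMap A B t * v) : QT A B x := by
  obtain ⟨w, hw⟩ := hv.exists_right_inv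
  have hwu : IsUnit w := IsUnit.of_mul_eq_one_right _ hw
  have htx : algebraMap A B t = algebraMap A B x * w := by
    rw [hxt]; linear_combination (-(algebraMap A B t)) * hw
  have hwS : w ∈ {y : B | ∃ a ∈ maximalIdeal A, algebraMap A B x * y = algebraMap A B a} :=
    ⟨t, h.mem, htx.symm⟩
  have key : ∀ u ∈ Algebra.adjoin A {y : B | ∃ a ∈ maximalIdeal A,
      algebraMap A B t * y = algebraMap A B a}, ∃ N : ℕ, w ^ N * u ∈ Algebra.adjoin A
      {y : B | ∃ a ∈ maximalIdeal A, algebraMap A B x * y = algebraMap A B a} := by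
    intro u hu
    induction hu using Algebra.adjoin_induction with
    | mem u hu =>
      obtain ⟨s, hs, hsu⟩ := hu
      refine ⟨1, Algebra.subset_adjoin ⟨s, hs, ?_⟩⟩
      rw [← hsu, htx]; ring
    | algebraMap a => exact ⟨0, by simp⟩
    | add u u' _ _ h1 h2 =>
      obtain ⟨N, hN⟩ := h1
      obtain ⟨M, hM⟩ := h2
      refine ⟨N + M, ?_⟩
      have : w ^ (N + M) * (u + u') = w ^ M * (w ^ N * u) + w ^ N * (w ^ M * u') := by ring
      rw [this]
      exact Subalgebra.add_mem _ (Subalgebra.mul_mem _ (Subalgebra.pow_mem _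
        (Algebra.subset_adjoin hwS) _) hN) (Subalgebra.mul_mem _ (Subalgebra.pow_mem _
        (Algebra.subset_adjoin hwS) _) hM)
    | mul u u' _ _ h1 h2 =>
      obtain ⟨N, hN⟩ := h1
      obtain ⟨M, hM⟩ := h2
      refine ⟨N + M, ?_⟩
      have : w ^ (N + M) * (u * u') = (w ^ N * u) * (w ^ M * u') := by ring
      rw [this]
      exact Subalgebra.mul_mem _ hN hM
  refine ⟨hx, ?_, h.loc, ?_, ?_, h.int⟩
  · intro b hb
    rw [hxt, mul_assoc] at hb
    have := h.reg _ hb
    have h2 : b = w * (v * b) := by linear_combination (-b) * hw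
    rw [h2, this, mul_zero]
  · intro a ha
    obtain ⟨d, hd⟩ := h.dvd a ha
    exact ⟨w * d, by rw [hd, htx]; ring⟩
  · intro b
    obtain ⟨u, hu, u', hu', hu'u, hb⟩ := h.frac b
    obtain ⟨N, hN⟩ := key u hu
    obtain ⟨M, hM⟩ := key u' hu'
    refine ⟨w ^ (N + M) * u, ?_, w ^ (N + M) * u', ?_, (hwu.pow _).mul hu'u, ?_⟩
    · have : w ^ (N + M) * u = w ^ M * (w ^ N * u) := by ring
      rw [this]
      exact Subalgebra.mul_mem _ (Subalgebra.pow_mem _ (Algebra.subset_adjoin hwS) _) hN
    · have : w ^ (N + M) * u' = w ^ N * (w ^ M * u') := by ring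
      rw [this]
      exact Subalgebra.mul_mem _ (Subalgebra.pow_mem _ (Algebra.subset_adjoin hwS) _) hM
    · rw [← hb]; ring

/-- one of three generators of the maximal ideal is an exceptional parameter. -/
lemma cases3 {t : A} (h : QT A B t) {x y z : A} (hg : Ideal.span {x, y, z} = maximalIdeal A) :
    (QT A B x ∧ ∃ v, IsUnit v ∧ algebraMap A B x = v * algebraMap A B t) ∨
    (QT A B y ∧ ∃ x' ∈ maximalIdeal B, algebraMap A B x = algebraMap A B y * x') ∨
    (QT A B z ∧ (∃ x' ∈ maximalIdeal B, algebraMap A B x = algebraMap A B z * x') ∧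
      ∃ y' ∈ maximalIdeal B, algebraMap A B y = algebraMap A B z * y') := by
  obtain ⟨hxm, hym, hzm⟩ := mem3 hg
  obtain ⟨x', hx'⟩ := h.dvd x hxm
  obtain ⟨y', hy'⟩ := h.dvd y hym
  obtain ⟨z', hz'⟩ := h.dvd z hzm
  have key : ∀ {w : A} {w' : B}, algebraMap A B w = algebraMap A B t * w' → IsUnit w' →
      (∀ {v : A} {v' : B}, algebraMap A B v = algebraMap A B t * v' → v' ∈ maximalIdeal B →
        ∃ u ∈ maximalIdeal B, algebraMap A B v = algebraMap A B w * u) := by
    intro w w' hw hu v v' hv hvm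
    obtain ⟨c, hc⟩ := hu.exists_right_inv
    refine ⟨c * v', Ideal.mul_mem_left _ _ hvm, ?_⟩
    rw [hv, hw]
    linear_combination (-(algebraMap A B t) * v') * hc
  by_cases hux : IsUnit x'
  · left
    exact ⟨change h hxm hux hx', x', hux, by rw [hx', mul_comm]⟩
  have hxm' : x' ∈ maximalIdeal B := (mem_maximalIdeal _).2 hux
  right
  by_cases huy : IsUnit y'
  · left
    exact ⟨change h hym huy hy', key hy' huy hx' hxm'⟩
  have hym' : y' ∈ maximalIdeal B := (mem_maximalIdeal _).2 huy
  right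
  have huz : IsUnit z' := by
    by_contra huz
    have hzm' : z' ∈ maximalIdeal B := (mem_maximalIdeal _).2 huz
    obtain ⟨a, b, c, habc⟩ := exists_coeff hg h.mem
    have h1 : algebraMap A B t * (algebraMap A B a * x' + algebraMap A B b * y' +
        algebraMap A B c * z') = algebraMap A B t * 1 := by
      conv_rhs => rw [habc, map_add, map_add, map_mul, map_mul, map_mul, hx', hy', hz']
      ring
    have h2 := QT.cancel h h1
    have h3 : (1 : B) ∈ maximalIdeal B := by
      rw [← h2]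
      exact Ideal.add_mem _ (Ideal.add_mem _ (Ideal.mul_mem_left _ _ hxm')
        (Ideal.mul_mem_left _ _ hym')) (Ideal.mul_mem_left _ _ hzm')
    exact one_notMem B h3
  exact ⟨change h hzm huz hz', key hz' huz hx' hxm', key hz' huz hy' hym'⟩

/-- T5b: the state `St` propagates with the same parameter -/
theorem St.step [IsNoetherianRing A] {t : A} (hA : RatLike A 2) (hB : RatLike B 2)
    (fA : Fat A 1) (fB : Fat B 1) (h : QT A B t) {x y₀ z : A} (hS : St A x y₀ z) :
    QT A B x ∧ (∃ v, IsUnit v ∧ algebraMap A B x = v * algebraMap A B t) ∧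
      ∃ y' z' : B, St B (algebraMap A B x) y' z' := by
  have hrat := rational_of_fat hA hB fA fB h
  obtain ⟨u, d, q, hu, hd, hq, hz2⟩ := hS.eqn
  obtain ⟨hxm, hym, hzm⟩ := mem3 hS.gen
  have h3 := ratLike_three hB
  have h5 := ratLike_five hB
  rcases cases3 h hS.gen with ⟨hx, hv⟩ | ⟨hy, x₁, hx₁, hxy⟩ | ⟨hz, ⟨x₁, hx₁, hxz⟩, y₁, hy₁, hyz⟩
  · refine ⟨hx, hv, ?_⟩
    obtain ⟨η₀, hη₀⟩ := hx.dvd y₀ hym
    obtain ⟨a, ha⟩ := hrat η₀
    set η : B := η₀ - algebraMap A B a with hηdef
    set y : A := y₀ - a * x with hydef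
    have hη : algebraMap A B y = algebraMap A B x * η := by
      rw [hydef, hηdef, map_sub, map_mul, hη₀]; ring
    have hg : Ideal.span {x, y, z} = maximalIdeal A := by
      apply le_antisymm
      · rw [Ideal.span_le]
        intro w hw
        simp only [Set.mem_insert_iff, Set.mem_singleton_iff] at hw
        rcases hw with rfl | rfl | rfl
        · exact hxm
        · exact Ideal.sub_mem _ hym (Ideal.mul_mem_left _ _ hxm)
        · exact hzm
      · rw [← hS.gen, Ideal.span_le]
        intro w hw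
        simp only [Set.mem_insert_iff, Set.mem_singleton_iff] at hw
        rcases hw with rfl | rfl | rfl
        · exact Ideal.subset_span (by simp)
        · have : w = y + a * x := by rw [hydef]; ring
          rw [this]
          exact Ideal.add_mem _ (Ideal.subset_span (by simp))
            (Ideal.mul_mem_left _ _ (Ideal.subset_span (by simp)))
        · exact Ideal.subset_span (by simp)
    obtain ⟨ζ, hζ⟩ := hx.dvd z hzm
    obtain ⟨q₁, hq₁⟩ := hx.dvd q hq
    obtain ⟨d₀, dy, dz, hd0⟩ := exists_coeff hg hd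
    have hd1 : algebraMap A B d = algebraMap A B x * (algebraMap A B d₀ + algebraMap A B dy * η +
        algebraMap A B dz * ζ) := by
      rw [hd0, map_add, map_add, map_mul, map_mul, map_mul, hη, hζ]; ring
    have hy0 : algebraMap A B y₀ = algebraMap A B x * (η + algebraMap A B a) := by
      rw [hη₀, hηdef]; ring
    have heq : ζ ^ 2 = algebraMap A B x * (algebraMap A B u * (η + algebraMap A B a) ^ 2 +
        (algebraMap A B d₀ + algebraMap A B dy * η + algebraMap A B dz * ζ) + ζ * q₁) := by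
      apply QT.cancel hx
      apply QT.cancel hx
      have h1 := congrArg (algebraMap A B) hz2
      simp only [map_add, map_mul, map_pow, hd1, hζ, hq₁, hy0] at h1
      linear_combination h1
    have hζm : ζ ∈ maximalIdeal B := by
      refine Ideal.IsPrime.mem_of_pow_mem (inferInstance : (maximalIdeal B).IsPrime) 2 ?_
      rw [heq]
      exact Ideal.mul_mem_right _ _ (QT.t_mem hx)
    have hsp := span_of_centre hx hg hη hζ ha hζm
    have hl : algebraMap A B u * (η + algebraMap A B a) ^ 2 +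
        (algebraMap A B d₀ + algebraMap A B dy * η + algebraMap A B dz * ζ) + ζ * q₁ ∈
        maximalIdeal B := by
      by_contra hc
      obtain ⟨v, hv⟩ := (isUnit_of_notMem hc).exists_right_inv
      apply (not_mem_sq_of_span h3 hsp).1
      have : algebraMap A B x = v * ζ ^ 2 := by
        rw [heq]
        linear_combination (-(algebraMap A B x)) * hv
      rw [this]
      exact Ideal.mul_mem_left _ _ (Ideal.pow_mem_pow hζm 2)
    have hc₀ : algebraMap A B (u * a ^ 2 + d₀) ∈ maximalIdeal B := by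
      have h1 : (algebraMap A B u * η + 2 * algebraMap A B u * algebraMap A B a +
          algebraMap A B dy) * η + ζ * (algebraMap A B dz + q₁) ∈ maximalIdeal B :=
        Ideal.add_mem _ (Ideal.mul_mem_left _ _ ha) (Ideal.mul_mem_right _ _ hζm)
      have := Ideal.sub_mem _ hl h1
      convert this using 1
      simp only [map_add, map_mul, map_pow]
      ring
    obtain ⟨c₀', hc₀''⟩ := hx.dvd _ (QT.mem_of_map hx hc₀)
    have hP : algebraMap A B u * η ^ 2 ∈ maximalIdeal B ^ 2 :=
      Ideal.mul_mem_left _ _ (Ideal.pow_mem_pow ha 2)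
    obtain ⟨hc₁, ζ', e, q', hg', he, hq', hfin⟩ := normal_form hB fB hsp hP
      (c₁ := algebraMap A B (2 * u * a + dy)) (c₀ := c₀') (q := algebraMap A B dz + q₁) (by
        rw [← hc₀'', heq]
        simp only [map_add, map_mul, map_pow, map_ofNat]
        ring)
    obtain ⟨c₁', hc₁''⟩ := hx.dvd _ (QT.mem_of_map hx hc₁)
    refine ⟨η, ζ', hg', algebraMap A B u, e + c₁' * η, q', hu.map _,
      Ideal.add_mem _ he (Ideal.mul_mem_left _ _ ha), hq', ?_⟩
    rw [hfin, hc₁'']; ring
  · exfalso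
    obtain ⟨ζ, hζ⟩ := hy.dvd z hzm
    obtain ⟨q₁, hq₁⟩ := hy.dvd q hq
    obtain ⟨d₁, hd₁⟩ := hy.dvd d hd
    have heq : ζ ^ 2 = algebraMap A B y₀ * (x₁ * (algebraMap A B u + x₁ * d₁ + ζ * q₁)) := by
      apply QT.cancel hy
      apply QT.cancel hy
      have h1 := congrArg (algebraMap A B) hz2
      simp only [map_add, map_mul, map_pow, hd₁, hζ, hq₁, hxy] at h1
      linear_combination h1
    have hζm : ζ ∈ maximalIdeal B := by
      refine Ideal.IsPrime.mem_of_pow_mem (inferInstance : (maximalIdeal B).IsPrime) 2 ?_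
      rw [heq]
      exact Ideal.mul_mem_right _ _ (QT.t_mem hy)
    have hg : Ideal.span {y₀, x, z} = maximalIdeal A := by rw [← hS.gen]; exact span_swap _ _ _
    have hsp := span_of_centre hy hg hxy hζ hx₁ hζm
    obtain ⟨hU, -⟩ := normal_form hB fB hsp (Ideal.zero_mem _)
      (c₁ := algebraMap A B u + x₁ * d₁ + ζ * q₁) (c₀ := 0) (q := 0) (by rw [heq]; ring)
    have h1 : algebraMap A B u ∈ maximalIdeal B := by
      have h2 : x₁ * d₁ + ζ * q₁ ∈ maximalIdeal B :=
        Ideal.add_mem _ (Ideal.mul_mem_right _ _ hx₁) (Ideal.mul_mem_right _ _ hζm)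
      have := Ideal.sub_mem _ hU h2
      convert this using 1; ring
    exact (mem_maximalIdeal _).1 h1 (hu.map _)
  · exfalso
    have h1 : algebraMap A B z * (algebraMap A B z * 1) = algebraMap A B z * (algebraMap A B z *
        (x₁ * (algebraMap A B u * algebraMap A B z * y₁ ^ 2 + x₁ * algebraMap A B d +
          algebraMap A B q))) := by
      have h1 := congrArg (algebraMap A B) hz2
      simp only [map_add, map_mul, map_pow, hxz, hyz] at h1
      linear_combination h1
    have h2 := QT.cancel hz (QT.cancel hz h1)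
    apply one_notMem B
    rw [h2]
    exact Ideal.mul_mem_right _ _ hx₁

/-- T5c: the step after the state `St3` -/
theorem St3.step {t : A} (h : QT A B t) {x y z : A} (hS : St3 A x y z) :
    (QT A B x ∧ ∃ v, IsUnit v ∧ algebraMap A B x = v * algebraMap A B t) ∨
      ∃ x' y' z' : B, St B x' y' z' := by
  obtain ⟨u, d, q, hu, hd, hq, hz2⟩ := hS.eqn
  obtain ⟨hxm, hym, hzm⟩ := mem3 hS.gen
  rcases cases3 h hS.gen with ⟨hx, hv⟩ | ⟨hy, x₁, hx₁, hxy⟩ | ⟨hz, ⟨x₁, hx₁, hxz⟩, y₁, hy₁, hyz⟩
  · exact Or.inl ⟨hx, hv⟩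
  · right
    obtain ⟨ζ, hζ⟩ := hy.dvd z hzm
    obtain ⟨q₁, hq₁⟩ := hy.dvd q hq
    obtain ⟨d₁, hd₁⟩ := hy.dvd d hd
    have heq : ζ ^ 2 = x₁ * (algebraMap A B u * algebraMap A B y ^ 2 +
        x₁ * (algebraMap A B y * d₁) + ζ * (algebraMap A B y * q₁)) := by
      apply QT.cancel hy
      apply QT.cancel hy
      have h1 := congrArg (algebraMap A B) hz2
      simp only [map_add, map_mul, map_pow, hd₁, hζ, hq₁, hxy] at h1
      linear_combination h1
    have hζm : ζ ∈ maximalIdeal B := by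
      refine Ideal.IsPrime.mem_of_pow_mem (inferInstance : (maximalIdeal B).IsPrime) 2 ?_
      rw [heq]
      exact Ideal.mul_mem_right _ _ hx₁
    have hg : Ideal.span {y, x, z} = maximalIdeal A := by rw [← hS.gen]; exact span_swap _ _ _
    have hsp := span_of_centre hy hg hxy hζ hx₁ hζm
    exact ⟨x₁, algebraMap A B y, ζ, (span_swap _ _ _).trans hsp, algebraMap A B u,
      algebraMap A B y * d₁, algebraMap A B y * q₁, hu.map _,
      Ideal.mul_mem_right _ _ (QT.t_mem hy), Ideal.mul_mem_right _ _ (QT.t_mem hy), heq⟩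
  · exfalso
    have h1 : algebraMap A B z * (algebraMap A B z * 1) = algebraMap A B z * (algebraMap A B z *
        (x₁ * (algebraMap A B u * algebraMap A B z ^ 2 * y₁ ^ 3 + x₁ * algebraMap A B d +
          algebraMap A B q))) := by
      have h1 := congrArg (algebraMap A B) hz2
      simp only [map_add, map_mul, map_pow, hxz, hyz] at h1
      linear_combination h1
    have h2 := QT.cancel hz (QT.cancel hz h1)
    apply one_notMem B
    rw [h2]
    exact Ideal.mul_mem_right _ _ hx₁

end step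

section sequence

variable {K : Type u} [Field K]

/-- `B` is a quadratic transform of `A` with exceptional parameter `x`, for subrings of a field. -/
def SQT (A B : Subring K) [IsLocalRing A] [IsLocalRing B] (x : K) : Prop :=
  ∃ (hle : A ≤ B) (hx : x ∈ A), letI := (Subring.inclusion hle).toAlgebra; QT A B ⟨x, hx⟩

/-- trivial residue field extension -/
def SRational (A B : Subring K) [IsLocalRing B] : Prop :=
  ∃ hle : A ≤ B, letI := (Subring.inclusion hle).toAlgebra; Rational A B

variable (A : ℕ → Subring K) [∀ i, IsLocalRing (A i)] [∀ i, IsNoetherianRing (A i)]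

/-- T5e: an infinite sequence of quadratic transforms of double points with double lines is
eventually arc-like. -/
theorem seq (hQT : ∀ i, ∃ x, SQT (A i) (A (i + 1)) x) (hR : ∀ i, RatLike (A i) 2)
    (hF : ∀ i, Fat (A i) 1) : ∃ (N : ℕ) (x : K), ∀ i, N ≤ i →
      SQT (A i) (A (i + 1)) x ∧ SRational (A i) (A (i + 1)) := by
  have hrat : ∀ i, SRational (A i) (A (i + 1)) := by
    intro i
    obtain ⟨x, hle, hx, h⟩ := hQT i
    letI := (Subring.inclusion hle).toAlgebra
    exact ⟨hle, rational_of_fat (hR i) (hR (i + 1)) (hF i) (hF (i + 1)) h⟩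
  by_cases hSt : ∃ (N : ℕ) (x y z : A N), St (A N) x y z
  · obtain ⟨N, x, y, z, hS⟩ := hSt
    refine ⟨N, (x : K), ?_⟩
    have key : ∀ i, N ≤ i → ∃ x' y' z' : A i, (x' : K) = x ∧ St (A i) x' y' z' := by
      intro i hi
      induction i, hi using Nat.le_induction with
      | base => exact ⟨x, y, z, rfl, hS⟩
      | succ i hi ih =>
        obtain ⟨x', y', z', hx', hS'⟩ := ih
        obtain ⟨t, hle, ht, h⟩ := hQT i
        letI := (Subring.inclusion hle).toAlgebra
        obtain ⟨-, -, y'', z'', hS''⟩ := hS'.step (hR i) (hR (i + 1)) (hF i) (hF (i + 1)) h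
        exact ⟨_, y'', z'', hx', hS''⟩
    intro i hi
    refine ⟨?_, hrat i⟩
    obtain ⟨x', y', z', hx', hS'⟩ := key i hi
    obtain ⟨t, hle, ht, h⟩ := hQT i
    letI := (Subring.inclusion hle).toAlgebra
    obtain ⟨h1, -⟩ := hS'.step (hR i) (hR (i + 1)) (hF i) (hF (i + 1)) h
    rw [← hx']
    exact ⟨hle, x'.2, h1⟩
  · obtain ⟨x, hx⟩ := hQT 0
    refine ⟨0, x, fun i _ ↦ ⟨?_, hrat i⟩⟩
    induction i with
    | zero => exact hx
    | succ i ih =>
      obtain ⟨hle, hxi, h⟩ := ih (Nat.zero_le i)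
      letI := (Subring.inclusion hle).toAlgebra
      obtain ⟨-, ⟨w, z, hS⟩ | ⟨w, z, hS⟩⟩ := start (hR i) (hR (i + 1)) (hF i) (hF (i + 1)) h
      · exact absurd ⟨_, _, _, _, hS⟩ hSt
      · obtain ⟨t, hle', ht', h'⟩ := hQT (i + 1)
        letI := (Subring.inclusion hle').toAlgebra
        rcases hS.step h' with ⟨h1, -⟩ | ⟨x', y', z', hS'⟩
        · exact ⟨hle', _, h1⟩
        · exact absurd ⟨_, _, _, _, hS'⟩ hSt

end sequence

end Groth.Agent.Lipman.TermTrack
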