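import Groth.Agent.Lipman.TermSub
import Groth.Agent.Lipman.TermCone
import Groth.Agent.Lipman.TermRat
import Groth.Agent.Lipman.TermFat2
import Groth.Agent.Lipman.TermTrack

/-!
# Block B5 (termination), T6: sequences of quadratic transforms
-/

set_option autoImplicit false
set_option linter.unusedSectionVars false
set_option linter.style.haveILetI false

namespace Groth.Agent.Lipman.Term

open IsLocalRing Defs

universe u

variable {K : Type u} [Field K]

section steps

variable {A B C : Subring K} [IsLocalRing A] [IsLocalRing B] [IsLocalRing C]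
  [IsNoetherianRing A] [IsNoetherianRing B] [IsNoetherianRing C]

theorem SubQT.spanFinrank_le {x : K} (h : SubQT A B x) :
    (maximalIdeal B).spanFinrank ≤ (maximalIdeal A).spanFinrank := by
  obtain ⟨hAB, hx, hQ⟩ := h
  letI := (Subring.inclusion hAB).toAlgebra
  exact hQ.spanFinrank_le

theorem SubQT.rational_or_fat {x : K} {r : ℕ} (h : SubQT A B x) (hA : RatLike A (r + 1))
    (hB : (maximalIdeal B).spanFinrank = r + 2) : SubRational A B ∨ Fat A r := by
  obtain ⟨hAB, hx, hQ⟩ := h
  rw [subRational_iff hAB]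
  letI := (Subring.inclusion hAB).toAlgebra
  exact hQ.rational_or_fat hA hB

theorem SubQT.next {r : ℕ} {t s : K} (h : SubQT A B t) (h' : SubQT B C s) (hR : SubRational A B)
    (hR' : SubRational B C) (hA : RatLike A (r + 1)) (hB : RatLike B (r + 1)) (hC : RatLike C (r + 1))
    (hf : ¬ Fat A r) : SubQT B C t := by
  have ht := h.mem_mSet'
  obtain ⟨hAB, hx, hQ⟩ := h
  obtain ⟨hBC, hy, hQ'⟩ := id h'
  rw [subRational_iff hAB] at hR
  rw [subRational_iff hBC] at hR'
  letI := (Subring.inclusion hAB).toAlgebra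
  letI := (Subring.inclusion hBC).toAlgebra
  obtain ⟨c, hc, e⟩ := exists_unit_of_not_fat hQ hQ' hR hR' hA hB hC hf
  exact h'.change ht c hc (congrArg Subtype.val e)

theorem SubQT.not_fat {t : K} (h : SubQT A B t) (hR : SubRational A B) (hA : RatLike A 2)
    (hB : RatLike B 2) (hf : ¬ Fat A 1) : ¬ Fat B 1 := by
  obtain ⟨hAB, hx, hQ⟩ := h
  rw [subRational_iff hAB] at hR
  letI := (Subring.inclusion hAB).toAlgebra
  exact not_fat_of_not_fat hQ hR hA hB hf

end steps

section seq

variable (A : ℕ → Subring K) [∀ i, IsLocalRing (A i)] [∀ i, IsNoetherianRing (A i)]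

/-- The sequence is arc-like from stage `N` on with exceptional parameter `x`. -/
def ArcFrom (N : ℕ) (x : K) : Prop :=
  ∀ i, N ≤ i → SubQT (A i) (A (i + 1)) x ∧ SubRational (A i) (A (i + 1))

theorem arcFrom_of_not_fat {r : ℕ} (N : ℕ) (hR : ∀ i, N ≤ i → RatLike (A i) (r + 1)) (t : ℕ → K)
    (hQ : ∀ i, SubQT (A i) (A (i + 1)) (t i)) (hf : ∀ i, N ≤ i → ¬ Fat (A i) r) :
    ArcFrom A N (t N) := by
  have hrat : ∀ i, N ≤ i → SubRational (A i) (A (i + 1)) := fun i hi => by
    refine ((hQ i).rational_or_fat (hR i hi) ?_).resolve_right (hf i hi)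
    have := (hR (i + 1) (by omega)).hilb 1
    rw [pow_one] at this
    rw [this]; ring
  intro i hi
  refine ⟨?_, hrat i hi⟩
  induction i, hi using Nat.le_induction with
  | base => exact hQ N
  | succ i hi ih =>
    exact ih.next (hQ (i + 1)) (hrat i hi) (hrat (i + 1) (by omega)) (hR i hi) (hR (i + 1) (by omega))
      (hR (i + 2) (by omega)) (hf i hi)

end seq

theorem exists_const (n : ℕ → ℕ) (h : ∀ i, n (i + 1) ≤ n i) : ∃ N, ∀ i, N ≤ i → n i = n N := by
  have hanti : Antitone n := antitone_nat_of_succ_le h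
  have hwf : WellFounded (fun a b : ℕ => a < b) := Nat.lt_wfRel.wf
  obtain ⟨m, ⟨N, rfl⟩, hm⟩ := hwf.has_min (Set.range n) ⟨n 0, 0, rfl⟩
  refine ⟨N, fun i hi => le_antisymm (hanti hi) ?_⟩
  exact not_lt.1 (hm (n i) ⟨i, rfl⟩)

section final

variable (A : ℕ → Subring K) [∀ i, IsLocalRing (A i)] [∀ i, IsNoetherianRing (A i)]

/-- An infinite sequence of quadratic transforms of `RatLike` rings is eventually arc-like. -/
theorem exists_arcFrom (n : ℕ → ℕ) (hn : ∀ i, 2 ≤ n i) (hR : ∀ i, RatLike (A i) (n i))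
    (hQ : ∀ i, ∃ x, SubQT (A i) (A (i + 1)) x) : ∃ N x, ArcFrom A N x := by
  choose t ht using hQ
  have hmu : ∀ i, (maximalIdeal (A i)).spanFinrank = n i + 1 := fun i => by
    have := (hR i).hilb 1
    rw [pow_one] at this
    rw [this]; ring
  obtain ⟨N, hN⟩ := exists_const n fun i => by
    have h1 := (ht i).spanFinrank_le
    rw [hmu, hmu] at h1
    omega
  obtain ⟨r, hr⟩ : ∃ r, n N = r + 1 := ⟨n N - 1, by have := hn N; omega⟩
  have hr1 : 1 ≤ r := by have := hn N; omega
  have hR' : ∀ i, N ≤ i → RatLike (A i) (r + 1) := fun i hi => by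
    rw [← hr, ← hN i hi]; exact hR i
  by_cases h1 : r = 1
  · subst h1
    by_cases hF : ∀ i, N ≤ i → Fat (A i) 1
    · obtain ⟨M, x, hM⟩ := TermTrack.seq (fun i => A (N + i)) (fun i => ⟨t (N + i), ht (N + i)⟩)
        (fun i => hR' (N + i) (by omega)) (fun i => hF (N + i) (by omega))
      refine ⟨N + M, x, fun i hi => ?_⟩
      obtain ⟨j, rfl⟩ := Nat.exists_eq_add_of_le hi
      obtain ⟨h2, h3, h4⟩ := hM (M + j) (by omega)
      rw [show N + M + j = N + (M + j) by ring]
      exact ⟨h2, (subRational_iff h3).2 h4⟩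
    · push Not at hF
      obtain ⟨M, hM, hfM⟩ := hF
      have hnot : ∀ i, M ≤ i → ¬ Fat (A i) 1 := by
        intro i hi
        induction i, hi using Nat.le_induction with
        | base => exact hfM
        | succ i hi ih =>
          refine (ht i).not_fat (((ht i).rational_or_fat (hR' i (by omega)) ?_).resolve_right ih)
            (hR' i (by omega)) (hR' (i + 1) (by omega)) ih
          rw [hmu, hN (i + 1) (by omega), hr]
      exact ⟨M, t M, arcFrom_of_not_fat A M (fun i hi => hR' i (by omega)) t ht hnot⟩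
  · refine ⟨N, t N, arcFrom_of_not_fat A N hR' t ht fun i hi hf => h1 ?_⟩
    have := Fat.le_one (hR' i hi) hf
    omega

/-- Main theorem of block B5: an infinite sequence of quadratic transforms (in the sense of
`Defs.QT`, with algebraic residue field extensions) of `RatLike` rings is eventually arc-like. -/
theorem exists_arc (n : ℕ → ℕ) (hn : ∀ i, 2 ≤ n i) (hR : ∀ i, RatLike (A i) (n i))
    (hQ : ∀ i, Defs.QT (A i) (A (i + 1)))
    (halg : ∀ i, ∀ z ∈ A (i + 1), ∃ p : Polynomial (A i), p.Monic ∧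
      p.eval₂ (A i).subtype z ∈ mSet (A (i + 1))) :
    ∃ (N : ℕ) (x : K), x ≠ 0 ∧ x ∈ mSet (A N) ∧ ∀ i, N ≤ i →
      LocOf (chartRing (A i) (mSet (A i)) x) (A (i + 1)) ∧ x⁻¹ ∉ A (i + 1) ∧
        ∀ z ∈ A (i + 1), ∃ w ∈ A i, z - w ∈ mSet (A (i + 1)) := by
  obtain ⟨N, x, h⟩ := exists_arcFrom A n hn hR fun i => exists_subQT (hQ i) (halg i)
  exact ⟨N, x, (h N le_rfl).1.ne_zero, (h N le_rfl).1.mem_mSet, fun i hi =>
    ⟨(h i hi).1.locOf, (h i hi).1.inv_notMem, (h i hi).2⟩⟩

end final

end Groth.Agent.Lipman.Term
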