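import Groth.Agent.Lipman.TermDefs

/-!
# Termination: the fat line

`A` Noetherian local, `m` its maximal ideal, minimally generated by `x, y, z_1, ..., z_r`
(`r = n - 1`), `z_i z_j ∈ m ^ 3` for all `i, j`, `μ(m ^ 4) = 4 n + 1`, and
`J ^ 2 ≤ m ^ 2 J → J ≤ m ^ 2` for all ideals `J` containing `m ^ 2`
(a consequence of `m ^ 2` being integrally closed). Then `n ≤ 2`, and if `n = 2` the cubic form of
`z ^ 2` is not zero.
-/

set_option autoImplicit false

namespace Groth.Agent.Lipman.TermFat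

open IsLocalRing Pointwise

section Indep

variable {A : Type*} [CommRing A] [IsLocalRing A]

/-- A generating family with `μ(I)` members is independent modulo `m`. -/
theorem mem_maximalIdeal_of_sum_mem {ι : Type*} [Fintype ι] {I : Ideal A} {g : ι → A}
    (hg : Ideal.span (Set.range g) = I) (hcard : Fintype.card ι ≤ Submodule.spanFinrank I)
    {a : ι → A} (ha : ∑ i, a i * g i ∈ maximalIdeal A * I) (i : ι) : a i ∈ maximalIdeal A := by
  classical
  by_contra hi
  have hu : IsUnit (a i) := by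
    by_contra h
    exact hi ((mem_maximalIdeal _).2 h)
  have hfg : I.FG := ⟨Finset.univ.image g, by rw [← hg]; congr 1; ext; simp⟩
  set J : Ideal A := Ideal.span (g '' {j | j ≠ i}) with hJ
  have hJI : J ≤ I := by
    rw [← hg]
    exact Ideal.span_mono (Set.image_subset_range _ _)
  have hgJ : ∀ j, j ≠ i → g j ∈ J := fun j hj => Ideal.subset_span ⟨j, hj, rfl⟩
  have hgi : g i ∈ J ⊔ maximalIdeal A * I := by
    obtain ⟨u, hu⟩ := hu
    have h1 : a i * g i ∈ J ⊔ maximalIdeal A * I := by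
      have h2 : a i * g i = ∑ j, a j * g j - ∑ j ∈ Finset.univ.erase i, a j * g j := by
        rw [← Finset.add_sum_erase Finset.univ (fun j => a j * g j) (Finset.mem_univ i)]
        ring
      rw [h2]
      refine Ideal.sub_mem _ (Ideal.mem_sup_right ha) (Ideal.mem_sup_left ?_)
      refine Ideal.sum_mem _ fun j hj => Ideal.mul_mem_left _ _ (hgJ j ?_)
      exact Finset.ne_of_mem_erase hj
    have h3 : g i = (↑u⁻¹ : A) * (a i * g i) := by
      rw [← hu, ← mul_assoc, Units.inv_mul, one_mul]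
    rw [h3]
    exact Ideal.mul_mem_left _ _ h1
  have hle : I ≤ J ⊔ maximalIdeal A * I := by
    conv_lhs => rw [← hg]
    rw [Ideal.span_le]
    rintro _ ⟨j, rfl⟩
    by_cases hj : j = i
    · rw [hj]; exact hgi
    · exact Ideal.mem_sup_left (hgJ j hj)
  have hIJ : I ≤ J := by
    refine Submodule.le_of_le_smul_of_le_jacobson_bot (I := maximalIdeal A) hfg ?_ ?_
    · rw [IsLocalRing.jacobson_eq_maximalIdeal _ bot_ne_top]
    · simpa [smul_eq_mul] using hle
  have hIJ' : I = J := le_antisymm hIJ hJI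
  have h1 : Submodule.spanFinrank I ≤ (g '' {j | j ≠ i}).ncard := by
    rw [hIJ', hJ]
    exact Submodule.spanFinrank_span_le_ncard_of_finite (Set.toFinite _)
  have h2 : (g '' {j | j ≠ i}).ncard ≤ ({j | j ≠ i} : Set ι).ncard :=
    Set.ncard_image_le (Set.toFinite _)
  have h3 : ({j | j ≠ i} : Set ι).ncard < Fintype.card ι := by
    have h4 : ({j | j ≠ i} : Set ι) = ((Finset.univ.erase i : Finset ι) : Set ι) := by
      ext j; simp
    rw [h4, Set.ncard_coe_finset]
    exact Finset.card_erase_lt_of_mem (Finset.mem_univ i)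
  omega

end Indep

section Mono

variable {A : Type*} [CommRing A] [IsLocalRing A] {ι : Type*} (x y : A) (z : ι → A)

/-- The monomials of degree `d` in `x, y, z` which are at most linear in `z`. -/
def mono (d : ℕ) : Fin (d + 1) ⊕ (ι × Fin d) → A
  | .inl i => x ^ (i : ℕ) * y ^ (d - i)
  | .inr (l, i) => z l * (x ^ (i : ℕ) * y ^ (d - 1 - i))

theorem card_mono [Fintype ι] (d : ℕ) :
    Fintype.card (Fin (d + 1) ⊕ (ι × Fin d)) = (Fintype.card ι + 1) * d + 1 := by
  simp only [Fintype.card_sum, Fintype.card_fin, Fintype.card_prod]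
  ring

variable {x y z}

theorem x_mem (hm : Ideal.span ({x, y} ∪ Set.range z) = maximalIdeal A) : x ∈ maximalIdeal A := by
  rw [← hm]; exact Ideal.subset_span (Or.inl (Or.inl rfl))

theorem y_mem (hm : Ideal.span ({x, y} ∪ Set.range z) = maximalIdeal A) : y ∈ maximalIdeal A := by
  rw [← hm]; exact Ideal.subset_span (Or.inl (Or.inr rfl))

theorem z_mem (hm : Ideal.span ({x, y} ∪ Set.range z) = maximalIdeal A) (l : ι) :
    z l ∈ maximalIdeal A := by
  rw [← hm]; exact Ideal.subset_span (Or.inr ⟨l, rfl⟩)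

theorem xy_mem (hm : Ideal.span ({x, y} ∪ Set.range z) = maximalIdeal A) {a b d : ℕ}
    (h : d ≤ a + b) : x ^ a * y ^ b ∈ maximalIdeal A ^ d := by
  refine Ideal.pow_le_pow_right h ?_
  rw [pow_add]
  exact Ideal.mul_mem_mul (Ideal.pow_mem_pow (x_mem hm) _) (Ideal.pow_mem_pow (y_mem hm) _)

theorem mono_mem (hm : Ideal.span ({x, y} ∪ Set.range z) = maximalIdeal A) (d : ℕ)
    (p : Fin (d + 1) ⊕ (ι × Fin d)) : mono x y z d p ∈ maximalIdeal A ^ d := by
  rcases p with i | ⟨l, i⟩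
  · exact xy_mem hm (by omega)
  · have h1 : mono x y z d (Sum.inr (l, i)) ∈ maximalIdeal A * maximalIdeal A ^ (d - 1) :=
      Ideal.mul_mem_mul (z_mem hm l) (xy_mem hm (by omega))
    rw [← pow_succ'] at h1
    exact Ideal.pow_le_pow_right (by omega) h1

theorem span_mono_le_sup [IsNoetherianRing A]
    (hm : Ideal.span ({x, y} ∪ Set.range z) = maximalIdeal A)
    (hzz : ∀ i j, z i * z j ∈ maximalIdeal A ^ 3) (d : ℕ)
    (hd : Ideal.span (Set.range (mono x y z d)) = maximalIdeal A ^ d) :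
    maximalIdeal A ^ (d + 1) ≤ Ideal.span (Set.range (mono x y z (d + 1))) ⊔
      maximalIdeal A * maximalIdeal A ^ (d + 1) := by
  have h0 : maximalIdeal A ^ (d + 1) =
      Ideal.span (({x, y} ∪ Set.range z) * Set.range (mono x y z d)) := by
    rw [pow_succ', ← Ideal.span_mul_span', hm, hd]
  conv_lhs => rw [h0]
  rw [Ideal.span_le]
  rintro _ ⟨s, hs, _, ⟨p, rfl⟩, rfl⟩
  rcases p with i | ⟨l, i⟩
  · rcases hs with (rfl | rfl) | ⟨l', rfl⟩
    · refine Ideal.mem_sup_left (Ideal.subset_span ⟨Sum.inl i.succ, ?_⟩)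
      simp only [mono, Fin.val_succ]
      rw [show d + 1 - ((i : ℕ) + 1) = d - i by omega]
      ring
    · refine Ideal.mem_sup_left (Ideal.subset_span ⟨Sum.inl i.castSucc, ?_⟩)
      simp only [mono, Fin.val_castSucc]
      rw [show d + 1 - (i : ℕ) = (d - i) + 1 by omega]
      ring
    · refine Ideal.mem_sup_left (Ideal.subset_span ⟨Sum.inr (l', i), ?_⟩)
      simp only [mono]
      rw [show d + 1 - 1 - (i : ℕ) = (d - i) by omega]
  · rcases hs with (rfl | rfl) | ⟨l', rfl⟩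
    · refine Ideal.mem_sup_left (Ideal.subset_span ⟨Sum.inr (l, i.succ), ?_⟩)
      simp only [mono, Fin.val_succ]
      rw [show d + 1 - 1 - ((i : ℕ) + 1) = d - 1 - i by omega]
      ring
    · refine Ideal.mem_sup_left (Ideal.subset_span ⟨Sum.inr (l, i.castSucc), ?_⟩)
      simp only [mono, Fin.val_castSucc]
      rw [show d + 1 - 1 - (i : ℕ) = (d - 1 - i) + 1 by omega]
      ring
    · refine Ideal.mem_sup_right ?_
      have h1 : (z l' * z l) * (x ^ (i : ℕ) * y ^ (d - 1 - i)) ∈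
          maximalIdeal A ^ 3 * maximalIdeal A ^ (d - 1) :=
        Ideal.mul_mem_mul (hzz _ _) (xy_mem hm (by omega))
      rw [← pow_add] at h1
      rw [← pow_succ']
      have h2 := Ideal.pow_le_pow_right (I := maximalIdeal A)
        (show d + 1 + 1 ≤ 3 + (d - 1) by omega) h1
      simpa only [mono, mul_assoc] using h2

theorem span_mono [IsNoetherianRing A]
    (hm : Ideal.span ({x, y} ∪ Set.range z) = maximalIdeal A)
    (hzz : ∀ i j, z i * z j ∈ maximalIdeal A ^ 3) (d : ℕ) :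
    Ideal.span (Set.range (mono x y z d)) = maximalIdeal A ^ d := by
  induction d with
  | zero =>
    rw [pow_zero, Ideal.one_eq_top, Ideal.eq_top_iff_one]
    exact Ideal.subset_span ⟨Sum.inl 0, by simp [mono]⟩
  | succ d ih =>
    apply le_antisymm
    · rw [Ideal.span_le]
      rintro _ ⟨p, rfl⟩
      exact mono_mem hm _ _
    · refine Submodule.le_of_le_smul_of_le_jacobson_bot (I := maximalIdeal A)
        (IsNoetherian.noetherian _) ?_ ?_
      · rw [IsLocalRing.jacobson_eq_maximalIdeal _ bot_ne_top]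
      · simpa [smul_eq_mul] using span_mono_le_sup hm hzz d ih

/-- Independence of the monomials of degree `d` modulo `m ^ (d + 1)`. -/
theorem coeff_mem [IsNoetherianRing A] [Fintype ι]
    (hm : Ideal.span ({x, y} ∪ Set.range z) = maximalIdeal A)
    (hzz : ∀ i j, z i * z j ∈ maximalIdeal A ^ 3) (d : ℕ)
    (hμ : (maximalIdeal A ^ d).spanFinrank = (Fintype.card ι + 1) * d + 1)
    {a : Fin (d + 1) ⊕ (ι × Fin d) → A}
    (ha : ∑ p, a p * mono x y z d p ∈ maximalIdeal A ^ (d + 1)) (p) : a p ∈ maximalIdeal A := by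
  refine mem_maximalIdeal_of_sum_mem (span_mono hm hzz d) ?_ (a := a) ?_ p
  · rw [card_mono, hμ]
  · rwa [← pow_succ']

/-- Every element of `m ^ d` is a combination of the monomials of degree `d`. -/
theorem exists_coeff [IsNoetherianRing A] [Fintype ι]
    (hm : Ideal.span ({x, y} ∪ Set.range z) = maximalIdeal A)
    (hzz : ∀ i j, z i * z j ∈ maximalIdeal A ^ 3) (d : ℕ) {u : A} (hu : u ∈ maximalIdeal A ^ d) :
    ∃ a : Fin (d + 1) ⊕ (ι × Fin d) → A, ∑ p, a p * mono x y z d p = u := by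
  rw [← span_mono hm hzz d] at hu
  obtain ⟨c, hc⟩ := (Submodule.mem_span_range_iff_exists_fun A).1 hu
  exact ⟨c, by simpa [smul_eq_mul] using hc⟩

end Mono

section Main

variable {A : Type*} [CommRing A] [IsLocalRing A] [IsNoetherianRing A]

omit [IsNoetherianRing A] in
/-- The reduction argument: if `Z² ≤ m² Z + m⁴` then `Z ≤ m²`. -/
theorem le_sq_of_mul_le (hic : ∀ J : Ideal A, maximalIdeal A ^ 2 ≤ J →
      J * J ≤ maximalIdeal A ^ 2 * J → J ≤ maximalIdeal A ^ 2)
    {Z : Ideal A} (hZ : Z * Z ≤ maximalIdeal A ^ 2 * Z ⊔ maximalIdeal A ^ 4) :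
    Z ≤ maximalIdeal A ^ 2 := by
  have h4 : maximalIdeal A ^ 4 = maximalIdeal A ^ 2 * maximalIdeal A ^ 2 := by
    rw [← pow_add]
  have h := hic (Z ⊔ maximalIdeal A ^ 2) le_sup_right ?_
  · exact le_sup_left.trans h
  · rw [Ideal.sup_mul, Ideal.mul_sup, Ideal.mul_sup]
    refine sup_le (sup_le ?_ ?_) le_rfl
    · rwa [← h4]
    · rw [mul_comm]
      exact le_sup_left

variable {ι : Type*} [Fintype ι] {x y : A} {z : ι → A}

/-- If all products `z_i z_j` lie in `m² (z) + m⁴` and `z` is not empty then `μ(m)` is smaller than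
`#z + 2`. -/
theorem false_of_mul_mem (hm : Ideal.span ({x, y} ∪ Set.range z) = maximalIdeal A)
    (hzz : ∀ i j, z i * z j ∈ maximalIdeal A ^ 3)
    (hμ : (maximalIdeal A).spanFinrank = Fintype.card ι + 2)
    (hic : ∀ J : Ideal A, maximalIdeal A ^ 2 ≤ J →
      J * J ≤ maximalIdeal A ^ 2 * J → J ≤ maximalIdeal A ^ 2)
    (h : ∀ i j, z i * z j ∈ maximalIdeal A ^ 2 * Ideal.span (Set.range z) ⊔ maximalIdeal A ^ 4)
    (i : ι) : False := by
  classical
  have h1 : Ideal.span (Set.range z) ≤ maximalIdeal A ^ 2 := by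
    refine le_sq_of_mul_le hic ?_
    rw [Ideal.span_mul_span', Ideal.span_le]
    rintro _ ⟨_, ⟨i, rfl⟩, _, ⟨j, rfl⟩, rfl⟩
    exact h i j
  have h2 : z i ∈ maximalIdeal A ^ 2 := h1 (Ideal.subset_span ⟨i, rfl⟩)
  have h3 := coeff_mem hm hzz 1 (by rw [pow_one, hμ]; ring)
    (a := Pi.single (Sum.inr (i, 0)) 1) (by
      rw [Finset.sum_eq_single (Sum.inr (i, 0))]
      · simpa [mono] using h2
      · intro b _ hb
        rw [Pi.single_eq_of_ne hb, zero_mul]
      · intro hb
        exact absurd (Finset.mem_univ _) hb) (Sum.inr (i, 0))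
  rw [Pi.single_eq_same] at h3
  exact (Ideal.ne_top_iff_one _).1 (IsLocalRing.maximalIdeal.isMaximal A).ne_top h3

omit [IsNoetherianRing A] in
theorem mem_of_coeff (hm : Ideal.span ({x, y} ∪ Set.range z) = maximalIdeal A)
    {a : Fin (3 + 1) ⊕ (ι × Fin 3) → A} {u : A} (hu : ∑ p, a p * mono x y z 3 p = u)
    (ha : ∀ p, a (Sum.inl p) ∈ maximalIdeal A) :
    u ∈ maximalIdeal A ^ 2 * Ideal.span (Set.range z) ⊔ maximalIdeal A ^ 4 := by
  rw [← hu, Fintype.sum_sum_type]
  refine Ideal.add_mem _ ?_ ?_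
  · refine Ideal.sum_mem _ fun p _ => Ideal.mem_sup_right ?_
    rw [show (4 : ℕ) = 3 + 1 from rfl, pow_succ']
    exact Ideal.mul_mem_mul (ha p) (mono_mem hm 3 _)
  · refine Ideal.sum_mem _ fun p _ => Ideal.mem_sup_left ?_
    refine Ideal.mul_mem_left _ _ ?_
    obtain ⟨l, i⟩ := p
    have h1 : z l ∈ Ideal.span (Set.range z) := Ideal.subset_span ⟨l, rfl⟩
    have h2 : x ^ (i : ℕ) * y ^ (3 - 1 - (i : ℕ)) ∈ maximalIdeal A ^ 2 := xy_mem hm (by omega)
    simp only [mono]
    rw [mul_comm (z l)]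
    exact Ideal.mul_mem_mul h2 h1

/-- The fat line does not exist for `n ≥ 3`. -/
theorem false_of_fat (hm : Ideal.span ({x, y} ∪ Set.range z) = maximalIdeal A)
    (hzz : ∀ i j, z i * z j ∈ maximalIdeal A ^ 3)
    (hι : 2 ≤ Fintype.card ι)
    (hμ : (maximalIdeal A).spanFinrank = Fintype.card ι + 2)
    (hμ4 : (maximalIdeal A ^ 4).spanFinrank = (Fintype.card ι + 1) * 4 + 1)
    (hic : ∀ J : Ideal A, maximalIdeal A ^ 2 ≤ J →
      J * J ≤ maximalIdeal A ^ 2 * J → J ≤ maximalIdeal A ^ 2) : False := by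
  classical
  have hex : ∀ i j, ∃ a : Fin (3 + 1) ⊕ (ι × Fin 3) → A,
      ∑ p, a p * mono x y z 3 p = z i * z j := fun i j => exists_coeff hm hzz 3 (hzz i j)
  choose a ha using hex
  have hcard : 1 < Fintype.card ι := hι
  obtain ⟨i₀, -⟩ := Fintype.one_lt_card_iff.1 hcard
  refine false_of_mul_mem hm hzz hμ hic (fun i j => mem_of_coeff hm (ha i j) fun p => ?_) i₀
  obtain ⟨l, hl⟩ : ∃ l, l ≠ j := by
    have : Nontrivial ι := Fintype.one_lt_card_iff_nontrivial.1 hcard
    exact exists_ne j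
  -- `z l * (z i * z j) = z j * (z i * z l)`
  have hexp : ∀ i j l, z l * (z i * z j) -
      ∑ p : Fin (3 + 1), a i j (Sum.inl p) * (z l * (x ^ (p : ℕ) * y ^ (3 - (p : ℕ)))) ∈
        maximalIdeal A ^ 5 := by
    intro i j l
    rw [← ha i j, Fintype.sum_sum_type, mul_add, Finset.mul_sum, Finset.mul_sum]
    have h1 : ∑ p : Fin (3 + 1), z l * (a i j (Sum.inl p) * mono x y z 3 (Sum.inl p)) =
        ∑ p : Fin (3 + 1), a i j (Sum.inl p) * (z l * (x ^ (p : ℕ) * y ^ (3 - (p : ℕ)))) := by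
      refine Finset.sum_congr rfl fun p _ => ?_
      simp only [mono]
      ring
    rw [h1, add_sub_cancel_left]
    refine Ideal.sum_mem _ fun p _ => ?_
    obtain ⟨l', q⟩ := p
    have h2 : (z l * z l') * (x ^ (q : ℕ) * y ^ (3 - 1 - (q : ℕ))) ∈
        maximalIdeal A ^ 3 * maximalIdeal A ^ 2 :=
      Ideal.mul_mem_mul (hzz _ _) (xy_mem hm (by omega))
    rw [← pow_add] at h2
    have h3 : z l * (a i j (Sum.inr (l', q)) * mono x y z 3 (Sum.inr (l', q))) =
        a i j (Sum.inr (l', q)) * ((z l * z l') * (x ^ (q : ℕ) * y ^ (3 - 1 - (q : ℕ)))) := by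
      simp only [mono]
      ring
    rw [h3]
    exact Ideal.mul_mem_left _ _ h2
  have hdiff := Ideal.sub_mem _ (hexp i l j) (hexp i j l)
  have hdiff' : ∑ p : Fin (3 + 1), a i j (Sum.inl p) * (z l * (x ^ (p : ℕ) * y ^ (3 - (p : ℕ)))) -
      ∑ p : Fin (3 + 1), a i l (Sum.inl p) * (z j * (x ^ (p : ℕ) * y ^ (3 - (p : ℕ)))) ∈
        maximalIdeal A ^ (4 + 1) := by
    have h0 : z j * (z i * z l) = z l * (z i * z j) := by ring
    rw [h0] at hdiff
    rw [show (4 + 1 : ℕ) = 5 from rfl]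
    convert hdiff using 1
    ring
  have hc := coeff_mem hm hzz 4 hμ4
    (a := Sum.elim 0 fun q => if q.1 = l then a i j (Sum.inl q.2) else
      if q.1 = j then - a i l (Sum.inl q.2) else 0) (by
    convert hdiff' using 1
    rw [Fintype.sum_sum_type, Fintype.sum_prod_type]
    simp only [Sum.elim_inl, Pi.zero_apply, zero_mul, Finset.sum_const_zero, zero_add,
      Sum.elim_inr]
    rw [← Finset.add_sum_erase _ _ (Finset.mem_univ l),
      ← Finset.add_sum_erase _ _ (Finset.mem_erase.2 ⟨hl.symm, Finset.mem_univ j⟩),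
      Finset.sum_eq_zero (s := (Finset.univ.erase l).erase j)]
    · simp only [if_true, mono, if_neg hl.symm, add_zero, sub_eq_add_neg, ← Finset.sum_neg_distrib,
        neg_mul]
    · intro b hb
      have hb1 : b ≠ j := Finset.ne_of_mem_erase hb
      have hb2 : b ≠ l := Finset.ne_of_mem_erase (Finset.mem_of_mem_erase hb)
      simp [hb1, hb2]) (Sum.inr (l, p))
  simpa using hc

/-- `n = 2`: the cubic form of `z ^ 2` is not zero. -/
theorem exists_notMem_of_two {z : A} (hm : Ideal.span ({x, y, z} : Set A) = maximalIdeal A)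
    (hzz : z * z ∈ maximalIdeal A ^ 3)
    (hμ : (maximalIdeal A).spanFinrank = 3)
    (hic : ∀ J : Ideal A, maximalIdeal A ^ 2 ≤ J →
      J * J ≤ maximalIdeal A ^ 2 * J → J ≤ maximalIdeal A ^ 2)
    {c₀ c₁ c₂ c₃ Q r : A} (hQ : Q ∈ maximalIdeal A ^ 2) (hr : r ∈ maximalIdeal A ^ 4)
    (h : z ^ 2 = c₀ * x ^ 3 + c₁ * x ^ 2 * y + c₂ * x * y ^ 2 + c₃ * y ^ 3 + z * Q + r) :
    ¬ (c₀ ∈ maximalIdeal A ∧ c₁ ∈ maximalIdeal A ∧ c₂ ∈ maximalIdeal A ∧
      c₃ ∈ maximalIdeal A) := by
  rintro ⟨h0, h1, h2, h3⟩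
  have hm' : Ideal.span ({x, y} ∪ Set.range (fun _ : Unit => z)) = maximalIdeal A := by
    rw [← hm]
    congr 1
    ext w
    simp only [Set.mem_union, Set.mem_insert_iff, Set.mem_singleton_iff, Set.mem_range,
      exists_const]
    tauto
  refine false_of_mul_mem hm' (fun _ _ => hzz) (by simpa using hμ) hic (fun _ _ => ?_) ()
  have hz : z * z = z ^ 2 := by ring
  rw [hz, h]
  have hmon : ∀ {c : A} (_ : c ∈ maximalIdeal A) (a b : ℕ) (_ : a + b = 3),
      c * (x ^ a * y ^ b) ∈ maximalIdeal A ^ 4 := by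
    intro c hc a b hab
    rw [show (4 : ℕ) = 3 + 1 from rfl, pow_succ']
    exact Ideal.mul_mem_mul hc (xy_mem hm' (by omega))
  refine Ideal.add_mem _ (Ideal.add_mem _ (Ideal.mem_sup_right ?_) (Ideal.mem_sup_left ?_))
    (Ideal.mem_sup_right hr)
  · refine Ideal.add_mem _ (Ideal.add_mem _ (Ideal.add_mem _ ?_ ?_) ?_) ?_
    · simpa using hmon h0 3 0 rfl
    · simpa [mul_assoc] using hmon h1 2 1 rfl
    · simpa [mul_assoc] using hmon h2 1 2 rfl
    · simpa using hmon h3 0 3 rfl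
  · have h5 : z ∈ Ideal.span (Set.range fun _ : Unit => z) := Ideal.subset_span ⟨(), rfl⟩
    rw [mul_comm z Q]
    exact Ideal.mul_mem_mul hQ h5

end Main

section RatLike

open Groth.Agent.Lipman.Term

variable {A : Type*} [CommRing A] [IsLocalRing A]

theorem ic_of_ratLike {n : ℕ} (h : RatLike A n) (J : Ideal A) (_ : maximalIdeal A ^ 2 ≤ J)
    (hJJ : J * J ≤ maximalIdeal A ^ 2 * J) : J ≤ maximalIdeal A ^ 2 := by
  by_cases hJ : J = ⊥
  · rw [hJ]; exact bot_le
  · exact fun z hz => h.ic z J hJ fun w hw => hJJ (Ideal.mul_mem_mul hz hw)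

/-- **Fat line, `n ≥ 3`**: impossible. -/
theorem false_of_ratLike_of_fat [IsNoetherianRing A] {r : ℕ} (h : RatLike A (r + 1)) (hr : 2 ≤ r)
    (hf : Fat A r) : False := by
  obtain ⟨x, y, w, hspan, hww⟩ := hf
  have hm : Ideal.span ({x, y} ∪ Set.range w) = maximalIdeal A := by
    rw [← hspan]
    congr 1
    rw [Set.Sum.elim_range]
    congr 1
    ext u
    simp [Matrix.range_cons, eq_comm, or_comm]
  refine false_of_fat hm hww (by simpa using hr) ?_ ?_ (ic_of_ratLike h)
  · have := h.hilb 1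
    rw [pow_one] at this
    simp [this]
  · have := h.hilb 4
    simp [this]

/-- **Double points**: the cubic form of a fat line is not zero. -/
theorem FS.not_mem [IsNoetherianRing A] (h : RatLike A 2) {t w z l e₀ e₁ e₂ : A}
    (hF : FS A t w z l e₀ e₁ e₂) :
    ¬ (e₀ ∈ maximalIdeal A ∧ e₁ ∈ maximalIdeal A ∧ e₂ ∈ maximalIdeal A) := by
  rintro ⟨h0, h1, h2⟩
  obtain ⟨μ, hμ, ν, hν, hl⟩ := hF.expand
  have ht : t ∈ maximalIdeal A := by
    rw [← hF.span_eq]; exact Ideal.subset_span (by simp)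
  have hw : w ∈ maximalIdeal A := by
    rw [← hF.span_eq]; exact Ideal.subset_span (by simp)
  have hz : z ∈ maximalIdeal A := by
    rw [← hF.span_eq]; exact Ideal.subset_span (by simp)
  have hl2 : l ∈ maximalIdeal A ^ 2 := by
    rw [hl]
    refine Ideal.add_mem _ (Ideal.add_mem _ (Ideal.add_mem _ (Ideal.add_mem _ ?_ ?_) ?_) ?_) ?_
    · exact Ideal.mul_mem_left _ _ (Ideal.pow_mem_pow ht 2)
    · rw [mul_assoc, pow_two]
      exact Ideal.mul_mem_left _ _ (Ideal.mul_mem_mul ht hw)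
    · exact Ideal.mul_mem_left _ _ (Ideal.pow_mem_pow hw 2)
    · rw [pow_two]
      exact Ideal.mul_mem_mul hz hμ
    · exact Ideal.pow_le_pow_right (by norm_num) hν
  have hzz : z * z ∈ maximalIdeal A ^ 3 := by
    rw [← pow_two, hF.sq, pow_succ']
    exact Ideal.mul_mem_mul ht hl2
  refine exists_notMem_of_two (x := t) (y := w) (z := z) hF.span_eq hzz ?_ (ic_of_ratLike h)
    (c₀ := e₀) (c₁ := e₁) (c₂ := e₂) (c₃ := 0) (Q := t * μ) (r := t * ν) ?_ ?_ ?_
    ⟨h0, h1, h2, Ideal.zero_mem _⟩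
  · simpa using h.hilb 1
  · rw [pow_two]
    exact Ideal.mul_mem_mul ht hμ
  · rw [pow_succ']
    exact Ideal.mul_mem_mul ht hν
  · rw [hF.sq, hl]
    ring

end RatLike

end Groth.Agent.Lipman.TermFat
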