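import Groth.Agent.Lipman.QTApi
import Groth.Agent.Lipman.TermDefs

/-!
# Block B5 (termination), T2: embedding dimension of quadratic transforms

* `QT.spanFinrank_le`: the embedding dimension does not increase.
-/

set_option autoImplicit false
set_option linter.unusedSectionVars false
universe u

open IsLocalRing MvPolynomial

namespace Groth.Agent.Lipman.Term


variable {A B : Type u} [CommRing A] [IsLocalRing A] [IsNoetherianRing A]
  [CommRing B] [IsLocalRing B] [IsNoetherianRing B] [Algebra A B]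

theorem QT.isLocalHom {t : A} (h : QT A B t) : IsLocalHom (algebraMap A B) := by
  refine ⟨fun a ha => ?_⟩
  by_contra hn
  exact (mem_maximalIdeal _).1 (h.loc a ((mem_maximalIdeal _).2 hn)) ha

theorem QT.notMem_sq {t : A} (h : QT A B t) : t ∉ maximalIdeal A ^ 2 := by
  intro ht
  have h1 : algebraMap A B t ∈ (Ideal.span {algebraMap A B t} : Ideal B) ^ 2 := by
    have h2 : (maximalIdeal A ^ 2).map (algebraMap A B) ≤ (Ideal.span {algebraMap A B t}) ^ 2 := by
      rw [Ideal.map_pow]
      refine Ideal.pow_right_mono ?_ 2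
      rw [Ideal.map_le_iff_le_comap]
      intro a ha
      rw [Ideal.mem_comap, Ideal.mem_span_singleton]
      exact h.dvd a ha
    exact h2 (Ideal.mem_map_of_mem _ ht)
  rw [Ideal.span_singleton_pow, Ideal.mem_span_singleton] at h1
  obtain ⟨c, hc⟩ := h1
  have h3 : algebraMap A B t * (1 - algebraMap A B t * c) = 0 := by
    linear_combination hc
  have h4 := h.reg _ h3
  have h5 : algebraMap A B t ∈ maximalIdeal B := h.loc t h.mem
  have h6 : (1 : B) ∈ maximalIdeal B := by
    have : (1 : B) = algebraMap A B t * c := by linear_combination h4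
    rw [this]
    exact Ideal.mul_mem_right _ _ h5
  exact (Ideal.ne_top_iff_one _).1 (maximalIdeal.isMaximal B).ne_top h6

theorem QT.frac_of_gens {t : A} (h : QT A B t) {σ : Type} [Finite σ] {z : σ → A} {b : σ → B}
    (hz : Ideal.span (insert t (Set.range z)) = maximalIdeal A)
    (hb : ∀ i, algebraMap A B (z i) = algebraMap A B t * b i) (y : B) :
    ∃ F G : MvPolynomial σ A, IsUnit (aeval b G) ∧ aeval b G * y = aeval b F := by
  have _ := Fintype.ofFinite σ
  have hle : Algebra.adjoin A {y : B | ∃ a ∈ maximalIdeal A, algebraMap A B t * y = algebraMap A B a} ≤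
      (aeval b : MvPolynomial σ A →ₐ[A] B).range := by
    rw [Algebra.adjoin_le_iff]
    rintro y ⟨a, ha, hya⟩
    rw [← hz, Ideal.mem_span_insert] at ha
    obtain ⟨c₀, s, hs, rfl⟩ := ha
    obtain ⟨c, hc⟩ := (Ideal.mem_span_range_iff_exists_fun).1 hs
    refine ⟨C c₀ + ∑ i, C (c i) * X i, ?_⟩
    have h1 : algebraMap A B t * (y - (algebraMap A B c₀ + ∑ i, algebraMap A B (c i) * b i)) = 0 := by
      rw [mul_sub, hya, ← hc, map_add, map_mul, map_sum, mul_add, Finset.mul_sum]
      have : ∀ i, algebraMap A B (c i * z i) = algebraMap A B t * (algebraMap A B (c i) * b i) := by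
        intro i
        rw [map_mul, hb]
        ring
      simp only [this]
      ring
    have h2 := h.reg _ h1
    rw [sub_eq_zero] at h2
    rw [h2]
    simp
  obtain ⟨u, hu, v, hv, hv', huv⟩ := h.frac y
  obtain ⟨F, hF⟩ := hle hu
  obtain ⟨G, hG⟩ := hle hv
  refine ⟨F, G, ?_, ?_⟩
  · change (aeval b : MvPolynomial σ A →ₐ[A] B) G = v at hG
    rw [hG]
    exact hv'
  · change (aeval b : MvPolynomial σ A →ₐ[A] B) G = v at hG
    change (aeval b : MvPolynomial σ A →ₐ[A] B) F = u at hF
    rw [hG, hF, ← huv, mul_comm]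

theorem QT.exists_gens {t : A} (h : QT A B t) : ∃ (d : ℕ) (z : Fin d → A),
    (maximalIdeal A).spanFinrank = d + 1 ∧ Ideal.span (insert t (Set.range z)) = maximalIdeal A := by
  obtain ⟨T, hT1, hT2⟩ := CalgA.RegBasic.exists_generators_of_notMem_sq t h.mem h.notMem_sq
  refine ⟨T.card, fun i => (T.equivFin.symm i).1, hT1.symm, ?_⟩
  rw [← hT2]
  congr 2
  ext a
  constructor
  · rintro ⟨i, rfl⟩
    exact (T.equivFin.symm i).2
  · intro ha
    exact ⟨T.equivFin ⟨a, ha⟩, by simp⟩

theorem QT.exists_div {t : A} (h : QT A B t) {σ : Type*} {z : σ → A}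
    (hz : ∀ i, z i ∈ maximalIdeal A) : ∃ b : σ → B, ∀ i, algebraMap A B (z i) = algebraMap A B t * b i := by
  choose b hb using fun i => h.dvd (z i) (hz i)
  exact ⟨b, hb⟩

/-- T2a -/
theorem QT.spanFinrank_le {t : A} (h : QT A B t) :
    (maximalIdeal B).spanFinrank ≤ (maximalIdeal A).spanFinrank := by
  have := h.isLocalHom
  obtain ⟨d, z, hd, hz⟩ := h.exists_gens
  obtain ⟨b, hb⟩ := h.exists_div (z := z) (fun i => by
    rw [← hz]
    exact Ideal.subset_span (Or.inr ⟨i, rfl⟩))
  have := (QTApi.main_aux h.mem hz hb (h.frac_of_gens hz hb)).1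
  rwa [Nat.card_fin, ← hd] at this

end Groth.Agent.Lipman.Term
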