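import Groth.Agent.Lipman.TermDefs
import Groth.Agent.Lipman.Defs

/-!
# Block B5 (termination): quadratic transforms of subrings of a field

`SubQT A B x`, `SubRational A B`: the relations `QT`, `Rational` of `TermDefs` for local subrings of a
field `K`; comparison with `Defs.QT`, `Defs.LocOf`, `Defs.chartRing`.
-/

set_option autoImplicit false
set_option linter.unusedSectionVars false
set_option linter.style.haveILetI false

namespace Groth.Agent.Lipman.Term

open IsLocalRing Defs

universe u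

section change

variable {A B : Type*} [CommRing A] [IsLocalRing A] [CommRing B] [IsLocalRing B] [Algebra A B]

/-- the exceptional parameter can be replaced by an associate (in `B`) belonging to `m_A` -/
theorem QT.change {s t : A} (h : QT A B s) (ht : t ∈ maximalIdeal A) {c : B} (hc : IsUnit c)
    (e : algebraMap A B t = algebraMap A B s * c) : QT A B t := by
  obtain ⟨d, hd⟩ := hc.exists_right_inv
  have e' : algebraMap A B s = algebraMap A B t * d := by rw [e, mul_assoc, hd, mul_one]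
  set S : Set B := {y : B | ∃ a ∈ maximalIdeal A, algebraMap A B s * y = algebraMap A B a} with hS
  set T : Set B := {y : B | ∃ a ∈ maximalIdeal A, algebraMap A B t * y = algebraMap A B a} with hT
  have hsT : d ∈ T := ⟨s, h.mem, e'.symm⟩
  -- every element of `adjoin A S` is of the form `w * d^{-k}`, i.e. `u * d^k ∈ adjoin A T`
  have key : ∀ u ∈ Algebra.adjoin A S, ∃ k : ℕ, u * d ^ k ∈ Algebra.adjoin A T := by
    intro u hu
    induction hu using Algebra.adjoin_induction with
    | mem y hy =>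
      obtain ⟨a, ha, hya⟩ := hy
      refine ⟨1, Algebra.subset_adjoin ⟨a, ha, ?_⟩⟩
      rw [pow_one, ← hya, e']; ring
    | algebraMap a => exact ⟨0, by simp⟩
    | add x y _ _ hx hy =>
      obtain ⟨k, hk⟩ := hx
      obtain ⟨l, hl⟩ := hy
      refine ⟨k + l, ?_⟩
      have : (x + y) * d ^ (k + l) = x * d ^ k * d ^ l + y * d ^ l * d ^ k := by ring
      rw [this]
      have hdm := Algebra.subset_adjoin (R := A) hsT
      exact add_mem (mul_mem hk (pow_mem hdm _)) (mul_mem hl (pow_mem hdm _))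
    | mul x y _ _ hx hy =>
      obtain ⟨k, hk⟩ := hx
      obtain ⟨l, hl⟩ := hy
      refine ⟨k + l, ?_⟩
      have : x * y * d ^ (k + l) = x * d ^ k * (y * d ^ l) := by ring
      rw [this]
      exact mul_mem hk hl
  have hdu : IsUnit d := IsUnit.of_mul_eq_one c (by rw [mul_comm]; exact hd)
  refine ⟨ht, ?_, h.loc, ?_, ?_, h.int⟩
  · intro b hb
    apply h.reg
    rw [e', mul_assoc, mul_comm d b, ← mul_assoc, hb, zero_mul]
  · intro a ha
    obtain ⟨y, hy⟩ := h.dvd a ha
    exact ⟨d * y, by rw [hy, e']; ring⟩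
  · intro b
    obtain ⟨u, hu, v, hv, hvu, huv⟩ := h.frac b
    obtain ⟨k, hk⟩ := key u hu
    obtain ⟨l, hl⟩ := key v hv
    have hdm := Algebra.subset_adjoin (R := A) hsT
    refine ⟨u * d ^ k * d ^ l, mul_mem hk (pow_mem hdm _), v * d ^ l * d ^ k,
      mul_mem hl (pow_mem hdm _), (hvu.mul (hdu.pow _)).mul (hdu.pow _), ?_⟩
    rw [← huv]; ring

end change

section sub

variable {K : Type u} [Field K]

/-- `QT` for local subrings of `K` -/
def SubQT (A B : Subring K) [IsLocalRing A] [IsLocalRing B] (x : K) : Prop :=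
  ∃ (h : A ≤ B) (hx : x ∈ A), letI := (Subring.inclusion h).toAlgebra; Term.QT A B ⟨x, hx⟩

/-- trivial residue field extension for subrings of `K` -/
def SubRational (A B : Subring K) : Prop := ∀ z ∈ B, ∃ w ∈ A, z - w ∈ mSet B

theorem mem_mSet_iff {A : Subring K} [IsLocalRing A] {z : A} : (z : K) ∈ mSet A ↔ z ∈ maximalIdeal A := by
  rw [IsLocalRing.mem_maximalIdeal, mem_nonunits_iff]
  have : IsUnit z ↔ (z : K) ≠ 0 ∧ (z : K)⁻¹ ∈ A := by
    constructor
    · intro hz
      obtain ⟨y, hy⟩ := hz.exists_right_inv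
      have hy' : (z : K) * y = 1 := by exact_mod_cast congrArg (Subtype.val) hy
      have h0 : (z : K) ≠ 0 := left_ne_zero_of_mul_eq_one hy'
      exact ⟨h0, by rw [← eq_inv_of_mul_eq_one_right hy']; exact y.2⟩
    · rintro ⟨h0, h1⟩
      exact IsUnit.of_mul_eq_one ⟨_, h1⟩ (Subtype.ext (by simp [h0]))
  rw [this]
  constructor
  · rintro ⟨_, h0 | h1⟩ ⟨h2, h3⟩
    · exact h2 h0
    · exact h1 h3
  · intro h
    refine ⟨z.2, ?_⟩
    by_contra hcon
    push Not at hcon
    exact h hcon

theorem subRational_iff {A B : Subring K} [IsLocalRing B] (h : A ≤ B) :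
    SubRational A B ↔ (letI := (Subring.inclusion h).toAlgebra; Rational A B) := by
  letI := (Subring.inclusion h).toAlgebra
  constructor
  · rintro H b
    obtain ⟨w, hw, hm⟩ := H b b.2
    refine ⟨⟨w, hw⟩, ?_⟩
    rw [← mem_mSet_iff]
    exact hm
  · rintro H z hz
    obtain ⟨a, ha⟩ := H ⟨z, hz⟩
    refine ⟨a, a.2, ?_⟩
    rw [← mem_mSet_iff] at ha
    exact ha

/-- `Defs.QT` with algebraic residue field extension gives `SubQT` -/
theorem exists_subQT {A B : Subring K} [IsLocalRing A] [IsLocalRing B] (h : Defs.QT A B)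
    (halg : ∀ z ∈ B, ∃ p : Polynomial A, p.Monic ∧ p.eval₂ A.subtype z ∈ mSet B) :
    ∃ x, SubQT A B x := by
  obtain ⟨x, hx, hx0, hxi, hL⟩ := h
  have hAC : A ≤ chartRing A (mSet A) x := le_chartRing _ _ _
  have hAB : A ≤ B := hAC.trans hL.le
  have hdiv : ∀ a ∈ mSet A, a / x ∈ B := fun a ha => hL.le (div_mem_chartRing A x ha)
  refine ⟨x, hAB, hx.1, ?_⟩
  letI := (Subring.inclusion hAB).toAlgebra
  have hmap : ∀ a : A, ((algebraMap A B a : B) : K) = a := fun a => rfl
  have hadj : ∀ w ∈ chartRing A (mSet A) x, ∃ u ∈ Algebra.adjoin A {y : B | ∃ a ∈ maximalIdeal A,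
      algebraMap A B ⟨x, hx.1⟩ * y = algebraMap A B a}, (u : K) = w := by
    intro w hw
    have : chartRing A (mSet A) x ≤ ((Algebra.adjoin A {y : B | ∃ a ∈ maximalIdeal A,
      algebraMap A B ⟨x, hx.1⟩ * y = algebraMap A B a}).toSubring).map B.subtype := by
      rw [chartRing_le_iff]
      constructor
      · intro a ha
        exact ⟨algebraMap A B ⟨a, ha⟩, Subalgebra.algebraMap_mem _ _, rfl⟩
      · intro a ha
        refine ⟨⟨a / x, hdiv a ha⟩, Algebra.subset_adjoin ⟨⟨a, ha.1⟩, mem_mSet_iff.1 ha, ?_⟩, rfl⟩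
        apply Subtype.ext
        change x * (a / x) = a
        field_simp
    obtain ⟨u, hu, e⟩ := this hw
    exact ⟨u, hu, e⟩
  refine ⟨mem_mSet_iff.1 hx, ?_, ?_, ?_, ?_, ?_⟩
  · intro b hb
    have : x * (b : K) = 0 := congrArg Subtype.val hb
    exact Subtype.ext ((mul_eq_zero.1 this).resolve_left hx0)
  · intro a ha
    rw [← mem_mSet_iff] at ha ⊢
    refine ⟨hAB a.2, ?_⟩
    by_contra hcon
    push Not at hcon
    apply hxi
    have h1 : x⁻¹ = (a : K) / x * (a : K)⁻¹ := by
      have : (a : K) ≠ 0 := hcon.1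
      field_simp
    rw [h1]
    exact B.mul_mem (hdiv _ ha) hcon.2
  · intro a ha
    refine ⟨⟨(a : K) / x, hdiv _ (mem_mSet_iff.2 ha)⟩, Subtype.ext ?_⟩
    change (a : K) = x * ((a : K) / x)
    field_simp
  · intro b
    obtain ⟨t, ht, ht0, hti, hbt⟩ := hL.frac b b.2
    obtain ⟨u, hu, eu⟩ := hadj _ hbt
    obtain ⟨v, hv, ev⟩ := hadj _ ht
    refine ⟨u, hu, v, hv, ?_, ?_⟩
    · refine IsUnit.of_mul_eq_one ⟨t⁻¹, hti⟩ (Subtype.ext ?_)
      change (v : K) * t⁻¹ = 1
      rw [ev, mul_inv_cancel₀ ht0]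
    · apply Subtype.ext
      change (b : K) * (v : K) = u
      rw [eu, ev]
  · intro b
    obtain ⟨p, hp, hpm⟩ := halg b b.2
    refine ⟨p, hp, ?_⟩
    rw [← mem_mSet_iff]
    have : ((Polynomial.aeval b p : B) : K) = p.eval₂ A.subtype b := by
      rw [Polynomial.aeval_def]
      exact (Polynomial.hom_eval₂ p (algebraMap A B) B.subtype b)
    rw [this]; exact hpm

theorem SubQT.le {A B : Subring K} [IsLocalRing A] [IsLocalRing B] {x : K} (h : SubQT A B x) : A ≤ B :=
  h.choose

theorem SubQT.mem_mSet {A B : Subring K} [IsLocalRing A] [IsLocalRing B] {x : K} (h : SubQT A B x) :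
    x ∈ mSet A := by
  obtain ⟨hAB, hx, hQ⟩ := h
  letI := (Subring.inclusion hAB).toAlgebra
  exact mem_mSet_iff.2 hQ.mem

theorem SubQT.ne_zero {A B : Subring K} [IsLocalRing A] [IsLocalRing B] {x : K} (h : SubQT A B x) :
    x ≠ 0 := by
  obtain ⟨hAB, hx, hQ⟩ := h
  letI := (Subring.inclusion hAB).toAlgebra
  rintro rfl
  have := hQ.reg 1 (Subtype.ext (by change (0 : K) * 1 = 0; simp))
  exact one_ne_zero this

theorem SubQT.mem_mSet' {A B : Subring K} [IsLocalRing A] [IsLocalRing B] {x : K} (h : SubQT A B x) :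
    x ∈ mSet B := by
  obtain ⟨hAB, hx, hQ⟩ := h
  letI := (Subring.inclusion hAB).toAlgebra
  have := hQ.loc _ hQ.mem
  rw [← mem_mSet_iff] at this
  exact this

theorem SubQT.inv_notMem {A B : Subring K} [IsLocalRing A] [IsLocalRing B] {x : K} (h : SubQT A B x) :
    x⁻¹ ∉ B := by
  rcases h.mem_mSet'.2 with h0 | h1
  · exact absurd h0 h.ne_zero
  · exact h1

theorem SubQT.div_mem {A B : Subring K} [IsLocalRing A] [IsLocalRing B] {x : K} (h : SubQT A B x)
    {a : K} (ha : a ∈ mSet A) : a / x ∈ B := by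
  have hx0 := h.ne_zero
  obtain ⟨hAB, hx, hQ⟩ := h
  letI := (Subring.inclusion hAB).toAlgebra
  obtain ⟨y, hy⟩ := hQ.dvd ⟨a, ha.1⟩ (mem_mSet_iff.1 ha)
  have : a = x * (y : K) := congrArg Subtype.val hy
  rw [this, mul_div_cancel_left₀ _ hx0]
  exact y.2

/-- `SubQT` gives a localisation of the chart ring -/
theorem SubQT.locOf {A B : Subring K} [IsLocalRing A] [IsLocalRing B] {x : K} (h : SubQT A B x) :
    LocOf (chartRing A (mSet A) x) B := by
  have hdiv : ∀ a ∈ mSet A, a / x ∈ B := fun a ha => h.div_mem ha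
  have hx0 := h.ne_zero
  obtain ⟨hAB, hx, hQ⟩ := h
  letI := (Subring.inclusion hAB).toAlgebra
  refine ⟨chartRing_le_iff.2 ⟨hAB, hdiv⟩, inferInstance, fun z hz => ?_⟩
  have hadj : ∀ u ∈ Algebra.adjoin A {y : B | ∃ a ∈ maximalIdeal A,
      algebraMap A B ⟨x, hx⟩ * y = algebraMap A B a}, (u : K) ∈ chartRing A (mSet A) x := by
    intro u hu
    induction hu using Algebra.adjoin_induction with
    | mem y hy =>
      obtain ⟨a, ha, hya⟩ := hy
      have : x * (y : K) = a := congrArg Subtype.val hya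
      have h2 : (y : K) = (a : K) / x := by rw [← this]; field_simp
      rw [h2]
      exact div_mem_chartRing A x (mem_mSet_iff.2 ha)
    | algebraMap a => exact le_chartRing A _ _ a.2
    | add x y _ _ hx hy => exact Subring.add_mem _ hx hy
    | mul x y _ _ hx hy => exact Subring.mul_mem _ hx hy
  obtain ⟨u, hu, v, hv, hvu, huv⟩ := hQ.frac ⟨z, hz⟩
  obtain ⟨w, hw⟩ := hvu.exists_right_inv
  have hw' : (v : K) * (w : K) = 1 := congrArg Subtype.val hw
  refine ⟨v, hadj v hv, left_ne_zero_of_mul_eq_one hw', ?_, ?_⟩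
  · rw [← eq_inv_of_mul_eq_one_right hw']; exact w.2
  · have : z * (v : K) = u := congrArg Subtype.val huv
    rw [this]; exact hadj u hu

/-- change of the exceptional parameter -/
theorem SubQT.change {A B : Subring K} [IsLocalRing A] [IsLocalRing B] {s t : K} (h : SubQT A B s)
    (ht : t ∈ mSet A) (c : B) (hc : IsUnit c) (e : t = s * c) : SubQT A B t := by
  obtain ⟨hAB, hx, hQ⟩ := h
  refine ⟨hAB, ht.1, ?_⟩
  letI := (Subring.inclusion hAB).toAlgebra
  exact hQ.change (mem_mSet_iff.1 ht) hc (Subtype.ext e)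

end sub

end Groth.Agent.Lipman.Term
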