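import Groth.Agent.CurvesC.BlowUpReg
import Groth.Agent.Flat2C.BlowExist
import Groth.Agent.Flat2C.BlowProper
import Groth.Agent.Ega2.BlowBasic
import Groth.Agent.Ega2.NormChart
import Groth.Agent.Divis.BlowUpFormal

/-!
The blow-up of a finite set `S` in a domain `A`, with its canonical `K`-valued point (`K = Frac A`) and its
standard charts, whose sections are the subrings `A[S/a] ⊆ K`.
-/

set_option autoImplicit false

universe u

open CategoryTheory CategoryTheory.Limits AlgebraicGeometry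

namespace Groth.Agent.Lipman.ValBlow

open Groth.Agent.CurvesC.BlowUpCharts Groth.Agent.CurvesC.BlowUpReg Groth.Agent.Ega2.NormChart

variable {A : Type u} [CommRing A] [IsDomain A] (K : Type u) [Field K] [Algebra A K] [IsFractionRing A K]

/-- The subring `A[S/a]` of `K`. -/
def chRing (S : Set A) (a : A) : Subring K :=
  Subring.closure (Set.range (algebraMap A K) ∪ (fun y => algebraMap A K y / algebraMap A K a) '' S)

variable {K}

omit [IsDomain A] in
lemma algebraMap_ne_zero {a : A} (ha : a ≠ 0) : algebraMap A K a ≠ 0 :=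
  fun h => ha (IsFractionRing.injective A K (by rw [h, map_zero]))

omit [IsDomain A] in
lemma exists_phi {I : Ideal A} {a : A} (ha : a ≠ 0) :
    ∃ φ : BlowUp.affineAlgebra A I a →+* K, ∀ x : A, φ (algebraMap A _ x) = algebraMap A K x := by
  refine exists_lift_aff (algebraMap A K) ?_ ?_
  · exact mem_nonZeroDivisors_of_ne_zero (algebraMap_ne_zero ha)
  · intro z _
    exact (Ne.isUnit (algebraMap_ne_zero ha)).dvd

omit [IsDomain A] in
lemma range_phi {S : Set A} {a : A} (ha : a ≠ 0)
    (φ : BlowUp.affineAlgebra A (Ideal.span S) a →+* K)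
    (hφ : ∀ x : A, φ (algebraMap A _ x) = algebraMap A K x) : φ.range = chRing K S a := by
  have hfrac : ∀ z (hz : z ∈ Ideal.span S), φ (frac (Ideal.span S) a z hz) =
      algebraMap A K z / algebraMap A K a := by
    intro z hz
    have h1 := congrArg φ (mul_frac (Ideal.span S) a z hz)
    rw [map_mul, hφ, hφ] at h1
    rw [eq_div_iff (algebraMap_ne_zero ha), mul_comm, h1]
  have hA : ∀ x : A, algebraMap A K x ∈ chRing K S a := fun x => Subring.subset_closure (Or.inl ⟨x, rfl⟩)
  apply le_antisymm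
  · rintro _ ⟨⟨x, hx⟩, rfl⟩
    unfold BlowUp.affineAlgebra at hx
    induction hx using Algebra.adjoin_induction with
    | mem x hx =>
      obtain ⟨z, hz, rfl⟩ := hx
      have h1 := hfrac z hz
      change φ (frac (Ideal.span S) a z hz) ∈ _
      rw [h1]
      clear h1
      induction hz using Submodule.span_induction with
      | mem z hz => exact Subring.subset_closure (Or.inr ⟨z, hz, rfl⟩)
      | zero =>
        rw [map_zero, zero_div]
        exact zero_mem _
      | add z w hz hw ihz ihw =>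
        rw [map_add, add_div]
        exact add_mem ihz ihw
      | smul r z hz ih =>
        rw [smul_eq_mul, map_mul, mul_div_assoc]
        exact mul_mem (hA r) ih
    | algebraMap r =>
      have : φ ⟨algebraMap A _ r, Subalgebra.algebraMap_mem _ r⟩ = algebraMap A K r := hφ r
      rw [this]
      exact hA r
    | add x y hx hy ihx ihy =>
      have : (⟨x + y, Subalgebra.add_mem _ hx hy⟩ : BlowUp.affineAlgebra A (Ideal.span S) a) =
        (⟨x, hx⟩ : BlowUp.affineAlgebra A (Ideal.span S) a) + ⟨y, hy⟩ := rfl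
      rw [this, map_add]
      exact add_mem ihx ihy
    | mul x y hx hy ihx ihy =>
      have : (⟨x * y, Subalgebra.mul_mem _ hx hy⟩ : BlowUp.affineAlgebra A (Ideal.span S) a) =
        (⟨x, hx⟩ : BlowUp.affineAlgebra A (Ideal.span S) a) * ⟨y, hy⟩ := rfl
      rw [this, map_mul]
      exact mul_mem ihx ihy
  · rw [chRing, Subring.closure_le]
    rintro _ (⟨x, rfl⟩ | ⟨y, hy, rfl⟩)
    · exact ⟨algebraMap A _ x, hφ x⟩
    · exact ⟨frac (Ideal.span S) a y (Ideal.subset_span hy), hfrac y _⟩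

/-- The range of `toK` for a chart. -/
lemma range_toK {P : Scheme.{u}} {B : Type u} [CommRing B] (j : Spec (CommRingCat.of B) ⟶ P) [IsOpenImmersion j]
    (φ : B →+* K) (f : Spec (CommRingCat.of K) ⟶ P) (hf : Spec.map (CommRingCat.ofHom φ) ≫ j = f)
    (U : P.Opens) (hU : j.opensRange = U) (hfU : f ⁻¹ᵁ U = ⊤) : (toK f U hfU).range = φ.range := by
  subst hf hU
  have hj : j ⁻¹ᵁ j.opensRange = ⊤ := by
    ext x
    simp
  have h1 : toK (Spec.map (CommRingCat.ofHom φ) ≫ j) j.opensRange hfU =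
      φ.comp ((j.appLE j.opensRange ⊤ (by rw [hj])) ≫ (Scheme.ΓSpecIso (CommRingCat.of B)).hom).hom := by
    rw [toK]
    change _ = (((j.appLE j.opensRange ⊤ (by rw [hj])) ≫ (Scheme.ΓSpecIso (CommRingCat.of B)).hom) ≫
      CommRingCat.ofHom φ).hom
    congr 1
    rw [Category.assoc, ← Scheme.ΓSpecIso_naturality, ← Category.assoc]
    congr 1
  have h2 : Function.Surjective ((j.appLE j.opensRange ⊤ (by rw [hj])) ≫
      (Scheme.ΓSpecIso (CommRingCat.of B)).hom).hom := by
    have : IsIso (j.appLE j.opensRange ⊤ (by rw [hj])) := by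
      have h3 : j.appLE j.opensRange ⊤ (by rw [hj]) = j.app j.opensRange ≫
          (Spec (CommRingCat.of B)).presheaf.map (eqToHom hj.symm).op := by
        rw [Scheme.Hom.app_eq_appLE, Scheme.Hom.appLE_map]
      have := j.isIso_app j.opensRange le_rfl
      rw [h3]
      infer_instance
    exact (ConcreteCategory.bijective_of_isIso _).2
  rw [h1]
  ext x
  constructor
  · rintro ⟨y, rfl⟩
    exact ⟨_, rfl⟩
  · rintro ⟨y, rfl⟩
    obtain ⟨z, rfl⟩ := h2 y
    exact ⟨z, rfl⟩

omit [IsDomain A] in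
theorem mem_support_idealSheaf (I : Ideal A) (w : Spec (CommRingCat.of A)) :
    w ∈ (Curv2.idealSheaf A I).support ↔ I ≤ w.asIdeal := by
  rw [Curv2.idealSheaf, ← SetLike.mem_coe, Scheme.IdealSheafData.coe_support_ofIdealTop, Spec_zeroLocus]
  change ((Scheme.ΓSpecIso (CommRingCat.of A)).inv.hom ⁻¹'
    (I.map (Scheme.ΓSpecIso (CommRingCat.of A)).inv.hom : Ideal _) ⊆ (w.asIdeal : Set A)) ↔ _
  have h1 : (I.map (Scheme.ΓSpecIso (CommRingCat.of A)).inv.hom).comap
      (Scheme.ΓSpecIso (CommRingCat.of A)).inv.hom = I := by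
    exact Ideal.comap_map_of_bijective _
      (ConcreteCategory.bijective_of_isIso (Scheme.ΓSpecIso (CommRingCat.of A)).inv)
  constructor
  · intro h r hr
    exact h (show r ∈ (I.map (Scheme.ΓSpecIso (CommRingCat.of A)).inv.hom).comap
      (Scheme.ΓSpecIso (CommRingCat.of A)).inv.hom by rw [h1]; exact hr)
  · intro h r hr
    apply h
    have : r ∈ (I.map (Scheme.ΓSpecIso (CommRingCat.of A)).inv.hom).comap
      (Scheme.ΓSpecIso (CommRingCat.of A)).inv.hom := hr
    rwa [h1] at this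

variable (K) in
omit [IsDomain A] in
lemma isEff_specK {I : Ideal A} {a : A} (ha : a ∈ I) (ha0 : a ≠ 0) :
    BlowUp.IsEffCartierIdeal ((Curv2.idealSheaf A I).comap (Spec.map (CommRingCat.ofHom (algebraMap A K)))) := by
  have hK : ∀ x : A, phi (Spec.map (CommRingCat.ofHom (algebraMap A K))) ⊤ x =
      (Scheme.ΓSpecIso (CommRingCat.of K)).inv.hom (algebraMap A K x) := by
    intro x
    rw [phi_top, psi_SpecMap]
  have hu : IsUnit (phi (Spec.map (CommRingCat.ofHom (algebraMap A K))) ⊤ a) := by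
    rw [hK]
    exact (Ne.isUnit (algebraMap_ne_zero ha0)).map _
  refine isEff_of_cover _ fun _ => ⟨⊤, trivial, a, ha, isAffineOpen_top _, ?_, ?_⟩
  · exact hu.mem_nonZeroDivisors
  · intro z _
    exact hu.dvd

variable (K) in
/-- The blow-up of a finite set `S` of elements of a Noetherian domain `A`. -/
theorem exists_blow [IsNoetherianRing A] (S : Set A) (hS0 : ∃ x ∈ S, x ≠ 0) :
    ∃ (P : Scheme.{u}) (b : P ⟶ Spec (CommRingCat.of A)) (_ : IsProper b)
      (f : Spec (CommRingCat.of K) ⟶ P) (_ : f ≫ b = Spec.map (CommRingCat.ofHom (algebraMap A K)))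
      (U : {a : A // a ∈ S ∧ a ≠ 0} → P.Opens) (hfU : ∀ i, f ⁻¹ᵁ U i = ⊤),
      (∀ i, IsAffineOpen (U i)) ∧ (⨆ i, U i = ⊤) ∧ (∀ i, (toK f (U i) (hfU i)).range = chRing K S i) ∧
      ∀ a ∈ S, IsIso (b ∣_ PrimeSpectrum.basicOpen a) := by
  obtain ⟨P, b, hb⟩ := Groth.Agent.Flat2C.BlowExist.exists_isBlowUp (Curv2.idealSheaf A (Ideal.span S))
  have hft : BlowUp.IsFiniteTypeIdeal (Curv2.idealSheaf A (Ideal.span S)) := by
    intro U
    have : IsNoetherianRing Γ(Spec (CommRingCat.of A), U.1) := IsLocallyNoetherian.component_noetherian U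
    exact IsNoetherian.noetherian _
  have hproper : IsProper b := Groth.Agent.Flat2C.BlowProper.isProper_of_isBlowUp hb hft
  have hmem : ∀ i : {a : A // a ∈ S ∧ a ≠ 0}, i.1 ∈ Ideal.span S := fun i => Ideal.subset_span i.2.1
  have hphi : ∀ i : {a : A // a ∈ S ∧ a ≠ 0}, ∃ φ : BlowUp.affineAlgebra A (Ideal.span S) i.1 →+* K,
      ∀ x : A, φ (algebraMap A _ x) = algebraMap A K x := fun i => exists_phi i.2.2
  choose φ hφ using hphi
  have hchart : ∀ i : {a : A // a ∈ S ∧ a ≠ 0}, ∃ j : Spec (CommRingCat.of (BlowUp.affineAlgebra A (Ideal.span S) i.1)) ⟶ P,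
      IsOpenImmersion j ∧ j ≫ b = affB (Ideal.span S) i.1 ∧ Set.range j = (chart b (Ideal.span S) i.1 : Set P) :=
    fun i => exists_chartMap hb (hmem i)
  choose j hj hjb hjr using hchart
  obtain ⟨x0, hx0S, hx0⟩ := hS0
  let i0 : {a : A // a ∈ S ∧ a ≠ 0} := ⟨x0, hx0S, hx0⟩
  obtain ⟨f, hf, huniq⟩ := hb.2 _ (Spec.map (CommRingCat.ofHom (algebraMap A K))) (isEff_specK K (hmem i0) hx0)
  have hf : f ≫ b = Spec.map (CommRingCat.ofHom (algebraMap A K)) := hf
  have hfj : ∀ i, Spec.map (CommRingCat.ofHom (φ i)) ≫ j i = f := by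
    intro i
    apply huniq
    change (_ ≫ _) ≫ b = _
    rw [Category.assoc, hjb, affB, ← Spec.map_comp, ← CommRingCat.ofHom_comp]
    congr 2
    ext x
    exact hφ i x
  have hU : ∀ i, (j i).opensRange = chart b (Ideal.span S) i.1 := by
    intro i
    ext x
    exact Set.ext_iff.mp (hjr i) x
  have hfU : ∀ i : {a : A // a ∈ S ∧ a ≠ 0}, f ⁻¹ᵁ (chart b (Ideal.span S) i.1) = ⊤ := by
    intro i
    rw [← hfj i, ← hU i]
    ext x
    simp
  refine ⟨P, b, hproper, f, hf, fun i => chart b (Ideal.span S) i.1, hfU, ?_, ?_, ?_, ?_⟩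
  · intro i
    have h1 := isAffineOpen_opensRange (j i)
    rw [hU i] at h1
    exact h1
  · rw [eq_top_iff]
    intro x _
    obtain ⟨s, hs, hxs⟩ := exists_mem_chart hb.1 (S := S) rfl x
    have hs0 : s ≠ 0 := by
      rintro rfl
      obtain ⟨V, hV, hxV⟩ := mem_chart.1 hxs
      have h1 := hV.nzd
      rw [map_zero] at h1
      have : Nonempty V := ⟨⟨x, hxV⟩⟩
      have h2 : Nontrivial Γ(P, V) := inferInstance
      exact zero_notMem_nonZeroDivisors h1
    exact TopologicalSpace.Opens.mem_iSup.mpr ⟨⟨s, hs, hs0⟩, hxs⟩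
  · intro i
    rw [range_toK (j i) (φ i) f (hfj i) _ (hU i) (hfU i), range_phi i.2.2 (φ i) (hφ i)]
  · intro a ha
    refine Groth.Agent.Divis.BlowUpFormal.isIso_morphismRestrict_compl_support hb _ ?_
    rw [Set.disjoint_left]
    intro x hx hx'
    have h1 : Ideal.span S ≤ x.asIdeal := (mem_support_idealSheaf _ x).mp hx'
    exact hx (h1 (Ideal.subset_span ha))

end Groth.Agent.Lipman.ValBlow
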