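import Groth.Agent.Lipman.Trans
import Groth.Agent.Lipman.Defs

/-!
Block B1: Grauert-Riemenschneider vanishing in the language of valuation rings, given the existence of a
normal proper model (see `ValGR` for the final form).
-/

set_option autoImplicit false

universe u

open CategoryTheory AlgebraicGeometry TopologicalSpace IsLocalRing

namespace Groth.Agent.Lipman.ValGR0

open Groth.Agent.Lipman.Defs

variable {K : Type u} [Field K]

theorem not_dom_of_inv_mem {R : Subring K} [IsLocalRing R] {V : ValuationSubring K} {a : R}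
    (ha : a ∈ maximalIdeal R) (ha0 : (a : K) ≠ 0) (hV : (a : K)⁻¹ ∈ V) : ¬ Dom R V := by
  intro h
  have h1 := h.2 a a.2 hV
  refine (mem_maximalIdeal a).mp ha (IsUnit.of_mul_eq_one ⟨(a : K)⁻¹, h1⟩ ?_)
  apply Subtype.ext
  exact mul_inv_cancel₀ ha0

theorem gr_of_model (R : Subring K) [IsLocalRing R] [IsNoetherianRing R] [IsIntegrallyClosed R]
    (hd : 1 < ringKrullDim R) {s : Set K} (hs : IsTuple s)
    (hmodel : ∃ (X : Scheme.{u}) (_ : AlgebraicGeometry.IsIntegral X) (f : X ⟶ Spec (CommRingCat.of R))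
      (_ : IsProper f) (U : (Spec (CommRingCat.of R)).Opens) (_ : IsIso (f ∣_ U)) (e : K ≃+* X.functionField),
      (U : Set (Spec (CommRingCat.of R))).Nonempty ∧ (∀ x : X, IsIntegrallyClosed (X.presheaf.stalk x)) ∧
      (∀ r : R, e r = OrdLoc.ratOf f r) ∧
      ∀ x : X, ∃ a ∈ s, a ≠ 0 ∧ ∀ b ∈ s, e (b / a) ∈ Loc.loc x)
    {φ : ValuationSubring K → K} (hφ : IsConst R s φ) (h : ∀ V ∈ ZR R, ¬ Dom R V → φ V ∈ V) :
    ∀ V ∈ ZR R, φ V ∈ V := by
  obtain ⟨X, _, f, _, U, _, e, hU, hX, he, hc⟩ := hmodel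
  obtain ⟨g, hg⟩ := hφ
  have : Finite s := hs.finite
  have key := Trans.gr_of_model f U hd hX hU e he (fun i : s => (i : K))
    (fun x => by
      obtain ⟨a, ha, ha0, h⟩ := hc x
      exact ⟨⟨a, ha⟩, ha0, fun j => h j j.2⟩)
    (fun i => g i)
    (by
      intro i V hV hi0 hi ⟨a, ha, ha0, hai⟩
      have hVR : V ∈ ZR R := fun r hr => hV ⟨r, hr⟩
      have h1 := hg V hVR i i.2 ⟨hi0, fun y hy => hi ⟨y, hy⟩⟩
      have h2 := h V hVR (not_dom_of_inv_mem ha ha0 hai)
      have : g i = φ V - (φ V - g i) := by ring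
      rw [this]
      exact V.toSubring.sub_mem h2 h1)
    (by
      intro i j V hV hi0 hi hj0 hj
      have hVR : V ∈ ZR R := fun r hr => hV ⟨r, hr⟩
      have h1 := hg V hVR i i.2 ⟨hi0, fun y hy => hi ⟨y, hy⟩⟩
      have h2 := hg V hVR j j.2 ⟨hj0, fun y hy => hj ⟨y, hy⟩⟩
      have : g i - g j = (φ V - g j) - (φ V - g i) := by ring
      rw [this]
      exact V.toSubring.sub_mem h2 h1)
  intro V hV
  obtain ⟨x, hx, hxV⟩ := exists_chart hs V
  have h1 := hg V hV x hx hxV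
  have h2 := key ⟨x, hx⟩ V (fun a => hV a.2) hxV.1 (fun j => hxV.2 j j.2)
  have : φ V = (φ V - g x) + g x := by ring
  rw [this]
  exact V.add_mem _ _ h1 h2

end Groth.Agent.Lipman.ValGR0
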